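import Groth.Prelude.Def_SGA3x
import Mathlib.AlgebraicGeometry.Group.Affine

/-!
# Base change of group objects along composites
-/

set_option autoImplicit false

universe u v

open CategoryTheory CategoryTheory.Limits MonoidalCategory CartesianMonoidalCategory MonObj AlgebraicGeometry

namespace Groth.Agent.MultHopf

variable {S T U : Scheme.{u}}

/-- Base change along a composite. -/
noncomputable def bcComp (g : U ⟶ T) (f : T ⟶ S) (G : Over S) [GrpObj G] :
    Grp.mk (Red.bc (g ≫ f) G) ≅ Grp.mk (Red.bc g (Red.bc f G)) :=
  ((Functor.mapGrpNatIso (Over.pullbackComp g f)).app (Grp.mk G)) ≪≫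
    (Functor.mapGrpCompIso (F := Over.pullback f) (G := Over.pullback g)).app (Grp.mk G)

set_option backward.isDefEq.respectTransparency.types false in
set_option backward.isDefEq.respectTransparency false in
theorem pullbackComp_hom_left_fst {S T U : Scheme.{u}} (g : U ⟶ T) (f : T ⟶ S) (X : Over S) :
    ((Over.pullbackComp g f).hom.app X).left ≫ pullback.fst _ g ≫ pullback.fst X.hom f =
      pullback.fst X.hom (g ≫ f) := by
  simp [Over.pullbackComp, conjugateIsoEquiv, conjugateEquiv, mateEquiv, Adjunction.comp_unit_app, Over.mapComp]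
  exact (Category.id_comp _).trans (Category.id_comp _)

/-- Base change of an isomorphism of groups. -/
noncomputable def bcIso (g : U ⟶ T) {G H : Over T} [GrpObj G] [GrpObj H] (e : Grp.mk G ≅ Grp.mk H) :
    Grp.mk (Red.bc g G) ≅ Grp.mk (Red.bc g H) :=
  (Over.pullback g).mapGrp.mapIso e

/-- Base change along equal morphisms. -/
noncomputable def bcCongr {f f' : T ⟶ S} (h : f = f') (G : Over S) [GrpObj G] :
    Grp.mk (Red.bc f G) ≅ Grp.mk (Red.bc f' G) :=
  eqToIso (by subst h; rfl)

end Groth.Agent.MultHopf
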