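import Groth.Agent.MultHopf.Rigid
import Mathlib.RingTheory.HopfAlgebra.Quotient
import Mathlib.RingTheory.Ideal.IdempotentFG
import Mathlib.RingTheory.Ideal.GoingUp
import Mathlib.RingTheory.IntegralClosure.IsIntegralClosure.Basic
import Mathlib.LinearAlgebra.LinearIndependent.Lemmas
import Mathlib.RingTheory.FinitePresentation

/-!
# Points of groups of multiplicative type in charts
-/

set_option autoImplicit false

universe u v w

open scoped TensorProduct
open WithConv Coalgebra

namespace Groth.Agent.MultHopf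

open Groth.Agent.FinHopf (postComp)

variable {R : Type u} [CommRing R] {A : Type v} [CommRing A] [HopfAlgebra R A] {p : PrimeSpectrum R}
variable {L : Type w} [CommRing L] [Algebra R L]

/-- Two maps out of the chart agreeing on `A` are equal. -/
theorem Chart.algHom_ext (ch : Chart R A p) [Algebra ch.R' L] [IsScalarTower R ch.R' L]
    {w₁ w₂ : MonoidAlgebra ch.R' ch.M →ₐ[ch.R'] L} (h : ∀ a, w₁ (ch.θ a) = w₂ (ch.θ a)) : w₁ = w₂ :=
  AlgHom.toLinearMap_injective (ch.isBaseChange.algHom_ext _ _ h)

/-- The point of `A` defined by a character of the chart. -/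
noncomputable def Chart.point (ch : Chart R A p) [Algebra ch.R' L] [IsScalarTower R ch.R' L]
    (χ : ch.M →* L) : WithConv (A →ₐ[R] L) :=
  toConv (((MonoidAlgebra.lift ch.R' L ch.M χ).restrictScalars R).comp ch.θ)

theorem Chart.point_mul (ch : Chart R A p) [Algebra ch.R' L] [IsScalarTower R ch.R' L]
    (χ ψ : ch.M →* L) : ch.point (χ * ψ) = ch.point χ * ch.point ψ := by
  apply WithConv.ofConv_injective
  ext a
  let w₁ := MonoidAlgebra.lift ch.R' L ch.M χ
  let w₂ := MonoidAlgebra.lift ch.R' L ch.M ψ
  let T : MonoidAlgebra ch.R' ch.M ⊗[ch.R'] MonoidAlgebra ch.R' ch.M →ₐ[ch.R'] L :=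
    Algebra.TensorProduct.lift w₁ w₂ (fun _ _ => Commute.all _ _)
  have key : T.comp (Bialgebra.comulAlgHom ch.R' (MonoidAlgebra ch.R' ch.M)) =
      MonoidAlgebra.lift ch.R' L ch.M (χ * ψ) := by
    ext m <;> simp [T, w₁, w₂, CommSemiring.comul_apply]
  show MonoidAlgebra.lift ch.R' L ch.M (χ * ψ) (ch.θ a) = (ch.point χ * ch.point ψ).ofConv a
  rw [← key, AlgHom.convMul_apply, AlgHom.comp_apply, Bialgebra.comulAlgHom_apply, ch.comul_θ]
  induction Coalgebra.comul (R := R) a using TensorProduct.induction_on with
  | zero => simp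
  | add u v hu hv => simp only [map_add, hu, hv]
  | tmul x y => simp [T, Chart.point, w₁, w₂]

theorem Chart.point_one (ch : Chart R A p) [Algebra ch.R' L] [IsScalarTower R ch.R' L] :
    ch.point (1 : ch.M →* L) = 1 := by
  have h := ch.point_mul (1 : ch.M →* L) 1
  rw [one_mul] at h
  set u := ch.point (1 : ch.M →* L) with hu
  have hinv : toConv (u.ofConv.comp (HopfAlgebra.antipodeAlgHom R A)) * u = 1 := by
    have h2 := congrArg (postComp (C := A) u.ofConv) (AlgHom.antipode_id_cancel (R := R) (A := A))
    rw [map_mul, map_one] at h2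
    exact h2
  calc u = (toConv (u.ofConv.comp (HopfAlgebra.antipodeAlgHom R A)) * u) * u := by rw [hinv, one_mul]
    _ = 1 := by rw [mul_assoc, ← h, hinv]

theorem Chart.point_pow (ch : Chart R A p) [Algebra ch.R' L] [IsScalarTower R ch.R' L]
    (χ : ch.M →* L) (n : ℕ) : ch.point (χ ^ n) = ch.point χ ^ n := by
  induction n with
  | zero => rw [pow_zero, pow_zero, ch.point_one]
  | succ n ih => rw [pow_succ, pow_succ, ch.point_mul, ih]

theorem Chart.point_injective (ch : Chart R A p) [Algebra ch.R' L] [IsScalarTower R ch.R' L] :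
    Function.Injective (ch.point (L := L)) := fun χ ψ h => by
  apply (MonoidAlgebra.lift ch.R' L ch.M).injective
  exact ch.algHom_ext fun a => DFunLike.congr_fun (congrArg WithConv.ofConv h) a

/-- An exponential sum which is `1` at every positive exponent is not `0` at the exponent `0`. -/
theorem sum_eq_one_of_forall_pow {K : Type*} [Field K] {ι : Type*} (s : Finset ι) (c t : ι → K)
    (ht : ∀ i ∈ s, t i ≠ 0) (h : ∀ k : ℕ, ∑ i ∈ s, c i * t i ^ (k + 1) = 1) : ∑ i ∈ s, c i = 1 := by
  classical
  have hli : LinearIndependent K fun x : K => ((powersHom K x : Multiplicative ℕ →* K) : Multiplicative ℕ → K) :=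
    (linearIndependent_monoidHom (Multiplicative ℕ) K).comp _ (powersHom K).injective
  let l : K →₀ K := ∑ i ∈ s, Finsupp.single (t i) (c i * t i) - Finsupp.single 1 1
  have hl : l = 0 := by
    refine linearIndependent_iff.1 hli l ?_
    ext k
    have := h k.toAdd
    simp only [l, map_sub, map_sum, Finsupp.linearCombination_single, Pi.sub_apply, Finset.sum_apply,
      Pi.smul_apply, smul_eq_mul, powersHom_apply, one_pow, mul_one, Pi.zero_apply]
    rw [sub_eq_zero, ← this]
    exact Finset.sum_congr rfl fun i _ => by ring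
  have h2 := congrArg (Finsupp.linearCombination K fun x : K => x⁻¹) hl
  simp only [l, map_sub, map_sum, Finsupp.linearCombination_single, map_zero, smul_eq_mul, inv_one, mul_one] at h2
  rw [sub_eq_zero] at h2
  rw [← h2]
  exact Finset.sum_congr rfl fun i hi => by rw [mul_assoc, mul_inv_cancel₀ (ht i hi), mul_one]

/-- A closed subgroup of finite type with trivial closed fibre is trivial. -/
theorem ker_counit_le_of_local' [IsLocalRing R] {A : Type u} [CommRing A] [HopfAlgebra R A]
    (hH : SGA3b.IsMultType R A) (J : Ideal A) [J.IsHopfIdeal R]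
    (hK : Algebra.FiniteType R (A ⧸ J))
    (hs : RingHom.ker (Bialgebra.counitAlgHom R A) ≤ J ⊔ (IsLocalRing.maximalIdeal R).map (algebraMap R A)) :
    RingHom.ker (Bialgebra.counitAlgHom R A) ≤ J := by
  classical
  let B := A ⧸ J
  let π : A →ₐc[R] B := Bialgebra.Quotient.mkBialgHom J
  have hπε : ∀ a, Bialgebra.counitAlgHom R B (π a) = Bialgebra.counitAlgHom R A a := fun a => rfl
  let I := RingHom.ker (Bialgebra.counitAlgHom R B)
  let m := IsLocalRing.maximalIdeal R
  suffices hI : I = ⊥ by
    intro a ha
    have : π a ∈ I := by rw [RingHom.mem_ker, hπε]; exact ha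
    rw [hI, Ideal.mem_bot] at this
    exact Ideal.Quotient.eq_zero_iff_mem.1 this
  have hIfg : I.FG := by
    obtain ⟨t, ht⟩ := hK.out
    refine ⟨t.image fun b => b - algebraMap R B (Bialgebra.counitAlgHom R B b), le_antisymm ?_ ?_⟩
    · rw [Submodule.span_le]
      intro y hy
      obtain ⟨b, -, rfl⟩ := Finset.mem_image.1 (Finset.mem_coe.1 hy)
      simp [I, RingHom.mem_ker]
    · intro x hx
      suffices h : ∀ y : B, y - algebraMap R B (Bialgebra.counitAlgHom R B y) ∈
          Submodule.span B ((t.image fun b => b - algebraMap R B (Bialgebra.counitAlgHom R B b) : Finset B) : Set B) by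
        simpa [RingHom.mem_ker.1 hx] using h x
      intro y
      have hy : y ∈ Algebra.adjoin R (t : Set B) := ht ▸ Algebra.mem_top
      induction hy using Algebra.adjoin_induction with
      | mem y hy => exact Submodule.subset_span (Finset.mem_coe.2 (Finset.mem_image_of_mem _ hy))
      | algebraMap r => simp
      | add y z _ _ hy hz => rw [map_add, map_add, add_sub_add_comm]; exact add_mem hy hz
      | mul y z _ _ hy hz =>
        have e : y * z - algebraMap R B (Bialgebra.counitAlgHom R B (y * z)) =
            z • (y - algebraMap R B (Bialgebra.counitAlgHom R B y)) +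
              algebraMap R B (Bialgebra.counitAlgHom R B y) • (z - algebraMap R B (Bialgebra.counitAlgHom R B z)) := by
          simp [smul_eq_mul]; ring
        rw [e]
        exact add_mem (Submodule.smul_mem _ _ hy) (Submodule.smul_mem _ _ hz)
  have hIm : I ≤ m.map (algebraMap R B) := by
    intro x hx
    obtain ⟨a, rfl⟩ := Ideal.Quotient.mk_surjective x
    have ha := hs (show a ∈ RingHom.ker (Bialgebra.counitAlgHom R A) from hx)
    obtain ⟨j, hj, z, hz, rfl⟩ := Submodule.mem_sup.1 ha
    rw [map_add, Ideal.Quotient.eq_zero_iff_mem.2 hj, zero_add]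
    have := Ideal.mem_map_of_mem (Ideal.Quotient.mk J) hz
    rwa [Ideal.map_map] at this
  have hImI : I ≤ m.map (algebraMap R B) • I := by
    have key : ∀ x ∈ m.map (algebraMap R B),
        x - algebraMap R B (Bialgebra.counitAlgHom R B x) ∈ m.map (algebraMap R B) * I := by
      intro x hx
      rw [Ideal.map, Ideal.span] at hx
      induction hx using Submodule.span_induction with
      | mem x hx =>
        obtain ⟨r, hr, rfl⟩ := hx
        simp
      | zero => simp
      | add x y _ _ hx hy => rw [map_add, map_add, add_sub_add_comm]; exact add_mem hx hy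
      | smul b x hxs hx =>
        have e : b • x - algebraMap R B (Bialgebra.counitAlgHom R B (b • x)) =
            x * (b - algebraMap R B (Bialgebra.counitAlgHom R B b)) +
              algebraMap R B (Bialgebra.counitAlgHom R B b) * (x - algebraMap R B (Bialgebra.counitAlgHom R B x)) := by
          simp [smul_eq_mul]; ring
        rw [e]
        exact add_mem (Ideal.mul_mem_mul hxs (by simp [I, RingHom.mem_ker])) (Ideal.mul_mem_left _ _ hx)
    intro x hx
    have := key x (hIm hx)
    rwa [RingHom.mem_ker.1 hx, map_zero, sub_zero] at this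
  obtain ⟨u, hu1, hu⟩ := Submodule.exists_sub_one_mem_and_smul_eq_zero_of_fg_of_le_smul _ I hIfg hImI
  have hεu : IsUnit (Bialgebra.counitAlgHom R B u) := by
    have h1 : Bialgebra.counitAlgHom R B u - 1 ∈ m := by
      have h2 := Ideal.mem_map_of_mem (Bialgebra.counitAlgHom R B : B →+* R) hu1
      rw [Ideal.map_map] at h2
      have e : (Bialgebra.counitAlgHom R B : B →+* R).comp (algebraMap R B) = RingHom.id R :=
        (Bialgebra.counitAlgHom R B).comp_algebraMap
      rw [e, Ideal.map_id] at h2
      simpa using h2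
    by_contra hnu
    exact (IsLocalRing.maximalIdeal.isMaximal R).ne_top ((Ideal.eq_top_iff_one _).2
      (by simpa using sub_mem ((IsLocalRing.mem_maximalIdeal _).2 hnu) h1))
  have hidem : IsIdempotentElem I := by
    refine le_antisymm Ideal.mul_le_left fun x hx => ?_
    obtain ⟨v, hv⟩ := hεu.exists_left_inv
    have hx' : x = (algebraMap R B v * (algebraMap R B (Bialgebra.counitAlgHom R B u) - u)) * x := by
      rw [mul_sub, sub_mul, mul_assoc _ u x, show u * x = 0 from hu x hx, mul_zero, sub_zero, ← map_mul, hv,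
        map_one, one_mul]
    rw [hx']
    refine Ideal.mul_mem_mul (Ideal.mul_mem_left _ _ ?_) hx
    simp [I, RingHom.mem_ker]
  obtain ⟨e, he, hIe⟩ := (Ideal.isIdempotentElem_iff_of_fg I hIfg).1 hidem
  have heI : e ∈ I := hIe ▸ Ideal.mem_span_singleton_self e
  rw [hIe]
  suffices e = 0 by simp [this]
  refine he.eq_zero_of_isNilpotent ?_
  rw [nilpotent_iff_mem_prime]
  intro q hq
  by_contra heq
  -- a point where `e` is `1`
  obtain ⟨a, ha, hae⟩ : ∃ a ∈ m.map (algebraMap R A), π a = e := by
    have h := hIm heI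
    rw [show algebraMap R B = (Ideal.Quotient.mk J).comp (algebraMap R A) from rfl, ← Ideal.map_map,
      Ideal.mem_map_iff_of_surjective _ Ideal.Quotient.mk_surjective] at h
    exact h
  obtain ⟨ch⟩ := exists_chart hH ⟨m, inferInstance⟩
  have hover : (IsLocalRing.maximalIdeal ch.R').comap (algebraMap R ch.R') = IsLocalRing.maximalIdeal R :=
    ch.over
  have : IsLocalHom (algebraMap R ch.R') :=
    ((IsLocalRing.local_hom_TFAE (algebraMap R ch.R')).out 0 4).2 hover
  have : Module.FaithfullyFlat R ch.R' := Module.FaithfullyFlat.of_flat_of_isLocalHom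
  have hcomapq : (q.comap π).IsPrime := Ideal.comap_isPrime _ _
  let F := q.ResidueField
  obtain ⟨n, hn⟩ := Ideal.exists_maximal (ch.R' ⊗[R] F)
  let L := (ch.R' ⊗[R] F) ⧸ n
  let : Field L := Ideal.Quotient.field n
  let ι : F →ₐ[R] L := (Ideal.Quotient.mkₐ R n).comp Algebra.TensorProduct.includeRight
  let yB : WithConv (B →ₐ[R] L) := toConv (ι.comp (IsScalarTower.toAlgHom R B F))
  have hyBe : yB.ofConv e = 1 := by
    have h0 : yB.ofConv e ≠ 0 := fun h =>
      heq (Ideal.algebraMap_residueField_eq_zero.1 ((map_eq_zero_iff ι ι.toRingHom.injective).1 h))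
    exact (mul_left_cancel₀ h0 ((mul_one _).trans (by rw [← map_mul, he.eq]))).symm
  let y : A →ₐ[R] L := yB.ofConv.comp (π : A →ₐ[R] B)
  let w : MonoidAlgebra ch.R' ch.M →ₐ[ch.R'] L :=
    (Algebra.TensorProduct.lift (Algebra.ofId ch.R' L) y (fun _ _ => Commute.all _ _)).comp
      (AlgEquiv.ofBijective (Algebra.TensorProduct.lift (Algebra.ofId ch.R' _) ch.θ (fun _ _ => Commute.all _ _))
        (by
          convert ch.isBaseChange.equiv.bijective using 1
          funext z
          induction z using TensorProduct.induction_on with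
          | zero => simp
          | add u v hu hv => simp [hu, hv]
          | tmul r b => simp [IsBaseChange.equiv_tmul, Algebra.smul_def])).symm
  have hw : ∀ b, w (ch.θ b) = y b := fun b => by
    have h1 : ch.θ b = (Algebra.TensorProduct.lift (Algebra.ofId ch.R' _) ch.θ (fun _ _ => Commute.all _ _))
        ((1 : ch.R') ⊗ₜ[R] b) := by simp [← MonoidAlgebra.one_def]
    conv_lhs => rw [h1]
    simp only [w, AlgHom.comp_apply, AlgEquiv.coe_toAlgHom, AlgEquiv.ofBijective_symm_apply_apply]
    simp
  let χ : ch.M →* L := (w : MonoidAlgebra ch.R' ch.M →* L).comp (MonoidAlgebra.of ch.R' ch.M)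
  have hwχ : w = MonoidAlgebra.lift ch.R' L ch.M χ :=
    ((MonoidAlgebra.lift ch.R' L ch.M).apply_symm_apply w).symm
  have hpt : ch.point χ = toConv y := by
    apply WithConv.ofConv_injective
    ext b
    show MonoidAlgebra.lift ch.R' L ch.M χ (ch.θ b) = y b
    rw [← hwχ, hw]
  let pre : WithConv (B →ₐ[R] L) →* WithConv (A →ₐ[R] L) :=
    { toFun := fun f => toConv (f.ofConv.comp (π : A →ₐ[R] B))
      map_one' := by apply WithConv.ofConv_injective; ext b; rfl
      map_mul' := fun f g => by
        apply WithConv.ofConv_injective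
        exact AlgHom.convMul_comp_bialgHom_distrib f g π }
  have hpre : ∀ k : ℕ, ch.point (χ ^ k) = pre (yB ^ k) := fun k => by
    rw [ch.point_pow, map_pow, hpt]
    rfl
  have hev : ∀ k : ℕ, ∑ x ∈ (ch.θ a).coeff.support, algebraMap ch.R' L ((ch.θ a).coeff x) * χ x ^ k =
      (yB ^ k).ofConv e := fun k => by
    have h := DFunLike.congr_fun (congrArg WithConv.ofConv (hpre k)) a
    change MonoidAlgebra.lift ch.R' L ch.M (χ ^ k) (ch.θ a) = (yB ^ k).ofConv (π a) at h
    rw [hae] at h
    rw [← h, MonoidAlgebra.lift_apply, Finsupp.sum]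
    exact Finset.sum_congr rfl fun x _ => by simp [Algebra.smul_def]
  obtain ⟨k, hk0, hk⟩ : ∃ k : ℕ, k ≠ 0 ∧ yB ^ k = 1 := by
    by_contra hcon
    push Not at hcon
    have h1 : ∀ k : ℕ, k ≠ 0 → (yB ^ k).ofConv e = 1 := fun k hk => by
      rcases IsIdempotentElem.iff_eq_zero_or_one.1 (he.map (yB ^ k).ofConv) with h | h
      · refine absurd ?_ (hcon k hk)
        apply WithConv.ofConv_injective
        ext x
        have hx : x - algebraMap R B (Bialgebra.counitAlgHom R B x) ∈ I := by simp [I, RingHom.mem_ker]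
        rw [hIe, Ideal.mem_span_singleton] at hx
        obtain ⟨z, hz⟩ := hx
        have := congrArg (yB ^ k).ofConv hz
        rw [map_sub, map_mul, h, zero_mul, AlgHom.commutes, sub_eq_zero] at this
        exact this
      · exact h
    have hsum := sum_eq_one_of_forall_pow (ch.θ a).coeff.support
      (fun x => algebraMap ch.R' L ((ch.θ a).coeff x)) (fun x => χ x)
      (fun x _ => (((Group.isUnit x).map χ)).ne_zero)
      (fun k => by rw [hev, h1 _ k.succ_ne_zero])
    have h0 := hev 0
    simp only [pow_zero, mul_one] at h0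
    rw [hsum] at h0
    have : (1 : WithConv (B →ₐ[R] L)).ofConv e = algebraMap R L (Bialgebra.counitAlgHom R B e) := rfl
    rw [this, RingHom.mem_ker.1 heI, map_zero] at h0
    exact one_ne_zero h0
  have hχ : ∀ x, χ x ^ k = 1 := fun x => by
    have h : χ ^ k = 1 := ch.point_injective (by rw [hpre, hk, map_one, ch.point_one])
    exact DFunLike.congr_fun h x
  have hint : ∀ b, y b ∈ integralClosure ch.R' L := fun b => by
    rw [← hw, hwχ, MonoidAlgebra.lift_apply]
    exact sum_mem fun x _ => Subalgebra.smul_mem _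
      (IsIntegral.of_pow (Nat.pos_of_ne_zero hk0) (by rw [hχ]; exact isIntegral_one)) _
  let S := integralClosure ch.R' L
  let yS : A →ₐ[R] S := y.codRestrict (S.restrictScalars R) hint
  have hker : RingHom.ker (algebraMap ch.R' S) ≤ IsLocalRing.maximalIdeal ch.R' :=
    IsLocalRing.le_maximalIdeal (RingHom.ker_ne_top _)
  obtain ⟨Q, -, hQ, hQc⟩ := Ideal.exists_ideal_over_prime_of_isIntegral (R := ch.R') (S := S)
    (IsLocalRing.maximalIdeal ch.R') ⊥ (by rwa [← RingHom.ker_eq_comap_bot])
  refine hQ.ne_top ((Ideal.eq_top_iff_one _).2 ?_)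
  have h1 : yS a = 1 := Subtype.ext (by show yB.ofConv (π a) = 1; rw [hae, hyBe])
  rw [← h1]
  have := Ideal.mem_map_of_mem (yS : A →+* S) ha
  rw [Ideal.map_map, AlgHom.comp_algebraMap] at this
  refine Ideal.map_le_iff_le_comap.2 ?_ this
  rw [IsScalarTower.algebraMap_eq R ch.R' S, ← Ideal.comap_comap, hQc, hover]

/-- A closed subgroup with trivial closed fibre is trivial. -/
theorem ker_counit_le_of_local [IsLocalRing R] {A : Type u} [CommRing A] [HopfAlgebra R A]
    (hH : SGA3b.IsMultType R A) (J : Ideal A) [J.IsHopfIdeal R]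
    (hK : Algebra.FinitePresentation R (A ⧸ J))
    (hs : RingHom.ker (Bialgebra.counitAlgHom R A) ≤ J ⊔ (IsLocalRing.maximalIdeal R).map (algebraMap R A)) :
    RingHom.ker (Bialgebra.counitAlgHom R A) ≤ J :=
  ker_counit_le_of_local' hH J inferInstance hs

end Groth.Agent.MultHopf
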