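import Groth.Agent.MultHopf.Desc
import Groth.Agent.MultHopf.BcIso
import Groth.Agent.MultHopf.Points
import Mathlib.RingTheory.TensorProduct.MonoidAlgebra
import Mathlib.RingTheory.Flat.FaithfullyFlat.Algebra
import Mathlib.AlgebraicGeometry.Stalk

/-!
# Groups of multiplicative type over affine bases as Hopf algebras
-/

set_option autoImplicit false
set_option backward.isDefEq.respectTransparency.types false

universe u

open CategoryTheory CategoryTheory.Limits MonoidalCategory CartesianMonoidalCategory MonObj AlgebraicGeometry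
open scoped TensorProduct

namespace Groth.Agent.MultHopf

/-- The affine group scheme of a Hopf algebra. -/
noncomputable abbrev hspec (R A : Type u) [CommRing R] [CommRing A] [HopfAlgebra R A] :
    Over (Spec (CommRingCat.of R)) :=
  (Spec (CommRingCat.of A)).asOver (Spec (CommRingCat.of R))

theorem exists_hopf (R : Type u) [CommRing R] (G : Over (Spec (CommRingCat.of R))) [GrpObj G]
    [IsAffineHom G.hom] :
    ∃ (A : Type u) (_ : CommRing A) (_ : HopfAlgebra R A), Nonempty (Grp.mk G ≅ Grp.mk (hspec R A)) := by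
  have : IsAffine G.left := isAffine_of_isAffineHom G.hom
  obtain ⟨⟨H⟩, ⟨e⟩⟩ := (essImage_hopfSpec (G := Grp.mk G)).2 this
  exact ⟨H, inferInstance, inferInstance, ⟨e.symm⟩⟩

theorem nonempty_bialgEquiv_of_iso {R A B : Type u} [CommRing R] [CommRing A] [HopfAlgebra R A]
    [CommRing B] [HopfAlgebra R B] (e : Grp.mk (hspec R A) ≅ Grp.mk (hspec R B)) :
    Nonempty (A ≃ₐc[R] B) := by
  let a : CommHopfAlgCat R := CommHopfAlgCat.of R A
  let b : CommHopfAlgCat R := CommHopfAlgCat.of R B
  let i : Opposite.op a ≅ Opposite.op b := (hopfSpec.fullyFaithful (R := CommRingCat.of R)).preimageIso e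
  let g : A →ₐc[R] B := i.inv.unop.hom
  let g' : B →ₐc[R] A := i.hom.unop.hom
  refine ⟨BialgEquiv.ofBijective g (Function.bijective_iff_has_inverse.2 ⟨g', fun x => ?_, fun x => ?_⟩)⟩
  · exact congrArg (fun z => z.unop.hom x) i.hom_inv_id
  · exact congrArg (fun z => z.unop.hom x) i.inv_hom_id

/-- The base change of an affine group is the affine group of the base change. -/
noncomputable def bcSpec (R S A : Type u) [CommRing R] [CommRing S] [Algebra R S] [CommRing A]
    [HopfAlgebra R A] :
    Grp.mk (Red.bc (Spec.map (CommRingCat.ofHom (algebraMap R S))) (hspec R A)) ≅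
      Grp.mk (hspec S (S ⊗[R] A)) := by
  let i := pullbackSymmetry (Spec (CommRingCat.of A) ↘ Spec (CommRingCat.of R))
    (Spec (CommRingCat.of S) ↘ Spec (CommRingCat.of R)) ≪≫ pullbackSpecIso' R S A
  let e : Red.bc (Spec.map (CommRingCat.ofHom (algebraMap R S))) (hspec R A) ⟶ hspec S (S ⊗[R] A) :=
    i.hom.asOver (Spec (CommRingCat.of S))
  have : IsIso e.left := inferInstanceAs (IsIso i.hom)
  have : IsIso e := Over.isoMk (asIso e.left) (Over.w e) |>.isIso_hom
  have : IsMonHom (asIso e).hom :=
    inferInstanceAs (IsMonHom (i.hom.asOver (Spec (CommRingCat.of S))))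
  exact Grp.mkIso' (asIso e)

/-- The group algebra, with the type in the universe of the ring. -/
noncomputable def baseChangeMonoidAlgebra (R S : Type u) [CommRing R] [CommRing S] [Algebra R S] (M : Type)
    [AddCommGroup M] :
    S ⊗[R] MonoidAlgebra R (Multiplicative M) ≃ₐc[S] MonoidAlgebra S (ULift.{u} (Multiplicative M)) :=
  (BialgEquiv.ofAlgEquiv (MonoidAlgebra.scalarTensorEquiv R S (M := Multiplicative M))
    (by ext m; simp [MonoidAlgebra.scalarTensorEquiv_tmul])
    (by ext m; simp [MonoidAlgebra.scalarTensorEquiv_tmul, TensorProduct.comul_tmul])).trans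
    (MonoidAlgebra.domCongrBialgEquiv S S MulEquiv.ulift.symm)

/-- The isomorphism of affine groups of a bialgebra isomorphism. -/
noncomputable def hspecIso {R A B : Type u} [CommRing R] [CommRing A] [HopfAlgebra R A]
    [CommRing B] [HopfAlgebra R B] (e : A ≃ₐc[R] B) : Grp.mk (hspec R A) ≅ Grp.mk (hspec R B) :=
  (hopfSpec (CommRingCat.of R)).mapIso
    ({ hom := (CommHopfAlgCat.ofHom (e.symm : B →ₐc[R] A)).op
       inv := (CommHopfAlgCat.ofHom (e : A →ₐc[R] B)).op
       hom_inv_id := Quiver.Hom.unop_inj (by ext x; exact e.symm_apply_apply x)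
       inv_hom_id := Quiver.Hom.unop_inj (by ext x; exact e.apply_symm_apply x) } :
      Opposite.op (CommHopfAlgCat.of R A) ≅ Opposite.op (CommHopfAlgCat.of R B))

/-- A base change of a diagonalisable group. -/
noncomputable def bcDiag (R S : Type u) [CommRing R] [CommRing S]
    (g : Spec (CommRingCat.of S) ⟶ Spec (CommRingCat.of R)) (M : Type) [AddCommGroup M] :
    Grp.mk (Red.bc g (Red.diag R M)) ≅
      Grp.mk (hspec S (MonoidAlgebra S (ULift.{u} (Multiplicative M)))) :=
  letI : Algebra R S := (Spec.preimage g).hom.toAlgebra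
  bcCongr (Spec.map_preimage g).symm _ ≪≫ bcSpec R S (MonoidAlgebra R (Multiplicative M)) ≪≫
    hspecIso (baseChangeMonoidAlgebra R S M)

/-- Cancellation of base change for bialgebras. -/
noncomputable def cancelBC (R L T A : Type u) [CommRing R] [CommRing L] [CommRing T] [Algebra R L]
    [Algebra R T] [Algebra L T] [IsScalarTower R L T] [CommRing A] [HopfAlgebra R A] :
    T ⊗[L] (L ⊗[R] A) ≃ₐc[T] T ⊗[R] A :=
  BialgEquiv.ofAlgEquiv (Algebra.TensorProduct.cancelBaseChange R L T T A)
    (by ext a; simp [Algebra.smul_def, ← IsScalarTower.algebraMap_apply])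
    (by
      ext a
      simp only [AlgHom.comp_apply, AlgHom.restrictScalars_apply, Algebra.TensorProduct.includeRight_apply,
        Bialgebra.comulAlgHom_apply, TensorProduct.comul_tmul, CommSemiring.comul_apply]
      simp only [AlgEquiv.coe_toAlgHom, Algebra.TensorProduct.cancelBaseChange_tmul, one_smul,
        TensorProduct.comul_tmul, CommSemiring.comul_apply]
      induction Coalgebra.comul (R := R) a using TensorProduct.induction_on with
      | zero => simp
      | add u v hu hv => simp only [TensorProduct.tmul_add, map_add, hu, hv]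
      | tmul x y => simp)

variable {S : Scheme.{u}}

/-- Over a point of the base, a group of multiplicative type is diagonalisable after a flat local extension. -/
theorem isMultType_of_isMultTypeFT {R : Type u} [CommRing R] [IsLocalRing R]
    (H : Over S) [GrpObj H] (hH : SGA3x.IsMultTypeFT H) (j : Spec (CommRingCat.of R) ⟶ S) (s : S)
    (eR : CommRingCat.of R ≅ S.presheaf.stalk s) (hj : j = Spec.map eR.inv ≫ S.fromSpecStalk s)
    {A : Type u} [CommRing A] [HopfAlgebra R A] (eA : Grp.mk (Red.bc j H) ≅ Grp.mk (hspec R A)) :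
    SGA3b.IsMultType R A := by
  obtain ⟨S', f, hfl, hsurj, -, hloc⟩ := hH
  obtain ⟨s', rfl⟩ := hsurj.surj s
  obtain ⟨U, hU, M, _, hM, ⟨eU⟩⟩ := hloc s'
  let q : U.toScheme ⟶ S := U.ι ≫ f
  let x : U.toScheme := ⟨s', hU⟩
  let R' := U.toScheme.presheaf.stalk x
  let φ : CommRingCat.of R ⟶ R' := eR.hom ≫ q.stalkMap x
  let : Algebra R R' := φ.hom.toAlgebra
  have hL : IsLocalHom eR.hom.hom :=
    (IsLocalHom.of_surjective _ (ConcreteCategory.bijective_of_isIso eR.hom).2)
  have : IsLocalHom (q.stalkMap x).hom := inferInstance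
  have : IsLocalHom (algebraMap R R') := @RingHom.isLocalHom_comp _ _ _ _ _ _ (q.stalkMap x).hom eR.hom.hom ‹IsLocalHom (q.stalkMap x).hom› hL
  have : Module.Flat R R' :=
    (RingHom.Flat.comp (RingHom.Flat.of_bijective (ConcreteCategory.bijective_of_isIso eR.hom)) (Flat.stalkMap q x) :)
  have : Module.FaithfullyFlat R R' := Module.FaithfullyFlat.of_flat_of_isLocalHom
  let g : Spec R' ⟶ Spec (CommRingCat.of R) := Spec.map (CommRingCat.ofHom (algebraMap R R'))
  let g' : Spec R' ⟶ U.toScheme := U.toScheme.fromSpecStalk x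
  have hg : g ≫ j = g' ≫ U.ι ≫ f := by
    show Spec.map φ ≫ j = g' ≫ q
    rw [hj, ← Category.assoc, ← Spec.map_comp, Iso.inv_hom_id_assoc]
    exact Scheme.SpecMap_stalkMap_fromSpecStalk q
  let t := Limits.IsTerminal.from specULiftZIsTerminal U.toScheme
  let e : Grp.mk (hspec R' (R' ⊗[R] A)) ≅
      Grp.mk (hspec R' (MonoidAlgebra R' (ULift.{u} (Multiplicative M)))) :=
    (bcSpec R R' A).symm ≪≫ (bcIso g eA).symm ≪≫ (bcComp g j H).symm ≪≫ bcCongr hg H ≪≫ bcComp g' _ H ≪≫
      bcIso g' eU ≪≫ (bcComp g' t _).symm ≪≫ bcDiag _ _ _ M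
  obtain ⟨e'⟩ := nonempty_bialgEquiv_of_iso e
  refine ⟨{1}, Ideal.span_singleton_one, fun r hr => ?_⟩
  rw [Set.mem_singleton_iff] at hr
  subst hr
  let L := Localization.Away (1 : R)
  let R₁ := R'
  have hu : IsUnit (algebraMap R R' 1) := by simp
  let : Algebra L R' := (IsLocalization.Away.lift (S := L) (1 : R) hu).toAlgebra
  have : IsScalarTower R L R' := IsScalarTower.of_algebraMap_eq fun r => by
    show _ = IsLocalization.Away.lift (S := L) (1 : R) hu _
    rw [IsLocalization.Away.lift_eq]
  let el : R ≃ₐ[R] L := IsLocalization.atOne R L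
  have : Module.FaithfullyFlat L R' := by
    rw [← RingHom.faithfullyFlat_algebraMap_iff]
    have heq : algebraMap L R' = (algebraMap R R').comp el.symm.toRingEquiv.toRingHom := by
      ext l
      obtain ⟨r, rfl⟩ := el.surjective l
      show algebraMap L R' (el r) = algebraMap R R' (el.symm (el r))
      rw [el.symm_apply_apply, IsScalarTower.algebraMap_apply R L R', ← el.commutes r]
      rfl
    rw [heq]
    exact RingHom.FaithfullyFlat.stableUnderComposition _ _
      (.of_bijective el.symm.bijective) ((RingHom.faithfullyFlat_algebraMap_iff).2 inferInstance)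
  exact ⟨R', inferInstance, inferInstance, inferInstance, _, inferInstance, ⟨(cancelBC R L R' A).trans e'⟩⟩

end Groth.Agent.MultHopf
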