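import Groth.Agent.MultHopf.Bridge
import Groth.Prelude.Def_TwC
import Groth.Agent.FlatMorLib.SpecStalk

/-!
# Groups of multiplicative type of arbitrary type: affineness and Hopf algebras over local rings
-/

set_option autoImplicit false
set_option backward.isDefEq.respectTransparency.types false

universe u

open CategoryTheory CategoryTheory.Limits MonoidalCategory CartesianMonoidalCategory MonObj AlgebraicGeometry
open scoped TensorProduct

namespace Groth.Agent.MultHopf

variable {S : Scheme.{u}}

/-- Multiplicative type, with arbitrary character groups in `Type`. -/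
def IsMultTypeLoc (H : Over S) [GrpObj H] : Prop :=
  TwC.Locally S TwC.Topology.fpqc (fun S' f => ∃ (M : Type) (_ : AddCommGroup M), Nonempty (Grp.mk (Red.bc f H) ≅ Grp.mk (Red.DS S' M)))

theorem of_isMultTypeLoc (P : MorphismProperty Scheme.{u}) [IsZariskiLocalAtTarget P]
    [P.IsStableUnderBaseChange] [P.DescendsAlong (@Surjective ⊓ @Flat ⊓ @QuasiCompact)]
    (hP₀ : ∀ (M : Type) [AddCommGroup M], P (Red.diag (ULift.{u} ℤ) M).hom)
    (H : Over S) [GrpObj H] (hH : IsMultTypeLoc H) : P H.hom := by
  obtain ⟨S', f, hfl, hsurj, hcov, hloc⟩ := hH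
  have h' : P (pullback.snd H.hom f) := by
    choose U hU M _ hiso using hloc
    have hsup : iSup U = ⊤ := top_le_iff.1 fun x _ => TopologicalSpace.Opens.mem_iSup.2 ⟨x, hU x⟩
    refine IsZariskiLocalAtTarget.of_iSup_eq_top (P := P) U hsup fun x => ?_
    obtain ⟨e⟩ := hiso x
    have hl : P (Red.DS (U x : Scheme.{u}) (M x)).hom := MorphismProperty.pullback_snd (P := P) _ _ (hP₀ (M x))
    let g : Red.bc ((U x).ι ≫ f) H ⟶ Red.DS (U x : Scheme.{u}) (M x) := e.hom.hom.hom
    have hg : IsIso g := by
      have : IsIso ((Grp.forget _).map e.hom) := inferInstance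
      exact this
    have : IsIso g.left := inferInstanceAs (IsIso ((Over.forget _).map g))
    have hbc : P (pullback.snd H.hom ((U x).ι ≫ f)) := by
      have hw : g.left ≫ (Red.DS (U x : Scheme.{u}) (M x)).hom = pullback.snd H.hom ((U x).ι ≫ f) := Over.w g
      rw [← hw, MorphismProperty.cancel_left_of_respectsIso (P := P)]
      exact hl
    rw [← (isPullback_morphismRestrict (pullback.snd H.hom f) (U x)).flip.isoPullback_hom_snd,
      MorphismProperty.cancel_left_of_respectsIso (P := P),
      ← MorphismProperty.cancel_left_of_respectsIso (P := P)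
        (pullbackLeftPullbackSndIso H.hom f (U x).ι).inv, pullbackLeftPullbackSndIso_inv_snd_snd]
    exact hbc
  rw [IsZariskiLocalAtTarget.iff_of_iSup_eq_top (P := P) _ (iSup_affineOpens_eq_top S)]
  rintro ⟨V, hV⟩
  obtain ⟨W, hWc, hWV⟩ := hcov V hV
  have hle : W ≤ f ⁻¹ᵁ V := fun w hw => hWV.le ⟨w, hw, rfl⟩
  let b : W.toScheme ⟶ V.toScheme := f.resLE V W hle
  have hb : b ≫ V.ι = W.ι ≫ f := Scheme.Hom.resLE_comp_ι f hle
  have : IsAffine V.toScheme := hV
  have : CompactSpace W.toScheme := isCompact_iff_compactSpace.1 hWc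
  have : QuasiCompact b := inferInstance
  have : Flat b := MorphismProperty.of_postcomp (W := @Flat) (W' := @IsOpenImmersion) b V.ι
    inferInstance (hb ▸ inferInstance)
  have : Surjective b := ⟨fun v => by
    obtain ⟨w, hw, hwv⟩ := hWV.ge v.2
    refine ⟨⟨w, hw⟩, V.ι.isOpenEmbedding.injective ?_⟩
    rw [← Scheme.Hom.comp_apply, hb, Scheme.Hom.comp_apply]
    exact hwv⟩
  rw [← (isPullback_morphismRestrict H.hom V).flip.isoPullback_hom_snd,
    MorphismProperty.cancel_left_of_respectsIso (P := P)]
  refine MorphismProperty.of_pullback_snd_of_descendsAlong (P := P)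
    (Q := @Surjective ⊓ @Flat ⊓ @QuasiCompact) (g := b)
    ⟨⟨‹Surjective b›, ‹Flat b›⟩, ‹QuasiCompact b›⟩ ?_
  rw [← pullbackLeftPullbackSndIso_hom_snd, MorphismProperty.cancel_left_of_respectsIso (P := P)]
  have hP : ∀ (q : W.toScheme ⟶ S), q = W.ι ≫ f → P (pullback.snd H.hom q) := by
    rintro _ rfl
    rw [← MorphismProperty.cancel_left_of_respectsIso (P := P)
      (pullbackLeftPullbackSndIso H.hom f W.ι).hom, pullbackLeftPullbackSndIso_hom_snd]
    exact MorphismProperty.pullback_snd _ _ h'
  exact hP _ hb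

theorem isAffineHom_of_isMultTypeLoc (H : Over S) [GrpObj H] (hH : IsMultTypeLoc H) : IsAffineHom H.hom := by
  refine of_isMultTypeLoc @IsAffineHom (fun M _ => ?_) H hH
  show IsAffineHom (Spec.map (CommRingCat.ofHom (algebraMap (ULift.{u} ℤ) (MonoidAlgebra (ULift.{u} ℤ) (Multiplicative M)))))
  infer_instance

/-- Over any local ring, a group of multiplicative type is a Hopf algebra of multiplicative type. -/
theorem isMultType_of_isMultTypeLoc {R : Type u} [CommRing R] [IsLocalRing R]
    (H : Over S) [GrpObj H] (hH : IsMultTypeLoc H) (j : Spec (CommRingCat.of R) ⟶ S)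
    {A : Type u} [CommRing A] [HopfAlgebra R A] (eA : Grp.mk (Red.bc j H) ≅ Grp.mk (hspec R A)) :
    SGA3b.IsMultType R A := by
  obtain ⟨S', f, hfl, hsurj, -, hloc⟩ := hH
  let c : Spec (CommRingCat.of R) := IsLocalRing.closedPoint R
  have : Surjective (pullback.fst j f) := MorphismProperty.pullback_fst (P := @Surjective) _ _ hsurj
  have : Flat (pullback.fst j f) := MorphismProperty.pullback_fst (P := @Flat) _ _ hfl
  obtain ⟨z, hz⟩ := (inferInstance : Surjective (pullback.fst j f)).surj c
  obtain ⟨U, hU, M, _, ⟨eU⟩⟩ := hloc (pullback.snd j f z)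
  let R' := (pullback j f).presheaf.stalk z
  let p : Spec R' ⟶ Spec (CommRingCat.of R) := (pullback j f).fromSpecStalk z ≫ pullback.fst j f
  let : Algebra R R' := (Spec.preimage p).hom.toAlgebra
  let g : Spec R' ⟶ Spec (CommRingCat.of R) := Spec.map (CommRingCat.ofHom (algebraMap R R'))
  have hgp : g = p := Spec.map_preimage p
  have hmax : Spec.map (CommRingCat.ofHom (algebraMap R R')) (IsLocalRing.closedPoint R') = c := by
    show g _ = c
    rw [hgp, Scheme.Hom.comp_apply, Scheme.fromSpecStalk_closedPoint, hz]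
  have : IsLocalHom (algebraMap R R') :=
    ((IsLocalRing.local_hom_TFAE (algebraMap R R')).out 0 4).2 (congrArg PrimeSpectrum.asIdeal hmax)
  have : Module.Flat R R' := by
    have : Flat ((pullback j f).fromSpecStalk z) := Groth.Agent.FlatMorLib.flat_fromSpecStalk z
    have : Flat p := inferInstanceAs (Flat (_ ≫ _))
    have : Flat g := hgp ▸ inferInstance
    exact RingHom.flat_algebraMap_iff.1 (Flat.SpecMap_iff.1 this)
  have : Module.FaithfullyFlat R R' := Module.FaithfullyFlat.of_flat_of_isLocalHom
  let w : Spec R' ⟶ S' := (pullback j f).fromSpecStalk z ≫ pullback.snd j f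
  have hwU : Set.range w ⊆ Set.range U.ι := by
    rw [Scheme.Opens.range_ι]
    rintro _ ⟨q, rfl⟩
    have hsp : w q ⤳ pullback.snd j f z := by
      rw [← Scheme.fromSpecStalk_closedPoint (X := pullback j f) (x := z), ← Scheme.Hom.comp_apply]
      exact (IsLocalRing.specializes_closedPoint q).map w.continuous
    exact hsp.mem_open U.isOpen hU
  let g' : Spec R' ⟶ U.toScheme := IsOpenImmersion.lift U.ι w hwU
  have hg : g ≫ j = g' ≫ U.ι ≫ f := by
    rw [← Category.assoc g', IsOpenImmersion.lift_fac, hgp, Category.assoc, Category.assoc, pullback.condition]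
  let t := Limits.IsTerminal.from specULiftZIsTerminal U.toScheme
  let e : Grp.mk (hspec R' (R' ⊗[R] A)) ≅
      Grp.mk (hspec R' (MonoidAlgebra R' (ULift.{u} (Multiplicative M)))) :=
    (bcSpec R R' A).symm ≪≫ (bcIso g eA).symm ≪≫ (bcComp g j H).symm ≪≫ bcCongr hg H ≪≫ bcComp g' _ H ≪≫
      bcIso g' eU ≪≫ (bcComp g' t _).symm ≪≫ bcDiag _ _ _ M
  obtain ⟨e'⟩ := nonempty_bialgEquiv_of_iso e
  refine ⟨{1}, Ideal.span_singleton_one, fun r hr => ?_⟩
  rw [Set.mem_singleton_iff] at hr
  subst hr
  let L := Localization.Away (1 : R)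
  have hu : IsUnit (algebraMap R R' 1) := by simp
  let : Algebra L R' := (IsLocalization.Away.lift (S := L) (1 : R) hu).toAlgebra
  have : IsScalarTower R L R' := IsScalarTower.of_algebraMap_eq fun r => by
    show _ = IsLocalization.Away.lift (S := L) (1 : R) hu _
    rw [IsLocalization.Away.lift_eq]
  let el : R ≃ₐ[R] L := IsLocalization.atOne R L
  have : Module.FaithfullyFlat L R' := by
    rw [← RingHom.faithfullyFlat_algebraMap_iff]
    have heq : algebraMap L R' = (algebraMap R R').comp el.symm.toRingEquiv.toRingHom := by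
      ext l
      obtain ⟨r, rfl⟩ := el.surjective l
      show algebraMap L R' (el r) = algebraMap R R' (el.symm (el r))
      rw [el.symm_apply_apply, IsScalarTower.algebraMap_apply R L R', ← el.commutes r]
      rfl
    rw [heq]
    exact RingHom.FaithfullyFlat.stableUnderComposition _ _
      (.of_bijective el.symm.bijective) ((RingHom.faithfullyFlat_algebraMap_iff).2 inferInstance)
  exact ⟨R', inferInstance, inferInstance, inferInstance, _, inferInstance, ⟨(cancelBC R L R' A).trans e'⟩⟩

end Groth.Agent.MultHopf
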