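import Groth.Agent.MultHopf.ActRigid
import Groth.Agent.MultHopf.Locally
import Groth.Agent.FpqcDescent.Basic
import Mathlib.RingTheory.Ideal.Quotient.Operations
import Mathlib.Order.Zorn

/-!
# Free actions of groups of multiplicative type on affine schemes
-/

set_option autoImplicit false
set_option backward.isDefEq.respectTransparency.types false

universe u

open CategoryTheory CategoryTheory.Limits MonoidalCategory CartesianMonoidalCategory MonObj AlgebraicGeometry
open scoped TensorProduct
open WithConv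

namespace Groth.Agent.MultHopf

section base

variable {S : Scheme.{u}}

theorem isPullback_map_left {U : Scheme.{u}} (g : U ⟶ S) {P P' : Over S} (w : P ⟶ P') :
    IsPullback (pullback.fst P.hom g) ((Over.pullback g).map w).left w.left (pullback.fst P'.hom g) := by
  refine IsPullback.of_bot ?_ (pullback.lift_fst _ _ _).symm (IsPullback.of_hasPullback P'.hom g)
  rw [Over.w w, show ((Over.pullback g).map w).left ≫ pullback.snd P'.hom g = pullback.snd P.hom g from
    pullback.lift_snd _ _ _]
  exact IsPullback.of_hasPullback P.hom g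

theorem of_locally_base (P : MorphismProperty Scheme.{u}) [IsZariskiLocalAtTarget P] {A B : Over S} (w : A ⟶ B)
    (𝒰 : S.OpenCover) (h : ∀ i, P ((Over.pullback (𝒰.f i)).map w).left) : P w.left := by
  refine IsZariskiLocalAtTarget.of_openCover (P := P) (𝒰.pullback₁ B.hom) fun i => ?_
  show P (pullback.snd w.left (pullback.fst B.hom (𝒰.f i)))
  exact (P.cancel_left_of_respectsIso (isPullback_map_left (𝒰.f i) w).isoPullback.hom _).1
    (by rw [IsPullback.isoPullback_hom_snd]; exact h i)

theorem of_fpqc_base (P : MorphismProperty Scheme.{u}) [P.DescendsAlong (@Surjective ⊓ @Flat ⊓ @QuasiCompact)]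
    {A B : Over S} (w : A ⟶ B) {U : Scheme.{u}} (g : U ⟶ S) [Surjective g] [Flat g] [QuasiCompact g]
    (h : P ((Over.pullback g).map w).left) : P w.left :=
  MorphismProperty.of_isPullback_of_descendsAlong (P := P) (Q := @Surjective ⊓ @Flat ⊓ @QuasiCompact)
    (isPullback_map_left g w).flip ⟨⟨inferInstance, inferInstance⟩, inferInstance⟩ h

theorem map_comp_iff (P : MorphismProperty Scheme.{u}) [P.RespectsIso] {T U : Scheme.{u}} (h : U ⟶ T) (g : T ⟶ S)
    {A B : Over S} (w : A ⟶ B) :
    P ((Over.pullback (h ≫ g)).map w).left ↔ P ((Over.pullback h).map ((Over.pullback g).map w)).left := by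
  let e := Over.pullbackComp h g
  have : IsIso (e.hom.app A).left := inferInstanceAs (IsIso ((Over.forget U).map (e.hom.app A)))
  have : IsIso (e.hom.app B).left := inferInstanceAs (IsIso ((Over.forget U).map (e.hom.app B)))
  have hn : ((Over.pullback (h ≫ g)).map w).left ≫ (e.hom.app B).left =
      (e.hom.app A).left ≫ ((Over.pullback h).map ((Over.pullback g).map w)).left :=
    congrArg (fun q : (Over.pullback (h ≫ g)).obj A ⟶ (Over.pullback g ⋙ Over.pullback h).obj B => q.left)
      (e.hom.naturality w)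
  rw [← P.cancel_right_of_respectsIso _ (e.hom.app B).left, hn, P.cancel_left_of_respectsIso]

end base

section core

variable {S : Scheme.{u}} {R : Type u} [CommRing R] (j : Spec (CommRingCat.of R) ⟶ S) {G X : Over S} [GrpObj G]
  {M : Type u} [CommGroup M] (eA : Grp.mk (Red.bc j G) ≅ Grp.mk (hspec R (MonoidAlgebra R M)))
  {B : Type u} [CommRing B] [Algebra R B] (eX : Red.bc j X ≅ pt (R := R) B)

/-- Points of an affine model of a scheme. -/
noncomputable def ptX (D : Type u) [CommRing D] [Algebra R D] : (ptS j D ⟶ X) ≃ (B →ₐ[R] D) where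
  toFun x := AlgHom.mk (Spec.preimage ((Over.mapPullbackAdj j).homEquiv (pt (R := R) D) X x ≫ eX.hom).left).hom
    (fun r => by
      have h := Over.w ((Over.mapPullbackAdj j).homEquiv (pt (R := R) D) X x ≫ eX.hom)
      change _ ≫ Spec.map (CommRingCat.ofHom (algebraMap R B)) = Spec.map (CommRingCat.ofHom (algebraMap R D)) at h
      rw [← Spec.map_preimage ((Over.mapPullbackAdj j).homEquiv (pt (R := R) D) X x ≫ eX.hom).left, ← Spec.map_comp] at h
      exact CategoryTheory.congr_fun (Spec.map_injective h) r)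
  invFun φ := ((Over.mapPullbackAdj j).homEquiv (pt (R := R) D) X).symm (ptMap φ ≫ eX.inv)
  left_inv x := by
    apply ((Over.mapPullbackAdj j).homEquiv (pt (R := R) D) X).injective
    rw [Equiv.apply_symm_apply, ← cancel_mono eX.hom, Category.assoc, eX.inv_hom_id, Category.comp_id]
    exact Over.OverMorphism.ext (Spec.map_preimage _)
  right_inv φ := by
    refine AlgHom.ext fun r => ?_
    show (Spec.preimage ((Over.mapPullbackAdj j).homEquiv _ X
      (((Over.mapPullbackAdj j).homEquiv (pt (R := R) D) X).symm (ptMap φ ≫ eX.inv)) ≫ eX.hom).left).hom r = φ r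
    rw [Equiv.apply_symm_apply, Category.assoc, eX.inv_hom_id, Category.comp_id, ptMap_left]
    exact CategoryTheory.congr_fun (Spec.preimage_map (CommRingCat.ofHom φ.toRingHom)) r

theorem ptX_pSMap {D D' : Type u} [CommRing D] [Algebra R D] [CommRing D'] [Algebra R D']
    (f : D →ₐ[R] D') (x : ptS j D ⟶ X) : ptX j eX D' (pSMap j f ≫ x) = f.comp (ptX j eX D x) := by
  apply (ptX j eX D').symm.injective
  rw [Equiv.symm_apply_apply]
  show _ = ((Over.mapPullbackAdj j).homEquiv (pt (R := R) D') X).symm (ptMap (f.comp (ptX j eX D x)) ≫ eX.inv)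
  apply ((Over.mapPullbackAdj j).homEquiv (pt (R := R) D') X).injective
  rw [Equiv.apply_symm_apply]
  show (Over.mapPullbackAdj j).homEquiv _ X ((Over.map j).map (ptMap f) ≫ x) = _
  rw [Adjunction.homEquiv_naturality_left]
  conv_lhs => rw [← (ptX j eX D).symm_apply_apply x]
  show ptMap f ≫ (Over.mapPullbackAdj j).homEquiv _ X (((Over.mapPullbackAdj j).homEquiv (pt (R := R) D) X).symm
    (ptMap (ptX j eX D x) ≫ eX.inv)) = _
  rw [Equiv.apply_symm_apply, ← Category.assoc]
  congr 1
  apply Over.OverMorphism.ext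
  show Spec.map _ ≫ Spec.map _ = Spec.map _
  rw [← Spec.map_comp]
  rfl

variable (a : AlgGrp.Action G X)

theorem act_one' {T : Over S} (x : T ⟶ X) : lift (1 : T ⟶ G) x ≫ a.act = x := by
  have h := congrArg (fun q => lift (toUnit T) x ≫ q) a.one_act
  simpa [Hom.one_def, leftUnitor_hom] using h

/-- The point of the group of a character. -/
noncomputable def chiPt {D : Type u} [CommRing D] [Algebra R D] (χ : M →* D) : ptS j D ⟶ G :=
  (ptEquiv j eA D).symm (toConv (MonoidAlgebra.lift R D M χ))

theorem chiPt_pSMap {D D' : Type u} [CommRing D] [Algebra R D] [CommRing D'] [Algebra R D'] (f : D →ₐ[R] D')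
    (χ : M →* D) : pSMap j f ≫ chiPt j eA χ = chiPt j eA ((f : D →* D').comp χ) := by
  apply (ptEquiv j eA D').injective
  rw [ptEquiv_pSMap, chiPt, chiPt, Equiv.apply_symm_apply, Equiv.apply_symm_apply]
  congr 1
  ext m <;> simp

theorem chiPt_mul {D : Type u} [CommRing D] [Algebra R D] (χ χ' : M →* D) :
    chiPt j eA (χ * χ') = chiPt j eA χ * chiPt j eA χ' := by
  apply (ptEquiv j eA D).injective
  rw [ptEquiv_mul, chiPt, chiPt, chiPt, Equiv.apply_symm_apply, Equiv.apply_symm_apply, Equiv.apply_symm_apply]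
  apply WithConv.ofConv_injective
  ext m <;> simp [AlgHom.convMul_apply, CommSemiring.comul_apply]

include eA eX in
/-- The graph of a free action of a diagonalisable group on an affine scheme is a closed immersion. -/
theorem isClosedImmersion_graph
    (hfree : ∀ (Y : Over S) (g : Y ⟶ G) (x : Y ⟶ X), lift g x ≫ a.act = x → g = 1) :
    IsClosedImmersion ((Over.pullback j).map (lift a.act (snd G X))).left := by
  classical
  have hhom : IsMonHom eA.hom.hom.hom := eA.hom.hom.isMonHom_hom
  -- the coaction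
  let BM := MonoidAlgebra B M
  let inc : B →ₐ[R] BM := IsScalarTower.toAlgHom R B BM
  let xu : ptS j BM ⟶ X := (ptX j eX BM).symm inc
  let σ : B →ₐ[R] BM := ptX j eX BM (lift (chiPt j eA (MonoidAlgebra.of B M)) xu ≫ a.act)
  have hact : ∀ {D : Type u} [CommRing D] [Algebra R D] (χ : M →* D) (ξ : B →ₐ[R] D),
      ptX j eX D (lift (chiPt j eA χ) ((ptX j eX D).symm ξ) ≫ a.act) =
        (MonoidAlgebra.liftNCAlgHom ξ χ (fun _ _ => Commute.all _ _)).comp σ := by
    intro D _ _ χ ξ
    let ev : BM →ₐ[R] D := MonoidAlgebra.liftNCAlgHom ξ χ (fun _ _ => Commute.all _ _)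
    have e1 : pSMap j ev ≫ chiPt j eA (MonoidAlgebra.of B M) = chiPt j eA χ := by
      rw [chiPt_pSMap]
      congr 1
      ext m
      show MonoidAlgebra.liftNC (ξ : B →+ _) χ (MonoidAlgebra.single m 1) = χ m
      rw [MonoidAlgebra.liftNC_single]
      simp
    have e2 : pSMap j ev ≫ xu = (ptX j eX D).symm ξ := by
      apply (ptX j eX D).injective
      rw [ptX_pSMap, Equiv.apply_symm_apply, Equiv.apply_symm_apply]
      ext b
      show MonoidAlgebra.liftNC (ξ : B →+ _) χ (MonoidAlgebra.single 1 (algebraMap B B b)) = ξ b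
      rw [MonoidAlgebra.liftNC_single]
      simp
    show _ = ev.comp σ
    rw [← ptX_pSMap, ← Category.assoc, comp_lift, e1, e2]
  let comp : M → B → B := fun m b => (σ b).coeff m
  have hσ : ∀ b, σ b = ((σ b).coeff.sum fun m c => MonoidAlgebra.single m c) := fun b =>
    (MonoidAlgebra.sum_coeff_single _).symm
  have hev : ∀ {D : Type u} [CommRing D] [Algebra R D] (χ : M →* D) (ξ : B →ₐ[R] D) (b : B),
      MonoidAlgebra.liftNCAlgHom ξ χ (fun _ _ => Commute.all _ _) (σ b) =
        (σ b).coeff.sum fun m c => ξ c * χ m := fun χ ξ b => by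
    show MonoidAlgebra.liftNC (ξ : B →+ _) χ (σ b) = _
    conv_lhs => rw [hσ b]
    simp [Finsupp.sum, map_sum, MonoidAlgebra.liftNC_single]
  -- counit
  have hcounit : ∀ b, ((σ b).coeff.sum fun _ c => c) = b := fun b => by
    have h := hact (D := B) (1 : M →* B) (AlgHom.id R B)
    rw [show chiPt j eA (1 : M →* B) = 1 from ?_, act_one', Equiv.apply_symm_apply] at h
    · have h2 := DFunLike.congr_fun h b
      rw [AlgHom.comp_apply, hev] at h2
      simpa using h2.symm
    · have h1 := chiPt_mul j eA (1 : M →* B) 1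
      rw [_root_.mul_one] at h1
      exact mul_eq_left.1 h1.symm
  -- coassociativity
  have hcoassoc : ∀ b m, σ ((σ b).coeff m) = MonoidAlgebra.single m ((σ b).coeff m) := by
    intro b m
    let D := MonoidAlgebra B (M × M)
    let χ₁ : M →* D := (MonoidAlgebra.of B (M × M)).comp (MonoidHom.inl M M)
    let χ₂ : M →* D := (MonoidAlgebra.of B (M × M)).comp (MonoidHom.inr M M)
    let ξ : B →ₐ[R] D := IsScalarTower.toAlgHom R B D
    have h1 := hact (χ₁ * χ₂) ξ
    rw [chiPt_mul, act_mul', ← (ptX j eX D).symm_apply_apply (lift (chiPt j eA χ₂) _ ≫ a.act), hact, hact] at h1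
    have h2 := DFunLike.congr_fun h1 b
    rw [AlgHom.comp_apply, AlgHom.comp_apply, hev, hev] at h2
    simp only [AlgHom.comp_apply, hev] at h2
    have h3 := fun n => congrArg (fun z : D => z.coeff (m, n)) h2
    apply MonoidAlgebra.coeff_injective
    ext n
    have h4 : _ = _ := h3 n
    dsimp only [D] at h4
    have halg : ∀ c : B, algebraMap B D c = MonoidAlgebra.single 1 c := fun c => by
      simp [D, MonoidAlgebra.coe_algebraMap]
    simp only [χ₁, χ₂, ξ, halg, Finsupp.sum, MonoidAlgebra.coeff_sum, Finsupp.finsetSum_apply, MonoidHom.mul_apply,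
      MonoidHom.comp_apply, MonoidHom.inl_apply, MonoidHom.inr_apply, MonoidAlgebra.of_apply,
      IsScalarTower.coe_toAlgHom', MonoidAlgebra.coe_algebraMap, Function.comp_apply, Finset.sum_mul,
      MonoidAlgebra.single_mul_single, _root_.one_mul, _root_.mul_one, Prod.mk_mul_mk, MonoidAlgebra.coeff_single,
      Finsupp.single_apply, Prod.mk.injEq, Algebra.algebraMap_self, RingHom.id_apply] at h4
    simp only [ite_and, Finset.sum_ite_irrel, Finset.sum_const_zero, Finset.sum_ite_eq', Finsupp.mem_support_iff,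
      ne_eq, ite_not] at h4
    rw [MonoidAlgebra.coeff_single, Finsupp.single_apply]
    by_cases hm : (σ b).coeff m = 0
    · simp [hm]
    · rw [if_neg hm, if_neg hm] at h4
      refine (?_ : _ = _).trans h4
      split_ifs with h <;> simp [h]
  let hom : M → B → Prop := fun m b => σ b = MonoidAlgebra.single m b
  -- freeness: each degree generates the unit ideal
  have hgen : ∀ m, Ideal.span {b | hom m b} = ⊤ := by
    intro m
    by_contra hne
    let stab : Set (Ideal B) := {q | (∀ b ∈ q, ∀ n, (σ b).coeff n ∈ q) ∧ q ≠ ⊤}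
    have hI : Ideal.span {b | hom m b} ∈ stab := by
      refine ⟨fun b hb n => ?_, hne⟩
      induction hb using Submodule.span_induction generalizing n with
      | mem y hy =>
        rw [show σ y = MonoidAlgebra.single m y from hy, MonoidAlgebra.coeff_single, Finsupp.single_apply]
        split_ifs
        · exact Submodule.subset_span hy
        · exact zero_mem _
      | zero => simp
      | add y z _ _ hy hz => rw [map_add, MonoidAlgebra.coeff_add, Finsupp.add_apply]; exact add_mem (hy n) (hz n)
      | smul r y _ hy =>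
        rw [smul_eq_mul, map_mul, MonoidAlgebra.coeff_mul]
        refine sum_mem fun p _ => ?_
        dsimp only
        refine sum_mem fun q' _ => ?_
        dsimp only
        split_ifs
        · exact Ideal.mul_mem_left _ _ (hy q')
        · exact zero_mem _
    obtain ⟨q, hIq, hmax⟩ := zorn_le_nonempty₀ stab (fun c hc hch y hy => by
      refine ⟨sSup c, ⟨fun b hb n => ?_, ?_⟩, fun z hz => le_sSup hz⟩
      · obtain ⟨q, hq, hbq⟩ := (Submodule.mem_sSup_of_directed ⟨y, hy⟩ hch.directedOn).1 hb
        exact (Submodule.mem_sSup_of_directed ⟨y, hy⟩ hch.directedOn).2 ⟨q, hq, (hc hq).1 b hbq n⟩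
      · intro htop
        obtain ⟨q, hq, h1⟩ := (Submodule.mem_sSup_of_directed ⟨y, hy⟩ hch.directedOn).1
          ((Ideal.eq_top_iff_one _).1 htop)
        exact (hc hq).2 ((Ideal.eq_top_iff_one _).2 h1)) _ hI
    obtain ⟨p, hp, hqp⟩ := Ideal.exists_le_maximal q hmax.prop.2
    have hpp : p.IsPrime := hp.isPrime
    -- a homogeneous element outside `q` is outside `p`, with a homogeneous inverse modulo `p`
    have hout : ∀ n b, hom n b → b ∉ q → ∃ r, hom n⁻¹ r ∧ r * b - 1 ∈ p ∧ b ∉ p := by
      intro n b hb hbq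
      have hst : q ⊔ Ideal.span {b} ∈ stab → False := fun h =>
        hbq (hmax.le_of_ge h le_sup_left (Ideal.mem_sup_right (Ideal.mem_span_singleton_self b)))
      have htop : q ⊔ Ideal.span {b} = ⊤ := by
        by_contra hne2
        refine hst ⟨fun y hy k => ?_, hne2⟩
        obtain ⟨z, hz, w, hw, rfl⟩ := Submodule.mem_sup.1 hy
        obtain ⟨r, rfl⟩ := Ideal.mem_span_singleton'.1 hw
        rw [map_add, MonoidAlgebra.coeff_add, Finsupp.add_apply, map_mul, show σ b = _ from hb,
          MonoidAlgebra.coeff_mul_single_apply]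
        exact add_mem (Ideal.mem_sup_left (hmax.prop.1 z hz k))
          (Ideal.mem_sup_right (Ideal.mul_mem_left _ _ (Ideal.mem_span_singleton_self b)))
      obtain ⟨z, hz, w, hw, hzw⟩ := Submodule.mem_sup.1 (htop ▸ Submodule.mem_top : (1 : B) ∈ q ⊔ Ideal.span {b})
      obtain ⟨r, rfl⟩ := Ideal.mem_span_singleton'.1 hw
      have h1 := congrArg (fun x => (σ x).coeff 1) hzw
      rw [map_add σ, map_mul σ, show σ b = _ from hb, map_one σ, MonoidAlgebra.coeff_add, Finsupp.add_apply,
        MonoidAlgebra.coeff_mul_single_apply, MonoidAlgebra.one_def, MonoidAlgebra.coeff_single,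
        Finsupp.single_eq_same, _root_.one_mul] at h1
      refine ⟨(σ r).coeff n⁻¹, hcoassoc r _, ?_, ?_⟩
      · have e : (σ r).coeff n⁻¹ * b - 1 = -((σ z).coeff 1) := by linear_combination h1
        rw [e]
        exact hqp (q.neg_mem (hmax.prop.1 z hz 1))
      · intro hbp
        apply hp.ne_top
        rw [Ideal.eq_top_iff_one, ← hzw]
        exact add_mem (hqp hz) (p.mul_mem_left r hbp)
    let Γ : Subgroup M :=
      { carrier := {n | ∃ b, hom n b ∧ b ∉ p}
        one_mem' := ⟨1, map_one σ, fun h => hp.ne_top ((Ideal.eq_top_iff_one _).2 h)⟩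
        mul_mem' := fun {n n'} hn hn' => by
          obtain ⟨b, hb, hbp⟩ := hn
          obtain ⟨b', hb', hbp'⟩ := hn'
          refine ⟨b * b', ?_, fun h => (hpp.mem_or_mem h).elim hbp hbp'⟩
          show σ (b * b') = _
          rw [map_mul, show σ b = _ from hb, show σ b' = _ from hb', MonoidAlgebra.single_mul_single]
        inv_mem' := fun {n} hn => by
          obtain ⟨b, hb, hbp⟩ := hn
          obtain ⟨r, hr, hr1, -⟩ := hout n b hb fun h => hbp (hqp h)
          refine ⟨r, hr, fun h => hp.ne_top ((Ideal.eq_top_iff_one _).2 ?_)⟩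
          simpa using sub_mem (p.mul_mem_right b h) hr1 }
    have hm : m ∉ Γ := by
      rintro ⟨b, hb, hbp⟩
      exact hbp (hqp (hIq (Submodule.subset_span hb)))
    let D := MonoidAlgebra (B ⧸ p) (M ⧸ Γ)
    let χ : M →* D := (MonoidAlgebra.of (B ⧸ p) (M ⧸ Γ)).comp (QuotientGroup.mk' Γ)
    let ξ : B →ₐ[R] D := (IsScalarTower.toAlgHom R (B ⧸ p) D).comp (Ideal.Quotient.mkₐ R p)
    have hfix : lift (chiPt j eA χ) ((ptX j eX D).symm ξ) ≫ a.act = (ptX j eX D).symm ξ := by
      apply (ptX j eX D).injective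
      rw [Equiv.apply_symm_apply, hact]
      refine AlgHom.ext fun b => ?_
      rw [AlgHom.comp_apply, hev]
      conv_rhs => rw [← hcounit b]
      rw [map_finsuppSum]
      refine Finsupp.sum_congr fun n _ => ?_
      by_cases hn : n ∈ Γ
      · rw [show χ n = 1 by simp [χ, (QuotientGroup.eq_one_iff n).2 hn]; rfl, _root_.mul_one]
      · have hz : ξ ((σ b).coeff n) = 0 := by
          have : (σ b).coeff n ∈ p := by
            by_contra h
            exact hn ⟨_, hcoassoc b n, h⟩
          simp [ξ, Ideal.Quotient.eq_zero_iff_mem.2 this]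
        rw [hz, zero_mul]
    have h1 := congrArg (ptEquiv j eA D) (hfree _ _ _ hfix)
    have hone : ptEquiv j eA D (1 : ptS j D ⟶ G) = 1 := by
      show Spec.mapMulEquiv.symm (adjMulEquiv j _ G 1 ≫ eA.hom.hom.hom) = 1
      rw [map_one, MonObj.one_comp, map_one]
    rw [chiPt, Equiv.apply_symm_apply, hone] at h1
    have h2 := DFunLike.congr_fun (congrArg WithConv.ofConv h1) (MonoidAlgebra.single m 1)
    apply hm
    rw [← QuotientGroup.eq_one_iff]
    have : Nontrivial (B ⧸ p) := Ideal.Quotient.nontrivial_iff.2 hp.ne_top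
    simp [χ, AlgHom.convOne_def] at h2
    exact MonoidAlgebra.of_injective (h2.trans (map_one (MonoidAlgebra.of (B ⧸ p) (M ⧸ Γ))).symm)
  -- the schemes
  let δ := (Over.pullback j).map (lift a.act (snd G X))
  have : IsAffineHom (Red.bc j G).hom := by
    let g : Red.bc j G ⟶ hspec R (MonoidAlgebra R M) := eA.hom.hom.hom
    have : IsIso g := ⟨eA.inv.hom.hom, congrArg (fun z => z.hom.hom) eA.hom_inv_id, congrArg (fun z => z.hom.hom) eA.inv_hom_id⟩
    have : IsIso g.left := inferInstanceAs (IsIso ((Over.forget _).map g))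
    rw [← Over.w g]
    have : IsAffineHom (hspec R (MonoidAlgebra R M)).hom := inferInstanceAs (IsAffineHom (Spec.map _))
    exact inferInstanceAs (IsAffineHom (g.left ≫ _))
  have : IsAffineHom (Red.bc j X).hom := by
    have : IsIso eX.hom.left := inferInstanceAs (IsIso ((Over.forget _).map eX.hom))
    rw [← Over.w eX.hom]
    have : IsAffineHom (pt (R := R) B).hom := inferInstanceAs (IsAffineHom (Spec.map _))
    exact inferInstanceAs (IsAffineHom (eX.hom.left ≫ _))
  have hA : ∀ (U V : Over S) [IsAffineHom (Red.bc j U).hom] [IsAffineHom (Red.bc j V).hom],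
      IsAffine ((Over.pullback j).obj (U ⊗ V)).left := by
    intro U V _ _
    have : IsAffineHom (pullback.fst (Red.bc j U).hom (Red.bc j V).hom) :=
      MorphismProperty.pullback_fst (P := @IsAffineHom) _ _ inferInstance
    have : IsAffineHom (Red.bc j U ⊗ Red.bc j V).hom :=
      inferInstanceAs (IsAffineHom (pullback.fst (Red.bc j U).hom (Red.bc j V).hom ≫ (Red.bc j U).hom))
    have : IsAffine (Red.bc j U ⊗ Red.bc j V).left := isAffine_of_isAffineHom (Red.bc j U ⊗ Red.bc j V).hom
    have : IsAffine ((Over.forget _).obj ((Over.pullback j).obj U ⊗ (Over.pullback j).obj V)) := ‹_›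
    exact .of_isIso ((Over.forget _).mapIso (Functor.Monoidal.μIso (Over.pullback j) U V)).inv
  let P := (Over.pullback j).obj (G ⊗ X)
  let P' := (Over.pullback j).obj (X ⊗ X)
  have : IsAffine P.left := hA G X
  have : IsAffine P'.left := hA X X
  let K : Type u := Γ(P.left, ⊤)
  let pP : Spec Γ(P.left, ⊤) ⟶ Spec (CommRingCat.of R) := P.left.isoSpec.inv ≫ P.hom
  let : Algebra R K := (Spec.preimage pP).hom.toAlgebra
  let eP : pt (R := R) K ≅ P := Over.isoMk P.left.isoSpec.symm (Spec.map_preimage pP).symm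
  let zP : ptS j K ⟶ G ⊗ X := ((Over.mapPullbackAdj j).homEquiv _ _).symm eP.hom
  let gK : ptS j K ⟶ G := zP ≫ fst G X
  let xK : ptS j K ⟶ X := zP ≫ snd G X
  let χK : M →* K := (MonoidAlgebra.lift R K M).symm (ptEquiv j eA K gK).ofConv
  have hgK : gK = chiPt j eA χK := by
    apply (ptEquiv j eA K).injective
    rw [chiPt, Equiv.apply_symm_apply, Equiv.apply_symm_apply]
  let ξK := ptX j eX K xK
  -- generation of `K`
  have hK : ∀ K₀ : Subalgebra R K, (∀ m, χK m ∈ K₀) → (∀ b, ξK b ∈ K₀) → K₀ = ⊤ := by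
    intro K₀ hχ hξ
    let χ₀ : M →* K₀ := χK.codRestrict K₀.toSubmonoid hχ
    let ξ₀ : B →ₐ[R] K₀ := ξK.codRestrict K₀ hξ
    let z₀ : ptS j K₀ ⟶ G ⊗ X := lift (chiPt j eA χ₀) ((ptX j eX K₀).symm ξ₀)
    have hz : pSMap j K₀.val ≫ z₀ = zP := by
      apply CartesianMonoidalCategory.hom_ext
      · rw [Category.assoc, lift_fst, chiPt_pSMap]
        exact hgK.symm
      · rw [Category.assoc, lift_snd]
        apply (ptX j eX K).injective
        rw [ptX_pSMap, Equiv.apply_symm_apply]
        rfl
    let t : pt (R := R) K₀ ⟶ pt (R := R) K := (Over.mapPullbackAdj j).homEquiv _ _ z₀ ≫ eP.inv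
    have ht : ptMap K₀.val ≫ t = 𝟙 _ := by
      show _ ≫ _ ≫ eP.inv = _
      rw [← Category.assoc, ← Adjunction.homEquiv_naturality_left]
      show (Over.mapPullbackAdj j).homEquiv _ _ (pSMap j K₀.val ≫ z₀) ≫ _ = _
      rw [hz, Equiv.apply_symm_apply, eP.hom_inv_id]
    have h2 : Spec.map (CommRingCat.ofHom K₀.val.toRingHom) ≫ Spec.map (Spec.preimage t.left) = 𝟙 _ :=
      (congrArg (_ ≫ ·) (Spec.map_preimage _)).trans (congrArg (fun q : pt (R := R) K ⟶ pt K => q.left) ht)
    rw [← Spec.map_comp, ← Spec.map_id] at h2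
    rw [eq_top_iff]
    intro k _
    have h3 := CategoryTheory.congr_fun (Spec.map_injective h2) k
    rw [← show K₀.val ((Spec.preimage t.left).hom k) = k from h3]
    exact ((Spec.preimage t.left).hom k).2
  -- the image of the target
  let Φ : Γ(P'.left, ⊤) →+* K := δ.left.appTop.hom
  suffices hsur : Function.Surjective Φ from IsClosedImmersion.of_surjective_of_isAffine δ.left hsur
  let pP' : Spec Γ(P'.left, ⊤) ⟶ Spec (CommRingCat.of R) := P'.left.isoSpec.inv ≫ P'.hom
  let : Algebra R Γ(P'.left, ⊤) := (Spec.preimage pP').hom.toAlgebra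
  let eP' : pt (R := R) Γ(P'.left, ⊤) ≅ P' := Over.isoMk P'.left.isoSpec.symm (Spec.map_preimage pP').symm
  have hδ : Spec.map (CommRingCat.ofHom Φ) ≫ eP'.hom.left = eP.hom.left ≫ δ.left := by
    show Spec.map δ.left.appTop ≫ P'.left.isoSpec.inv = P.left.isoSpec.inv ≫ δ.left
    exact Scheme.isoSpec_inv_naturality δ.left
  let Φa : Γ(P'.left, ⊤) →ₐ[R] K :=
    { Φ with
      commutes' := fun r => by
        have h : Spec.map (CommRingCat.ofHom Φ) ≫ Spec.map (CommRingCat.ofHom (algebraMap R Γ(P'.left, ⊤))) =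
            Spec.map (CommRingCat.ofHom (algebraMap R K)) := by
          refine (congrArg (Spec.map (CommRingCat.ofHom Φ) ≫ ·) (Over.w eP'.hom).symm).trans ?_
          refine (Category.assoc _ _ _).symm.trans ((congrArg (· ≫ P'.hom) hδ).trans ?_)
          exact (Category.assoc _ _ _).trans ((congrArg (eP.hom.left ≫ ·) (Over.w δ)).trans (Over.w eP.hom))
        rw [← Spec.map_comp] at h
        exact CategoryTheory.congr_fun (Spec.map_injective h) r }
  let zP' : ptS j Γ(P'.left, ⊤) ⟶ X ⊗ X := ((Over.mapPullbackAdj j).homEquiv _ _).symm eP'.hom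
  have hz' : pSMap j Φa ≫ zP' = zP ≫ lift a.act (snd G X) := by
    show (Over.map j).map (ptMap Φa) ≫ _ = _
    rw [← Adjunction.homEquiv_naturality_left_symm, ← Adjunction.homEquiv_naturality_right_symm]
    congr 1
    exact Over.OverMorphism.ext hδ
  have him : ∀ (q : X ⊗ X ⟶ X) (b : B), ptX j eX K (zP ≫ lift a.act (snd G X) ≫ q) b ∈ Φa.range := by
    intro q b
    rw [← Category.assoc, ← hz', Category.assoc, ptX_pSMap]
    exact ⟨_, rfl⟩
  have hxim : ∀ b, ξK b ∈ Φa.range := fun b => by
    have := him (snd X X) b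
    rwa [lift_snd] at this
  have hgxim : ∀ b, MonoidAlgebra.liftNCAlgHom ξK χK (fun _ _ => Commute.all _ _) (σ b) ∈ Φa.range := fun b => by
    have := him (fst X X) b
    rw [lift_fst, show zP ≫ a.act = lift gK xK ≫ a.act by rw [show lift gK xK = zP from by simp [gK, xK]], hgK,
      ← (ptX j eX K).symm_apply_apply xK, hact] at this
    exact this
  have hall : ∀ m, χK m ∈ Φa.range := by
    intro m
    suffices h : ∀ x ∈ Ideal.span {b | hom m b}, ξK x * χK m ∈ Φa.range by
      have := h 1 ((hgen m).symm ▸ Submodule.mem_top)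
      rwa [map_one, _root_.one_mul] at this
    intro x hx
    induction hx using Submodule.span_induction with
    | mem y hy =>
      have := hgxim y
      rw [hev, show σ y = _ from hy, MonoidAlgebra.coeff_single, Finsupp.sum_single_index (by simp)] at this
      exact this
    | zero => simp
    | add y z _ _ hy hz => rw [map_add, _root_.add_mul]; exact add_mem hy hz
    | smul r y _ hy => rw [smul_eq_mul, map_mul, _root_.mul_assoc]; exact mul_mem (hxim r) hy
  intro k
  exact (hK Φa.range hall hxim ▸ Algebra.mem_top : k ∈ Φa.range)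

end core

end Groth.Agent.MultHopf
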