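import Groth.Agent.MultHopf.CentralRigid
import Groth.Agent.MultHopf.FreeAct
import Groth.Agent.FpqcDescent.Flat
import Mathlib.AlgebraicGeometry.Morphisms.FlatDescent
import Mathlib.AlgebraicGeometry.Morphisms.IsIso

/-!
# Loci of homomorphisms between groups of multiplicative type of finite type
-/

set_option autoImplicit false
set_option backward.isDefEq.respectTransparency.types false

universe u

open CategoryTheory CategoryTheory.Limits MonoidalCategory CartesianMonoidalCategory MonObj AlgebraicGeometry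
open scoped TensorProduct
open WithConv

namespace Groth.Agent.MultHopf

/-! ### Descent instances -/

instance descendsAlong_monomorphisms_fpqc :
    (MorphismProperty.monomorphisms Scheme.{u}).DescendsAlong (@Surjective ⊓ @Flat ⊓ @QuasiCompact) := by
  rw [← MorphismProperty.diagonal_isomorphisms]
  infer_instance

instance descendsAlong_flat_fpqc :
    MorphismProperty.DescendsAlong @Flat (@Surjective ⊓ @Flat ⊓ @QuasiCompact : MorphismProperty Scheme.{u}) := by
  refine MorphismProperty.DescendsAlong.mk' fun {X Y Z} f g _ hf h => ?_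
  have : Surjective f := hf.1.1
  have : Flat f := hf.1.2
  have : Flat (pullback.fst f g) := h
  have : Flat (pullback.snd f g) := MorphismProperty.pullback_snd (P := @Flat) _ _ inferInstance
  have : Surjective (pullback.snd f g) := MorphismProperty.pullback_snd (P := @Surjective) _ _ inferInstance
  have : Flat (pullback.snd f g ≫ g) := by
    rw [← pullback.condition]
    exact inferInstanceAs (Flat (_ ≫ _))
  exact FpqcDescent.flat_of_flat_comp (pullback.snd f g) g

instance descendsAlong_flat_inf_surjective_fpqc :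
    MorphismProperty.DescendsAlong (@Flat ⊓ @Surjective) (@Surjective ⊓ @Flat ⊓ @QuasiCompact : MorphismProperty Scheme.{u}) := by
  refine MorphismProperty.DescendsAlong.mk' fun {X Y Z} f g _ hf h => ?_
  exact ⟨MorphismProperty.of_pullback_fst_of_descendsAlong (P := @Flat) hf h.1,
    MorphismProperty.of_pullback_fst_of_descendsAlong (P := @Surjective) hf h.2⟩

/-! ### Group-like coefficients -/

/-- Orthogonal idempotents summing to one over a local ring: a single group element. -/
theorem exists_eq_single' {T : Type u} [CommRing T] [IsLocalRing T] {M : Type u} [CommGroup M] [DecidableEq M]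
    (z : MonoidAlgebra T M) (hmul : ∀ m n, z.coeff m * z.coeff n = if m = n then z.coeff m else 0)
    (hsum : z.coeff.sum (fun _ c => c) = 1) : ∃ m, z = MonoidAlgebra.single m 1 := by
  obtain ⟨m, hm⟩ : ∃ m, IsUnit (z.coeff m) := by
    by_contra hne
    have hno : ∀ m, z.coeff m ∈ IsLocalRing.maximalIdeal T := fun m hu => hne ⟨m, hu⟩
    refine (IsLocalRing.maximalIdeal.isMaximal T).ne_top ((Ideal.eq_top_iff_one _).2 ?_)
    rw [← hsum]
    exact sum_mem fun m _ => hno m
  have hm1 : z.coeff m = 1 := hm.mul_eq_left.1 (by simpa using hmul m m)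
  refine ⟨m, MonoidAlgebra.coeff_injective (Finsupp.ext fun n => ?_)⟩
  rw [MonoidAlgebra.coeff_single, Finsupp.single_apply]
  split_ifs with h
  · exact h ▸ hm1
  · have := hmul m n
    rwa [hm1, _root_.one_mul, if_neg h] at this

theorem coeff_of_groupLike {T : Type u} [CommRing T] {M : Type u} [CommGroup M] [DecidableEq M]
    (z : MonoidAlgebra T M) (h1 : Coalgebra.counit (R := T) z = 1)
    (h2 : Coalgebra.comul (R := T) z = z ⊗ₜ[T] z) :
    (∀ m n, z.coeff m * z.coeff n = if m = n then z.coeff m else 0) ∧ z.coeff.sum (fun _ c => c) = 1 := by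
  let co : M → MonoidAlgebra T M →ₗ[T] T := fun m =>
    Finsupp.lapply m ∘ₗ (MonoidAlgebra.coeffLinearEquiv T).toLinearMap
  have hco : ∀ m y, co m y = y.coeff m := fun _ _ => rfl
  let L : M → M → MonoidAlgebra T M ⊗[T] MonoidAlgebra T M →ₗ[T] T := fun m n =>
    LinearMap.mul' T T ∘ₗ TensorProduct.map (co m) (co n)
  have hL : ∀ m n y, L m n (Coalgebra.comul (R := T) y) = if m = n then y.coeff m else 0 := fun m n y => by
    induction y using MonoidAlgebra.induction_linear with
    | zero => simp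
    | add a b ha hb => rw [map_add, map_add, ha, hb, MonoidAlgebra.coeff_add, Finsupp.add_apply]; split_ifs <;> simp
    | single k r =>
      rw [MonoidAlgebra.comul_single, CommSemiring.comul_apply, TensorProduct.map_tmul]
      simp only [L, LinearMap.comp_apply, TensorProduct.map_tmul, hco, MonoidAlgebra.lsingle_apply,
        MonoidAlgebra.coeff_single, Finsupp.single_apply, LinearMap.mul'_apply]
      split_ifs <;> simp_all
  refine ⟨fun m n => ?_, ?_⟩
  · rw [← hL m n z, h2]
    simp [L, hco]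
  · rw [← h1]
    conv_rhs => rw [← MonoidAlgebra.sum_coeff_single z]
    rw [map_finsuppSum]
    simp [MonoidAlgebra.counit_single]

/-! ### Group algebras of homomorphisms -/

/-- The group algebra over a subgroup is faithfully flat. -/
theorem faithfullyFlat_mapDomain (R : Type u) [CommRing R] {M' M : Type u} [CommGroup M'] [CommGroup M]
    (θ : M' →* M) (hθ : Function.Injective θ) :
    (MonoidAlgebra.mapDomainAlgHom R R θ).toRingHom.FaithfullyFlat := by
  classical
  let A := MonoidAlgebra R M'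
  let B := MonoidAlgebra R M
  let : Algebra A B := (MonoidAlgebra.mapDomainAlgHom R R θ).toRingHom.toAlgebra
  have halg : ∀ (m : M') (r : R), algebraMap A B (MonoidAlgebra.single m r) = MonoidAlgebra.single (θ m) r := fun m r => by
    show MonoidAlgebra.mapDomainAlgHom R R θ (MonoidAlgebra.single m r) = _
    simp
  let N := θ.range
  let s : M ⧸ N → M := Quotient.out
  have hs : ∀ c, (QuotientGroup.mk (s c) : M ⧸ N) = c := fun c => Quotient.out_eq' c
  have hmem : ∀ x : M, ∃ m', θ m' = x * (s (QuotientGroup.mk x))⁻¹ := fun x => by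
    have : x * (s (QuotientGroup.mk x))⁻¹ ∈ N := by
      rw [← QuotientGroup.eq_one_iff, QuotientGroup.mk_mul, QuotientGroup.mk_inv, hs, mul_inv_cancel]
    exact this
  choose q hq using hmem
  let Φ : ((M ⧸ N) →₀ A) →ₗ[A] B := Finsupp.linearCombination A fun c => MonoidAlgebra.single (s c) (1 : R)
  let Ψ : B →+ ((M ⧸ N) →₀ A) := (Finsupp.liftAddHom fun x : M =>
      ((Finsupp.singleAddHom (QuotientGroup.mk x : M ⧸ N)).comp (MonoidAlgebra.singleAddHom (R := R) (q x)))).comp
    (MonoidAlgebra.coeffAddEquiv).toAddMonoidHom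
  have hΨ : ∀ x r, Ψ (MonoidAlgebra.single x r) = Finsupp.single (QuotientGroup.mk x) (MonoidAlgebra.single (q x) r) := by
    intro x r
    show (Finsupp.liftAddHom _) (MonoidAlgebra.single x r).coeff = _
    rw [MonoidAlgebra.coeff_single, Finsupp.liftAddHom_apply_single]
    rfl
  have hΦ : ∀ c m r, Φ (Finsupp.single c (MonoidAlgebra.single m r)) = MonoidAlgebra.single (θ m * s c) r := by
    intro c m r
    simp only [Φ, Finsupp.linearCombination_single]
    rw [Algebra.smul_def, halg, MonoidAlgebra.single_mul_single, _root_.mul_one]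
  have h1 : ∀ b, Φ (Ψ b) = b := fun b => by
    induction b using MonoidAlgebra.induction_linear with
    | zero => simp
    | add a b ha hb => rw [map_add, map_add, ha, hb]
    | single x r => rw [hΨ, hΦ, hq, inv_mul_cancel_right]
  have h2 : ∀ v, Ψ (Φ v) = v := fun v => by
    induction v using Finsupp.induction_linear with
    | zero => simp
    | add a b ha hb => rw [map_add, map_add, ha, hb]
    | single c a =>
      induction a using MonoidAlgebra.induction_linear with
      | zero => simp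
      | add a b ha hb => rw [Finsupp.single_add, map_add, map_add, ha, hb]
      | single m r =>
        rw [hΦ, hΨ]
        have hc : (QuotientGroup.mk (θ m * s c) : M ⧸ N) = c := by
          rw [QuotientGroup.mk_mul, (QuotientGroup.eq_one_iff (θ m)).2 (show θ m ∈ N from ⟨m, rfl⟩), _root_.one_mul, hs]
        have hm : q (θ m * s c) = m := hθ (by rw [hq, hc, mul_inv_cancel_right])
        rw [hc, hm]
  let e : ((M ⧸ N) →₀ A) ≃ₗ[A] B := LinearEquiv.ofBijective Φ
    ⟨Function.LeftInverse.injective h2, Function.RightInverse.surjective h1⟩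
  have : Module.FaithfullyFlat A B := Module.FaithfullyFlat.of_linearEquiv _ _ e.symm
  exact RingHom.faithfullyFlat_algebraMap_iff.2 this

/-! ### The affine model of a homomorphism -/

variable {R : Type u} [CommRing R] {M' M : Type u} [CommGroup M'] [CommGroup M]

/-- The algebra map of a morphism of diagonalisable groups. -/
noncomputable def modelMap (w : hspec R (MonoidAlgebra R M) ⟶ hspec R (MonoidAlgebra R M')) :
    MonoidAlgebra R M' →ₐ[R] MonoidAlgebra R M :=
  (Spec.mapMulEquiv.symm w).ofConv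

theorem ptMap_modelMap (w : hspec R (MonoidAlgebra R M) ⟶ hspec R (MonoidAlgebra R M')) :
    ptMap (modelMap w) = w := by
  have := (Spec.mapMulEquiv (R := R) (S := MonoidAlgebra R M') (T := MonoidAlgebra R M)).apply_symm_apply w
  exact this

theorem modelMap_groupLike (w : hspec R (MonoidAlgebra R M) ⟶ hspec R (MonoidAlgebra R M')) [IsMonHom w] (g : M') :
    Coalgebra.counit (R := R) (modelMap w (MonoidAlgebra.single g 1)) = 1 ∧
    Coalgebra.comul (R := R) (modelMap w (MonoidAlgebra.single g 1)) =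
      modelMap w (MonoidAlgebra.single g 1) ⊗ₜ[R] modelMap w (MonoidAlgebra.single g 1) := by
  let A := MonoidAlgebra R M
  let φ := modelMap w
  have hw : Spec.mapMulEquiv (toConv φ) = w := ptMap_modelMap w
  have hpt : ∀ {C : Type u} [CommRing C] [Algebra R C] (f : A →ₐ[R] C),
      Spec.mapMulEquiv (toConv f) ≫ w = Spec.mapMulEquiv (toConv (f.comp φ)) := by
    intro C _ _ f
    rw [← hw]
    exact ptMap_comp_mapMulEquiv f (toConv φ)
  constructor
  · have h1 : toConv (Bialgebra.counitAlgHom R A) = (1 : WithConv (A →ₐ[R] R)) := by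
      apply WithConv.ofConv_injective
      ext m
      simp [A, AlgHom.convOne_def]
    have h2 := hpt (Bialgebra.counitAlgHom R A)
    rw [h1, map_one, MonObj.one_comp, ← map_one (Spec.mapMulEquiv (R := R) (S := MonoidAlgebra R M') (T := R)),
      EmbeddingLike.apply_eq_iff_eq] at h2
    have h3 := DFunLike.congr_fun (congrArg WithConv.ofConv h2) (MonoidAlgebra.single g 1)
    simpa [AlgHom.convOne_def] using h3.symm
  · let iL : A →ₐ[R] A ⊗[R] A := Algebra.TensorProduct.includeLeft
    let iR : A →ₐ[R] A ⊗[R] A := Algebra.TensorProduct.includeRight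
    let δ : A →ₐ[R] A ⊗[R] A := Bialgebra.comulAlgHom R A
    have hδ : toConv δ = toConv iL * toConv iR := by
      apply WithConv.ofConv_injective
      ext m
      rw [AlgHom.convMul_apply]
      simp [A, δ, iL, iR, CommSemiring.comul_apply]
    have h2 := hpt δ
    rw [hδ, map_mul, MonObj.mul_comp, hpt, hpt, ← map_mul, EmbeddingLike.apply_eq_iff_eq] at h2
    have h3 := DFunLike.congr_fun (congrArg WithConv.ofConv h2) (MonoidAlgebra.single g 1)
    simp only [AlgHom.convMul_apply, MonoidAlgebra.comul_single, CommSemiring.comul_apply, TensorProduct.map_tmul] at h3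
    simp [δ, iL, iR] at h3
    exact h3.symm

/-- Base change of the affine model of a homomorphism. -/
theorem bc_model_iff (P : MorphismProperty Scheme.{u}) [P.RespectsIso] {K : Type u} [CommRing K] [Algebra R K]
    (φ : MonoidAlgebra R M' →ₐ[R] MonoidAlgebra R M) (φK : MonoidAlgebra K M' →ₐ[K] MonoidAlgebra K M)
    (h : ∀ g, MonoidAlgebra.mapRingHom M (algebraMap R K) (φ (MonoidAlgebra.single g 1)) =
      φK (MonoidAlgebra.single g 1)) :
    P ((Over.pullback (Spec.map (CommRingCat.ofHom (algebraMap R K)))).map (ptMap φ)).left ↔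
      P (Spec.map (CommRingCat.ofHom φK.toRingHom)) := by
  let gK : Spec (CommRingCat.of K) ⟶ Spec (CommRingCat.of R) := Spec.map (CommRingCat.ofHom (algebraMap R K))
  let e : ∀ (N : Type u) [CommGroup N], pullback (pt (R := R) (MonoidAlgebra R N)).hom gK ≅
      Spec (CommRingCat.of (MonoidAlgebra K N)) := fun N _ =>
    pullbackSymmetry _ _ ≪≫ pullbackSpecIso' R K (MonoidAlgebra R N) ≪≫
      Scheme.Spec.mapIso (MonoidAlgebra.scalarTensorEquiv R K (M := N)).symm.toRingEquiv.toCommRingCatIso.op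
  have e1 : ∀ (N : Type u) [CommGroup N], (e N).hom ≫ Spec.map (CommRingCat.ofHom (MonoidAlgebra.mapRingHom N (algebraMap R K))) =
      pullback.fst _ _ := by
    intro N _
    rw [← Iso.eq_inv_comp]
    simp only [e, Iso.trans_inv, Category.assoc]
    refine Eq.symm ((congrArg (fun z => _ ≫ _ ≫ z) (pullbackSymmetry_inv_comp_fst _ _)).trans
      ((congrArg (_ ≫ ·) (pullbackSpecIso_inv_snd R K (MonoidAlgebra R N))).trans ?_))
    refine ((Spec.map_comp _ _).symm).trans ?_
    congr 1
    refine CommRingCat.hom_ext (MonoidAlgebra.ringHom_ext (fun r => ?_) fun m => ?_) <;>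
      simp [MonoidAlgebra.scalarTensorEquiv_tmul]
  have e2 : ∀ (N : Type u) [CommGroup N], (e N).hom ≫ Spec.map (CommRingCat.ofHom (algebraMap K (MonoidAlgebra K N))) =
      pullback.snd _ _ := by
    intro N _
    rw [← Iso.eq_inv_comp]
    simp only [e, Iso.trans_inv, Category.assoc]
    refine Eq.symm ((congrArg (fun z => _ ≫ _ ≫ z) (pullbackSymmetry_inv_comp_snd _ _)).trans
      ((congrArg (_ ≫ ·) (pullbackSpecIso_inv_fst R K (MonoidAlgebra R N))).trans ?_))
    refine ((Spec.map_comp _ _).symm).trans ?_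
    congr 1
    refine CommRingCat.hom_ext (RingHom.ext fun r => ?_)
    simp [MonoidAlgebra.scalarTensorEquiv_tmul, MonoidAlgebra.one_def]
  have key : ((Over.pullback gK).map (ptMap φ)).left ≫ (e M').hom =
      (e M).hom ≫ Spec.map (CommRingCat.ofHom φK.toRingHom) := by
    suffices hk : ((Over.pullback gK).map (ptMap φ)).left = (e M).hom ≫ Spec.map (CommRingCat.ofHom φK.toRingHom) ≫ (e M').inv from
      (congrArg (· ≫ (e M').hom) hk).trans ((Category.assoc _ _ _).trans (congrArg _ ((Category.assoc _ _ _).trans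
        ((congrArg _ (e M').inv_hom_id).trans (Category.comp_id _)))))
    apply pullback.hom_ext
    · refine (show ((Over.pullback gK).map (ptMap φ)).left ≫ pullback.fst _ _ = pullback.fst _ _ ≫ (ptMap φ).left from
        pullback.lift_fst _ _ _).trans ?_
      refine Eq.symm ((Category.assoc _ _ _).trans ((congrArg ((e M).hom ≫ ·) ((Category.assoc _ _ _).trans
        (congrArg _ ((Iso.inv_comp_eq _).2 (e1 M').symm)))).trans ?_))
      refine Eq.trans ?_ (congrArg (· ≫ (ptMap φ).left) (e1 M))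
      refine Eq.trans ?_ (Category.assoc _ _ _).symm
      congr 1
      show Spec.map _ ≫ Spec.map _ = Spec.map _ ≫ Spec.map _
      rw [← Spec.map_comp, ← Spec.map_comp]
      congr 1
      refine CommRingCat.hom_ext (MonoidAlgebra.ringHom_ext (fun r => ?_) fun g => ?_)
      · symm
        show MonoidAlgebra.mapRingHom M (algebraMap R K) (φ (algebraMap R _ r)) =
          φK (MonoidAlgebra.mapRingHom M' (algebraMap R K) (MonoidAlgebra.single 1 r))
        rw [AlgHom.commutes, MonoidAlgebra.mapRingHom_single,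
          show (MonoidAlgebra.single 1 (algebraMap R K r) : MonoidAlgebra K M') = algebraMap K _ (algebraMap R K r) by simp,
          AlgHom.commutes]
        simp
      · symm
        show MonoidAlgebra.mapRingHom M (algebraMap R K) (φ (MonoidAlgebra.single g 1)) =
          φK (MonoidAlgebra.mapRingHom M' (algebraMap R K) (MonoidAlgebra.single g 1))
        rw [h, MonoidAlgebra.mapRingHom_single, map_one]
    · refine (show ((Over.pullback gK).map (ptMap φ)).left ≫ pullback.snd _ _ = pullback.snd _ _ from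
        pullback.lift_snd _ _ _).trans ?_
      refine Eq.symm ((Category.assoc _ _ _).trans ((congrArg ((e M).hom ≫ ·) ((Category.assoc _ _ _).trans
        (congrArg _ ((Iso.inv_comp_eq _).2 (e2 M').symm)))).trans ?_))
      refine Eq.trans ?_ (e2 M)
      congr 1
      rw [← Spec.map_comp]
      congr 1
      exact CommRingCat.hom_ext (RingHom.ext fun r => φK.commutes r)
  rw [← P.cancel_right_of_respectsIso _ (e M').hom, key, P.cancel_left_of_respectsIso]

/-- Near every prime a homomorphism of diagonalisable groups is given by a homomorphism of character groups. -/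
theorem exists_idem_theta (φ : MonoidAlgebra R M' →ₐ[R] MonoidAlgebra R M) [Group.FG M']
    (hgl : ∀ g, Coalgebra.counit (R := R) (φ (MonoidAlgebra.single g 1)) = 1 ∧
      Coalgebra.comul (R := R) (φ (MonoidAlgebra.single g 1)) =
        φ (MonoidAlgebra.single g 1) ⊗ₜ[R] φ (MonoidAlgebra.single g 1))
    (p : PrimeSpectrum R) :
    ∃ e : R, IsIdempotentElem e ∧ e ∉ p.asIdeal ∧ ∃ θ : M' →* M, ∀ (K : Type u) [CommRing K] [Algebra R K],
      algebraMap R K e = 1 → ∀ g, MonoidAlgebra.mapRingHom M (algebraMap R K) (φ (MonoidAlgebra.single g 1)) =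
        MonoidAlgebra.single (θ g) 1 := by
  classical
  have hc := fun g => coeff_of_groupLike _ (hgl g).1 (hgl g).2
  let T := Localization.AtPrime p.asIdeal
  let ρ := MonoidAlgebra.mapRingHom M (algebraMap R T)
  have hT : ∀ g, ∃ m, ρ (φ (MonoidAlgebra.single g 1)) = MonoidAlgebra.single m 1 := fun g => by
    refine exists_eq_single' _ (fun m n => ?_) ?_
    · simp only [ρ, MonoidAlgebra.coeff_mapRingHom, ← map_mul, (hc g).1]
      split_ifs <;> simp
    · have h1 := congrArg (algebraMap R T) (hc g).2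
      rw [map_one, map_finsuppSum] at h1
      rw [show (ρ (φ (MonoidAlgebra.single g 1))).coeff = (φ (MonoidAlgebra.single g 1)).coeff.mapRange (algebraMap R T) (map_zero _) from
        Finsupp.ext fun m => by simp [ρ, MonoidAlgebra.coeff_mapRingHom], Finsupp.sum_mapRange_index (fun _ => rfl)]
      exact h1
  choose θ hθ using hT
  have hθ1 : θ 1 = 1 := MonoidAlgebra.single_left_injective (R := T) one_ne_zero <|
    show MonoidAlgebra.single (θ 1) (1 : T) = MonoidAlgebra.single 1 1 by
      rw [← hθ, ← MonoidAlgebra.one_def, ← MonoidAlgebra.one_def, map_one, map_one]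
  have hθmul : ∀ a b, θ (a * b) = θ a * θ b := fun a b => MonoidAlgebra.single_left_injective (R := T) one_ne_zero <|
    show MonoidAlgebra.single (θ (a * b)) (1 : T) = MonoidAlgebra.single (θ a * θ b) 1 by
      rw [← hθ, show MonoidAlgebra.single (a * b) (1 : R) = .single a 1 * .single b 1 by simp, map_mul, map_mul, hθ, hθ,
        MonoidAlgebra.single_mul_single, _root_.one_mul]
  let θ' : M' →* M := { toFun := θ, map_one' := hθ1, map_mul' := hθmul }
  have hnp : ∀ g, (φ (MonoidAlgebra.single g 1)).coeff (θ g) ∉ p.asIdeal := fun g hmem => by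
    have h1 := congrArg (fun z => z.coeff (θ g)) (hθ g)
    simp only [ρ, MonoidAlgebra.coeff_mapRingHom, MonoidAlgebra.coeff_single, Finsupp.single_eq_same] at h1
    have h2 : IsUnit (algebraMap R T ((φ (MonoidAlgebra.single g 1)).coeff (θ g))) := by rw [h1]; exact isUnit_one
    exact (IsLocalization.AtPrime.isUnit_to_map_iff T p.asIdeal _).1 h2 hmem
  obtain ⟨t, ht⟩ := Group.fg_iff_monoid_fg.1 ‹Group.FG M'› |>.fg_top
  have hid : ∀ g, IsIdempotentElem ((φ (MonoidAlgebra.single g 1)).coeff (θ g)) := fun g => by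
    have := (hc g).1 (θ g) (θ g)
    rwa [if_pos rfl] at this
  refine ⟨∏ g ∈ t, (φ (MonoidAlgebra.single g 1)).coeff (θ g), ?_, ?_, θ', ?_⟩
  · show _ * _ = _
    rw [← Finset.prod_mul_distrib]
    exact Finset.prod_congr rfl fun g _ => hid g
  · intro h
    obtain ⟨g, -, hg⟩ := Ideal.IsPrime.prod_mem_iff.1 h
    exact hnp g hg
  · intro K _ _ hK
    let f₁ : M' →* MonoidAlgebra K M :=
      ((MonoidAlgebra.mapRingHom M (algebraMap R K)).comp φ.toRingHom).toMonoidHom.comp (MonoidAlgebra.of R M')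
    let f₂ : M' →* MonoidAlgebra K M := (MonoidAlgebra.of K M).comp θ'
    suffices h : f₁ = f₂ from fun g => DFunLike.congr_fun h g
    refine MonoidHom.eq_of_eqOn_denseM ht fun g hg => ?_
    have hone : algebraMap R K ((φ (MonoidAlgebra.single g 1)).coeff (θ g)) = 1 := by
      have hu : IsUnit (algebraMap R K ((φ (MonoidAlgebra.single g 1)).coeff (θ g))) :=
        isUnit_of_dvd_one (hK ▸ map_dvd (algebraMap R K) (Finset.dvd_prod_of_mem _ hg))
      exact hu.mul_eq_left.1 (by rw [← map_mul, hid g])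
    apply MonoidAlgebra.coeff_injective
    ext m
    show (MonoidAlgebra.mapRingHom M (algebraMap R K) (φ (MonoidAlgebra.single g 1))).coeff m =
      (MonoidAlgebra.single (θ g) (1 : K)).coeff m
    rw [MonoidAlgebra.coeff_mapRingHom, MonoidAlgebra.coeff_single, Finsupp.single_apply]
    split_ifs with hm
    · rw [← hm, hone]
    · have h1 := congrArg (algebraMap R K) ((hc g).1 (θ g) m)
      rwa [if_neg hm, map_mul, hone, _root_.one_mul, map_zero] at h1

section global

variable {S : Scheme.{u}}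

/-- A cover diagonalising two groups of multiplicative type simultaneously. -/
theorem exists_common_cover (G H : Over S) [GrpObj G] [GrpObj H] (hG : SGA3x.IsMultTypeFT G)
    (hH : SGA3x.IsMultTypeFT H) :
    ∃ (S' : Scheme.{u}) (f : S' ⟶ S), Flat f ∧ Surjective f ∧
      (∀ V : S.Opens, IsAffineOpen V → ∃ W : S'.Opens, IsCompact (W : Set S') ∧ f.base '' (W : Set S') = (V : Set S)) ∧
      ∀ s : S', ∃ U : S'.Opens, s ∈ U ∧ ∃ (M : Type) (_ : AddCommGroup M) (M' : Type) (_ : AddCommGroup M'),
        AddGroup.FG M ∧ AddGroup.FG M' ∧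
        Nonempty (Grp.mk (Red.bc (U.ι ≫ f) G) ≅ Grp.mk (Red.DS (U : Scheme.{u}) M)) ∧
        Nonempty (Grp.mk (Red.bc (U.ι ≫ f) H) ≅ Grp.mk (Red.DS (U : Scheme.{u}) M')) := by
  obtain ⟨S₁, f₁, hfl₁, hs₁, hcov₁, hloc₁⟩ := hG
  obtain ⟨S₂, f₂, hfl₂, hs₂, hcov₂, hloc₂⟩ := hH
  let p₁ : pullback f₁ f₂ ⟶ S₁ := pullback.fst f₁ f₂
  let p₂ : pullback f₁ f₂ ⟶ S₂ := pullback.snd f₁ f₂
  have : Flat p₁ := MorphismProperty.pullback_fst (P := @Flat) _ _ hfl₂
  have : Surjective p₁ := MorphismProperty.pullback_fst (P := @Surjective) _ _ hs₂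
  refine ⟨pullback f₁ f₂, p₁ ≫ f₁, inferInstance, inferInstance, fun V hV => ?_, fun s => ?_⟩
  · obtain ⟨W₁, hW₁, hWV₁⟩ := hcov₁ V hV
    obtain ⟨W₂, hW₂, hWV₂⟩ := hcov₂ V hV
    have hl₁ : W₁ ≤ f₁ ⁻¹ᵁ V := fun w hw => hWV₁.le ⟨w, hw, rfl⟩
    have hl₂ : W₂ ≤ f₂ ⁻¹ᵁ V := fun w hw => hWV₂.le ⟨w, hw, rfl⟩
    let b₁ := f₁.resLE V W₁ hl₁
    let b₂ := f₂.resLE V W₂ hl₂
    have : IsAffine V.toScheme := hV
    have : CompactSpace W₁.toScheme := isCompact_iff_compactSpace.1 hW₁
    have : CompactSpace W₂.toScheme := isCompact_iff_compactSpace.1 hW₂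
    have : QuasiCompact b₁ := inferInstance
    have : QuasiCompact b₂ := inferInstance
    have : CompactSpace ↥(pullback b₁ b₂) := QuasiCompact.compactSpace_of_compactSpace (pullback.fst b₁ b₂)
    let q : pullback b₁ b₂ ⟶ pullback f₁ f₂ := pullback.map b₁ b₂ f₁ f₂ W₁.ι W₂.ι V.ι
      (Scheme.Hom.resLE_comp_ι f₁ hl₁) (Scheme.Hom.resLE_comp_ι f₂ hl₂)
    have : IsOpenImmersion q := inferInstance
    refine ⟨q.opensRange, by rw [Scheme.Hom.coe_opensRange, ← Set.image_univ]; exact isCompact_univ.image q.continuous, ?_⟩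
    rw [Scheme.Hom.coe_opensRange, ← Set.range_comp]
    apply Set.Subset.antisymm
    · rintro _ ⟨z, rfl⟩
      show (p₁ ≫ f₁) (q z) ∈ V
      rw [← Scheme.Hom.comp_apply, ← Category.assoc, pullback.lift_fst, Category.assoc, Scheme.Hom.comp_apply]
      exact hl₁ (Subtype.mem _)
    · intro v hv
      obtain ⟨w₁, hw₁, hwv₁⟩ := hWV₁.ge hv
      obtain ⟨w₂, hw₂, hwv₂⟩ := hWV₂.ge hv
      obtain ⟨z, hz, -⟩ := Scheme.Pullback.exists_preimage_pullback (f := b₁) (g := b₂) ⟨w₁, hw₁⟩ ⟨w₂, hw₂⟩
        (V.ι.isOpenEmbedding.injective (by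
          rw [← Scheme.Hom.comp_apply, ← Scheme.Hom.comp_apply, Scheme.Hom.resLE_comp_ι, Scheme.Hom.resLE_comp_ι,
            Scheme.Hom.comp_apply, Scheme.Hom.comp_apply]
          exact hwv₁.trans hwv₂.symm))
      refine ⟨z, ?_⟩
      show (p₁ ≫ f₁) (q z) = v
      rw [← Scheme.Hom.comp_apply, ← Category.assoc, pullback.lift_fst, Category.assoc, Scheme.Hom.comp_apply, hz,
        Scheme.Hom.comp_apply]
      exact hwv₁
  · obtain ⟨U₁, hU₁, M, iM, hM, ⟨e₁⟩⟩ := hloc₁ (p₁ s)
    obtain ⟨U₂, hU₂, M', iM', hM', ⟨e₂⟩⟩ := hloc₂ (p₂ s)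
    let U := p₁ ⁻¹ᵁ U₁ ⊓ p₂ ⁻¹ᵁ U₂
    let g₁ : U.toScheme ⟶ U₁.toScheme := p₁.resLE U₁ U inf_le_left
    let g₂ : U.toScheme ⟶ U₂.toScheme := p₂.resLE U₂ U inf_le_right
    have h1 : U.ι ≫ p₁ ≫ f₁ = g₁ ≫ U₁.ι ≫ f₁ := by
      rw [← Category.assoc g₁, Scheme.Hom.resLE_comp_ι, Category.assoc]
    have h2 : U.ι ≫ p₁ ≫ f₁ = g₂ ≫ U₂.ι ≫ f₂ := by
      rw [← Category.assoc g₂, Scheme.Hom.resLE_comp_ι, Category.assoc, pullback.condition]
    let t₁ := Limits.IsTerminal.from specULiftZIsTerminal U₁.toScheme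
    let t₂ := Limits.IsTerminal.from specULiftZIsTerminal U₂.toScheme
    refine ⟨U, ⟨hU₁, hU₂⟩, M, iM, M', iM', hM, hM', ⟨?_⟩, ⟨?_⟩⟩
    · exact bcCongr h1 G ≪≫ bcComp g₁ _ G ≪≫ bcIso g₁ e₁ ≪≫ (bcComp g₁ t₁ _).symm ≪≫
        bcCongr (specULiftZIsTerminal.hom_ext _ _) _
    · exact bcCongr h2 H ≪≫ bcComp g₂ _ H ≪≫ bcIso g₂ e₂ ≪≫ (bcComp g₂ t₂ _).symm ≪≫
        bcCongr (specULiftZIsTerminal.hom_ext _ _) _

/-- A field valued point factors through the residue field of its image. -/
theorem exists_factor_residueField {K : Type u} [Field K] (m : Spec (CommRingCat.of K) ⟶ S) (y : S)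
    (hy : m (IsLocalRing.closedPoint K) = y) :
    ∃ h : Spec (CommRingCat.of K) ⟶ Spec (S.residueField y), h ≫ S.fromSpecResidueField y = m := by
  subst hy
  exact ⟨_, (Scheme.SpecToEquivOfField K S).symm_apply_apply m⟩

/-- A property of a map over a field may be checked on an extension. -/
theorem residue_iff (P : MorphismProperty Scheme.{u}) [P.IsStableUnderBaseChange]
    [P.DescendsAlong (@Surjective ⊓ @Flat ⊓ @QuasiCompact)] {A B : Over S} (w : A ⟶ B)
    {K : Type u} [Field K] (m : Spec (CommRingCat.of K) ⟶ S) (y : S) (hy : m (IsLocalRing.closedPoint K) = y) :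
    P ((Over.pullback (S.fromSpecResidueField y)).map w).left ↔ P ((Over.pullback m).map w).left := by
  obtain ⟨h, hfac⟩ := exists_factor_residueField m y hy
  have : Surjective h := ⟨fun z => ⟨IsLocalRing.closedPoint K, Subsingleton.elim _ _⟩⟩
  have : Flat h := by
    rw [← Spec.map_preimage h, Flat.SpecMap_iff]
    exact @Module.Flat.of_free _ _ _ _ (Spec.preimage h).hom.toAlgebra.toModule inferInstance
  rw [← hfac, map_comp_iff P h _ w]
  exact ⟨fun hP => MorphismProperty.of_isPullback (isPullback_map_left h _) hP, fun hP => of_fpqc_base P _ h hP⟩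

/-- The locus where a homomorphism of groups of multiplicative type of finite type has a property given by a
condition on character groups is open and closed, and the property holds above it. -/
theorem exists_clopen_locus (P : MorphismProperty Scheme.{u}) [P.IsStableUnderBaseChange]
    [IsZariskiLocalAtTarget P] [P.DescendsAlong (@Surjective ⊓ @Flat ⊓ @QuasiCompact)]
    (Q : ∀ {M' M : Type u} [CommGroup M'] [CommGroup M], (M' →* M) → Prop)
    (hQP : ∀ (R : Type u) [CommRing R] {M' M : Type u} [CommGroup M'] [CommGroup M] (θ : M' →* M), Q θ →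
      P (Spec.map (CommRingCat.ofHom (MonoidAlgebra.mapDomainAlgHom R R θ).toRingHom)))
    (hPQ : ∀ (K : Type u) [Field K] {M' M : Type u} [CommGroup M'] [CommGroup M] (θ : M' →* M),
      P (Spec.map (CommRingCat.ofHom (MonoidAlgebra.mapDomainAlgHom K K θ).toRingHom)) → Q θ)
    (G H : Over S) [GrpObj G] [GrpObj H] (hG : SGA3x.IsMultTypeFT G) (hH : SGA3x.IsMultTypeFT H)
    (u : G ⟶ H) [IsMonHom u] :
    ∃ U : S.Opens, IsClosed (U : Set S) ∧
      (∀ s : S, s ∈ U ↔ P ((Over.pullback (S.fromSpecResidueField s)).map u).left) ∧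
      P ((Over.pullback U.ι).map u).left := by
  classical
  obtain ⟨S', f, hfl, hsurj, hcov, hloc⟩ := exists_common_cover G H hG hH
  let U₀ : Set S := {s | P ((Over.pullback (S.fromSpecResidueField s)).map u).left}
  -- charts
  have hchart : ∀ x : S', ∃ (R : Type u) (_ : CommRing R) (k : Spec (CommRingCat.of R) ⟶ S') (_ : IsOpenImmersion k),
      x ∈ Set.range k ∧ ∀ p : PrimeSpectrum R, ∃ e : R, IsIdempotentElem e ∧ e ∉ p.asIdeal ∧ ∃ c : Prop,
        ∀ (K : Type u) [CommRing K] [Algebra R K], algebraMap R K e = 1 →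
          (c → P ((Over.pullback (Spec.map (CommRingCat.ofHom (algebraMap R K)) ≫ k ≫ f)).map u).left) ∧
          (IsField K → P ((Over.pullback (Spec.map (CommRingCat.ofHom (algebraMap R K)) ≫ k ≫ f)).map u).left → c) := by
    intro x
    obtain ⟨U, hxU, M, iM, M', iM', hM, hM', ⟨eG⟩, ⟨eH⟩⟩ := hloc x
    obtain ⟨W, hW, hxW, hWU⟩ := exists_isAffineOpen_mem_and_subset hxU
    let R : Type u := Γ(S', W)
    let g : Spec (CommRingCat.of R) ⟶ U.toScheme := hW.isoSpec.inv ≫ S'.homOfLE hWU
    have hg : hW.fromSpec ≫ f = g ≫ U.ι ≫ f := by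
      simp only [g, Category.assoc, Scheme.homOfLE_ι_assoc]
      rfl
    let t := Limits.IsTerminal.from specULiftZIsTerminal U.toScheme
    let MG : Type u := ULift.{u} (Multiplicative M)
    let MH : Type u := ULift.{u} (Multiplicative M')
    let eA : Grp.mk (Red.bc (hW.fromSpec ≫ f) G) ≅ Grp.mk (hspec R (MonoidAlgebra R MG)) :=
      bcCongr hg G ≪≫ bcComp g _ G ≪≫ bcIso g eG ≪≫ (bcComp g t _).symm ≪≫ bcDiag _ _ _ M
    let eB : Grp.mk (Red.bc (hW.fromSpec ≫ f) H) ≅ Grp.mk (hspec R (MonoidAlgebra R MH)) :=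
      bcCongr hg H ≪≫ bcComp g _ H ≪≫ bcIso g eH ≪≫ (bcComp g t _).symm ≪≫ bcDiag _ _ _ M'
    let w₀ := eA.inv ≫ (Over.pullback (hW.fromSpec ≫ f)).mapGrp.map (Grp.homMk'' u : Grp.mk G ⟶ Grp.mk H) ≫ eB.hom
    let w : hspec R (MonoidAlgebra R MG) ⟶ hspec R (MonoidAlgebra R MH) := w₀.hom.hom
    have : IsMonHom w := w₀.hom.isMonHom_hom
    have hw : (Over.pullback (hW.fromSpec ≫ f)).map u = eA.hom.hom.hom ≫ w ≫ eB.inv.hom.hom := by
      have h1 : eA.hom ≫ w₀ ≫ eB.inv = (Over.pullback (hW.fromSpec ≫ f)).mapGrp.map (Grp.homMk'' u : Grp.mk G ⟶ Grp.mk H) := by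
        simp only [w₀, Category.assoc, Iso.hom_inv_id_assoc]
        exact (congrArg (_ ≫ ·) eB.hom_inv_id).trans (Category.comp_id _)
      exact (congrArg (fun z => z.hom.hom) h1).symm
    let eι : Multiplicative M' ≃* MH := MulEquiv.ulift.symm
    have : Group.FG MH := Group.fg_of_surjective (f := eι.toMonoidHom) eι.surjective
    refine ⟨R, inferInstance, hW.fromSpec, inferInstance, by rw [hW.range_fromSpec]; exact hxW, fun p => ?_⟩
    obtain ⟨e, he, hep, θ, hθ⟩ := exists_idem_theta (modelMap w) (modelMap_groupLike w) p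
    refine ⟨e, he, hep, Q θ, fun K _ _ heK => ?_⟩
    let gK := Spec.map (CommRingCat.ofHom (algebraMap R K))
    have : IsIso eA.hom.hom.hom := ⟨eA.inv.hom.hom, congrArg (fun z => z.hom.hom) eA.hom_inv_id,
      congrArg (fun z => z.hom.hom) eA.inv_hom_id⟩
    have : IsIso eB.inv.hom.hom := ⟨eB.hom.hom.hom, congrArg (fun z => z.hom.hom) eB.inv_hom_id,
      congrArg (fun z => z.hom.hom) eB.hom_inv_id⟩
    have hiff : P ((Over.pullback (gK ≫ hW.fromSpec ≫ f)).map u).left ↔
        P (Spec.map (CommRingCat.ofHom (MonoidAlgebra.mapDomainAlgHom K K θ).toRingHom)) := by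
      have hbc := bc_model_iff P (K := K) (modelMap w) (MonoidAlgebra.mapDomainAlgHom K K θ) (fun g => by
        rw [hθ K heK g]; simp)
      rw [map_comp_iff P gK (hW.fromSpec ≫ f) u, hw, ← hbc, ptMap_modelMap, Functor.map_comp, Functor.map_comp,
        Over.comp_left, Over.comp_left]
      have : IsIso ((Over.pullback gK).map eA.hom.hom.hom).left :=
        inferInstanceAs (IsIso ((Over.forget _).map ((Over.pullback gK).map (eA.hom.hom.hom))))
      have : IsIso ((Over.pullback gK).map eB.inv.hom.hom).left :=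
        inferInstanceAs (IsIso ((Over.forget _).map ((Over.pullback gK).map (eB.inv.hom.hom))))
      rw [P.cancel_left_of_respectsIso, P.cancel_right_of_respectsIso]
    refine ⟨fun h => hiff.2 (hQP K θ h), fun hK h => ?_⟩
    let : Field K := hK.toField
    exact hPQ K θ (hiff.1 h)
  choose R _iR k hk hxk hp using hchart
  choose e he hep c hc using hp
  -- membership at the points of a chart
  have hmem : ∀ (x : S') (p q : PrimeSpectrum (R x)), e x p ∉ q.asIdeal →
      (f (k x q) ∈ U₀ ↔ c x p) := by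
    intro x p q hq
    let K := q.asIdeal.ResidueField
    have he1 : algebraMap (R x) K (e x p) = 1 := by
      have h := (he x p).map (algebraMap (R x) K)
      refine (IsIdempotentElem.iff_eq_zero_or_one.1 h).resolve_left ?_
      rw [Ideal.algebraMap_residueField_eq_zero]
      exact hq
    let m : Spec (CommRingCat.of K) ⟶ S := Spec.map (CommRingCat.ofHom (algebraMap (R x) K)) ≫ k x ≫ f
    have hker : PrimeSpectrum.comap (algebraMap (R x) K) (IsLocalRing.closedPoint K) = q := by
      refine PrimeSpectrum.ext ?_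
      show (IsLocalRing.maximalIdeal K).comap _ = _
      rw [IsLocalRing.maximalIdeal_eq_bot]
      exact Ideal.ker_algebraMap_residueField q.asIdeal
    have hpt : m (IsLocalRing.closedPoint K) = f (k x q) :=
      (Scheme.Hom.comp_apply _ _ _).trans ((Scheme.Hom.comp_apply _ _ _).trans (congrArg (fun z => f (k x z)) hker))
    show P _ ↔ _
    rw [residue_iff P u m _ hpt]
    exact ⟨(hc x p K he1).2 (Field.toIsField K), (hc x p K he1).1⟩
  have hsurjk : ∀ x : S', ∃ p : PrimeSpectrum (R x), k x p = x := fun x => hxk x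
  choose p₀ hp₀ using hsurjk
  -- neighbourhoods on which membership is constant
  let O : S' → S'.Opens := fun x => (k x) ''ᵁ PrimeSpectrum.basicOpen (e x (p₀ x))
  have hxO : ∀ x, x ∈ O x := fun x => ⟨p₀ x, hep x _, hp₀ x⟩
  have hconst : ∀ x, ∀ y ∈ O x, (f y ∈ U₀ ↔ c x (p₀ x)) := by
    rintro x _ ⟨q, hq, rfl⟩
    exact hmem x _ q hq
  have hlc : ∀ x y, y ∈ O x → (f x ∈ U₀ ↔ f y ∈ U₀) := fun x y hy =>
    (hconst x x (hxO x)).trans (hconst x y hy).symm
  have hcl : IsClosed (f ⁻¹' U₀) := ⟨isOpen_iff_forall_mem_open.2 fun x hx =>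
    ⟨O x, fun y hy h => hx ((hlc x y hy).2 h), (O x).isOpen, hxO x⟩⟩
  have hop : IsOpen (f ⁻¹' U₀) := isOpen_iff_forall_mem_open.2 fun x hx =>
    ⟨O x, fun y hy => (hlc x y hy).1 hx, (O x).isOpen, hxO x⟩
  -- descent
  have hdesc : ∀ V : S.Opens, IsAffineOpen V → ∃ (W : S'.Opens) (b : W.toScheme ⟶ V.toScheme),
      b ≫ V.ι = W.ι ≫ f ∧ QuasiCompact b ∧ Flat b ∧ Surjective b := by
    intro V hV
    obtain ⟨W, hWc, hWV⟩ := hcov V hV
    have hle : W ≤ f ⁻¹ᵁ V := fun w hw => hWV.le ⟨w, hw, rfl⟩
    let b : W.toScheme ⟶ V.toScheme := f.resLE V W hle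
    have hb : b ≫ V.ι = W.ι ≫ f := Scheme.Hom.resLE_comp_ι f hle
    have : IsAffine V.toScheme := hV
    have : CompactSpace W.toScheme := isCompact_iff_compactSpace.1 hWc
    have : QuasiCompact b := inferInstance
    have : Flat b := MorphismProperty.of_postcomp (W := @Flat) (W' := @IsOpenImmersion) b V.ι
      inferInstance (hb ▸ inferInstance)
    refine ⟨W, b, hb, inferInstance, inferInstance, ⟨fun v => ?_⟩⟩
    obtain ⟨w, hw, hwv⟩ := hWV.ge v.2
    refine ⟨⟨w, hw⟩, V.ι.isOpenEmbedding.injective ?_⟩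
    rw [← Scheme.Hom.comp_apply, hb, Scheme.Hom.comp_apply]
    exact hwv
  have hVcov : TopologicalSpace.IsOpenCover (fun V : S.affineOpens => V.1) := iSup_affineOpens_eq_top S
  have hpre : ∀ {W : S'.Opens} {V : S.Opens} (b : W.toScheme ⟶ V.toScheme), b ≫ V.ι = W.ι ≫ f →
      (b : W.toScheme → V.toScheme) ⁻¹' ((V.ι : V.toScheme → S) ⁻¹' U₀) = (W.ι : W.toScheme → S') ⁻¹' ((f : S' → S) ⁻¹' U₀) :=
    fun b hb => by
      rw [← Set.preimage_comp, ← Set.preimage_comp]
      congr 1
      funext w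
      rw [Function.comp_apply, Function.comp_apply, ← Scheme.Hom.comp_apply, hb, Scheme.Hom.comp_apply]
  have hclosed : IsClosed U₀ := hVcov.isClosed_iff_coe_preimage.2 fun ⟨V, hV⟩ => by
    obtain ⟨W, b, hb, _, _, _⟩ := hdesc V hV
    show IsClosed ((V.ι : V.toScheme → S) ⁻¹' U₀)
    rw [← (Flat.isQuotientMap_of_surjective b).isClosed_preimage, hpre b hb]
    exact hcl.preimage W.ι.continuous
  have hopen : IsOpen U₀ := hVcov.isOpen_iff_coe_preimage.2 fun ⟨V, hV⟩ => by
    obtain ⟨W, b, hb, _, _, _⟩ := hdesc V hV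
    show IsOpen ((V.ι : V.toScheme → S) ⁻¹' U₀)
    rw [← (Flat.isQuotientMap_of_surjective b).isOpen_preimage, hpre b hb]
    exact hop.preimage W.ι.continuous
  let U : S.Opens := ⟨U₀, hopen⟩
  refine ⟨U, hclosed, fun s => Iff.rfl, ?_⟩
  refine of_locally_base P _ (U.toScheme.openCoverOfIsOpenCover (fun V : U.toScheme.affineOpens => V.1)
    (iSup_affineOpens_eq_top _)) fun V => ?_
  obtain ⟨V, hV⟩ := V
  refine (map_comp_iff P V.ι U.ι u).1 ?_
  let V' : S.Opens := U.ι ''ᵁ V
  let i : V.toScheme ≅ V'.toScheme := (U.ι.isoImage V)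
  have hi : i.hom ≫ V'.ι = V.ι ≫ U.ι := Scheme.Hom.isoImage_hom_ι _ _
  rw [← hi, map_comp_iff P i.hom V'.ι u]
  refine MorphismProperty.of_isPullback (isPullback_map_left i.hom _) ?_
  obtain ⟨W, b, hb, _, _, _⟩ := hdesc V' (hV.image_of_isOpenImmersion U.ι)
  show P ((Over.pullback V'.ι).map u).left
  refine of_fpqc_base P (U := W.toScheme) (S := V'.toScheme) _ b ((map_comp_iff P b _ u).1 ?_)
  show P ((Over.pullback (b ≫ V'.ι)).map u).left
  rw [hb]
  refine (map_comp_iff P W.ι f u).2 ?_
  let O' : W.toScheme → W.toScheme.Opens := fun z => W.ι ⁻¹ᵁ O (W.ι z)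
  have hO' : TopologicalSpace.IsOpenCover O' := top_le_iff.1 fun z _ =>
    TopologicalSpace.Opens.mem_iSup.2 ⟨z, hxO (W.ι z)⟩
  refine of_locally_base P _ (W.toScheme.openCoverOfIsOpenCover O' hO') fun z => ?_
  refine (map_comp_iff P _ W.ι _).1 ((map_comp_iff P _ f u).1 ?_)
  let x := W.ι z
  let L := Localization.Away (e x (p₀ x))
  have hcx : c x (p₀ x) := by
    refine (hconst x x (hxO x)).1 ?_
    show f (W.ι z) ∈ U₀
    have h1 : (b ≫ V'.ι) z ∈ V' := by rw [Scheme.Hom.comp_apply]; exact Subtype.mem _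
    rw [hb, Scheme.Hom.comp_apply] at h1
    obtain ⟨v, -, hv⟩ := h1
    exact hv ▸ v.2
  have heL : algebraMap (R x) L (e x (p₀ x)) = 1 :=
    (IsLocalization.Away.algebraMap_isUnit (e x (p₀ x))).mul_eq_left.1 (by rw [← map_mul, he x (p₀ x)])
  have hPL := (hc x (p₀ x) L heL).1 hcx
  let a : Spec (CommRingCat.of L) ⟶ S' := Spec.map (CommRingCat.ofHom (algebraMap (R x) L)) ≫ k x
  have ha : Set.range ((O' z).ι ≫ W.ι) ⊆ Set.range a := by
    rintro _ ⟨v, rfl⟩
    obtain ⟨q, hq, hqv⟩ := (show W.ι v.1 ∈ O x from v.2)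
    obtain ⟨q', rfl⟩ : q ∈ Set.range (PrimeSpectrum.comap (algebraMap (R x) L)) := by
      rw [PrimeSpectrum.localization_away_comap_range L (e x (p₀ x))]
      exact hq
    exact ⟨q', by rw [Scheme.Hom.comp_apply, Scheme.Hom.comp_apply]; exact hqv⟩
  let l : (O' z).toScheme ⟶ Spec (CommRingCat.of L) := IsOpenImmersion.lift a ((O' z).ι ≫ W.ι) ha
  have hl : l ≫ a ≫ f = ((O' z).ι ≫ W.ι) ≫ f := by rw [← Category.assoc, IsOpenImmersion.lift_fac]
  show P ((Over.pullback (((O' z).ι ≫ W.ι) ≫ f)).map u).left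
  rw [← hl, map_comp_iff P l (a ≫ f) u]
  refine MorphismProperty.of_isPullback (isPullback_map_left l _) ?_
  rwa [show a ≫ f = Spec.map (CommRingCat.ofHom (algebraMap (R x) L)) ≫ k x ≫ f from Category.assoc _ _ _]

end global

end Groth.Agent.MultHopf

namespace Groth.Agent.MultHopf

variable {M' M : Type u} [CommGroup M'] [CommGroup M]

theorem mapDomain_surjective' (R : Type u) [CommRing R] (θ : M' →* M) (h : Function.Surjective θ) :
    Function.Surjective (MonoidAlgebra.mapDomainAlgHom R R θ) := fun z => by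
  induction z using MonoidAlgebra.induction_linear with
  | zero => exact ⟨0, map_zero _⟩
  | add a b ha hb => obtain ⟨a, rfl⟩ := ha; obtain ⟨b, rfl⟩ := hb; exact ⟨a + b, map_add _ _ _⟩
  | single m r => obtain ⟨m, rfl⟩ := h m; exact ⟨MonoidAlgebra.single m r, by simp⟩

theorem mono_mapDomain (R : Type u) [CommRing R] (θ : M' →* M) (h : Function.Surjective θ) :
    Mono (Spec.map (CommRingCat.ofHom (MonoidAlgebra.mapDomainAlgHom R R θ).toRingHom)) := by
  have : IsClosedImmersion (Spec.map (CommRingCat.ofHom (MonoidAlgebra.mapDomainAlgHom R R θ).toRingHom)) :=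
    IsClosedImmersion.spec_of_surjective _ (mapDomain_surjective' R θ h)
  infer_instance

theorem surjective_of_mono (K : Type u) [Field K] (θ : M' →* M)
    (h : Mono (Spec.map (CommRingCat.ofHom (MonoidAlgebra.mapDomainAlgHom K K θ).toRingHom))) :
    Function.Surjective θ := by
  let N := M ⧸ θ.range
  let a : MonoidAlgebra K M →ₐ[K] MonoidAlgebra K N :=
    MonoidAlgebra.mapDomainAlgHom K K (QuotientGroup.mk' θ.range)
  let b : MonoidAlgebra K M →ₐ[K] MonoidAlgebra K N :=
    MonoidAlgebra.mapDomainAlgHom K K (1 : M →* N)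
  have hab : a.comp (MonoidAlgebra.mapDomainAlgHom K K θ) = b.comp (MonoidAlgebra.mapDomainAlgHom K K θ) := by
    ext m
    have : (QuotientGroup.mk (θ m) : N) = 1 := (QuotientGroup.eq_one_iff _).2 (show θ m ∈ θ.range from ⟨m, rfl⟩)
    simp [a, b, N, this]
  have hs : Spec.map (CommRingCat.ofHom a.toRingHom) = Spec.map (CommRingCat.ofHom b.toRingHom) := by
    rw [← cancel_mono (Spec.map (CommRingCat.ofHom (MonoidAlgebra.mapDomainAlgHom K K θ).toRingHom)),
      ← Spec.map_comp, ← Spec.map_comp]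
    exact congrArg (fun z : MonoidAlgebra K M' →ₐ[K] MonoidAlgebra K N => Spec.map (CommRingCat.ofHom z.toRingHom)) hab
  intro m
  have h1 := CategoryTheory.congr_fun (Spec.map_injective hs) (MonoidAlgebra.single m 1)
  have h2 : MonoidAlgebra.single (QuotientGroup.mk m : N) (1 : K) = MonoidAlgebra.single 1 1 := by
    have := h1
    simp [a, b] at this
    exact this
  exact (QuotientGroup.eq_one_iff m).1 (MonoidAlgebra.single_left_injective one_ne_zero h2)

theorem injective_of_injective_mapDomain (K : Type u) [Field K] (θ : M' →* M)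
    (h : Function.Injective (MonoidAlgebra.mapDomainAlgHom K K θ)) : Function.Injective θ := fun x y hxy =>
  MonoidAlgebra.single_left_injective (R := K) one_ne_zero (h (by simp [hxy]))

instance isZariskiLocalAtTarget_flat_inf_surjective :
    IsZariskiLocalAtTarget (@Flat ⊓ @Surjective : MorphismProperty Scheme.{u}) := inferInstance

end Groth.Agent.MultHopf
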