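import Groth.Agent.MultHopf.Bridge
import Groth.Agent.S4599
import Mathlib.RingTheory.Localization.BaseChange
import Mathlib.CategoryTheory.Limits.Shapes.Equalizers

/-!
# Kernels of homomorphisms from affine groups; points and base change
-/

set_option autoImplicit false
set_option backward.isDefEq.respectTransparency.types false

universe u

open CategoryTheory CategoryTheory.Limits MonoidalCategory CartesianMonoidalCategory MonObj AlgebraicGeometry
open scoped TensorProduct
open WithConv

namespace Groth.Agent.MultHopf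

set_option backward.isDefEq.respectTransparency false in
theorem locallyOfFinitePresentation_equalizer_ι {S : Scheme.{u}} {X Y : Over S} [LocallyOfFiniteType Y.hom]
    (f g : X ⟶ Y) : LocallyOfFinitePresentation (equalizer.ι f g).left := by
  refine MorphismProperty.of_isPullback
    ((Limits.isPullback_equalizer_prod f g).map (Over.forget _)).flip ?_
  rw [← MorphismProperty.cancel_right_of_respectsIso @LocallyOfFinitePresentation _
    (Over.prodLeftIsoPullback Y Y).hom]
  convert! (Groth.Agent.S4599.result Y.hom)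
  ext1 <;> simp [← Over.comp_left]

/-- The kernel of a homomorphism from an affine group to a separated group is cut out by a Hopf ideal. -/
theorem exists_ker_ideal {R A : Type u} [CommRing R] [CommRing A] [HopfAlgebra R A]
    {G : Over (Spec (CommRingCat.of R))} [GrpObj G] [IsSeparated G.hom] (v : hspec R A ⟶ G) [IsMonHom v] :
    ∃ J : Ideal A, J.IsHopfIdeal R ∧ (LocallyOfFiniteType G.hom → J.FG) ∧ ∀ (C : Type u) [CommRing C] [Algebra R C]
      (φ : WithConv (A →ₐ[R] C)), Spec.mapMulEquiv φ ≫ v = 1 ↔ ∀ a ∈ J, φ.ofConv a = 0 := by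
  obtain ⟨I, e, he⟩ : ∃ I : Ideal A, ∃ e : (equalizer v 1).left ≅ Spec (CommRingCat.of (A ⧸ I)),
      (equalizer.ι v 1).left = e.hom ≫ Spec.map (CommRingCat.ofHom (Ideal.Quotient.mk I)) :=
    (IsClosedImmersion.Spec_iff (R := CommRingCat.of A)).1
      (inferInstance : IsClosedImmersion (equalizer.ι v 1).left)
  have hiff : ∀ (C : Type u) [CommRing C] [Algebra R C] (φ : WithConv (A →ₐ[R] C)),
      Spec.mapMulEquiv φ ≫ v = 1 ↔ ∀ a ∈ I, φ.ofConv a = 0 := by
    intro C _ _ φ
    constructor
    · intro h a ha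
      let l := equalizer.lift (Spec.mapMulEquiv φ) (h.trans (MonObj.comp_one _).symm)
      have h0 : l ≫ equalizer.ι v 1 = Spec.mapMulEquiv φ := equalizer.lift_ι _ _
      have h1 : l.left ≫ e.hom ≫ Spec.map (CommRingCat.ofHom (Ideal.Quotient.mk I)) =
          Spec.map (CommRingCat.ofHom φ.ofConv.toRingHom) := by
        exact (congrArg (l.left ≫ ·) he.symm).trans
          (congrArg (fun z : (Spec (CommRingCat.of C)).asOver (Spec (CommRingCat.of R)) ⟶ hspec R A => z.left) h0)
      let m : Spec (CommRingCat.of C) ⟶ Spec (CommRingCat.of (A ⧸ I)) := l.left ≫ e.hom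
      replace h1 : m ≫ Spec.map (CommRingCat.ofHom (Ideal.Quotient.mk I)) =
          Spec.map (CommRingCat.ofHom φ.ofConv.toRingHom) := (Category.assoc _ _ _).trans h1
      rw [← Spec.map_preimage m, ← Spec.map_comp] at h1
      have h2 := CategoryTheory.congr_fun (Spec.map_injective h1) a
      rw [← show _ = φ.ofConv a from h2]
      show (Spec.preimage m).hom (Ideal.Quotient.mk I a) = 0
      rw [Ideal.Quotient.eq_zero_iff_mem.2 ha, map_zero]
    · intro h
      let ψ : A ⧸ I →+* C := Ideal.Quotient.lift I φ.ofConv.toRingHom h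
      let l : Spec (CommRingCat.of C) ⟶ (equalizer v 1).left := Spec.map (CommRingCat.ofHom ψ) ≫ e.inv
      have h1 : l ≫ (equalizer.ι v 1).left = (Spec.mapMulEquiv φ).left := by
        rw [he]
        show (Spec.map (CommRingCat.ofHom ψ) ≫ e.inv) ≫ e.hom ≫ _ = Spec.map (CommRingCat.ofHom φ.ofConv.toRingHom)
        rw [Category.assoc, e.inv_hom_id_assoc, ← Spec.map_comp]
        rfl
      rw [← MonObj.comp_one (Spec.mapMulEquiv φ) (M := G)]
      apply Over.OverMorphism.ext
      have hc : (equalizer.ι v 1).left ≫ v.left = (equalizer.ι v 1).left ≫ (1 : hspec R A ⟶ G).left :=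
        congrArg (fun z : equalizer v 1 ⟶ G => z.left) (equalizer.condition v 1)
      show (Spec.mapMulEquiv φ).left ≫ v.left = (Spec.mapMulEquiv φ).left ≫ (1 : hspec R A ⟶ G).left
      rw [← h1]
      exact (Category.assoc _ _ _).trans ((congrArg (l ≫ ·) hc).trans (Category.assoc _ _ _).symm)
  have hmul : ∀ (C : Type u) [CommRing C] [Algebra R C] (φ ψ : WithConv (A →ₐ[R] C)),
      Spec.mapMulEquiv (φ * ψ) ≫ v = (Spec.mapMulEquiv φ ≫ v) * (Spec.mapMulEquiv ψ ≫ v) := by
    intro C _ _ φ ψ
    rw [map_mul, MonObj.mul_comp]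
  have hone : ∀ (C : Type u) [CommRing C] [Algebra R C],
      Spec.mapMulEquiv (1 : WithConv (A →ₐ[R] C)) ≫ v = 1 := by
    intro C _ _
    rw [map_one, MonObj.one_comp]
  let π : A →ₐ[R] A ⧸ I := Ideal.Quotient.mkₐ R I
  have hπ : Spec.mapMulEquiv (toConv π) ≫ v = 1 :=
    (hiff _ _).2 fun a ha => Ideal.Quotient.eq_zero_iff_mem.2 ha
  have hfg : LocallyOfFiniteType G.hom → I.FG := fun _ => by
    have hd : LocallyOfFinitePresentation (equalizer.ι v 1).left := locallyOfFinitePresentation_equalizer_ι v 1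
    have h2 : LocallyOfFinitePresentation (e.hom ≫ Spec.map (CommRingCat.ofHom (Ideal.Quotient.mk I))) := he ▸ hd
    rw [MorphismProperty.cancel_left_of_respectsIso (P := @LocallyOfFinitePresentation),
      HasRingHomProperty.Spec_iff (P := @LocallyOfFinitePresentation)] at h2
    have : Algebra.FinitePresentation A (A ⧸ I) := RingHom.finitePresentation_algebraMap.1 h2
    have h3 := Algebra.FinitePresentation.ker_fG_of_surjective (Algebra.ofId A (A ⧸ I)) Ideal.Quotient.mk_surjective
    rw [show I = RingHom.ker (Algebra.ofId A (A ⧸ I)).toRingHom from Ideal.mk_ker.symm]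
    exact h3
  refine ⟨I, ?_, hfg, hiff⟩
  refine @Ideal.IsHopfIdeal.mk R A _ _ _ I ⟨fun x hx => ?_, fun x hx => ?_⟩ (fun x hx => ?_)
  · have := (hiff R _).1 (hone R) x hx
    simpa using this
  · let B := A ⧸ I
    let iL : A →ₐ[R] B ⊗[R] B := (Algebra.TensorProduct.includeLeft : B →ₐ[R] _).comp π
    let iR : A →ₐ[R] B ⊗[R] B := (Algebra.TensorProduct.includeRight : B →ₐ[R] _).comp π
    have hπ0 : ∀ a ∈ I, π a = 0 := fun a ha => Ideal.Quotient.eq_zero_iff_mem.2 ha
    have hL : Spec.mapMulEquiv (toConv iL) ≫ v = 1 :=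
      (hiff _ _).2 fun a ha => by simp [iL, hπ0 a ha]
    have hR : Spec.mapMulEquiv (toConv iR) ≫ v = 1 :=
      (hiff _ _).2 fun a ha => by simp [iR, hπ0 a ha]
    have h0 := (hiff _ (toConv iL * toConv iR)).1 (by rw [hmul, hL, hR, _root_.one_mul]) x hx
    rw [AlgHom.convMul_apply] at h0
    let e1 : B →ₗ[R] A ⧸ (I.restrictScalars R) := LinearMap.id
    revert h0
    generalize Coalgebra.comul (R := R) x = z
    intro h0
    have key : TensorProduct.map (I.restrictScalars R).mkQ (I.restrictScalars R).mkQ z =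
        TensorProduct.map e1 e1 (Algebra.TensorProduct.lift iL iR (fun _ _ => Commute.all _ _) z) := by
      clear h0
      induction z using TensorProduct.induction_on with
      | zero => simp
      | add a b ha hb => simp only [map_add, ha, hb]
      | tmul a b =>
        simp only [TensorProduct.map_tmul, Algebra.TensorProduct.lift_tmul, iL, iR, AlgHom.comp_apply,
          Algebra.TensorProduct.includeLeft_apply, Algebra.TensorProduct.includeRight_apply,
          Algebra.TensorProduct.tmul_mul_tmul, _root_.one_mul, _root_.mul_one]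
        rfl
    rw [key, h0, map_zero]
  · have hinv : toConv (π.comp (HopfAlgebra.antipodeAlgHom R A)) * toConv π = 1 := by
      have h2 := congrArg (Groth.Agent.FinHopf.postComp (C := A) π) (AlgHom.antipode_id_cancel (R := R) (A := A))
      rw [map_mul, map_one] at h2
      exact h2
    have h : Spec.mapMulEquiv (toConv (π.comp (HopfAlgebra.antipodeAlgHom R A))) ≫ v = 1 := by
      have := hmul _ (toConv (π.comp (HopfAlgebra.antipodeAlgHom R A))) (toConv π)
      rw [hinv, hone, hπ, _root_.mul_one] at this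
      exact this.symm
    exact Ideal.Quotient.eq_zero_iff_mem.1 ((hiff _ _).1 h x hx)

section adj

variable {S U : Scheme.{u}} (g : U ⟶ S)

/-- Points of a base change. -/
noncomputable def adjMulEquiv (Z : Over U) (X : Over S) [GrpObj X] :
    ((Over.map g).obj Z ⟶ X) ≃* (Z ⟶ Red.bc g X) where
  toEquiv := (Over.mapPullbackAdj g).homEquiv Z X
  map_mul' a b := by
    simp only [Equiv.toFun_as_coe, Adjunction.homEquiv_unit]
    rw [← MonObj.comp_mul]
    congr 1
    exact map_mul (Functor.homMonoidHom (Over.pullback g) (X := (Over.map g).obj Z) (M := X)) a b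

theorem adjMulEquiv_comp (Z : Over U) {X Y : Over S} [GrpObj X] [GrpObj Y] (a : (Over.map g).obj Z ⟶ X)
    (w : X ⟶ Y) : adjMulEquiv g Z Y (a ≫ w) = adjMulEquiv g Z X a ≫ (Over.pullback g).map w :=
  (Over.mapPullbackAdj g).homEquiv_naturality_right a w

theorem eq_one_of_mono {X Y : Over S} [GrpObj X] [GrpObj Y] (w : X ⟶ Y) [IsMonHom w]
    (hm : Mono ((Over.pullback g).map w).left) {T : Over S} (b : T.left ⟶ U) (hb : b ≫ g = T.hom)
    (y : T ⟶ X) (hy : y ≫ w = 1) : y = 1 := by
  let Z : Over U := Over.mk b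
  let i : (Over.map g).obj Z ≅ T := Over.isoMk (Iso.refl _) (by simp [Z, hb])
  have : Mono ((Over.pullback g).map w) := (Over.forget U).mono_of_mono_map hm
  have : IsMonHom ((Over.pullback g).map w) :=
    ((Over.pullback g).mapGrp.map (Grp.homMk'' w : Grp.mk X ⟶ Grp.mk Y)).hom.isMonHom_hom
  have h1 : adjMulEquiv g Z X (i.hom ≫ y) = 1 := by
    rw [← cancel_mono ((Over.pullback g).map w), ← adjMulEquiv_comp, Category.assoc, hy, MonObj.comp_one,
      map_one, MonObj.one_comp]
  have h2 : i.hom ≫ y = 1 := (adjMulEquiv g Z X).injective (h1.trans (map_one _).symm)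
  rw [← cancel_epi i.hom, h2, MonObj.comp_one]

theorem mono_of_eq_one {X Y : Over S} [GrpObj X] [GrpObj Y] (w : X ⟶ Y) [IsMonHom w]
    (h : ∀ (T : Over S) (b : T.left ⟶ U), b ≫ g = T.hom → ∀ y : T ⟶ X, y ≫ w = 1 → y = 1) :
    Mono ((Over.pullback g).map w).left := by
  have : IsMonHom ((Over.pullback g).map w) :=
    ((Over.pullback g).mapGrp.map (Grp.homMk'' w : Grp.mk X ⟶ Grp.mk Y)).hom.isMonHom_hom
  suffices Mono ((Over.pullback g).map w) from (Over.forget U).map_mono ((Over.pullback g).map w)
  refine ⟨fun {Z} a b hab => ?_⟩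
  rw [← div_eq_one]
  obtain ⟨y, hy⟩ := (adjMulEquiv g Z X).surjective (a / b)
  have : y ≫ w = 1 := by
    apply (adjMulEquiv g Z Y).injective
    rw [adjMulEquiv_comp, hy, map_one, GrpObj.div_comp, hab, div_self']
  rw [← hy, h _ Z.hom rfl y this, map_one]

end adj

end Groth.Agent.MultHopf
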