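import Groth.Agent.MultHopf.Locus
import Groth.Prelude.Def_AlgGrp

/-!
# Infinitesimal rigidity of actions of groups of multiplicative type
-/

set_option autoImplicit false
set_option backward.isDefEq.respectTransparency.types false

universe u

open CategoryTheory CategoryTheory.Limits MonoidalCategory CartesianMonoidalCategory MonObj AlgebraicGeometry
open scoped TensorProduct
open WithConv

namespace Groth.Agent.MultHopf

variable {S : Scheme.{u}}

/-- Two maps out of an affine scheme agreeing at every local ring are equal. -/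
theorem hom_ext_atPrimes {C : Type u} [CommRing C] {X : Scheme.{u}} (z w : Spec (CommRingCat.of C) ⟶ X)
    (h : ∀ p : PrimeSpectrum C,
      Spec.map (CommRingCat.ofHom (algebraMap C (Localization.AtPrime p.asIdeal))) ≫ z =
        Spec.map (CommRingCat.ofHom (algebraMap C (Localization.AtPrime p.asIdeal))) ≫ w) : z = w := by
  have hpt : ∀ p : PrimeSpectrum C, z p = w p := fun p => by
    have h1 := congrArg (fun k => k (IsLocalRing.closedPoint (Localization.AtPrime p.asIdeal))) (h p)
    simp only [Scheme.Hom.comp_apply] at h1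
    have h2 : Spec.map (CommRingCat.ofHom (algebraMap C (Localization.AtPrime p.asIdeal)))
        (IsLocalRing.closedPoint (Localization.AtPrime p.asIdeal)) = p :=
      PrimeSpectrum.ext (Localization.AtPrime.comap_maximalIdeal (I := p.asIdeal))
    rwa [h2] at h1
  have hloc : ∀ p : PrimeSpectrum C, ∃ f : C, f ∉ p.asIdeal ∧
      Spec.map (CommRingCat.ofHom (algebraMap C (Localization.Away f))) ≫ z =
        Spec.map (CommRingCat.ofHom (algebraMap C (Localization.Away f))) ≫ w := by
    intro p
    obtain ⟨W, hW, hpW, -⟩ := exists_isAffineOpen_mem_and_subset (x := z p) (U := ⊤) trivial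
    have hp' : p ∈ (z ⁻¹ᵁ W ⊓ w ⁻¹ᵁ W : (Spec (CommRingCat.of C)).Opens) := ⟨hpW, show w p ∈ W from hpt p ▸ hpW⟩
    obtain ⟨_, ⟨f, rfl⟩, hpf, hfle⟩ :=
      PrimeSpectrum.isTopologicalBasis_basic_opens.exists_subset_of_mem_open hp' (z ⁻¹ᵁ W ⊓ w ⁻¹ᵁ W).isOpen
    refine ⟨f, hpf, ?_⟩
    let Cf := Localization.Away f
    let incl : Spec (CommRingCat.of Cf) ⟶ Spec (CommRingCat.of C) := Spec.map (CommRingCat.ofHom (algebraMap C Cf))
    have hι : ∀ q, incl q ∈ PrimeSpectrum.basicOpen f := fun q hf =>
      q.isPrime.ne_top (Ideal.eq_top_of_isUnit_mem _ hf (IsLocalization.Away.algebraMap_isUnit f))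
    have hrz : Set.range (incl ≫ z) ⊆ Set.range hW.fromSpec := by
      rw [hW.range_fromSpec]
      rintro _ ⟨q, rfl⟩
      exact (hfle (hι q)).1
    have hrw : Set.range (incl ≫ w) ⊆ Set.range hW.fromSpec := by
      rw [hW.range_fromSpec]
      rintro _ ⟨q, rfl⟩
      exact (hfle (hι q)).2
    let lz := IsOpenImmersion.lift hW.fromSpec (incl ≫ z) hrz
    let lw := IsOpenImmersion.lift hW.fromSpec (incl ≫ w) hrw
    show incl ≫ z = incl ≫ w
    rw [← IsOpenImmersion.lift_fac hW.fromSpec (incl ≫ z) hrz, ← IsOpenImmersion.lift_fac hW.fromSpec (incl ≫ w) hrw]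
    congr 1
    suffices Spec.preimage lz = Spec.preimage lw from
      (Spec.map_preimage lz).symm.trans ((congrArg Spec.map this).trans (Spec.map_preimage lw))
    apply CommRingCat.hom_ext
    refine RingHom.ext fun b => ?_
    rw [← sub_eq_zero]
    set d := (Spec.preimage lz).hom b - (Spec.preimage lw).hom b with hd
    have hann : ∀ Q : PrimeSpectrum Cf, algebraMap Cf (Localization.AtPrime Q.asIdeal) d = 0 := by
      intro Q
      let L := Localization.AtPrime Q.asIdeal
      let q : PrimeSpectrum C := ⟨Q.asIdeal.comap (algebraMap C Cf), inferInstance⟩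
      have hu : ∀ c : q.asIdeal.primeCompl, IsUnit ((algebraMap Cf L).comp (algebraMap C Cf) c) := fun c =>
        IsLocalization.map_units (S := L) (⟨algebraMap C Cf c, c.2⟩ : Q.asIdeal.primeCompl)
      let g : Localization.AtPrime q.asIdeal →+* L := IsLocalization.lift hu
      have hg : g.comp (algebraMap C (Localization.AtPrime q.asIdeal)) = (algebraMap Cf L).comp (algebraMap C Cf) :=
        IsLocalization.lift_comp hu
      let jQ : Spec (CommRingCat.of L) ⟶ Spec (CommRingCat.of Cf) := Spec.map (CommRingCat.ofHom (algebraMap Cf L))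
      have hfac : jQ ≫ incl = Spec.map (CommRingCat.ofHom g) ≫
          Spec.map (CommRingCat.ofHom (algebraMap C (Localization.AtPrime q.asIdeal))) := by
        rw [← Spec.map_comp, ← Spec.map_comp, ← CommRingCat.ofHom_comp, ← CommRingCat.ofHom_comp, hg]
      have h1 : jQ ≫ lz = jQ ≫ lw := by
        rw [← cancel_mono hW.fromSpec, Category.assoc, Category.assoc, IsOpenImmersion.lift_fac,
          IsOpenImmersion.lift_fac, ← Category.assoc, ← Category.assoc, hfac, Category.assoc, Category.assoc, h q]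
      rw [← Spec.map_preimage lz, ← Spec.map_preimage lw, ← Spec.map_comp, ← Spec.map_comp] at h1
      have h2 := CategoryTheory.congr_fun (Spec.map_injective h1) b
      rw [hd, map_sub, sub_eq_zero]
      exact h2
    by_contra hne
    obtain ⟨m, hm, hle⟩ := Ideal.exists_le_maximal (Ideal.torsionOf Cf Cf d) fun htop => hne (by
      simpa using ((Ideal.eq_top_iff_one _).1 htop : (1 : Cf) ∈ Ideal.torsionOf Cf Cf d))
    obtain ⟨c, hc⟩ := (IsLocalization.map_eq_zero_iff m.primeCompl (Localization.AtPrime m) d).1 (hann ⟨m, hm.isPrime⟩)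
    exact c.2 (hle (show (c : Cf) • d = 0 from hc))
  choose f hf hfeq using hloc
  refine Scheme.Cover.hom_ext (Scheme.affineOpenCoverOfSpanRangeEqTop (R := CommRingCat.of C) f ?_).openCover z w hfeq
  by_contra hne
  obtain ⟨m, hm, hle⟩ := Ideal.exists_le_maximal _ hne
  exact hf ⟨m, hm.isPrime⟩ (hle (Ideal.subset_span ⟨_, rfl⟩))

/-- Pairs congruent modulo an ideal. -/
noncomputable def pairs {R D : Type u} [CommRing R] [CommRing D] [Algebra R D] (N : Ideal D) : Subalgebra R (D × D) where
  carrier := {e | e.1 - e.2 ∈ N}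
  mul_mem' := fun {p q} hp hq => N.mul_sub_mul_mem hp hq
  add_mem' := fun {p q} hp hq => by
    show p.1 + q.1 - (p.2 + q.2) ∈ N
    rw [add_sub_add_comm]
    exact add_mem hp hq
  algebraMap_mem' := fun r => by simp

section act

variable {R : Type u} [CommRing R] (j : Spec (CommRingCat.of R) ⟶ S) {G X : Over S} [GrpObj G]

/-- The map of affine schemes over `S` of an algebra map. -/
noncomputable def pSMap {D D' : Type u} [CommRing D] [Algebra R D] [CommRing D'] [Algebra R D'] (f : D →ₐ[R] D') :
    ptS j D' ⟶ ptS j D :=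
  (Over.map j).map (ptMap f)

theorem pSMap_left {D D' : Type u} [CommRing D] [Algebra R D] [CommRing D'] [Algebra R D'] (f : D →ₐ[R] D') :
    (pSMap j f).left = Spec.map (CommRingCat.ofHom f.toRingHom) := rfl

theorem pSMap_comp {D D' D'' : Type u} [CommRing D] [Algebra R D] [CommRing D'] [Algebra R D'] [CommRing D'']
    [Algebra R D''] (f : D →ₐ[R] D') (g : D' →ₐ[R] D'') : pSMap j (g.comp f) = pSMap j g ≫ pSMap j f := by
  apply Over.OverMorphism.ext
  show Spec.map _ = Spec.map _ ≫ Spec.map _
  rw [← Spec.map_comp]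
  rfl

variable {A : Type u} [CommRing A] [HopfAlgebra R A] (eA : Grp.mk (Red.bc j G) ≅ Grp.mk (hspec R A))

theorem ptEquiv_mul {D : Type u} [CommRing D] [Algebra R D] (g g' : ptS j D ⟶ G) :
    ptEquiv j eA D (g * g') = ptEquiv j eA D g * ptEquiv j eA D g' := by
  have : IsMonHom eA.hom.hom.hom := eA.hom.hom.isMonHom_hom
  show Spec.mapMulEquiv.symm (adjMulEquiv j _ G (g * g') ≫ eA.hom.hom.hom) = _
  rw [map_mul, MonObj.mul_comp, map_mul]
  rfl

theorem ptEquiv_pSMap {D D' : Type u} [CommRing D] [Algebra R D] [CommRing D'] [Algebra R D']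
    (f : D →ₐ[R] D') (g : ptS j D ⟶ G) :
    ptEquiv j eA D' (pSMap j f ≫ g) = toConv (f.comp (ptEquiv j eA D g).ofConv) := by
  apply Spec.mapMulEquiv.injective
  rw [← ptMap_comp_mapMulEquiv]
  show Spec.mapMulEquiv (Spec.mapMulEquiv.symm _) = _ ≫ Spec.mapMulEquiv (Spec.mapMulEquiv.symm _)
  rw [MulEquiv.apply_symm_apply, MulEquiv.apply_symm_apply, ← Category.assoc]
  congr 1
  show (Over.mapPullbackAdj j).homEquiv _ G ((Over.map j).map (ptMap f) ≫ g) = ptMap f ≫ _
  rw [Adjunction.homEquiv_naturality_left]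
  rfl

variable (a : AlgGrp.Action G X)

theorem act_mul' {T : Over S} (g h : T ⟶ G) (x : T ⟶ X) :
    lift (g * h) x ≫ a.act = lift g (lift h x ≫ a.act) ≫ a.act := by
  have h' := congrArg (fun q => lift (lift g h) x ≫ q) a.mul_act
  simpa [Hom.mul_def] using h'

include eA in
/-- An action of a group of multiplicative type, trivial modulo a square zero ideal, fixes points over a local ring. -/
theorem act_eq_of_squareZero [IsLocalRing R] (hA : SGA3b.IsMultType R A) (Q : Ideal R)
    (hQ : ∀ x ∈ Q, ∀ y ∈ Q, x * y = 0)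
    (h0 : ∀ (D : Type u) [CommRing D] [Algebra R D], Q ≤ RingHom.ker (algebraMap R D) →
      ∀ (g : ptS j D ⟶ G) (z : ptS j D ⟶ X), lift g z ≫ a.act = z)
    (g : ptS j R ⟶ G) (x₀ : ptS j R ⟶ X) : lift g x₀ ≫ a.act = x₀ := by
  classical
  let c : Spec (CommRingCat.of R) := IsLocalRing.closedPoint R
  let xL : Spec (CommRingCat.of R) ⟶ X.left := x₀.left
  obtain ⟨W, hW, hcW, -⟩ := exists_isAffineOpen_mem_and_subset (x := xL c) (U := ⊤) trivial
  have htop : xL ⁻¹ᵁ W = ⊤ := (IsLocalRing.closedPoint_mem_iff (xL ⁻¹ᵁ W)).1 hcW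
  have hxW : ∀ p, xL p ∈ W := fun p => (htop ▸ trivial : p ∈ xL ⁻¹ᵁ W)
  -- the constant point and the translated point
  let xD := fun (D : Type u) [CommRing D] [Algebra R D] => pSMap j (Algebra.ofId R D) ≫ x₀
  let F := fun {D : Type u} [CommRing D] [Algebra R D] (h : ptS j D ⟶ G) (z : ptS j D ⟶ X) => lift h z ≫ a.act
  have hmapD : ∀ (D : Type u) [CommRing D] [Algebra R D] (p : PrimeSpectrum D),
      Q.map (algebraMap R D) ≤ p.asIdeal := by
    intro D _ _ p
    rw [Ideal.map_le_iff_le_comap]
    intro q hq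
    exact (p.isPrime.mem_or_mem (x := algebraMap R D q) (y := algebraMap R D q)
      (by rw [← map_mul, hQ q hq q hq, map_zero]; exact zero_mem _)).elim id id
  -- points congruent to the constant point
  let Cong := fun (D : Type u) [CommRing D] [Algebra R D] (z : ptS j D ⟶ X) =>
    pSMap j (Ideal.Quotient.mkₐ R (Q.map (algebraMap R D))) ≫ z =
      pSMap j (Ideal.Quotient.mkₐ R (Q.map (algebraMap R D))) ≫ xD D
  have hkill : ∀ (D : Type u) [CommRing D] [Algebra R D],
      Q ≤ RingHom.ker (algebraMap R (D ⧸ Q.map (algebraMap R D))) := fun D _ _ q hq => by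
    rw [RingHom.mem_ker, IsScalarTower.algebraMap_apply R D (D ⧸ Q.map (algebraMap R D))]
    exact Ideal.Quotient.eq_zero_iff_mem.2 (Ideal.mem_map_of_mem _ hq)
  have hcongF : ∀ (D : Type u) [CommRing D] [Algebra R D] (h : ptS j D ⟶ G) (z : ptS j D ⟶ X),
      Cong D z → Cong D (F h z) := by
    intro D _ _ h z hz
    show pSMap j _ ≫ lift h z ≫ a.act = _
    rw [← Category.assoc, comp_lift, h0 _ (hkill D)]
    exact hz
  -- lifting to the affine neighbourhood
  have hlift : ∀ (D : Type u) [CommRing D] [Algebra R D] (z : ptS j D ⟶ X), Cong D z →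
      ∃ ξ : Γ(X.left, W) →+* D, Spec.map (CommRingCat.ofHom ξ) ≫ hW.fromSpec = z.left := by
    intro D _ _ z hz
    let zL : Spec (CommRingCat.of D) ⟶ X.left := z.left
    have hr : Set.range zL ⊆ Set.range hW.fromSpec := by
      rw [hW.range_fromSpec]
      rintro _ ⟨p, rfl⟩
      obtain ⟨p₀, hp₀⟩ : p ∈ Set.range (PrimeSpectrum.comap (Ideal.Quotient.mk (Q.map (algebraMap R D)))) := by
        rw [range_comap_of_surjective _ _ Ideal.Quotient.mk_surjective]
        intro y hy
        exact hmapD D p (Ideal.mk_ker.le hy)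
      have h1 : zL (Spec.map (CommRingCat.ofHom (Ideal.Quotient.mk (Q.map (algebraMap R D)))) p₀) =
          xL (Spec.map (CommRingCat.ofHom (algebraMap R D)) (Spec.map (CommRingCat.ofHom (Ideal.Quotient.mk (Q.map (algebraMap R D)))) p₀)) :=
        congrArg (fun k : ptS j (D ⧸ Q.map (algebraMap R D)) ⟶ X => k.left p₀) hz
      show zL p ∈ W
      rw [← show Spec.map (CommRingCat.ofHom (Ideal.Quotient.mk (Q.map (algebraMap R D)))) p₀ = p from hp₀, h1]
      exact hxW _
    refine ⟨(Spec.preimage (IsOpenImmersion.lift hW.fromSpec zL hr)).hom, ?_⟩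
    exact (congrArg (· ≫ hW.fromSpec) (Spec.map_preimage _)).trans (IsOpenImmersion.lift_fac _ _ _)
  have huniq : ∀ (D : Type u) [CommRing D] (ξ ξ' : Γ(X.left, W) →+* D),
      Spec.map (CommRingCat.ofHom ξ) ≫ hW.fromSpec = Spec.map (CommRingCat.ofHom ξ') ≫ hW.fromSpec → ξ = ξ' := by
    intro D _ ξ ξ' h
    rw [cancel_mono] at h
    exact congrArg CommRingCat.Hom.hom (Spec.map_injective h)
  have hcongX : ∀ (D : Type u) [CommRing D] [Algebra R D], Cong D (xD D) := fun D _ _ => rfl
  obtain ⟨ξ₀, hξ₀⟩ := hlift R (xD R) (hcongX R)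
  have hξD : ∀ (D : Type u) [CommRing D] [Algebra R D],
      Spec.map (CommRingCat.ofHom ((algebraMap R D).comp ξ₀)) ≫ hW.fromSpec = (xD D).left := by
    intro D _ _
    rw [CommRingCat.ofHom_comp, Spec.map_comp, Category.assoc, hξ₀]
    show Spec.map _ ≫ Spec.map _ ≫ x₀.left = Spec.map _ ≫ x₀.left
    rw [← Category.assoc, ← Spec.map_comp]
    rfl
  choose ξ hξ using hlift
  let ζ := fun (D : Type u) [CommRing D] [Algebra R D] (h : ptS j D ⟶ G) =>
    ξ D (F h (xD D)) (hcongF D h _ (hcongX D))
  have hζ : ∀ (D : Type u) [CommRing D] [Algebra R D] (h : ptS j D ⟶ G),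
      Spec.map (CommRingCat.ofHom (ζ D h)) ≫ hW.fromSpec = (F h (xD D)).left := fun D _ _ h => hξ _ _ _
  have hstep : ∀ (D : Type u) [CommRing D] [Algebra R D] (h : ptS j D ⟶ G) (z : ptS j D ⟶ X)
      (ξz : Γ(X.left, W) →+* D), Spec.map (CommRingCat.ofHom ξz) ≫ hW.fromSpec = z.left →
      ∃ ω : Γ(X.left, W) →+* D, Spec.map (CommRingCat.ofHom ω) ≫ hW.fromSpec = (F h z).left ∧
        ∀ b, ω b - ξz b ∈ Q.map (algebraMap R D) := by
    intro D _ _ h z ξz hz
    let N := Q.map (algebraMap R D)
    have hfix : pSMap j (Ideal.Quotient.mkₐ R N) ≫ F h z = pSMap j (Ideal.Quotient.mkₐ R N) ≫ z := by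
      show _ ≫ lift _ _ ≫ a.act = _
      rw [← Category.assoc, comp_lift]
      exact h0 _ (hkill D) _ _
    let wD : Spec (CommRingCat.of D) ⟶ X.left := (F h z).left
    have hr : Set.range wD ⊆ Set.range hW.fromSpec := by
      rintro _ ⟨e, rfl⟩
      obtain ⟨e₀, he₀⟩ : e ∈ Set.range (PrimeSpectrum.comap (Ideal.Quotient.mk N)) := by
        rw [range_comap_of_surjective _ _ Ideal.Quotient.mk_surjective]
        intro v hv
        exact hmapD D e (Ideal.mk_ker.le hv)
      have h1 : wD (Spec.map (CommRingCat.ofHom (Ideal.Quotient.mk N)) e₀) =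
          z.left (Spec.map (CommRingCat.ofHom (Ideal.Quotient.mk N)) e₀) :=
        congrArg (fun k : ptS j (D ⧸ N) ⟶ X => k.left e₀) hfix
      rw [← show Spec.map (CommRingCat.ofHom (Ideal.Quotient.mk N)) e₀ = e from he₀, h1, ← hz]
      exact Set.mem_range_self _
    refine ⟨(Spec.preimage (IsOpenImmersion.lift hW.fromSpec wD hr)).hom,
      (congrArg (· ≫ hW.fromSpec) (Spec.map_preimage _)).trans (IsOpenImmersion.lift_fac _ _ _), fun b => ?_⟩
    rw [← Ideal.Quotient.eq_zero_iff_mem, map_sub, sub_eq_zero]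
    refine RingHom.congr_fun (huniq _ ((Ideal.Quotient.mk N).comp _) ((Ideal.Quotient.mk N).comp ξz) ?_) b
    rw [CommRingCat.ofHom_comp, CommRingCat.ofHom_comp, Spec.map_comp, Spec.map_comp, Category.assoc, Category.assoc,
      hz]
    refine Eq.trans ?_ (congrArg (fun k : ptS j (D ⧸ N) ⟶ X => k.left) hfix)
    exact congrArg _ ((congrArg (· ≫ hW.fromSpec) (Spec.map_preimage _)).trans (IsOpenImmersion.lift_fac _ _ _))
  let δ := fun (D : Type u) [CommRing D] [Algebra R D] (h : ptS j D ⟶ G) (b : Γ(X.left, W)) =>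
    ζ D h b - algebraMap R D (ξ₀ b)
  have hnat : ∀ (D D' : Type u) [CommRing D] [Algebra R D] [CommRing D'] [Algebra R D'] (f : D →ₐ[R] D')
      (h : ptS j D ⟶ G) (b : Γ(X.left, W)), δ D' (pSMap j f ≫ h) b = f (δ D h b) := by
    intro D D' _ _ _ _ f h b
    have hx' : pSMap j f ≫ xD D = xD D' := by
      show _ ≫ _ ≫ x₀ = _ ≫ x₀
      rw [← Category.assoc, ← pSMap_comp, show f.comp (Algebra.ofId R D) = Algebra.ofId R D' from AlgHom.ext fun r => f.commutes r]
    have e : ζ D' (pSMap j f ≫ h) = f.toRingHom.comp (ζ D h) := by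
      apply huniq
      rw [hζ, CommRingCat.ofHom_comp, Spec.map_comp, Category.assoc, hζ]
      have : F (pSMap j f ≫ h) (xD D') = pSMap j f ≫ F h (xD D) := by
        show lift _ _ ≫ a.act = _ ≫ lift _ _ ≫ a.act
        rw [← Category.assoc (pSMap j f), comp_lift, hx']
      rw [this]
      rfl
    show ζ D' (pSMap j f ≫ h) b - algebraMap R D' (ξ₀ b) = f (ζ D h b - algebraMap R D (ξ₀ b))
    rw [e, map_sub, f.commutes]
    rfl
  have hadd : ∀ (D : Type u) [CommRing D] [Algebra R D] (h h' : ptS j D ⟶ G) (b : Γ(X.left, W)),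
      δ D (h * h') b = δ D h b + δ D h' b := by
    intro D _ _ h h' b
    let y := F h' (xD D)
    have hy : Cong D y := hcongF D h' _ (hcongX D)
    let N := Q.map (algebraMap R D)
    -- pairs congruent modulo `N`
    let E : Subalgebra R (D × D) := pairs (R := R) N
    let p₁ : E →ₐ[R] D := (AlgHom.fst R D D).comp E.val
    let p₂ : E →ₐ[R] D := (AlgHom.snd R D D).comp E.val
    let dg : D →ₐ[R] E := ((AlgHom.id R D).prod (AlgHom.id R D)).codRestrict E fun d => by simp [E, pairs]
    have hdiag : ∀ e : E, e ∈ Q.map (algebraMap R E) → p₁ e = p₂ e := by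
      intro e he
      suffices p₁ e - p₂ e = 0 ∧ p₁ e ∈ N from sub_eq_zero.1 this.1
      rw [Ideal.map, Ideal.span] at he
      induction he using Submodule.span_induction with
      | mem y hy =>
        obtain ⟨q, hq, rfl⟩ := hy
        rw [AlgHom.commutes, AlgHom.commutes, sub_self]
        exact ⟨rfl, Ideal.mem_map_of_mem _ hq⟩
      | zero => simp
      | add y z _ _ hy hz =>
        rw [map_add, map_add, add_sub_add_comm, hy.1, hz.1, add_zero]
        exact ⟨rfl, add_mem hy.2 hz.2⟩
      | smul r y _ hy =>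
        rw [smul_eq_mul, map_mul, map_mul]
        refine ⟨?_, N.mul_mem_left _ hy.2⟩
        rw [← sub_eq_zero.1 hy.1, ← sub_mul]
        have hNN : ∀ u ∈ N, ∀ v ∈ N, u * v = 0 := by
          intro u hu v hv
          have hm := Ideal.mul_mem_mul hu hv
          rw [← Ideal.map_mul, show Q * Q = ⊥ from le_bot_iff.1 (Ideal.mul_le.2 fun r hr t ht => by
            rw [Ideal.mem_bot]; exact hQ r hr t ht), Ideal.map_bot] at hm
          exact hm
        exact hNN _ r.2 _ hy.2
    let ηb : Γ(X.left, W) →+* E :=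
      { toFun := fun b => ⟨(ζ D h' b, algebraMap R D (ξ₀ b)), by
          show ζ D h' b - algebraMap R D (ξ₀ b) ∈ N
          rw [← Ideal.Quotient.eq_zero_iff_mem, map_sub, sub_eq_zero]
          have e : (Ideal.Quotient.mk N).comp (ζ D h') = (Ideal.Quotient.mk N).comp ((algebraMap R D).comp ξ₀) := by
            apply huniq
            rw [CommRingCat.ofHom_comp, CommRingCat.ofHom_comp, Spec.map_comp, Spec.map_comp, Category.assoc,
              Category.assoc, hζ, hξD]
            exact congrArg (fun k : ptS j (D ⧸ N) ⟶ X => k.left) hy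
          exact RingHom.congr_fun e b⟩
        map_one' := Subtype.ext (Prod.ext (map_one _) (by simp))
        map_mul' := fun p q => Subtype.ext (Prod.ext (map_mul _ p q) (by simp))
        map_zero' := Subtype.ext (Prod.ext (map_zero _) (by simp))
        map_add' := fun p q => Subtype.ext (Prod.ext (map_add _ p q) (by simp)) }
    have hover : Spec.map (CommRingCat.ofHom ηb) ≫ hW.fromSpec ≫ X.hom =
        Spec.map (CommRingCat.ofHom (algebraMap R E)) ≫ j := by
      let xE := xD E
      have hwx : Spec.map (CommRingCat.ofHom (algebraMap R D)) ≫ j = (xD D).left ≫ X.hom := (Over.w (xD D)).symm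
      obtain ⟨V, hV, hcV, -⟩ := exists_isAffineOpen_mem_and_subset (x := j c) (U := ⊤) trivial
      have hjV : ∀ r, j r ∈ V := fun r =>
        ((IsLocalRing.closedPoint_mem_iff (j ⁻¹ᵁ V)).1 hcV ▸ trivial : r ∈ j ⁻¹ᵁ V)
      have hrr : Set.range (Spec.map (CommRingCat.ofHom (algebraMap R E)) ≫ j) ⊆ Set.range hV.fromSpec := by
        rw [hV.range_fromSpec]
        rintro _ ⟨r, rfl⟩
        exact hjV _
      have hp1 : Spec.map (CommRingCat.ofHom p₁.toRingHom) ≫ Spec.map (CommRingCat.ofHom ηb) ≫ hW.fromSpec ≫ X.hom =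
          Spec.map (CommRingCat.ofHom p₁.toRingHom) ≫ Spec.map (CommRingCat.ofHom (algebraMap R E)) ≫ j := by
        rw [← Category.assoc, ← Spec.map_comp, ← CommRingCat.ofHom_comp,
          show p₁.toRingHom.comp ηb = ζ D h' from rfl, ← Category.assoc (Spec.map _) _ X.hom, hζ,
          ← Category.assoc (Spec.map (CommRingCat.ofHom p₁.toRingHom)), ← Spec.map_comp, ← CommRingCat.ofHom_comp,
          show p₁.toRingHom.comp (algebraMap R E) = algebraMap R D from p₁.comp_algebraMap]
        exact Over.w y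
      have hp2 : Spec.map (CommRingCat.ofHom p₂.toRingHom) ≫ Spec.map (CommRingCat.ofHom ηb) ≫ hW.fromSpec ≫ X.hom =
          Spec.map (CommRingCat.ofHom p₂.toRingHom) ≫ Spec.map (CommRingCat.ofHom (algebraMap R E)) ≫ j := by
        rw [← Category.assoc, ← Spec.map_comp, ← CommRingCat.ofHom_comp,
          show p₂.toRingHom.comp ηb = (algebraMap R D).comp ξ₀ from rfl, ← Category.assoc (Spec.map _) _ X.hom, hξD,
          ← Category.assoc (Spec.map (CommRingCat.ofHom p₂.toRingHom)), ← Spec.map_comp, ← CommRingCat.ofHom_comp,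
          show p₂.toRingHom.comp (algebraMap R E) = algebraMap R D from p₂.comp_algebraMap]
        exact hwx.symm
      have hle : Set.range (Spec.map (CommRingCat.ofHom ηb) ≫ hW.fromSpec ≫ X.hom) ⊆ Set.range hV.fromSpec := by
        rw [hV.range_fromSpec]
        rintro _ ⟨e, rfl⟩
        obtain ⟨e₀, rfl⟩ : ∃ e₀, Spec.map (CommRingCat.ofHom p₂.toRingHom) e₀ = e := by
          have hs : Function.Surjective p₂ := fun d => ⟨dg d, rfl⟩
          have : e ∈ Set.range (PrimeSpectrum.comap p₂.toRingHom) := by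
            rw [range_comap_of_surjective _ _ hs]
            intro q hq
            have h2 : (q : D × D).2 = 0 := hq
            have hq2 : q * q = (0 : E) := by
              have hmem : (q : D × D).1 - (q : D × D).2 ∈ N := q.2
              rw [h2, sub_zero] at hmem
              have hm := Ideal.mul_mem_mul hmem hmem
              rw [← Ideal.map_mul, show Q * Q = ⊥ from le_bot_iff.1 (Ideal.mul_le.2 fun r hr t ht => by
                rw [Ideal.mem_bot]; exact hQ r hr t ht), Ideal.map_bot] at hm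
              refine Subtype.ext (Prod.ext hm ?_)
              show (q : D × D).2 * (q : D × D).2 = 0
              rw [h2, mul_zero]
            exact (e.isPrime.mem_or_mem (x := q) (y := q) (hq2 ▸ zero_mem _)).elim id id
          exact this
        rw [← Scheme.Hom.comp_apply, hp2, ← Category.assoc, Scheme.Hom.comp_apply]
        exact hjV _
      let l₁ := IsOpenImmersion.lift hV.fromSpec _ hle
      let l₂ := IsOpenImmersion.lift hV.fromSpec _ hrr
      rw [← IsOpenImmersion.lift_fac hV.fromSpec _ hle, ← IsOpenImmersion.lift_fac hV.fromSpec _ hrr]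
      congr 1
      suffices Spec.preimage l₁ = Spec.preimage l₂ from
        (Spec.map_preimage l₁).symm.trans ((congrArg Spec.map this).trans (Spec.map_preimage l₂))
      have hcmp : ∀ (p : E →ₐ[R] D), Spec.map (CommRingCat.ofHom p.toRingHom) ≫ Spec.map (CommRingCat.ofHom ηb) ≫
          hW.fromSpec ≫ X.hom = Spec.map (CommRingCat.ofHom p.toRingHom) ≫ Spec.map (CommRingCat.ofHom (algebraMap R E)) ≫ j →
          Spec.preimage l₁ ≫ CommRingCat.ofHom p.toRingHom = Spec.preimage l₂ ≫ CommRingCat.ofHom p.toRingHom := by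
        intro p hp
        apply Spec.map_injective
        rw [Spec.map_comp, Spec.map_comp, Spec.map_preimage, Spec.map_preimage, ← cancel_mono hV.fromSpec,
          Category.assoc, Category.assoc, IsOpenImmersion.lift_fac, IsOpenImmersion.lift_fac, hp]
      apply CommRingCat.hom_ext
      refine RingHom.ext fun r => Subtype.ext (Prod.ext ?_ ?_)
      · exact CategoryTheory.congr_fun (hcmp p₁ hp1) r
      · exact CategoryTheory.congr_fun (hcmp p₂ hp2) r
    let zE : ptS j E ⟶ X := Over.homMk (Spec.map (CommRingCat.ofHom ηb) ≫ hW.fromSpec)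
      ((Category.assoc _ _ _).trans hover)
    have hz₁ : pSMap j p₁ ≫ zE = y := by
      apply Over.OverMorphism.ext
      show Spec.map (CommRingCat.ofHom p₁.toRingHom) ≫ Spec.map (CommRingCat.ofHom ηb) ≫ hW.fromSpec = y.left
      rw [← Category.assoc, ← Spec.map_comp, ← CommRingCat.ofHom_comp, show p₁.toRingHom.comp ηb = ζ D h' from rfl, hζ]
    have hz₂ : pSMap j p₂ ≫ zE = xD D := by
      apply Over.OverMorphism.ext
      show Spec.map (CommRingCat.ofHom p₂.toRingHom) ≫ Spec.map (CommRingCat.ofHom ηb) ≫ hW.fromSpec = _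
      rw [← Category.assoc, ← Spec.map_comp, ← CommRingCat.ofHom_comp,
        show p₂.toRingHom.comp ηb = (algebraMap R D).comp ξ₀ from rfl, hξD]
    let gE := pSMap j dg ≫ h
    obtain ⟨ω, hω, hmod'⟩ := hstep E gE zE ηb rfl
    have hmod := hmod' b
    have hg : ∀ p : E →ₐ[R] D, p.comp dg = AlgHom.id R D → pSMap j p ≫ gE = h := fun p hp => by
      show _ ≫ _ ≫ h = h
      rw [← Category.assoc, ← pSMap_comp, hp,
        show pSMap j (AlgHom.id R D) = 𝟙 _ from Over.OverMorphism.ext (Spec.map_id _), Category.id_comp]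
    have hω₁ : p₁.toRingHom.comp ω = ζ D (h * h') := by
      apply huniq
      rw [CommRingCat.ofHom_comp, Spec.map_comp, Category.assoc, hω, hζ]
      have e : pSMap j p₁ ≫ F gE zE = F (h * h') (xD D) := by
        show _ ≫ lift _ _ ≫ a.act = lift _ _ ≫ a.act
        rw [← Category.assoc, comp_lift, hz₁, hg p₁ (AlgHom.ext fun d => rfl), act_mul']
      rw [← e]
      rfl
    have hω₂ : p₂.toRingHom.comp ω = ζ D h := by
      apply huniq
      rw [CommRingCat.ofHom_comp, Spec.map_comp, Category.assoc, hω, hζ]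
      have e : pSMap j p₂ ≫ F gE zE = F h (xD D) := by
        show _ ≫ lift _ _ ≫ a.act = lift _ _ ≫ a.act
        rw [← Category.assoc, comp_lift, hz₂, hg p₂ (AlgHom.ext fun d => rfl)]
      rw [← e]
      rfl
    have hd := hdiag _ hmod
    rw [map_sub, map_sub, show p₁ (ω b) = ζ D (h * h') b from RingHom.congr_fun hω₁ b,
      show p₂ (ω b) = ζ D h b from RingHom.congr_fun hω₂ b, show p₁ (ηb b) = ζ D h' b from rfl,
      show p₂ (ηb b) = algebraMap R D (ξ₀ b) from rfl] at hd
    show ζ D (h * h') b - algebraMap R D (ξ₀ b) = (ζ D h b - algebraMap R D (ξ₀ b)) + (ζ D h' b - algebraMap R D (ξ₀ b))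
    linear_combination hd
  -- the universal point of a chart
  obtain ⟨ch⟩ := exists_chart hA ⟨IsLocalRing.maximalIdeal R, inferInstance⟩
  let MT := MonoidAlgebra ch.R' ch.M
  let C := MT ⊗[ch.R'] MT
  let iL : MT →ₐ[R] C := (Algebra.TensorProduct.includeLeft : MT →ₐ[ch.R'] C).restrictScalars R
  let iR : MT →ₐ[R] C := (Algebra.TensorProduct.includeRight : MT →ₐ[ch.R'] C).restrictScalars R
  let cm : MT →ₐ[R] C := (Bialgebra.comulAlgHom ch.R' MT).restrictScalars R
  let gu : ptS j MT ⟶ G := (ptEquiv j eA MT).symm (toConv ch.θ)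
  have hgu : pSMap j cm ≫ gu = (pSMap j iL ≫ gu) * (pSMap j iR ≫ gu) := by
    apply (ptEquiv j eA C).injective
    rw [ptEquiv_mul, ptEquiv_pSMap, ptEquiv_pSMap, ptEquiv_pSMap, Equiv.apply_symm_apply]
    apply WithConv.ofConv_injective
    refine AlgHom.ext fun x => ?_
    rw [AlgHom.convMul_apply]
    exact ch.comul_θ x
  have hzero : ∀ b, δ MT gu b = 0 := fun b => by
    apply eq_zero_of_primitive
    have e1 := hnat MT C cm gu b
    rw [hgu, hadd, hnat MT C iL, hnat MT C iR] at e1
    exact e1.symm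
  have hδg : ∀ b, δ R g b = 0 := by
    intro b
    have : Module.FaithfullyFlat R ch.R' := by
      have : IsLocalHom (algebraMap R ch.R') :=
        ((IsLocalRing.local_hom_TFAE (algebraMap R ch.R')).out 0 4).2 ch.over
      exact Module.FaithfullyFlat.of_flat_of_isLocalHom
    apply FaithfulSMul.algebraMap_injective R ch.R'
    rw [map_zero]
    let γ : A →ₐ[R] ch.R' := (Algebra.ofId R ch.R').comp (ptEquiv j eA R g).ofConv
    let w : MT →ₐ[ch.R'] ch.R' :=
      (Algebra.TensorProduct.lift (Algebra.ofId ch.R' ch.R') γ (fun _ _ => Commute.all _ _)).comp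
        (AlgEquiv.ofBijective (Algebra.TensorProduct.lift (Algebra.ofId ch.R' MT) ch.θ (fun _ _ => Commute.all _ _))
          (by
            convert ch.isBaseChange.equiv.bijective using 1
            funext z
            induction z using TensorProduct.induction_on with
            | zero => simp
            | add u v hu hv => simp [hu, hv]
            | tmul r b => simp [IsBaseChange.equiv_tmul, Algebra.smul_def]; rfl)).symm
    have hw : (w.restrictScalars R).comp ch.θ = γ := AlgHom.ext fun x => by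
      have h1 : ch.θ x = (Algebra.TensorProduct.lift (Algebra.ofId ch.R' MT) ch.θ (fun _ _ => Commute.all _ _))
          ((1 : ch.R') ⊗ₜ[R] x) := by simp
      show w (ch.θ x) = γ x
      conv_lhs => rw [h1]
      simp only [w, AlgHom.comp_apply, AlgEquiv.coe_toAlgHom, AlgEquiv.ofBijective_symm_apply_apply]
      simp
    have e : pSMap j (Algebra.ofId R ch.R') ≫ g = pSMap j (w.restrictScalars R) ≫ gu := by
      apply (ptEquiv j eA ch.R').injective
      rw [ptEquiv_pSMap, ptEquiv_pSMap, Equiv.apply_symm_apply]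
      exact congrArg toConv hw.symm
    have h1 := hnat R ch.R' (Algebra.ofId R ch.R') g b
    rw [e, hnat MT ch.R' (w.restrictScalars R) gu b, hzero, map_zero] at h1
    exact h1.symm
  have hxx : xD R = x₀ := by
    show _ ≫ x₀ = x₀
    rw [show pSMap j (Algebra.ofId R R) = 𝟙 _ from Over.OverMorphism.ext (Spec.map_id _), Category.id_comp]
  apply Over.OverMorphism.ext
  show (F g x₀).left = x₀.left
  have e : ζ R g = ξ₀ := RingHom.ext fun b => sub_eq_zero.1 (hδg b)
  have e1 := hζ R g
  rw [e, hξ₀, hxx] at e1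
  exact e1.symm

end act

end Groth.Agent.MultHopf
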