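import Groth.Agent.MultHopf.Trivial
import Mathlib.AlgebraicGeometry.ResidueField
import Mathlib.AlgebraicGeometry.Morphisms.Flat

/-!
# Points of a homomorphism out of a group of multiplicative type over an affine open
-/

set_option autoImplicit false
set_option backward.isDefEq.respectTransparency.types false

universe u

open CategoryTheory CategoryTheory.Limits MonoidalCategory CartesianMonoidalCategory MonObj AlgebraicGeometry
open scoped TensorProduct
open WithConv

namespace Groth.Agent.MultHopf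

variable {S : Scheme.{u}}

/-- The scheme of an algebra, over `S`. -/
noncomputable abbrev ptS {R₀ : Type u} [CommRing R₀] (j : Spec (CommRingCat.of R₀) ⟶ S) (C : Type u)
    [CommRing C] [Algebra R₀ C] : Over S :=
  (Over.map j).obj (pt (R := R₀) C)

theorem map_eq_one_iff {U : Scheme.{u}} (g : U ⟶ S) {X Y : Over S} [GrpObj Y] (w : X ⟶ Y) :
    (Over.pullback g).map w = 1 ↔
      ∀ (T : Over S) (b : T.left ⟶ U), b ≫ g = T.hom → ∀ y : T ⟶ X, y ≫ w = 1 := by
  constructor
  · intro h T b hb y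
    let Z : Over U := Over.mk b
    let i : (Over.map g).obj Z ≅ T := Over.isoMk (Iso.refl _) (by simp [Z, hb])
    have h1 : adjMulEquiv g Z Y ((i.hom ≫ y) ≫ w) = 1 := by
      show (Over.mapPullbackAdj g).homEquiv Z Y ((i.hom ≫ y) ≫ w) = 1
      rw [Adjunction.homEquiv_naturality_right, h, MonObj.comp_one]
    have h2 : i.hom ≫ y ≫ w = 1 := (Category.assoc _ _ _).symm.trans ((MulEquiv.map_eq_one_iff _).1 h1)
    rw [← cancel_epi i.hom, h2, MonObj.comp_one]
  · intro h
    let Z := Red.bc g X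
    let y := ((Over.mapPullbackAdj g).homEquiv Z X).symm (𝟙 _)
    have h1 : adjMulEquiv g Z Y (y ≫ w) = 1 := by
      rw [h ((Over.map g).obj Z) Z.hom rfl y, map_one]
    change (Over.mapPullbackAdj g).homEquiv Z Y (y ≫ w) = 1 at h1
    rw [Adjunction.homEquiv_naturality_right, Equiv.apply_symm_apply, Category.id_comp] at h1
    exact h1

variable {R₀ : Type u} [CommRing R₀] (j : Spec (CommRingCat.of R₀) ⟶ S)

/-- Two maps agreeing on all affine pieces are equal. -/
theorem hom_ext_pieces {T Y : Over S} (b : T.left ⟶ Spec (CommRingCat.of R₀)) (hb : b ≫ j = T.hom) (z w : T ⟶ Y)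
    (h : ∀ (C : Type u) [CommRing C] [Algebra R₀ C] (ρ : ptS j C ⟶ T),
      ρ.left ≫ b = Spec.map (CommRingCat.ofHom (algebraMap R₀ C)) → ρ ≫ z = ρ ≫ w) : z = w := by
  refine Over.OverMorphism.ext (Scheme.Cover.hom_ext T.left.affineOpenCover.openCover _ _ fun i => ?_)
  let C : CommRingCat.{u} := T.left.affineOpenCover.X i
  let r : Spec C ⟶ T.left := T.left.affineOpenCover.f i
  let : Algebra R₀ C := (Spec.preimage (r ≫ b)).hom.toAlgebra
  have hc : Spec.map (CommRingCat.ofHom (algebraMap R₀ C)) = r ≫ b := Spec.map_preimage (r ≫ b)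
  let ρ : ptS j C ⟶ T := Over.homMk r
    (((congrArg (r ≫ ·) hb.symm).trans (Category.assoc _ _ _).symm).trans (congrArg (· ≫ j) hc.symm))
  exact congrArg (fun q : ptS j C ⟶ Y => q.left) (h C ρ hc.symm)

variable {H G : Over S} [GrpObj H] [GrpObj G] {A₀ : Type u} [CommRing A₀] [HopfAlgebra R₀ A₀]
  (eA : Grp.mk (Red.bc j H) ≅ Grp.mk (hspec R₀ A₀)) (u : H ⟶ G) [IsMonHom u]

/-- The restriction of a homomorphism to the affine open. -/
noncomputable def resHom : Grp.mk (hspec R₀ A₀) ⟶ Grp.mk (Red.bc j G) :=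
  eA.inv ≫ (Over.pullback j).mapGrp.map (Grp.homMk'' u : Grp.mk H ⟶ Grp.mk G)

/-- A point of the affine model, as a point of the group. -/
noncomputable def ptEquiv (C : Type u) [CommRing C] [Algebra R₀ C] :
    (ptS j C ⟶ H) ≃ WithConv (A₀ →ₐ[R₀] C) where
  toFun y := Spec.mapMulEquiv.symm (adjMulEquiv j _ H y ≫ eA.hom.hom.hom)
  invFun φ := (adjMulEquiv j _ H).symm (Spec.mapMulEquiv φ ≫ eA.inv.hom.hom)
  left_inv y := by
    beta_reduce
    rw [MulEquiv.apply_symm_apply, Category.assoc,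
      show eA.hom.hom.hom ≫ eA.inv.hom.hom = 𝟙 _ from congrArg (fun z => z.hom.hom) eA.hom_inv_id,
      Category.comp_id, MulEquiv.symm_apply_apply]
  right_inv φ := by
    beta_reduce
    rw [MulEquiv.apply_symm_apply, Category.assoc,
      show eA.inv.hom.hom ≫ eA.hom.hom.hom = 𝟙 _ from congrArg (fun z => z.hom.hom) eA.inv_hom_id,
      Category.comp_id, MulEquiv.symm_apply_apply]

theorem comp_eq_one_iff (J : Ideal A₀)
    (hiff : ∀ (C : Type u) [CommRing C] [Algebra R₀ C] (φ : WithConv (A₀ →ₐ[R₀] C)),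
      Spec.mapMulEquiv φ ≫ (resHom j eA u).hom.hom = 1 ↔ ∀ a ∈ J, φ.ofConv a = 0)
    (C : Type u) [CommRing C] [Algebra R₀ C] (y : ptS j C ⟶ H) :
    y ≫ u = 1 ↔ ∀ a ∈ J, (ptEquiv j eA C y).ofConv a = 0 := by
  rw [← hiff]
  show _ ↔ Spec.mapMulEquiv (Spec.mapMulEquiv.symm (adjMulEquiv j _ H y ≫ eA.hom.hom.hom)) ≫
    (resHom j eA u).hom.hom = 1
  rw [MulEquiv.apply_symm_apply, ← MulEquiv.map_eq_one_iff (adjMulEquiv j (pt (R := R₀) C) G), adjMulEquiv_comp]
  show _ ↔ (_ ≫ eA.hom.hom.hom) ≫ eA.inv.hom.hom ≫ (Over.pullback j).map u = 1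
  rw [Category.assoc, ← Category.assoc eA.hom.hom.hom,
    show eA.hom.hom.hom ≫ eA.inv.hom.hom = 𝟙 _ from congrArg (fun z => z.hom.hom) eA.hom_inv_id,
    Category.id_comp]

/-- The homomorphism is trivial over an algebra iff the kernel ideal vanishes there. -/
theorem map_eq_one_iff_ideal (J : Ideal A₀)
    (hiff : ∀ (C : Type u) [CommRing C] [Algebra R₀ C] (φ : WithConv (A₀ →ₐ[R₀] C)),
      Spec.mapMulEquiv φ ≫ (resHom j eA u).hom.hom = 1 ↔ ∀ a ∈ J, φ.ofConv a = 0)
    (K : Type u) [CommRing K] [Algebra R₀ K] :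
    (Over.pullback (Spec.map (CommRingCat.ofHom (algebraMap R₀ K)) ≫ j)).map u = 1 ↔
      ∀ a ∈ J, (1 : K) ⊗ₜ[R₀] a = (0 : K ⊗[R₀] A₀) := by
  rw [map_eq_one_iff]
  constructor
  · intro h
    let C : Type u := K ⊗[R₀] A₀
    let φ : WithConv (A₀ →ₐ[R₀] C) := toConv Algebra.TensorProduct.includeRight
    have h1 := h (ptS j C) (Spec.map (CommRingCat.ofHom (algebraMap K C)))
      (by
        show _ = Spec.map (CommRingCat.ofHom (algebraMap R₀ C)) ≫ j
        exact (Category.assoc _ _ _).symm.trans (congrArg (· ≫ j) ((Spec.map_comp _ _).symm.trans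
          (congrArg Spec.map (CommRingCat.hom_ext (IsScalarTower.algebraMap_eq R₀ K C).symm)))))
      ((ptEquiv j eA C).symm φ)
    rw [comp_eq_one_iff j eA u J hiff, Equiv.apply_symm_apply] at h1
    exact h1
  · intro hJ T b hb y
    refine hom_ext_pieces j (b ≫ Spec.map (CommRingCat.ofHom (algebraMap R₀ K))) (by rw [Category.assoc, hb]) _ _
      fun C _ _ ρ hρ => ?_
    rw [← Category.assoc, MonObj.comp_one, comp_eq_one_iff j eA u J hiff]
    intro a ha
    let t : Spec (CommRingCat.of C) ⟶ Spec (CommRingCat.of K) := ρ.left ≫ b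
    let g : K →+* C := (Spec.preimage t).hom
    have hg : g.comp (algebraMap R₀ K) = algebraMap R₀ C := by
      apply congrArg CommRingCat.Hom.hom (a₁ := CommRingCat.ofHom (algebraMap R₀ K) ≫ Spec.preimage t)
        (a₂ := CommRingCat.ofHom (algebraMap R₀ C))
      apply Spec.map_injective
      rw [Spec.map_comp, Spec.map_preimage, ← hρ]
      exact Category.assoc _ _ _
    let gA : K →ₐ[R₀] C := { g with commutes' := RingHom.congr_fun hg }
    let L : K ⊗[R₀] A₀ →ₐ[R₀] C := Algebra.TensorProduct.lift gA (ptEquiv j eA C (ρ ≫ y)).ofConv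
      (fun _ _ => Commute.all _ _)
    have h1 := congrArg L (hJ a ha)
    simpa [L] using h1

/-- Vanishing in a field does not depend on the field. -/
theorem tmul_eq_zero_iff_of_field (K L : Type u) [Field K] [Field L] [Algebra R₀ K] [Algebra R₀ L] [Algebra K L]
    [IsScalarTower R₀ K L] (a : A₀) : (1 : K) ⊗ₜ[R₀] a = 0 ↔ (1 : L) ⊗ₜ[R₀] a = 0 := by
  let e := TensorProduct.AlgebraTensorModule.cancelBaseChange R₀ K L L A₀
  rw [← (Module.FaithfullyFlat.tensorProduct_mk_injective (A := K) (B := L) (K ⊗[R₀] A₀)).eq_iff, map_zero,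
    ← e.injective.eq_iff, map_zero]
  simp [e]

section bc

variable {R : Type u} [CommRing R] [Algebra R₀ R]

/-- The model over a base change. -/
noncomputable def bcModel : Grp.mk (Red.bc (Spec.map (CommRingCat.ofHom (algebraMap R₀ R)) ≫ j) H) ≅
    Grp.mk (hspec R (R ⊗[R₀] A₀)) :=
  bcComp _ j H ≪≫ bcIso _ eA ≪≫ bcSpec R₀ R A₀

/-- The same affine scheme over two bases. -/
noncomputable def ptSIso (gR : Spec (CommRingCat.of R) ⟶ Spec (CommRingCat.of R₀)) (C : Type u) [CommRing C]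
    [Algebra R C] [Algebra R₀ C]
    (h : Spec.map (CommRingCat.ofHom (algebraMap R₀ C)) ≫ j = Spec.map (CommRingCat.ofHom (algebraMap R C)) ≫ gR ≫ j) :
    ptS j C ≅ ptS (gR ≫ j) C :=
  Over.isoMk (Iso.refl (Spec (CommRingCat.of C))) ((Category.id_comp _).trans h.symm)

set_option backward.isDefEq.respectTransparency false in
theorem adj_left_fst {V W : Scheme.{u}} (g : V ⟶ W) {Z : Over V} {X : Over W} [GrpObj X]
    (a : (Over.map g).obj Z ⟶ X) : (adjMulEquiv g Z X a).left ≫ pullback.fst X.hom g = a.left := by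
  show ((Over.mapPullbackAdj g).homEquiv Z X a).left ≫ _ = _
  simp [Adjunction.homEquiv_unit]
  exact Category.id_comp _

theorem adj_left_snd {V W : Scheme.{u}} (g : V ⟶ W) {Z : Over V} {X : Over W} [GrpObj X]
    (a : (Over.map g).obj Z ⟶ X) : (adjMulEquiv g Z X a).left ≫ pullback.snd X.hom g = Z.hom :=
  Over.w (adjMulEquiv g Z X a)

/-- Points of an iterated base change. -/
theorem adj_pullbackComp {U T V : Scheme.{u}} (g : U ⟶ T) (f : T ⟶ V) (X : Over V) [GrpObj X] {W : Scheme.{u}}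
    (a : W ⟶ U) (q : W ⟶ T) (hq : a ≫ g = q) (y : (Over.map (g ≫ f)).obj (Over.mk a) ⟶ X)
    (y₀ : (Over.map f).obj (Over.mk q) ⟶ X) (hy : y₀.left = y.left) :
    (adjMulEquiv (g ≫ f) (Over.mk a) X y).left ≫ ((Over.pullbackComp g f).hom.app X).left ≫
      pullback.fst (pullback.snd X.hom f) g = (adjMulEquiv f (Over.mk q) X y₀).left := by
  apply pullback.hom_ext
  · rw [Category.assoc, Category.assoc, adj_left_fst, hy, ← adj_left_fst (g ≫ f) y]
    exact congrArg _ (pullbackComp_hom_left_fst g f X)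
  · rw [Category.assoc, Category.assoc, adj_left_snd, pullback.condition]
    have hw : ((Over.pullbackComp g f).hom.app X).left ≫ pullback.snd (pullback.snd X.hom f) g =
        pullback.snd X.hom (g ≫ f) := Over.w ((Over.pullbackComp g f).hom.app X)
    rw [← Category.assoc ((Over.pullbackComp g f).hom.app X).left, hw, ← Category.assoc, adj_left_snd]
    exact hq

theorem bcModel_hom_left_include :
    (bcModel (R := R) j eA).hom.hom.hom.left ≫
      Spec.map (CommRingCat.ofHom (Algebra.TensorProduct.includeRight : A₀ →ₐ[R₀] R ⊗[R₀] A₀).toRingHom) =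
    ((Over.pullbackComp (Spec.map (CommRingCat.ofHom (algebraMap R₀ R))) j).hom.app H).left ≫
      pullback.fst (Red.bc j H).hom (Spec.map (CommRingCat.ofHom (algebraMap R₀ R))) ≫ eA.hom.hom.hom.left := by
      let gR := Spec.map (CommRingCat.ofHom (algebraMap R₀ R))
      let pc := (Over.pullbackComp gR j).hom.app H
      let i' := pullbackSymmetry (Spec (CommRingCat.of A₀) ↘ Spec (CommRingCat.of R₀))
        (Spec (CommRingCat.of R) ↘ Spec (CommRingCat.of R₀)) ≪≫ pullbackSpecIso' R₀ R A₀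
      have e1 : (bcModel (R := R) j eA).hom.hom.hom.left = (pc.left ≫ 𝟙 _) ≫ ((Over.pullback gR).map eA.hom.hom.hom).left ≫ i'.hom :=
        Category.assoc _ _ _
      have e2 : i'.hom ≫ Spec.map (CommRingCat.ofHom (Algebra.TensorProduct.includeRight : A₀ →ₐ[R₀] R ⊗[R₀] A₀).toRingHom) =
          pullback.fst (Spec (CommRingCat.of A₀) ↘ Spec (CommRingCat.of R₀)) (Spec (CommRingCat.of R) ↘ Spec (CommRingCat.of R₀)) := by
        refine (Category.assoc _ _ _).trans ?_
        refine (congrArg ((pullbackSymmetry _ _).hom ≫ ·) (pullbackSpecIso_hom_snd R₀ R A₀)).trans ?_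
        exact pullbackSymmetry_hom_comp_snd _ _
      have e3 : ((Over.pullback gR).map eA.hom.hom.hom).left ≫
          pullback.fst (Spec (CommRingCat.of A₀) ↘ Spec (CommRingCat.of R₀)) gR =
          pullback.fst (Red.bc j H).hom gR ≫ eA.hom.hom.hom.left := pullback.lift_fst _ _ _
      calc _ = (pc.left ≫ 𝟙 _) ≫ ((Over.pullback gR).map eA.hom.hom.hom).left ≫ i'.hom ≫
            Spec.map (CommRingCat.ofHom (Algebra.TensorProduct.includeRight : A₀ →ₐ[R₀] R ⊗[R₀] A₀).toRingHom) := by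
            rw [e1]; exact (Category.assoc _ _ _).trans (congrArg _ (Category.assoc _ _ _))
        _ = _ := by
            refine (congrArg (fun k => (pc.left ≫ 𝟙 _) ≫ ((Over.pullback gR).map eA.hom.hom.hom).left ≫ k) e2).trans ?_
            refine (congrArg (· ≫ _) (Category.comp_id pc.left)).trans ?_
            exact congrArg (pc.left ≫ ·) e3

/-- The kernel ideal after base change: contained in the extension, and killing it suffices. -/
theorem ker_ideal_baseChange (J : Ideal A₀)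
    (hiff : ∀ (C : Type u) [CommRing C] [Algebra R₀ C] (φ : WithConv (A₀ →ₐ[R₀] C)),
      Spec.mapMulEquiv φ ≫ (resHom j eA u).hom.hom = 1 ↔ ∀ a ∈ J, φ.ofConv a = 0)
    (C : Type u) [CommRing C] [Algebra R C] (φ : WithConv (R ⊗[R₀] A₀ →ₐ[R] C)) :
    Spec.mapMulEquiv φ ≫ (resHom (Spec.map (CommRingCat.ofHom (algebraMap R₀ R)) ≫ j) (bcModel j eA) u).hom.hom = 1 ↔
      ∀ x ∈ J.map (Algebra.TensorProduct.includeRight : A₀ →ₐ[R₀] R ⊗[R₀] A₀), φ.ofConv x = 0 := by
  let gR := Spec.map (CommRingCat.ofHom (algebraMap R₀ R))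
  let eR := bcModel (R := R) j eA
  have hsur : ∀ ψ : WithConv (R ⊗[R₀] A₀ →ₐ[R] C), ∃ y, ptEquiv (gR ≫ j) eR C y = ψ :=
    fun ψ => ⟨_, Equiv.apply_symm_apply _ ψ⟩
  obtain ⟨y, rfl⟩ := hsur φ
  show Spec.mapMulEquiv (Spec.mapMulEquiv.symm (adjMulEquiv (gR ≫ j) _ H y ≫ eR.hom.hom.hom)) ≫ _ = 1 ↔ _
  rw [MulEquiv.apply_symm_apply]
  have e1 : (adjMulEquiv (gR ≫ j) _ H y ≫ eR.hom.hom.hom) ≫ (resHom (gR ≫ j) eR u).hom.hom =
      adjMulEquiv (gR ≫ j) _ G (y ≫ u) := by
    rw [adjMulEquiv_comp]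
    show (_ ≫ eR.hom.hom.hom) ≫ eR.inv.hom.hom ≫ (Over.pullback (gR ≫ j)).map u = _
    rw [Category.assoc, ← Category.assoc eR.hom.hom.hom,
      show eR.hom.hom.hom ≫ eR.inv.hom.hom = 𝟙 _ from congrArg (fun z => z.hom.hom) eR.hom_inv_id,
      Category.id_comp]
  rw [e1, MulEquiv.map_eq_one_iff]
  let : Algebra R₀ C := ((algebraMap R C).comp (algebraMap R₀ R)).toAlgebra
  have : IsScalarTower R₀ R C := IsScalarTower.of_algebraMap_eq fun _ => rfl
  have hT : Spec.map (CommRingCat.ofHom (algebraMap R₀ C)) ≫ j =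
      Spec.map (CommRingCat.ofHom (algebraMap R C)) ≫ gR ≫ j := by
    rw [← Category.assoc, ← Spec.map_comp]
    rfl
  let i : ptS j C ≅ ptS (gR ≫ j) C := ptSIso j gR C hT
  have key : (ptEquiv j eA C (i.hom ≫ y)).ofConv =
      ((ptEquiv (gR ≫ j) eR C y).ofConv.restrictScalars R₀).comp Algebra.TensorProduct.includeRight := by
    let ψ := ptEquiv (gR ≫ j) eR C y
    let φ₀ := ptEquiv j eA C (i.hom ≫ y)
    have hψ : Spec.mapMulEquiv ψ = adjMulEquiv (gR ≫ j) (pt (R := R) C) H y ≫ eR.hom.hom.hom :=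
      MulEquiv.apply_symm_apply _ _
    have hφ₀ : Spec.mapMulEquiv φ₀ = adjMulEquiv j (pt (R := R₀) C) H (i.hom ≫ y) ≫ eA.hom.hom.hom :=
      MulEquiv.apply_symm_apply _ _
    have h1 : Spec.map (CommRingCat.ofHom ψ.ofConv.toRingHom) ≫
        Spec.map (CommRingCat.ofHom (Algebra.TensorProduct.includeRight : A₀ →ₐ[R₀] R ⊗[R₀] A₀).toRingHom) =
        Spec.map (CommRingCat.ofHom φ₀.ofConv.toRingHom) := by
      have l1 : Spec.map (CommRingCat.ofHom ψ.ofConv.toRingHom) =
          (adjMulEquiv (gR ≫ j) (pt (R := R) C) H y).left ≫ eR.hom.hom.hom.left :=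
        congrArg (fun q : pt (R := R) C ⟶ hspec R (R ⊗[R₀] A₀) => q.left) hψ
      have l2 : Spec.map (CommRingCat.ofHom φ₀.ofConv.toRingHom) =
          (adjMulEquiv j (pt (R := R₀) C) H (i.hom ≫ y)).left ≫ eA.hom.hom.hom.left :=
        congrArg (fun q : pt (R := R₀) C ⟶ hspec R₀ A₀ => q.left) hφ₀
      have hq : Spec.map (CommRingCat.ofHom (algebraMap R C)) ≫ gR =
          Spec.map (CommRingCat.ofHom (algebraMap R₀ C)) := by
        rw [← Spec.map_comp]
        rfl
      have hz := adj_pullbackComp gR j H (Spec.map (CommRingCat.ofHom (algebraMap R C)))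
        (Spec.map (CommRingCat.ofHom (algebraMap R₀ C))) hq y (i.hom ≫ y) (Category.id_comp _)
      rw [l1, l2]
      refine (Category.assoc _ _ _).trans ((congrArg _ (bcModel_hom_left_include j eA)).trans ?_)
      refine (Eq.trans ?_ (congrArg (· ≫ eA.hom.hom.hom.left) hz))
      exact (congrArg _ (Category.assoc _ _ _).symm).trans (Category.assoc _ _ _).symm
    rw [← Spec.map_comp] at h1
    exact AlgHom.coe_ringHom_injective (congrArg CommRingCat.Hom.hom (Spec.map_injective h1)).symm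
  rw [← cancel_epi i.hom, MonObj.comp_one, ← Category.assoc, comp_eq_one_iff j eA u J hiff, key]
  constructor
  · intro h x hx
    suffices J.map (Algebra.TensorProduct.includeRight : A₀ →ₐ[R₀] R ⊗[R₀] A₀) ≤
        RingHom.ker (ptEquiv (gR ≫ j) eR C y).ofConv from this hx
    rw [Ideal.map_le_iff_le_comap]
    exact fun a ha => h a ha
  · exact fun h a ha => h _ (Ideal.mem_map_of_mem _ ha)

end bc

end Groth.Agent.MultHopf
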