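import Groth.Agent.MultHopf.PointLift
import Groth.Agent.MultHopf.Locus

/-!
# Applying a homomorphism over a closed subscheme of the base to points
-/

set_option autoImplicit false
set_option backward.isDefEq.respectTransparency.types false

universe u

open CategoryTheory CategoryTheory.Limits MonoidalCategory CartesianMonoidalCategory MonObj AlgebraicGeometry
open scoped TensorProduct
open WithConv

namespace Groth.Agent.MultHopf

variable {R : Type u} [CommRing R] (J : Ideal R)

/-- The closed immersion of the closed subscheme of an ideal. -/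
noncomputable abbrev jcl : Spec (CommRingCat.of (R ⧸ J)) ⟶ Spec (CommRingCat.of R) :=
  Spec.map (CommRingCat.ofHom (Ideal.Quotient.mk J))

theorem toCl_ext {X : Over (Spec (CommRingCat.of R))} (a b : X ⟶ cl J) : a = b := by
  have : Mono (jcl J) := by
    have : IsClosedImmersion (jcl J) := IsClosedImmersion.spec_of_surjective (CommRingCat.ofHom (Ideal.Quotient.mk J))
      Ideal.Quotient.mk_surjective
    infer_instance
  exact Over.OverMorphism.ext ((cancel_mono (jcl J)).1 ((Over.w a).trans (Over.w b).symm))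

variable {J} {H G : Over (Spec (CommRingCat.of R))} [GrpObj H] [GrpObj G]

/-- An object over the closed subscheme, seen over the base. -/
noncomputable def overIso {T : Over (Spec (CommRingCat.of R))} (p : T ⟶ cl J) :
    T ≅ (Over.map (jcl J)).obj (Over.mk p.left) :=
  Over.isoMk (Iso.refl _) ((Category.id_comp _).trans (Over.w p))

/-- A homomorphism over the closed subscheme applied to points lying over it. -/
noncomputable def appHom (f₀ : Red.bc (jcl J) H ⟶ Red.bc (jcl J) G) {T : Over (Spec (CommRingCat.of R))}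
    (p : T ⟶ cl J) (h : T ⟶ H) : T ⟶ G :=
  (overIso p).hom ≫ (adjMulEquiv (jcl J) _ G).symm (adjMulEquiv (jcl J) _ H ((overIso p).inv ≫ h) ≫ f₀)

theorem appHom_mul (f₀ : Red.bc (jcl J) H ⟶ Red.bc (jcl J) G) [IsMonHom f₀] {T : Over (Spec (CommRingCat.of R))}
    (p : T ⟶ cl J) (h h' : T ⟶ H) : appHom f₀ p (h * h') = appHom f₀ p h * appHom f₀ p h' := by
  simp only [appHom, MonObj.comp_mul, map_mul, MonObj.mul_comp]

theorem appHom_left (f₀ : Red.bc (jcl J) H ⟶ Red.bc (jcl J) G) {T : Over (Spec (CommRingCat.of R))}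
    (p : T ⟶ cl J) (h : T ⟶ H) :
    (appHom f₀ p h).left = pullback.lift h.left p.left ((Over.w h).trans (Over.w p).symm) ≫ f₀.left ≫
      pullback.fst G.hom (jcl J) := by
  set y := adjMulEquiv (jcl J) (Over.mk p.left) H ((overIso p).inv ≫ h) ≫ f₀ with hy
  have h1 : ((adjMulEquiv (jcl J) (Over.mk p.left) G).symm y).left = y.left ≫ pullback.fst G.hom (jcl J) := by
    conv_rhs => rw [← MulEquiv.apply_symm_apply (adjMulEquiv (jcl J) (Over.mk p.left) G) y]
    exact (adj_left_fst (jcl J) _).symm
  have h2 : (adjMulEquiv (jcl J) (Over.mk p.left) H ((overIso p).inv ≫ h)).left =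
      pullback.lift h.left p.left ((Over.w h).trans (Over.w p).symm) := by
    apply pullback.hom_ext
    · exact ((adj_left_fst (jcl J) _).trans (Category.id_comp _)).trans (pullback.lift_fst _ _ _).symm
    · exact (adj_left_snd (jcl J) _).trans (pullback.lift_snd _ _ _).symm
  show 𝟙 T.left ≫ ((adjMulEquiv (jcl J) (Over.mk p.left) G).symm y).left = _
  rw [h1, hy]
  refine (Category.id_comp _).trans ?_
  refine Eq.trans (Category.assoc _ _ _) ?_
  exact congrArg (fun k => k ≫ f₀.left ≫ pullback.fst G.hom (jcl J)) h2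

theorem comp_appHom (f₀ : Red.bc (jcl J) H ⟶ Red.bc (jcl J) G) {T T' : Over (Spec (CommRingCat.of R))}
    (k : T' ⟶ T) (p : T ⟶ cl J) (h : T ⟶ H) : k ≫ appHom f₀ p h = appHom f₀ (k ≫ p) (k ≫ h) := by
  apply Over.OverMorphism.ext
  show k.left ≫ (appHom f₀ p h).left = _
  rw [appHom_left, appHom_left, ← Category.assoc]
  congr 1
  apply pullback.hom_ext
  · rw [Category.assoc, pullback.lift_fst, pullback.lift_fst]; rfl
  · rw [Category.assoc, pullback.lift_snd, pullback.lift_snd]; rfl

variable {A : Type u} [CommRing A] [HopfAlgebra R A]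

/-- The point over the reduction defined by a homomorphism over the closed subscheme. -/
noncomputable def redPt (f₀ : Red.bc (jcl J) (hspec R A) ⟶ Red.bc (jcl J) G) : pt (R := R) (Bar J A) ⟶ G :=
  appHom f₀ (toCl J A) (ptMap (Ideal.Quotient.mkₐ R (J.map (algebraMap R A))))

theorem compatiblePt_redPt (f₀ : Red.bc (jcl J) (hspec R A) ⟶ Red.bc (jcl J) G) [IsMonHom f₀] :
    CompatiblePt J (redPt f₀) := by
  have hid : ∀ (T : Type u) [CommRing T] [Algebra R T] (f : A →ₐ[R] T),
      ptMap f = Spec.mapMulEquiv (toConv f) := fun T _ _ f => rfl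
  show _ = _
  simp only [redPt, comp_appHom]
  rw [toCl_ext J (ptMap (bar J (Bialgebra.comulAlgHom R A)) ≫ toCl J A) (toCl J (A ⊗[R] A)),
    toCl_ext J (ptMap (bar J (i₁ (R := R) (A := A))) ≫ toCl J A) (toCl J (A ⊗[R] A)),
    toCl_ext J (ptMap (bar J (i₂ (R := R) (A := A))) ≫ toCl J A) (toCl J (A ⊗[R] A)), ← appHom_mul]
  congr 1
  simp only [← ptMap_comp, ptMap_mk_bar]
  simp only [ptMap_comp]
  rw [hid _ (Bialgebra.comulAlgHom R A), comul_eq_convMul, map_mul, MonObj.comp_mul, ← hid, ← hid]

theorem map_eq_of_redPt (f₀ : Red.bc (jcl J) (hspec R A) ⟶ Red.bc (jcl J) G) (u : hspec R A ⟶ G)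
    (hu : ptMap (Ideal.Quotient.mkₐ R (J.map (algebraMap R A))) ≫ u = redPt f₀) :
    (Over.pullback (jcl J)).map u = f₀ := by
  let P := Red.bc (jcl J) (hspec R A)
  let T : Over (Spec (CommRingCat.of R)) := (Over.map (jcl J)).obj P
  let h : T ⟶ hspec R A := Over.homMk (pullback.fst _ _) pullback.condition
  let p : T ⟶ cl J := Over.homMk (pullback.snd _ _) rfl
  let ε : Bar J A ≃ₐ[R] (R ⧸ J) ⊗[R] A := (Algebra.TensorProduct.quotIdealMapEquivQuotTensor A J).restrictScalars R
  let w₀ : P.left ⟶ Spec (CommRingCat.of (Bar J A)) :=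
    ((pullbackSymmetry _ _).hom ≫ (pullbackSpecIso' R (R ⧸ J) A).hom) ≫ Spec.map (CommRingCat.ofHom ε.toAlgHom.toRingHom)
  have hw₀ : w₀ ≫ Spec.map (CommRingCat.ofHom (Ideal.Quotient.mk (J.map (algebraMap R A)))) = pullback.fst _ _ := by
    simp only [w₀, Category.assoc, ← Spec.map_comp, ← CommRingCat.ofHom_comp]
    rw [show ε.toAlgHom.toRingHom.comp (Ideal.Quotient.mk (J.map (algebraMap R A))) =
      (Algebra.TensorProduct.includeRight : A →ₐ[R] (R ⧸ J) ⊗[R] A).toRingHom from
      RingHom.ext fun a => Algebra.TensorProduct.quotIdealMapEquivQuotTensor_mk A J a]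
    refine (congrArg ((pullbackSymmetry _ _).hom ≫ ·) (pullbackSpecIso_hom_snd R (R ⧸ J) A)).trans ?_
    exact pullbackSymmetry_hom_comp_snd _ _
  let w : T ⟶ pt (R := R) (Bar J A) := Over.homMk w₀ (by
    show w₀ ≫ Spec.map (CommRingCat.ofHom (algebraMap R (Bar J A))) = pullback.snd _ _ ≫ jcl J
    rw [show CommRingCat.ofHom (algebraMap R (Bar J A)) = CommRingCat.ofHom (algebraMap R A) ≫
        CommRingCat.ofHom (Ideal.Quotient.mk (J.map (algebraMap R A))) from rfl, Spec.map_comp, ← Category.assoc, hw₀]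
    exact pullback.condition)
  have hwh : w ≫ ptMap (Ideal.Quotient.mkₐ R (J.map (algebraMap R A))) = h := Over.OverMorphism.ext hw₀
  have key : h ≫ u = appHom f₀ p h := by
    rw [← hwh, Category.assoc, hu, redPt, comp_appHom, toCl_ext J (w ≫ toCl J A) p, hwh]
  apply Over.OverMorphism.ext
  apply pullback.hom_ext
  · have := congrArg CommaMorphism.left key
    rw [show CommaMorphism.left (appHom f₀ p h) = (appHom f₀ p h).left from rfl, appHom_left] at this
    refine (pullback.lift_fst _ _ _).trans (Eq.trans this ?_)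
    rw [show pullback.lift h.left p.left ((Over.w h).trans (Over.w p).symm) = 𝟙 _ from
      pullback.hom_ext ((pullback.lift_fst _ _ _).trans (Category.id_comp _).symm)
        ((pullback.lift_snd _ _ _).trans (Category.id_comp _).symm)]
    exact Category.id_comp _
  · exact (Over.w ((Over.pullback (jcl J)).map u)).trans (Over.w f₀).symm

/-- Homomorphisms over a closed subscheme defined by a nilpotent ideal lift. -/
theorem exists_lift_hom {l : A →ₗ[R] R} (hl : IsIntegral l) (hG : Smooth G.hom) (hJ : IsNilpotent J)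
    (f₀ : Red.bc (jcl J) (hspec R A) ⟶ Red.bc (jcl J) G) [IsMonHom f₀] :
    ∃ f : hspec R A ⟶ G, IsMonHom f ∧ (Over.pullback (jcl J)).map f = f₀ := by
  obtain ⟨u, hu, hur⟩ := exists_lift_homPt hl hG J hJ (redPt f₀) (compatiblePt_redPt f₀)
  exact ⟨u, isMonHom_of_isHomPt u hu, map_eq_of_redPt f₀ u hur⟩

end Groth.Agent.MultHopf
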