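import Groth.Agent.MultHopf.HomDescent
import Groth.Agent.MultHopf.BcHom

/-!
# Lifting homomorphisms and conjugacy of subgroups of multiplicative type
-/

set_option autoImplicit false
set_option backward.isDefEq.respectTransparency.types false

universe u

open CategoryTheory CategoryTheory.Limits MonoidalCategory CartesianMonoidalCategory MonObj AlgebraicGeometry
open scoped TensorProduct
open WithConv Coalgebra

namespace Groth.Agent.MultHopf

open Groth.Agent.FinHopf (postComp)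

variable {R : Type u} [CommRing R] {J : Ideal R}

/-- Congruent homomorphisms between groups of multiplicative type are equal. -/
theorem eq_of_congr_multType (hJ : ∀ x ∈ J, IsNilpotent x) {A : Type u} [CommRing A] [HopfAlgebra R A] {A' : Type u} [CommRing A']
    [HopfAlgebra R A'] (F : FamFF R) (hA : Splits A F) (hA' : Splits A' F) (φ ψ : A' →ₐc[R] A)
    (h : ∀ a, φ a - ψ a ∈ J.map (algebraMap R A)) : φ = ψ := by
  refine DFunLike.ext _ _ fun a => sub_eq_zero.1 (F.eq_zero _ fun k => ?_)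
  obtain ⟨M, _, ⟨e⟩⟩ := hA k
  obtain ⟨M', _, ⟨e'⟩⟩ := hA' k
  let P := Bialgebra.TensorProduct.map (BialgHom.id (F.S k) (F.S k)) φ
  let Q := Bialgebra.TensorProduct.map (BialgHom.id (F.S k) (F.S k)) ψ
  have hPQ : P = Q := eq_of_congr_diag hJ e e' P Q fun a => by
    have h1 := map_mem_of_linear (TensorProduct.mk R (F.S k) A 1) J (h a)
    simpa [P, Q, TensorProduct.tmul_sub] using h1
  rw [TensorProduct.tmul_sub, sub_eq_zero]
  have h2 := DFunLike.congr_fun hPQ ((1 : F.S k) ⊗ₜ[R] a)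
  simpa [P, Q] using h2

variable {H K G : Over (Spec (CommRingCat.of R))} [GrpObj H] [GrpObj K] [GrpObj G]

/-- The universal point over the closed subscheme. -/
noncomputable abbrev clPt (J : Ideal R) (H : Over (Spec (CommRingCat.of R))) :
    Over (Spec (CommRingCat.of R)) :=
  (Over.map (jcl J)).obj (Red.bc (jcl J) H)

theorem comp_eq_of_map_eq {u v : H ⟶ G} (h : (Over.pullback (jcl J)).map u = (Over.pullback (jcl J)).map v)
    {T : Over (Spec (CommRingCat.of R))} (p : T ⟶ cl J) (y : T ⟶ H) : y ≫ u = y ≫ v := by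
  apply Over.OverMorphism.ext
  have key : ∀ w : H ⟶ G, (y ≫ w).left = pullback.lift y.left p.left ((Over.w y).trans (Over.w p).symm) ≫
      ((Over.pullback (jcl J)).map w).left ≫ pullback.fst G.hom (jcl J) := fun w => by
    show y.left ≫ w.left = _
    rw [show ((Over.pullback (jcl J)).map w).left ≫ pullback.fst G.hom (jcl J) = pullback.fst H.hom (jcl J) ≫ w.left from
      pullback.lift_fst _ _ _, ← Category.assoc]
    exact congrArg (· ≫ w.left) (pullback.lift_fst _ _ _).symm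
  show (y ≫ u).left = (y ≫ v).left
  rw [key u, key v, h]

theorem map_eq_of_comp_eq {u v : H ⟶ G}
    (h : ∀ (T : Over (Spec (CommRingCat.of R))) (_ : T ⟶ cl J) (y : T ⟶ H), y ≫ u = y ≫ v) :
    (Over.pullback (jcl J)).map u = (Over.pullback (jcl J)).map v := by
  have h1 := h (clPt J H) (Over.homMk (pullback.snd _ _) rfl) (Over.homMk (pullback.fst _ _) pullback.condition)
  apply Over.OverMorphism.ext
  apply pullback.hom_ext
  · exact ((pullback.lift_fst _ _ _).trans (congrArg CommaMorphism.left h1)).trans (pullback.lift_fst _ _ _).symm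
  · exact (Over.w ((Over.pullback (jcl J)).map u)).trans (Over.w ((Over.pullback (jcl J)).map v)).symm

theorem exists_lift_hom_multTypeLoc (hJ : IsNilpotent J) (hH : IsMultTypeLoc H) (hK : IsMultTypeLoc K)
    (f₀ : Red.bc (jcl J) H ⟶ Red.bc (jcl J) K) [IsMonHom f₀] :
    ∃ f : H ⟶ K, IsMonHom f ∧ (Over.pullback (jcl J)).map f = f₀ := by
  have := isAffineHom_of_isMultTypeLoc H hH
  have := isAffineHom_of_isMultTypeLoc K hK
  obtain ⟨A, _, _, ⟨eA⟩⟩ := exists_hopf R H
  obtain ⟨A', _, _, ⟨eK⟩⟩ := exists_hopf R K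
  obtain ⟨F, hF⟩ := exists_splits H hH eA
  obtain ⟨F', hF'⟩ := exists_splits K hK eK
  let iH : hspec R A ⟶ H := eA.inv.hom.hom
  let iK : K ⟶ hspec R A' := eK.hom.hom.hom
  have : IsMonHom iH := eA.inv.hom.isMonHom_hom
  have : IsMonHom iK := eK.hom.hom.isMonHom_hom
  have : IsMonHom eA.hom.hom.hom := eA.hom.hom.isMonHom_hom
  have : IsMonHom eK.inv.hom.hom := eK.inv.hom.isMonHom_hom
  let f₁ := (Over.pullback (jcl J)).map iH ≫ f₀ ≫ (Over.pullback (jcl J)).map iK
  let u₀ : WithConv (A' →ₐ[R] Bar J A) := Spec.mapMulEquiv.symm (redPt f₁)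
  have hu₀ : Compatible J u₀ := by
    apply Spec.mapMulEquiv.injective
    have h : ∀ {X Y : Type u} [CommRing X] [Algebra R X] [CommRing Y] [Algebra R Y] (φ : X →ₐ[R] Y)
        (w : WithConv (A' →ₐ[R] X)), Spec.mapMulEquiv (postComp φ w) = ptMap φ ≫ Spec.mapMulEquiv w :=
      fun φ w => (ptMap_comp_mapMulEquiv φ w).symm
    rw [map_mul, h, h, h, MulEquiv.apply_symm_apply]
    exact compatiblePt_redPt f₁
  obtain ⟨φ, hφ⟩ := exists_lift_hom_multType (fun _ hx => isNilpotent_of_mem hJ hx) (F.prod F') (hF.prod_left F') (hF'.prod_right F) u₀ hu₀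
  let f' : hspec R A ⟶ hspec R A' := Spec.mapMulEquiv (toConv (φ : A' →ₐ[R] A))
  have hf' : IsMonHom f' := isMonHom_of_isHomPt f' (by
    show _ = _
    rw [ptMap_comp_mapMulEquiv, ptMap_comp_mapMulEquiv, ptMap_comp_mapMulEquiv, ← map_mul]
    exact congrArg Spec.mapMulEquiv (hom_eq φ))
  have hf'r : (Over.pullback (jcl J)).map f' = f₁ := map_eq_of_redPt f₁ f' (by
    rw [ptMap_comp_mapMulEquiv, show redPt f₁ = Spec.mapMulEquiv u₀ from (MulEquiv.apply_symm_apply _ _).symm]
    congr 1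
    exact WithConv.ofConv_injective (AlgHom.ext fun a => hφ a))
  refine ⟨eA.hom.hom.hom ≫ f' ≫ eK.inv.hom.hom, inferInstance, ?_⟩
  rw [Functor.map_comp, Functor.map_comp, hf'r]
  simp only [f₁, Category.assoc]
  rw [← Functor.map_comp, ← Category.assoc, ← Functor.map_comp,
    show eA.hom.hom.hom ≫ iH = 𝟙 _ from congrArg (fun z => z.hom.hom) eA.hom_inv_id,
    show iK ≫ eK.inv.hom.hom = 𝟙 _ from congrArg (fun z => z.hom.hom) eK.hom_inv_id]
  simp

theorem hom_ext_multTypeLoc (hJ : IsNilpotent J) (hH : IsMultTypeLoc H) (hK : IsMultTypeLoc K)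
    (f f' : H ⟶ K) [IsMonHom f] [IsMonHom f'] (h : (Over.pullback (jcl J)).map f = (Over.pullback (jcl J)).map f') :
    f = f' := by
  have := isAffineHom_of_isMultTypeLoc H hH
  have := isAffineHom_of_isMultTypeLoc K hK
  obtain ⟨A, _, _, ⟨eA⟩⟩ := exists_hopf R H
  obtain ⟨A', _, _, ⟨eK⟩⟩ := exists_hopf R K
  obtain ⟨F, hF⟩ := exists_splits H hH eA
  obtain ⟨F', hF'⟩ := exists_splits K hK eK
  let iH : hspec R A ⟶ H := eA.inv.hom.hom
  let iK : K ⟶ hspec R A' := eK.hom.hom.hom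
  have : IsMonHom iH := eA.inv.hom.isMonHom_hom
  have : IsMonHom iK := eK.hom.hom.isMonHom_hom
  have key : ∀ (g : H ⟶ K) [IsMonHom g], ∃ φ : A' →ₐc[R] A, iH ≫ g ≫ iK = Spec.mapMulEquiv (toConv (φ : A' →ₐ[R] A)) := by
    intro g _
    let w : WithConv (A' →ₐ[R] A) := Spec.mapMulEquiv.symm (iH ≫ g ≫ iK)
    obtain ⟨φ, hφ⟩ := exists_bialgHom w (by
      apply Spec.mapMulEquiv.injective
      have h : ∀ {X Y : Type u} [CommRing X] [Algebra R X] [CommRing Y] [Algebra R Y] (ψ : X →ₐ[R] Y)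
          (z : WithConv (A' →ₐ[R] X)), Spec.mapMulEquiv (postComp ψ z) = ptMap ψ ≫ Spec.mapMulEquiv z :=
        fun ψ z => (ptMap_comp_mapMulEquiv ψ z).symm
      rw [map_mul, h, h, h, MulEquiv.apply_symm_apply]
      exact isHomPt_of_isMonHom (iH ≫ g ≫ iK))
    refine ⟨φ, ?_⟩
    rw [show (φ : A' →ₐ[R] A) = w.ofConv from AlgHom.ext hφ, toConv_ofConv, MulEquiv.apply_symm_apply]
  obtain ⟨φ, hφ⟩ := key f
  obtain ⟨φ', hφ'⟩ := key f'
  have e : φ = φ' := by
    refine eq_of_congr_multType (fun _ hx => isNilpotent_of_mem hJ hx) (F.prod F') (hF.prod_left F') (hF'.prod_right F) φ φ' fun a => Ideal.Quotient.eq.1 ?_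
    have h1 := congrArg (· ≫ iK) (comp_eq_of_map_eq h (toCl J A) (ptMap (Ideal.Quotient.mkₐ R (J.map (algebraMap R A))) ≫ iH))
    simp only [Category.assoc] at h1
    rw [hφ, hφ', ptMap_comp_mapMulEquiv, ptMap_comp_mapMulEquiv] at h1
    exact DFunLike.congr_fun (congrArg WithConv.ofConv (Spec.mapMulEquiv.injective h1)) a
  have h2 : iH ≫ f ≫ iK = iH ≫ f' ≫ iK := by rw [hφ, hφ', e]
  have : IsIso iH := inferInstanceAs (IsIso ((Grp.forget _).map eA.inv))
  have : IsIso iK := inferInstanceAs (IsIso ((Grp.forget _).map eK.hom))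
  exact (cancel_mono iK).1 ((cancel_epi iH).1 h2)

/-- Isomorphisms of groups of multiplicative type lift along nilpotent ideals. -/
theorem exists_lift_iso_multTypeLoc (hJ : IsNilpotent J) (hH : IsMultTypeLoc H) (hK : IsMultTypeLoc K)
    (ψ : Red.bc (jcl J) H ≅ Red.bc (jcl J) K) [IsMonHom ψ.hom] :
    ∃ φ : H ≅ K, IsMonHom φ.hom ∧ (Over.pullback (jcl J)).map φ.hom = ψ.hom := by
  have : IsMonHom ψ.inv := inferInstance
  obtain ⟨f, hf, hf'⟩ := exists_lift_hom_multTypeLoc hJ hH hK ψ.hom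
  obtain ⟨g, hg, hg'⟩ := exists_lift_hom_multTypeLoc hJ hK hH ψ.inv
  refine ⟨⟨f, g, hom_ext_multTypeLoc hJ hH hH _ _ ?_, hom_ext_multTypeLoc hJ hK hK _ _ ?_⟩, hf, hf'⟩
  · rw [Functor.map_comp, hf', hg', Iso.hom_inv_id, CategoryTheory.Functor.map_id]
  · rw [Functor.map_comp, hf', hg', Iso.inv_hom_id, CategoryTheory.Functor.map_id]

/-- A morphism whose composite with a monomorphic homomorphism is a homomorphism is one. -/
theorem isMonHom_of_comp_mono {C : Type*} [Category C] [CartesianMonoidalCategory C] {X Y Z : C} [MonObj X] [MonObj Y] [MonObj Z]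
    (f : X ⟶ Y) (g : Y ⟶ Z) [IsMonHom g] [Mono g] [IsMonHom (f ≫ g)] : IsMonHom f where
  one_hom := by rw [← cancel_mono g, Category.assoc, IsMonHom.one_hom (f ≫ g), IsMonHom.one_hom g]
  mul_hom := by
    rw [← cancel_mono g, Category.assoc, IsMonHom.mul_hom (f ≫ g), Category.assoc, IsMonHom.mul_hom g, ← Category.assoc]
    congr 1
    simp

/-- A homomorphism with points over the closed subscheme in a subgroup factors through it there. -/
theorem exists_factor_cl (k : K ⟶ G) [IsMonHom k] [Mono k] (u : H ⟶ G) [IsMonHom u]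
    (h : ∀ (T : Over (Spec (CommRingCat.of R))) (_ : T ⟶ cl J) (y : T ⟶ H), ∃ x : T ⟶ K, x ≫ k = y ≫ u) :
    ∃ w₀ : Red.bc (jcl J) H ⟶ Red.bc (jcl J) K, IsMonHom w₀ ∧
      w₀ ≫ (Over.pullback (jcl J)).map k = (Over.pullback (jcl J)).map u := by
  obtain ⟨x, hx⟩ := h (clPt J H) (Over.homMk (pullback.snd _ _) rfl) (Over.homMk (pullback.fst _ _) pullback.condition)
  let w₀ := (Over.mapPullbackAdj (jcl J)).homEquiv _ K x
  have : ((Over.pullback (jcl J))).PreservesMonomorphisms :=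
    Functor.preservesMonomorphisms_of_adjunction (Over.mapPullbackAdj (jcl J))
  have hw : w₀ ≫ (Over.pullback (jcl J)).map k = (Over.pullback (jcl J)).map u := by
    rw [← Adjunction.homEquiv_naturality_right, hx]
    apply Over.OverMorphism.ext
    apply pullback.hom_ext
    · exact ((adj_left_fst (jcl J) _).trans rfl).trans (pullback.lift_fst _ _ _).symm
    · exact (Over.w _).trans (Over.w ((Over.pullback (jcl J)).map u)).symm
  have : IsMonHom (w₀ ≫ (Over.pullback (jcl J)).map k) := hw ▸ inferInstance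
  exact ⟨w₀, isMonHom_of_comp_mono w₀ ((Over.pullback (jcl J)).map k), hw⟩

/-- Conjugation of a homomorphism by a global point. -/
theorem isMonHom_conj (g : 𝟙_ (Over (Spec (CommRingCat.of R))) ⟶ G) (u : H ⟶ G) [IsMonHom u] :
    IsMonHom ((toUnit H ≫ g) * u * (toUnit H ≫ g)⁻¹) where
  one_hom := by
    simp only [MonObj.comp_mul, GrpObj.comp_inv, ← Category.assoc, IsMonHom.one_hom u]
    have h : (η[H] ≫ toUnit H) ≫ g = g := by rw [toUnit_unique (η[H] ≫ toUnit H) (𝟙 _), Category.id_comp]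
    have h' : (η[G] : 𝟙_ (Over (Spec (CommRingCat.of R))) ⟶ G) = 1 := by
      rw [Hom.one_def, show toUnit (𝟙_ _) = 𝟙 _ from toUnit_unique _ _, Category.id_comp]
    rw [h, h', _root_.mul_one, mul_inv_cancel]
  mul_hom := by
    simp only [MonObj.comp_mul, GrpObj.comp_inv, ← Category.assoc, IsMonHom.mul_hom u]
    rw [toUnit_unique (μ[H] ≫ toUnit H) (toUnit _)]
    have h1 : ∀ a b : H ⟶ G, (a ⊗ₘ b) ≫ μ[G] = (fst H H ≫ a) * (snd H H ≫ b) := fun a b => by
      rw [Hom.mul_def]; congr 1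
    rw [h1, h1]
    simp only [MonObj.comp_mul, GrpObj.comp_inv, ← Category.assoc]
    rw [toUnit_unique (fst H H ≫ toUnit H) (toUnit _), toUnit_unique (snd H H ≫ toUnit H) (toUnit _)]
    group

/-- Sections of smooth schemes lift from closed subschemes defined by nilpotent ideals. -/
theorem exists_lift_section (hJ : IsNilpotent J) (hG : Smooth G.hom) (g₀ : cl J ⟶ G) :
    ∃ g : 𝟙_ (Over (Spec (CommRingCat.of R))) ⟶ G, toUnit (cl J) ≫ g = g₀ := by
  obtain ⟨m, hm⟩ := exists_lift_pt hG (Ideal.Quotient.mkₐ R (J.map (algebraMap R R))) Ideal.Quotient.mk_surjective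
    (by rw [show RingHom.ker (Ideal.Quotient.mkₐ R (J.map (algebraMap R R))) = J.map (algebraMap R R) from Ideal.mk_ker,
      map_algebraMap_self]; exact hJ) (toCl J R ≫ g₀)
  refine ⟨base R ≫ m, ?_⟩
  rw [← Category.assoc, toBase_ext (toUnit (cl J) ≫ base R) (clTo J ≫ ptMap (Ideal.Quotient.mkₐ R _)),
    Category.assoc, hm, ← Category.assoc, toCl_ext J (clTo J ≫ toCl J R) (𝟙 _), Category.id_comp]

/-- Points over the closed subscheme see the restriction of a section. -/
theorem toUnit_comp_eq (g : 𝟙_ (Over (Spec (CommRingCat.of R))) ⟶ G) {X : Over (Spec (CommRingCat.of R))} (p : X ⟶ cl J) :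
    toUnit X ≫ g = p ≫ (toUnit (cl J) ≫ g) := by
  rw [← Category.assoc, comp_toUnit]

theorem comp_conj (g : 𝟙_ (Over (Spec (CommRingCat.of R))) ⟶ G) (u : H ⟶ G) {X : Over (Spec (CommRingCat.of R))} (h : X ⟶ H) :
    h ≫ ((toUnit H ≫ g) * u * (toUnit H ≫ g)⁻¹) = (toUnit X ≫ g) * (h ≫ u) * (toUnit X ≫ g)⁻¹ := by
  rw [MonObj.comp_mul, MonObj.comp_mul, GrpObj.comp_inv, ← Category.assoc, comp_toUnit]

end Groth.Agent.MultHopf
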