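import Groth.Agent.MultHopf.PointApply
import Groth.Agent.MultHopf.BcHom
import Groth.Agent.MultHopf.SubgroupConj
import Groth.Agent.CplFin.PointsAlgebraize

/-!
# Homomorphisms out of finite groups of multiplicative type over complete local rings
-/

set_option autoImplicit false
set_option backward.isDefEq.respectTransparency.types false
set_option maxHeartbeats 200000
set_option synthInstance.maxHeartbeats 100000

universe u

open CategoryTheory CategoryTheory.Limits MonoidalCategory CartesianMonoidalCategory MonObj AlgebraicGeometry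
open scoped TensorProduct
open WithConv

namespace Groth.Agent.MultHopf

variable {R : Type u} [CommRing R] [IsLocalRing R] [IsNoetherianRing R]
  [IsAdicComplete (IsLocalRing.maximalIdeal R) R] {G : Over (Spec (CommRingCat.of R))}

local notation "𝔪" => IsLocalRing.maximalIdeal R

/-- Consecutive powers of the maximal ideal. -/
theorem pow_succ_le (n : ℕ) : 𝔪 ^ (n + 1 + 1) ≤ 𝔪 ^ (n + 1) := Ideal.pow_le_pow_right (Nat.le_succ (n + 1))

theorem pow_le_of_le {n k : ℕ} (h : n ≤ k) : 𝔪 ^ (k + 1) ≤ 𝔪 ^ (n + 1) := Ideal.pow_le_pow_right (Nat.succ_le_succ h)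

/-- Points with values in a finite algebra are detected modulo powers of the maximal ideal. -/
theorem hom_ext_pt {T : Type u} [CommRing T] [Algebra R T] [Module.Finite R T] (f g : pt (R := R) T ⟶ G)
    (h : ∀ n : ℕ, ptMap (Ideal.Quotient.mkₐ R ((𝔪 ^ (n + 1)).map (algebraMap R T))) ≫ f =
      ptMap (Ideal.Quotient.mkₐ R ((𝔪 ^ (n + 1)).map (algebraMap R T))) ≫ g) : f = g := by
  apply Over.OverMorphism.ext
  refine CplFin.hom_ext_of_complete R T f.left g.left fun k => ?_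
  have h1 : (𝔪 ^ (k + 1)).map (algebraMap R T) ≤ CplFin.mExt R T ^ k := by
    rw [← Ideal.map_pow]; exact Ideal.map_mono (Ideal.pow_le_pow_right k.le_succ)
  have e : CplFin.thick T (CplFin.mExt R T) k =
      Spec.map (CommRingCat.ofHom (Ideal.Quotient.factor h1)) ≫
        (ptMap (Ideal.Quotient.mkₐ R ((𝔪 ^ (k + 1)).map (algebraMap R T)))).left := by
    show _ = Spec.map _ ≫ Spec.map _
    rw [← Spec.map_comp]
    congr 1
  rw [e]
  exact (Category.assoc _ _ _).trans ((congrArg (Spec.map (CommRingCat.ofHom (Ideal.Quotient.factor h1)) ≫ ·)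
    (congrArg (fun z => z.left) (h k))).trans (Category.assoc _ _ _).symm)

/-- Compatible points modulo powers of the maximal ideal come from a point. -/
theorem exists_pt_of_compat {T : Type u} [CommRing T] [Algebra R T] [Module.Finite R T]
    (u : ∀ n : ℕ, pt (R := R) (Bar (𝔪 ^ (n + 1)) T) ⟶ G)
    (hu : ∀ n, ptMap (red (pow_succ_le n) T) ≫ u (n + 1) = u n) :
    ∃ f : pt (R := R) T ⟶ G, ∀ n, ptMap (Ideal.Quotient.mkₐ R ((𝔪 ^ (n + 1)).map (algebraMap R T))) ≫ f = u n := by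
  have hpow : ∀ k, (𝔪 ^ k).map (algebraMap R T) = CplFin.mExt R T ^ k := fun k => Ideal.map_pow _ _ _
  have hle : ∀ k, (𝔪 ^ (k + 1)).map (algebraMap R T) ≤ CplFin.mExt R T ^ k := fun k =>
    (Ideal.map_mono (Ideal.pow_le_pow_right k.le_succ)).trans (hpow k).le
  let v : ∀ k, Spec (CommRingCat.of (T ⧸ CplFin.mExt R T ^ k)) ⟶ G.left := fun k =>
    Spec.map (CommRingCat.ofHom (Ideal.Quotient.factor (hle k))) ≫ (u k).left
  obtain ⟨f, hf⟩ := CplFin.exists_algebraize_of_complete R T v fun k => by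
    refine (Category.assoc _ _ _).symm.trans (Eq.trans ?_ (congrArg
      (Spec.map (CommRingCat.ofHom (Ideal.Quotient.factor (hle k))) ≫ ·) (congrArg (fun z => z.left) (hu k))))
    refine Eq.trans (congrArg (· ≫ (u (k + 1)).left) ?_) (Category.assoc _ _ _)
    show Spec.map _ ≫ Spec.map _ = Spec.map _ ≫ Spec.map _
    rw [← Spec.map_comp, ← Spec.map_comp]
    congr 1
    ext x
    rfl
  have hfu : ∀ n, (ptMap (Ideal.Quotient.mkₐ R ((𝔪 ^ (n + 1)).map (algebraMap R T)))).left ≫ f = (u n).left := by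
    intro n
    have e : (ptMap (Ideal.Quotient.mkₐ R ((𝔪 ^ (n + 1)).map (algebraMap R T)))).left =
        Spec.map (CommRingCat.ofHom (Ideal.Quotient.factor (hpow (n + 1)).ge)) ≫ CplFin.thick T (CplFin.mExt R T) (n + 1) := by
      show Spec.map _ = _
      rw [← Spec.map_comp]
      congr 1
    rw [e]
    refine (Category.assoc _ _ _).trans ((congrArg (Spec.map (CommRingCat.ofHom (Ideal.Quotient.factor (hpow (n + 1)).ge)) ≫ ·)
      (hf (n + 1))).trans ((Category.assoc _ _ _).symm.trans (Eq.trans ?_ (congrArg (fun z => z.left) (hu n)))))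
    refine congrArg (· ≫ (u (n + 1)).left) ?_
    show Spec.map _ ≫ Spec.map _ = Spec.map _
    rw [← Spec.map_comp]
    congr 1
    ext x
    rfl
  have hw : f ≫ G.hom = (pt (R := R) T).hom := by
    refine CplFin.hom_ext_of_complete R T _ _ fun k => ?_
    rw [← Category.assoc, hf k]
    refine (Category.assoc _ _ _).trans ((congrArg (Spec.map (CommRingCat.ofHom (Ideal.Quotient.factor (hle k))) ≫ ·)
      (Over.w (u k))).trans ?_)
    show Spec.map _ ≫ Spec.map _ = Spec.map _ ≫ Spec.map _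
    rw [← Spec.map_comp, ← Spec.map_comp]
    congr 1
  exact ⟨Over.homMk f hw, fun n => Over.OverMorphism.ext (hfu n)⟩

omit [IsLocalRing R] [IsNoetherianRing R] [IsAdicComplete (IsLocalRing.maximalIdeal R) R] in
/-- Points of a smooth scheme extend along a tower of square zero thickenings. -/
theorem exists_compat_seq (hG : Smooth G.hom) (K : ℕ → Ideal R) (hle : ∀ {n m : ℕ}, n ≤ m → K m ≤ K n)
    (hsq : ∀ n, K n * K n ≤ K (n + 1)) (k : ℕ) (z : pt (R := R) (Bar (K k) R) ⟶ G) :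
    ∃ w : ∀ n, pt (R := R) (Bar (K n) R) ⟶ G,
      (∀ n, ptMap (red (hle (Nat.le_succ n)) R) ≫ w (n + 1) = w n) ∧ w k = z := by
  have step : ∀ n (x : pt (R := R) (Bar (K n) R) ⟶ G), ∃ y : pt (R := R) (Bar (K (n + 1)) R) ⟶ G,
      ptMap (red (hle (Nat.le_succ n)) R) ≫ y = x := by
    intro n x
    refine exists_lift_pt_sq hG (red (hle (Nat.le_succ n)) R)
      (fun w => by obtain ⟨w, rfl⟩ := Ideal.Quotient.mk_surjective w; exact ⟨Ideal.Quotient.mk _ w, rfl⟩) ?_ x
    rw [ker_red, pow_two]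
    exact le_bot_iff.1 (Ideal.mul_le.2 fun a ha b hb => Ideal.mem_bot.2 (sq_zero _ _ (hsq n) R a ha b hb))
  choose nxt hnxt using step
  let low : ∀ n, n ≤ k → (pt (R := R) (Bar (K n) R) ⟶ G) := fun n h => ptMap (red (hle h) R) ≫ z
  let w : ∀ n, pt (R := R) (Bar (K n) R) ⟶ G := fun n =>
    Nat.rec (motive := fun n => pt (R := R) (Bar (K n) R) ⟶ G) (low 0 (Nat.zero_le k))
      (fun n x => if h : n + 1 ≤ k then low (n + 1) h else nxt n x) n
  have hlow : ∀ n (h : n ≤ k), w n = low n h := by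
    intro n h
    cases n with
    | zero => rfl
    | succ n => exact dif_pos h
  refine ⟨w, fun n => ?_, ?_⟩
  · by_cases h : n + 1 ≤ k
    · rw [hlow (n + 1) h, hlow n (Nat.le_of_succ_le h)]
      simp only [low]
      rw [← Category.assoc, ← ptMap_comp]
      exact congrArg (fun φ => ptMap φ ≫ z) (AlgHom.ext fun x => by obtain ⟨x, rfl⟩ := Ideal.Quotient.mk_surjective x; rfl)
    · rw [show w (n + 1) = nxt n (w n) from dif_neg h]
      exact hnxt n (w n)
  · rw [hlow k le_rfl]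
    simp only [low]
    rw [show red (hle (le_refl k)) R = AlgHom.id R _ from
      AlgHom.ext fun x => by obtain ⟨x, rfl⟩ := Ideal.Quotient.mk_surjective x; rfl, ptMap_id, Category.id_comp]

/-- Points of a smooth scheme lift from the quotient by a power of the maximal ideal. -/
theorem exists_lift_pt_adic (hG : Smooth G.hom) (k : ℕ) (z : pt (R := R) (Bar (𝔪 ^ (k + 1)) R) ⟶ G) :
    ∃ l : pt (R := R) R ⟶ G, ptMap (Ideal.Quotient.mkₐ R ((𝔪 ^ (k + 1)).map (algebraMap R R))) ≫ l = z := by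
  obtain ⟨w, hw, hwk⟩ := exists_compat_seq hG (fun n => 𝔪 ^ (n + 1)) (fun h => pow_le_of_le h)
    (fun n => by rw [← pow_add]; exact Ideal.pow_le_pow_right (by omega)) k z
  obtain ⟨l, hl⟩ := exists_pt_of_compat (T := R) w hw
  exact ⟨l, (hl k).trans hwk⟩

variable [GrpObj G] {A : Type u} [CommRing A] [HopfAlgebra R A] [Module.Finite R A]

/-- Homomorphisms into smooth groups lift from the closed fibre. -/
theorem exists_lift_hom_adic {l : A →ₗ[R] R} (hl : IsIntegral l) (hG : Smooth G.hom)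
    (f₀ : Red.bc (jcl 𝔪) (hspec R A) ⟶ Red.bc (jcl 𝔪) G) [IsMonHom f₀] :
    ∃ f : hspec R A ⟶ G, IsMonHom f ∧ (Over.pullback (jcl 𝔪)).map f = f₀ := by
  have h0 : 𝔪 ^ (0 + 1) ≤ 𝔪 := by simp
  obtain ⟨v, hv, hvr⟩ := exists_lift_compatiblePt hl hG h0 (by simpa using Ideal.mul_le_left) (redPt f₀) (compatiblePt_redPt f₀)
  have step : ∀ n (x : {u : pt (R := R) (Bar (𝔪 ^ (n + 1)) A) ⟶ G // CompatiblePt (𝔪 ^ (n + 1)) u}),
      ∃ y : {u : pt (R := R) (Bar (𝔪 ^ (n + 1 + 1)) A) ⟶ G // CompatiblePt (𝔪 ^ (n + 1 + 1)) u},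
        ptMap (red (pow_succ_le n) A) ≫ y.1 = x.1 := by
    intro n x
    obtain ⟨y, hy, hyx⟩ := exists_lift_compatiblePt hl hG (J := 𝔪 ^ (n + 1 + 1)) (pow_succ_le n)
      (by rw [← pow_add]; exact Ideal.pow_le_pow_right (by omega)) x.1 x.2
    exact ⟨⟨y, hy⟩, hyx⟩
  choose nxt hnxt using step
  let w : ∀ n, {u : pt (R := R) (Bar (𝔪 ^ (n + 1)) A) ⟶ G // CompatiblePt (𝔪 ^ (n + 1)) u} :=
    fun n => Nat.rec (motive := fun n => {u : pt (R := R) (Bar (𝔪 ^ (n + 1)) A) ⟶ G // CompatiblePt (𝔪 ^ (n + 1)) u}) ⟨v, hv⟩ nxt n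
  obtain ⟨f, hf⟩ := exists_pt_of_compat (fun n => (w n).1) fun n => hnxt n (w n)
  have hhom : IsHomPt (R := R) (A := A) f := by
    refine hom_ext_pt _ _ fun n => ?_
    have h := (w n).2
    unfold CompatiblePt at h
    simp only [← hf n, ← Category.assoc, ← ptMap_comp, ptMap_mk_bar] at h
    simpa only [MonObj.comp_mul, ← Category.assoc, ← ptMap_comp] using h
  refine ⟨f, isMonHom_of_isHomPt f hhom, map_eq_of_redPt f₀ f ?_⟩
  rw [← hvr, show v = (w 0).1 from rfl, ← hf 0, ← Category.assoc, ← ptMap_comp]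
  congr 2

/-- Homomorphisms congruent on the closed fibre are conjugate. -/
theorem exists_conj_adic {l : A →ₗ[R] R} (hl : IsIntegral l) (hG : Smooth G.hom)
    (u v : pt (R := R) A ⟶ G) (hu : IsHomPt u) (hv : IsHomPt v)
    (h : ptMap (Ideal.Quotient.mkₐ R (Ideal.map (algebraMap R A) 𝔪)) ≫ u = ptMap (Ideal.Quotient.mkₐ R (Ideal.map (algebraMap R A) 𝔪)) ≫ v) :
    ∃ g : pt (R := R) R ⟶ G, ptMap (Ideal.Quotient.mkₐ R (Ideal.map (algebraMap R R) 𝔪)) ≫ g = 1 ∧ v = conjC g u := by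
  let K := fun n : ℕ => 𝔪 ^ (n + 1)
  have hK1 : ∀ n, K n ≤ 𝔪 := fun n => Ideal.pow_le_self n.succ_ne_zero
  have step : ∀ n (x : {g : pt (R := R) R ⟶ G // ptMap (Ideal.Quotient.mkₐ R (Ideal.map (algebraMap R R) 𝔪)) ≫ g = 1 ∧
      ptMap (Ideal.Quotient.mkₐ R ((K n).map (algebraMap R A))) ≫ v =
        ptMap (Ideal.Quotient.mkₐ R ((K n).map (algebraMap R A))) ≫ conjC g u}),
      ∃ y : {g : pt (R := R) R ⟶ G // ptMap (Ideal.Quotient.mkₐ R (Ideal.map (algebraMap R R) 𝔪)) ≫ g = 1 ∧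
        ptMap (Ideal.Quotient.mkₐ R ((K (n + 1)).map (algebraMap R A))) ≫ v =
          ptMap (Ideal.Quotient.mkₐ R ((K (n + 1)).map (algebraMap R A))) ≫ conjC g u},
        ptMap (Ideal.Quotient.mkₐ R ((K n).map (algebraMap R R))) ≫ y.1 =
          ptMap (Ideal.Quotient.mkₐ R ((K n).map (algebraMap R R))) ≫ x.1 := by
    intro n x
    obtain ⟨g, hg, e⟩ := x
    have hJK : K (n + 1) ≤ K n := Ideal.pow_le_pow_right (Nat.le_succ _)
    have hKJ : K n * K n ≤ K (n + 1) := by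
      simp only [K]; rw [← pow_add]; exact Ideal.pow_le_pow_right (by omega)
    obtain ⟨k, hk1, hk2⟩ := exists_conj_step_pt hl hJK hKJ _ _ (isHomPt_conjC g hu) hv e.symm
    obtain ⟨m, hm⟩ := exists_lift_pt_adic hG (n + 1) k
    have hmn : ptMap (Ideal.Quotient.mkₐ R ((K n).map (algebraMap R R))) ≫ m = 1 := by
      rw [show Ideal.Quotient.mkₐ R ((K n).map (algebraMap R R)) =
          (red hJK R).comp (Ideal.Quotient.mkₐ R ((K (n + 1)).map (algebraMap R R))) from rfl,
        ptMap_comp, Category.assoc, hm, hk1]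
    have hmn' : ptMap (Ideal.Quotient.mkₐ R ((K n).map (algebraMap R R))) ≫ (m * g) =
        ptMap (Ideal.Quotient.mkₐ R ((K n).map (algebraMap R R))) ≫ g := by
      rw [MonObj.comp_mul, hmn, _root_.one_mul]
    refine ⟨⟨m * g, ?_, ?_⟩, hmn'⟩
    · rw [show Ideal.Quotient.mkₐ R (Ideal.map (algebraMap R R) 𝔪) =
          (red (hK1 n) R).comp (Ideal.Quotient.mkₐ R ((K n).map (algebraMap R R))) from rfl,
        ptMap_comp, Category.assoc, hmn', ← Category.assoc, ← ptMap_comp]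
      exact hg
    · rw [conjC_mul, hk2, ← hm]
      simp only [conjC, MonObj.comp_mul, GrpObj.comp_inv, ← Category.assoc, ← ptMap_comp, ptMap_mk_bar, K]
  choose nxt hnxt using step
  let x₀ : {g : pt (R := R) R ⟶ G // ptMap (Ideal.Quotient.mkₐ R (Ideal.map (algebraMap R R) 𝔪)) ≫ g = 1 ∧
      ptMap (Ideal.Quotient.mkₐ R ((K 0).map (algebraMap R A))) ≫ v =
        ptMap (Ideal.Quotient.mkₐ R ((K 0).map (algebraMap R A))) ≫ conjC g u} := ⟨1, MonObj.comp_one _, by
    rw [show conjC (1 : pt (R := R) R ⟶ G) u = u by simp [conjC]]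
    have e0 : ∀ J : Ideal R, J = 𝔪 → ptMap (Ideal.Quotient.mkₐ R (J.map (algebraMap R A))) ≫ v =
        ptMap (Ideal.Quotient.mkₐ R (J.map (algebraMap R A))) ≫ u := by
      rintro J rfl
      exact h.symm
    exact e0 _ (by simp [K])⟩
  let w : ∀ n, {g : pt (R := R) R ⟶ G // ptMap (Ideal.Quotient.mkₐ R (Ideal.map (algebraMap R R) 𝔪)) ≫ g = 1 ∧
      ptMap (Ideal.Quotient.mkₐ R ((K n).map (algebraMap R A))) ≫ v =
        ptMap (Ideal.Quotient.mkₐ R ((K n).map (algebraMap R A))) ≫ conjC g u} :=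
    fun n => Nat.rec x₀ nxt n
  obtain ⟨g, hg⟩ := exists_pt_of_compat (T := R)
    (fun n => ptMap (Ideal.Quotient.mkₐ R ((K n).map (algebraMap R R))) ≫ (w n).1) fun n => by
      rw [← Category.assoc, ← ptMap_comp, ← hnxt n (w n)]
      rfl
  refine ⟨g, ?_, hom_ext_pt _ _ fun n => ?_⟩
  · rw [show Ideal.Quotient.mkₐ R (Ideal.map (algebraMap R R) 𝔪) =
        (red (hK1 0) R).comp (Ideal.Quotient.mkₐ R ((K 0).map (algebraMap R R))) from rfl,
      ptMap_comp, Category.assoc, hg 0, ← Category.assoc, ← ptMap_comp]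
    exact (w 0).2.1
  · rw [(w n).2.2, ptMap_conjC, ptMap_conjC]
    simp only [conjC]
    have e : ptMap (Algebra.ofId R (Bar (K n) A)) ≫ (w n).1 = ptMap (Algebra.ofId R (Bar (K n) A)) ≫ g := by
      rw [Subsingleton.elim (Algebra.ofId R (Bar (K n) A))
        ((bar (K n) (Algebra.ofId R A)).comp (Ideal.Quotient.mkₐ R ((K n).map (algebraMap R R)))),
        ptMap_comp, Category.assoc, Category.assoc, hg n]
    rw [e]

end Groth.Agent.MultHopf
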