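import Groth.Agent.MultHopf.LiftHom
import Groth.Agent.CplFin.Basic
import Groth.Agent.FpqcDescent.Amitsur

/-!
# Algebraization of formal homomorphisms from isotrivial groups of multiplicative type
-/

set_option autoImplicit false

universe u v w

open scoped TensorProduct
open WithConv Coalgebra SGA3b

namespace Groth.Agent.MultHopf

open Groth.Agent.FinHopf (postComp)

variable {R : Type u} [CommRing R]

/-- A ring embedded linearly in a free module over a finite algebra over a complete Noetherian ring is separated. -/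
theorem eq_zero_of_forall_mem [IsNoetherianRing R] (I : Ideal R) [IsAdicComplete I R]
    {X : Type u} [CommRing X] [Algebra R X] {T : Type u} [CommRing T] [Algebra R T] [Module.Finite R T]
    {ι : Type*} (g : X →ₗ[R] ι →₀ T) (hg : Function.Injective g) (x : X)
    (h : ∀ n : ℕ, x ∈ (I ^ (n + 1)).map (algebraMap R X)) : x = 0 := by
  apply hg
  rw [map_zero]
  ext i
  rw [Finsupp.zero_apply]
  have : IsHausdorff I T := IsHausdorff.of_le_jacobson _ _ (IsAdicComplete.le_jacobson_bot I)
  refine IsHausdorff.haus this _ fun n => ?_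
  rw [SModEq.zero]
  refine Submodule.smul_mono (Ideal.pow_le_pow_right n.le_succ) le_rfl ?_
  rw [Ideal.smul_top_eq_map]
  exact map_mem_of_linear (Finsupp.lapply i ∘ₗ g) _ (h n)

theorem mem_map_of_coeff {T : Type u} [CommRing T] [Algebra R T] {M : Type u} [CommGroup M] (J : Ideal R)
    (z : MonoidAlgebra T M) (h : ∀ m, z.coeff m ∈ J.map (algebraMap R T)) :
    z ∈ J.map (algebraMap R (MonoidAlgebra T M)) := by
  rw [IsScalarTower.algebraMap_eq R T (MonoidAlgebra T M), ← Ideal.map_map, ← MonoidAlgebra.sum_coeff_single z]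
  refine sum_mem fun m _ => ?_
  rw [show MonoidAlgebra.single m (z.coeff m) = algebraMap T (MonoidAlgebra T M) (z.coeff m) * MonoidAlgebra.single m 1 by simp]
  exact Ideal.mul_mem_right _ _ (Ideal.mem_map_of_mem _ (h m))

variable {B : Type u} [CommRing B] [HopfAlgebra R B] {C : Type u} [CommRing C] [HopfAlgebra R C]

/-- Algebraization of a compatible system of approximations of a homomorphism. -/
theorem exists_algebraize [IsNoetherianRing R] (I : Ideal R) [IsAdicComplete I R] (hB : IsIsotrivial R B)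
    (x : ℕ → C → B)
    (hcons : ∀ n c, x (n + 1) c - x n c ∈ (I ^ (n + 1)).map (algebraMap R B))
    (hadd : ∀ n a b, x n (a + b) - (x n a + x n b) ∈ (I ^ (n + 1)).map (algebraMap R B))
    (hmul : ∀ n a b, x n (a * b) - x n a * x n b ∈ (I ^ (n + 1)).map (algebraMap R B))
    (halg : ∀ n r, x n (algebraMap R C r) - algebraMap R B r ∈ (I ^ (n + 1)).map (algebraMap R B))
    (hΔ : ∀ n c, comul (R := R) (x n c) - ∑ i ∈ (ℛ R c).index, x n ((ℛ R c).left i) ⊗ₜ[R] x n ((ℛ R c).right i) ∈
      (I ^ (n + 1)).map (algebraMap R (B ⊗[R] B))) :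
    ∃ φ : C →ₐc[R] B, ∀ n c, φ c - x n c ∈ (I ^ (n + 1)).map (algebraMap R B) := by
  classical
  obtain ⟨R', _, _, -, hfin, hff, M, _, ⟨e⟩⟩ := hB
  have : IsNoetherianRing R' := IsNoetherianRing.of_finite R R'
  have : IsAdicComplete I R' := CplFin.isAdicComplete_of_finite R I R'
  let E : R' ⊗[R] B ≃ₐ[R'] MonoidAlgebra R' M := e
  let eM : R' ⊗[R] B ≃ₗ[R] M →₀ R' :=
    (E.toLinearEquiv.restrictScalars R).trans ((MonoidAlgebra.coeffLinearEquiv R').restrictScalars R)
  have injB : Function.Injective (eM.toLinearMap ∘ₗ TensorProduct.mk R R' B 1) :=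
    eM.injective.comp (Module.FaithfullyFlat.tensorProduct_mk_injective B)
  have sepB : ∀ b : B, (∀ n : ℕ, b ∈ (I ^ (n + 1)).map (algebraMap R B)) → b = 0 :=
    fun b => eq_zero_of_forall_mem I _ injB b
  let eBB : R' ⊗[R] (B ⊗[R] B) ≃ₗ[R] (M →₀ (M →₀ R')) :=
    ((TensorProduct.assoc R R' B B).symm.trans (TensorProduct.congr eM (LinearEquiv.refl R B))).trans
      ((TensorProduct.finsuppLeft R R R' B M).trans (Finsupp.mapRange.linearEquiv eM))
  have sepBB : ∀ b : B ⊗[R] B, (∀ n : ℕ, b ∈ (I ^ (n + 1)).map (algebraMap R (B ⊗[R] B))) → b = 0 :=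
    fun b => eq_zero_of_forall_mem (T := R') I
      ((Finsupp.curryLinearEquiv R).symm.toLinearMap ∘ₗ eBB.toLinearMap ∘ₗ TensorProduct.mk R R' (B ⊗[R] B) 1)
      ((Finsupp.curryLinearEquiv R).symm.injective.comp
        (eBB.injective.comp (Module.FaithfullyFlat.tensorProduct_mk_injective _))) b
  let θ : B →ₐ[R] MonoidAlgebra R' M :=
    (E.toAlgHom.restrictScalars R).comp Algebra.TensorProduct.includeRight
  let co : M → B →ₗ[R] R' := fun m => Finsupp.lapply m ∘ₗ eM.toLinearMap ∘ₗ TensorProduct.mk R R' B 1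
  have hco : ∀ m b, co m b = (θ b).coeff m := fun m b => rfl
  -- coefficient identity for the comultiplication
  have hcoΔ : ∀ (m m' : M) (b : B),
      TensorProduct.lift (((LinearMap.mul R R').compl₁₂ (co m) (co m'))) (comul (R := R) b) =
        if m = m' then co m b else 0 := by
    intro m m' b
    let L' : MonoidAlgebra R' M ⊗[R'] MonoidAlgebra R' M →ₗ[R'] R' :=
      LinearMap.mul' R' R' ∘ₗ TensorProduct.map
        ((Finsupp.lapply m) ∘ₗ (MonoidAlgebra.coeffLinearEquiv R').toLinearMap)
        ((Finsupp.lapply m') ∘ₗ (MonoidAlgebra.coeffLinearEquiv R').toLinearMap)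
    have hL : ∀ y : MonoidAlgebra R' M, L' (comul (R := R') y) = if m = m' then y.coeff m else 0 := fun y => by
      induction y using MonoidAlgebra.induction_linear with
      | zero => simp
      | add u v hu hv => rw [map_add, map_add, hu, hv]; split_ifs <;> simp
      | single k r =>
        rw [MonoidAlgebra.comul_single, CommSemiring.comul_apply, TensorProduct.map_tmul]
        by_cases hk : k = m
        · subst hk
          by_cases h2 : k = m'
          · subst h2; simp [L', MonoidAlgebra.coeff_single]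
          · simp [L', MonoidAlgebra.coeff_single, h2]
        · simp [L', MonoidAlgebra.coeff_single, hk]
    have h1 := hL (θ b)
    rw [← hco] at h1
    rw [← h1, show θ b = e ((1 : R') ⊗ₜ[R] b) from rfl,
      show comul (R := R') (e ((1 : R') ⊗ₜ[R] b)) = TensorProduct.map (e : R' ⊗[R] B →ₗ[R'] MonoidAlgebra R' M)
        (e : R' ⊗[R] B →ₗ[R'] MonoidAlgebra R' M) (comul ((1 : R') ⊗ₜ[R] b)) from
        (LinearMap.congr_fun (e : R' ⊗[R] B →ₐc[R'] MonoidAlgebra R' M).toCoalgHom.map_comp_comul _).symm,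
      TensorProduct.comul_tmul, CommSemiring.comul_apply]
    induction comul (R := R) b using TensorProduct.induction_on with
    | zero => simp
    | add u v hu hv => simp only [TensorProduct.tmul_add, map_add, hu, hv]
    | tmul p q => simp [L', co, eM, E]
  -- limits of coefficients
  have hlim : ∀ c m, ∃ a : R', ∀ n, a - co m (x n c) ∈ (I ^ (n + 1)).map (algebraMap R R') := by
    intro c m
    have hstep : ∀ p n, p ≤ n → x p c - x n c ∈ (I ^ (p + 1)).map (algebraMap R B) := by
      intro p n hpn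
      induction n, hpn using Nat.le_induction with
      | base => simp
      | succ n hn ih =>
        have h2 := Ideal.map_mono (Ideal.pow_le_pow_right (Nat.succ_le_succ hn)) (hcons n c)
        simpa using sub_mem ih h2
    obtain ⟨a, ha⟩ := IsPrecomplete.prec' (I := I) (M := R') (fun n => co m (x n c)) fun {p n} hpn => by
      rw [SModEq.sub_mem, ← map_sub]
      refine Submodule.smul_mono (Ideal.pow_le_pow_right p.le_succ) le_rfl ?_
      rw [Ideal.smul_top_eq_map]
      exact map_mem_of_linear (co m) _ (hstep p n hpn)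
    refine ⟨a, fun n => ?_⟩
    have h1 := SModEq.sub_mem.1 (ha (n + 1)).symm
    rw [Ideal.smul_top_eq_map] at h1
    have h2 := map_mem_of_linear (co m) _ (hcons n c)
    rw [map_sub] at h2
    simpa using add_mem h1 h2
  choose a ha using hlim
  have sepR' : ∀ r : R', (∀ n : ℕ, r ∈ (I ^ (n + 1)).map (algebraMap R R')) → r = 0 :=
    fun r => eq_zero_of_forall_mem (ι := Unit) I (Finsupp.lsingle ()) (Finsupp.single_injective ()) r
  have hrel : ∀ c m m', (if m = m' then a c m else 0) =
      ∑ i ∈ (ℛ R c).index, a ((ℛ R c).left i) m * a ((ℛ R c).right i) m' := by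
    intro c m m'
    rw [← sub_eq_zero]
    refine sepR' _ fun n => ?_
    rw [← Ideal.Quotient.eq_zero_iff_mem]
    set q := Ideal.Quotient.mk ((I ^ (n + 1)).map (algebraMap R R'))
    have hq : ∀ d k, q (a d k) = q (co k (x n d)) := fun d k => Ideal.Quotient.eq.2 (ha d k n)
    have h1 : q (TensorProduct.lift ((LinearMap.mul R R').compl₁₂ (co m) (co m'))
        (comul (R := R) (x n c) - ∑ i ∈ (ℛ R c).index, x n ((ℛ R c).left i) ⊗ₜ[R] x n ((ℛ R c).right i))) = 0 :=
      Ideal.Quotient.eq_zero_iff_mem.2 (map_mem_of_linear _ _ (hΔ n c))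
    rw [map_sub, map_sum, hcoΔ, map_sub, map_sum] at h1
    rw [map_sub, map_sum]
    simp only [TensorProduct.lift.tmul, LinearMap.compl₁₂_apply, LinearMap.mul_apply', map_mul] at h1
    simp only [map_mul, hq]
    refine Eq.trans ?_ h1
    congr 1
    split_ifs <;> simp [hq]
  -- existence of limits
  have hex : ∀ c, ∃ z : B, ∀ n, z - x n c ∈ (I ^ (n + 1)).map (algebraMap R B) := by
    intro c
    let N : Submodule R' (M → R') := Submodule.span R'
      (((ℛ R c).index.image fun i => a ((ℛ R c).right i) : Finset (M → R')) : Set (M → R'))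
    have hNfg : N.FG := ⟨_, rfl⟩
    let ev : M → (M → R') := fun m m' => if m = m' then a c m else 0
    have hev : ∀ m, ev m ∈ N := fun m => by
      have : ev m = ∑ i ∈ (ℛ R c).index, a ((ℛ R c).left i) m • a ((ℛ R c).right i) := by
        funext m'
        simp only [ev, hrel c m m', Finset.sum_apply, Pi.smul_apply, smul_eq_mul]
      rw [this]
      exact sum_mem fun i hi => Submodule.smul_mem _ _ (Submodule.subset_span (Finset.mem_image_of_mem _ hi))
    have hE : (Submodule.span R' (Set.range ev)).FG := by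
      have : IsNoetherian R' N := isNoetherian_of_fg_of_noetherian N hNfg
      have := IsNoetherian.noetherian ((Submodule.span R' (Set.range ev)).comap N.subtype)
      have h2 := this.map N.subtype
      rwa [Submodule.map_comap_eq, Submodule.range_subtype,
        inf_eq_right.2 (Submodule.span_le.2 (Set.range_subset_iff.2 hev))] at h2
    obtain ⟨T, hT, hTspan⟩ := (Submodule.fg_span_iff_fg_span_finset_subset (Set.range ev)).1 hE
    choose pick hpick using fun t : T => hT t.2
    let s : Finset M := Finset.univ.image pick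
    have hzero : ∀ m, m ∉ s → a c m = 0 := fun m hm => by
      have h1 : ev m ∈ Submodule.span R' (T : Set (M → R')) := hTspan ▸ Submodule.subset_span ⟨m, rfl⟩
      have h2 : Submodule.span R' (T : Set (M → R')) ≤ LinearMap.ker (LinearMap.proj (R := R') (φ := fun _ : M => R') m) := by
        rw [Submodule.span_le]
        intro t ht
        rw [SetLike.mem_coe, LinearMap.mem_ker, ← show ev (pick ⟨t, ht⟩) = t from hpick ⟨t, ht⟩]
        show (if pick ⟨t, ht⟩ = m then _ else (0 : R')) = 0
        rw [if_neg]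
        rintro rfl
        exact hm (Finset.mem_image_of_mem _ (Finset.mem_univ _))
      simpa [ev] using h2 h1
    let z : MonoidAlgebra R' M := ∑ m ∈ s, MonoidAlgebra.single m (a c m)
    have hz : ∀ m, z.coeff m = a c m := fun m => by
      by_cases hm : m ∈ s
      · simp [z, MonoidAlgebra.coeff_single, Finsupp.single_apply, hm]
      · simp [z, MonoidAlgebra.coeff_single, Finsupp.single_apply, hm, hzero m hm]
    let y : R' ⊗[R] B := E.symm z
    have hy : ∀ n, y - (1 : R') ⊗ₜ[R] x n c ∈ (I ^ (n + 1)).map (algebraMap R (R' ⊗[R] B)) := fun n => by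
      have h1 : z - θ (x n c) ∈ (I ^ (n + 1)).map (algebraMap R (MonoidAlgebra R' M)) :=
        mem_map_of_coeff _ _ fun m => by
          rw [MonoidAlgebra.coeff_sub, Finsupp.sub_apply, hz, ← hco]; exact ha c m n
      have h2 := map_mem_of_linear ((E.symm.toLinearMap).restrictScalars R) _ h1
      rw [map_sub] at h2
      simpa [y, θ] using h2
    let d := TensorProduct.mk R R' (R' ⊗[R] B) 1 - (TensorProduct.mk R R' B 1).lTensor R'
    have hd : d y = 0 := by
      let g : R' ⊗[R] (R' ⊗[R] B) ≃ₗ[R] M →₀ R' ⊗[R] R' :=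
        (TensorProduct.congr (LinearEquiv.refl R R') eM).trans (TensorProduct.finsuppRight R R R' R' M)
      refine eq_zero_of_forall_mem (T := R' ⊗[R] R') I g.toLinearMap g.injective _ fun n => ?_
      have h1 := map_mem_of_linear d _ (hy n)
      have h2 : d ((1 : R') ⊗ₜ[R] x n c) = 0 := by simp [d]
      rwa [map_sub, h2, sub_zero] at h1
    obtain ⟨z₀, hz₀⟩ := FpqcDescent.Amitsur.mem_range_mk R R' B y (by
      simpa [d, sub_eq_zero] using hd)
    refine ⟨z₀, fun n => ?_⟩
    rw [← Ideal.Quotient.eq_zero_iff_mem]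
    let q := Ideal.Quotient.mkₐ R ((I ^ (n + 1)).map (algebraMap R B))
    apply Module.FaithfullyFlat.tensorProduct_mk_injective (A := R) (B := R') _
    have h1 := map_mem_of_linear (q.toLinearMap.lTensor R') _ (hy n)
    rw [← hz₀, TensorProduct.mk_apply, ← TensorProduct.tmul_sub, LinearMap.lTensor_tmul] at h1
    have h2 : (I ^ (n + 1)).map (algebraMap R (R' ⊗[R] (B ⧸ (I ^ (n + 1)).map (algebraMap R B)))) = ⊥ := by
      rw [Ideal.map_eq_bot_iff_le_ker]
      intro r hr
      rw [RingHom.mem_ker, Algebra.algebraMap_eq_smul_one, Algebra.TensorProduct.one_def, ← TensorProduct.tmul_smul,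
        show r • (1 : B ⧸ (I ^ (n + 1)).map (algebraMap R B)) = 0 from
          (Algebra.algebraMap_eq_smul_one r).symm.trans (Ideal.Quotient.eq_zero_iff_mem.2 (Ideal.mem_map_of_mem _ hr)),
        TensorProduct.tmul_zero]
    rw [h2, Ideal.mem_bot] at h1
    rw [map_zero]
    exact h1
  choose f hf using hex
  have hq : ∀ n c, Ideal.Quotient.mk ((I ^ (n + 1)).map (algebraMap R B)) (f c) = Ideal.Quotient.mk _ (x n c) :=
    fun n c => Ideal.Quotient.eq.2 (hf c n)
  have eqB : ∀ u v : B, (∀ n : ℕ, Ideal.Quotient.mk ((I ^ (n + 1)).map (algebraMap R B)) u = Ideal.Quotient.mk _ v) → u = v :=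
    fun u v h => sub_eq_zero.1 (sepB _ fun n => Ideal.Quotient.eq.1 (h n))
  have fadd : ∀ p q, f (p + q) = f p + f q := fun p q => eqB _ _ fun n => by
    rw [map_add, hq, hq, hq, ← map_add]; exact Ideal.Quotient.eq.2 (hadd n p q)
  have fmul : ∀ p q, f (p * q) = f p * f q := fun p q => eqB _ _ fun n => by
    rw [map_mul, hq, hq, hq, ← map_mul]; exact Ideal.Quotient.eq.2 (hmul n p q)
  have falg : ∀ r, f (algebraMap R C r) = algebraMap R B r := fun r => eqB _ _ fun n => by
    rw [hq]; exact Ideal.Quotient.eq.2 (halg n r)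
  let fA : C →ₐ[R] B :=
    { toFun := f
      map_one' := by simpa using falg 1
      map_mul' := fmul
      map_zero' := by simpa using falg 0
      map_add' := fadd
      commutes' := falg }
  obtain ⟨φ, hφ⟩ := exists_bialgHom (toConv fA) (by
    apply WithConv.ofConv_injective
    refine AlgHom.ext fun c => ?_
    rw [FinHopf.postComp_apply, AlgHom.convMul_apply]
    conv_rhs => rw [← (ℛ R c).eq, map_sum]
    simp only [FinHopf.postComp_apply, ofConv_toConv, Bialgebra.comulAlgHom_apply, Algebra.TensorProduct.lift_tmul]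
    rw [← sub_eq_zero]
    refine sepBB _ fun n => ?_
    have h1 := map_mem_of_linear (comul (R := R) (A := B)) _ (hf c n)
    rw [map_sub] at h1
    rw [← Ideal.Quotient.eq_zero_iff_mem, map_sub, sub_eq_zero] at h1
    rw [← Ideal.Quotient.eq_zero_iff_mem, map_sub, sub_eq_zero]
    refine h1.trans ((Ideal.Quotient.eq.2 (hΔ n c)).trans ?_)
    rw [map_sum, map_sum]
    refine Finset.sum_congr rfl fun i _ => ?_
    have e1 : ∀ d, Ideal.Quotient.mk ((I ^ (n + 1)).map (algebraMap R (B ⊗[R] B))) (i₁ (x n d)) = Ideal.Quotient.mk _ (i₁ (f d)) :=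
      fun d => (Ideal.Quotient.eq.2 (map_sub (i₁ : B →ₐ[R] B ⊗[R] B) (f d) (x n d) ▸ map_mem_of_linear (i₁ : B →ₐ[R] B ⊗[R] B).toLinearMap _ (hf d n))).symm
    have e2 : ∀ d, Ideal.Quotient.mk ((I ^ (n + 1)).map (algebraMap R (B ⊗[R] B))) (i₂ (x n d)) = Ideal.Quotient.mk _ (i₂ (f d)) :=
      fun d => (Ideal.Quotient.eq.2 (map_sub (i₂ : B →ₐ[R] B ⊗[R] B) (f d) (x n d) ▸ map_mem_of_linear (i₂ : B →ₐ[R] B ⊗[R] B).toLinearMap _ (hf d n))).symm
    show Ideal.Quotient.mk _ (x n _ ⊗ₜ[R] x n _) = Ideal.Quotient.mk _ (i₁ (f _) * i₂ (f _))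
    rw [show x n ((ℛ R c).left i) ⊗ₜ[R] x n ((ℛ R c).right i) = i₁ (x n ((ℛ R c).left i)) * i₂ (x n ((ℛ R c).right i)) by simp,
      map_mul, map_mul, e1, e2])
  exact ⟨φ, fun n c => by rw [hφ c]; exact hf c n⟩

end Groth.Agent.MultHopf
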