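import Groth.Agent.MultHopf.BcIso
import Groth.Prelude.Def_SGA3x
import Mathlib.AlgebraicGeometry.Morphisms.QuasiCompact

/-!
# Base change of groups of multiplicative type and finite type
-/

set_option autoImplicit false
set_option backward.isDefEq.respectTransparency.types false

universe u

open CategoryTheory CategoryTheory.Limits MonoidalCategory CartesianMonoidalCategory MonObj AlgebraicGeometry

namespace Groth.Agent.MultHopf

variable {S T : Scheme.{u}} (g : T ⟶ S)

/-- The quasi-compactness condition on a covering is stable under base change. -/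
theorem cov_pullback {S' : Scheme.{u}} (f : S' ⟶ S)
    (hcov : ∀ V : S.Opens, IsAffineOpen V → ∃ W : S'.Opens, IsCompact (W : Set S') ∧ f.base '' (W : Set S') = (V : Set S))
    (V : T.Opens) (hV : IsAffineOpen V) :
    ∃ W : (pullback g f).Opens, IsCompact (W : Set (pullback g f : Scheme.{u})) ∧
      (pullback.fst g f).base '' (W : Set (pullback g f : Scheme.{u})) = (V : Set T) := by
  classical
  have hloc : ∀ x ∈ V, ∃ (A : S.Opens) (B : T.Opens), IsAffineOpen A ∧ IsAffineOpen B ∧ x ∈ B ∧ B ≤ V ∧ B ≤ g ⁻¹ᵁ A := by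
    intro x hx
    obtain ⟨A, hA, hxA, -⟩ := exists_isAffineOpen_mem_and_subset (x := g x) (U := (⊤ : S.Opens)) trivial
    obtain ⟨B, hB, hxB, hBle⟩ := exists_isAffineOpen_mem_and_subset (x := x) (U := V ⊓ g ⁻¹ᵁ A) ⟨hx, hxA⟩
    exact ⟨A, B, hA, hB, hxB, fun y hy => (hBle hy).1, fun y hy => (hBle hy).2⟩
  choose A B hA hB hxB hBV hBA using hloc
  obtain ⟨F, hF⟩ := hV.isCompact.elim_finite_subcover (fun x : V => (B x.1 x.2 : Set T)) (fun x => (B x.1 x.2).isOpen)
    (fun x hx => Set.mem_iUnion.2 ⟨⟨x, hx⟩, hxB x hx⟩)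
  have hone : ∀ x : V, ∃ W : (pullback g f).Opens, IsCompact (W : Set (pullback g f : Scheme.{u})) ∧
      (pullback.fst g f).base '' (W : Set (pullback g f : Scheme.{u})) = (B x.1 x.2 : Set T) := by
    intro x
    obtain ⟨W₂, hW₂, hWA⟩ := hcov _ (hA x.1 x.2)
    have hl₂ : W₂ ≤ f ⁻¹ᵁ A x.1 x.2 := fun w hw => hWA.le ⟨w, hw, rfl⟩
    let b₁ := g.resLE (A x.1 x.2) (B x.1 x.2) (hBA x.1 x.2)
    let b₂ := f.resLE (A x.1 x.2) W₂ hl₂
    have : IsAffine (A x.1 x.2).toScheme := hA x.1 x.2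
    have : IsAffine (B x.1 x.2).toScheme := hB x.1 x.2
    have : CompactSpace W₂.toScheme := isCompact_iff_compactSpace.1 hW₂
    have : QuasiCompact b₂ := inferInstance
    have : QuasiCompact b₁ := inferInstance
    have : CompactSpace ↥(pullback b₁ b₂) := QuasiCompact.compactSpace_of_compactSpace (pullback.fst b₁ b₂)
    let q : pullback b₁ b₂ ⟶ pullback g f := pullback.map b₁ b₂ g f (B x.1 x.2).ι W₂.ι (A x.1 x.2).ι
      (Scheme.Hom.resLE_comp_ι g (hBA x.1 x.2)) (Scheme.Hom.resLE_comp_ι f hl₂)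
    have : IsOpenImmersion q := inferInstance
    refine ⟨q.opensRange, by rw [Scheme.Hom.coe_opensRange, ← Set.image_univ]; exact isCompact_univ.image q.continuous, ?_⟩
    rw [Scheme.Hom.coe_opensRange, ← Set.range_comp]
    apply Set.Subset.antisymm
    · rintro _ ⟨z, rfl⟩
      show pullback.fst g f (q z) ∈ B x.1 x.2
      rw [← Scheme.Hom.comp_apply, pullback.lift_fst, Scheme.Hom.comp_apply]
      exact Subtype.mem _
    · intro v hv
      obtain ⟨w, hw, hwv⟩ := hWA.ge (hBA x.1 x.2 hv)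
      obtain ⟨z, hz, -⟩ := Scheme.Pullback.exists_preimage_pullback (f := b₁) (g := b₂) ⟨v, hv⟩ ⟨w, hw⟩
        ((A x.1 x.2).ι.isOpenEmbedding.injective (by
          rw [← Scheme.Hom.comp_apply, ← Scheme.Hom.comp_apply, Scheme.Hom.resLE_comp_ι, Scheme.Hom.resLE_comp_ι,
            Scheme.Hom.comp_apply, Scheme.Hom.comp_apply]
          exact hwv.symm))
      refine ⟨z, ?_⟩
      show pullback.fst g f (q z) = v
      rw [← Scheme.Hom.comp_apply, pullback.lift_fst, Scheme.Hom.comp_apply, hz]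
      rfl
  choose W hW hWim using hone
  refine ⟨⨆ x ∈ F, W x, ?_, ?_⟩
  · simp only [TopologicalSpace.Opens.coe_iSup]
    exact F.isCompact_biUnion fun x _ => hW x
  · simp only [TopologicalSpace.Opens.coe_iSup, Set.image_iUnion, hWim]
    exact Set.Subset.antisymm (Set.iUnion₂_subset fun x _ => hBV x.1 x.2) hF

/-- Base change preserves multiplicative type of finite type. -/
theorem isMultTypeFT_bc (H : Over S) [GrpObj H] (hH : SGA3x.IsMultTypeFT H) : SGA3x.IsMultTypeFT (Red.bc g H) := by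
  obtain ⟨S', f, hfl, hsurj, hcov, hloc⟩ := hH
  let p := pullback.fst g f
  let q := pullback.snd g f
  refine ⟨pullback g f, p, MorphismProperty.pullback_fst (P := @Flat) _ _ hfl,
    MorphismProperty.pullback_fst (P := @Surjective) _ _ hsurj, cov_pullback g f hcov, fun s => ?_⟩
  obtain ⟨U, hU, M, iM, hM, ⟨e⟩⟩ := hloc (q s)
  let U' := q ⁻¹ᵁ U
  let g₁ : U'.toScheme ⟶ U.toScheme := q.resLE U U' le_rfl
  have h1 : (U'.ι ≫ p) ≫ g = g₁ ≫ U.ι ≫ f := by
    rw [← Category.assoc g₁, Scheme.Hom.resLE_comp_ι, Category.assoc, Category.assoc, pullback.condition]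
  let t₁ := Limits.IsTerminal.from specULiftZIsTerminal U.toScheme
  exact ⟨U', hU, M, iM, hM, ⟨(bcComp (U'.ι ≫ p) g H).symm ≪≫ bcCongr h1 H ≪≫ bcComp g₁ _ H ≪≫ bcIso g₁ e ≪≫
    (bcComp g₁ t₁ _).symm ≪≫ bcCongr (specULiftZIsTerminal.hom_ext _ _) _⟩⟩

end Groth.Agent.MultHopf
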