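import Groth.Agent.MultHopf.FreeAct
import Groth.Agent.MultHopf.HomLocus
import Groth.Agent.MultTypeMono.Basic
import Mathlib.RingTheory.Nakayama
import Mathlib.RingTheory.LocalRing.ResidueField.Ideal

/-!
# Homomorphisms out of groups of multiplicative type that are central on the fibres
-/

set_option autoImplicit false
set_option backward.isDefEq.respectTransparency.types false

universe u

open CategoryTheory CategoryTheory.Limits MonoidalCategory CartesianMonoidalCategory MonObj AlgebraicGeometry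
open scoped TensorProduct
open WithConv

namespace Groth.Agent.MultHopf

section core

variable {R B : Type u} [CommRing R] [CommRing B] [Algebra R B] {M : Type u} [CommGroup M]

/-- A grading of an algebra of finite type which is trivial on every fibre is trivial. -/
theorem grading_trivial [Algebra.FiniteType R B] (γ : B →ₐ[R] MonoidAlgebra B M)
    (hcoassoc : ∀ b m, γ ((γ b).coeff m) = MonoidAlgebra.single m ((γ b).coeff m))
    (hcounit : ∀ b, ((γ b).coeff.sum fun _ c => c) = b)
    (hfib : ∀ (q : Ideal B) [q.IsPrime] (b : B) (m : M), m ≠ 1 →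
      ∃ t ∉ q, t * (γ b).coeff m ∈ (q.comap (algebraMap R B)).map (algebraMap R B))
    (b : B) : γ b = algebraMap B (MonoidAlgebra B M) b := by
  classical
  obtain ⟨s, hs⟩ := Algebra.FiniteType.out (R := R) (A := B)
  let G : Finset B := s.biUnion fun d => ((γ d).coeff.support.erase 1).image (γ d).coeff
  let I : Ideal B := Ideal.span (G : Set B)
  let mk := MonoidAlgebra.mapRingHom M (Ideal.Quotient.mk I)
  let φ₁ : B →ₐ[R] MonoidAlgebra (B ⧸ I) M :=
    AlgHom.mk (mk.comp γ.toRingHom) fun r => by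
      show mk (γ (algebraMap R B r)) = _
      rw [AlgHom.commutes, IsScalarTower.algebraMap_apply R B (MonoidAlgebra B M),
        IsScalarTower.algebraMap_apply R (B ⧸ I) (MonoidAlgebra (B ⧸ I) M), MonoidAlgebra.coe_algebraMap,
        MonoidAlgebra.coe_algebraMap]
      simp [mk]
  let φ₀ : B →ₐ[R] MonoidAlgebra (B ⧸ I) M :=
    (IsScalarTower.toAlgHom R (B ⧸ I) (MonoidAlgebra (B ⧸ I) M)).comp (Ideal.Quotient.mkₐ R I)
  have hI : ∀ x m, m ≠ 1 → (γ x).coeff m ∈ I := by
    have hgen : ∀ d ∈ s, φ₁ d = φ₀ d := by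
      intro d hd
      have hmem : ∀ m, m ≠ 1 → (γ d).coeff m ∈ I := fun m hm => by
        by_cases h0 : (γ d).coeff m = 0
        · rw [h0]; exact zero_mem _
        · exact Ideal.subset_span (Finset.mem_biUnion.2 ⟨d, hd, Finset.mem_image.2 ⟨m,
            Finset.mem_erase.2 ⟨hm, Finsupp.mem_support_iff.2 h0⟩, rfl⟩⟩)
      apply MonoidAlgebra.coeff_injective
      ext m
      show (mk (γ d)).coeff m = _
      have hφ₀ : φ₀ d = MonoidAlgebra.single 1 (Ideal.Quotient.mk I d) := by
        simp [φ₀, MonoidAlgebra.coe_algebraMap]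
      rw [hφ₀, MonoidAlgebra.coeff_single, Finsupp.single_apply]
      simp only [mk, MonoidAlgebra.coeff_mapRingHom]
      by_cases hm : (1 : M) = m
      · subst hm
        rw [if_pos rfl]
        rw [Ideal.Quotient.eq]
        have hsum := hcounit d
        rw [Finsupp.sum] at hsum
        by_cases h1 : (1 : M) ∈ (γ d).coeff.support
        · rw [← Finset.add_sum_erase _ _ h1] at hsum
          have : (γ d).coeff 1 - d = -∑ x ∈ (γ d).coeff.support.erase 1, (γ d).coeff x := by
            linear_combination hsum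
          rw [this]
          exact I.neg_mem (sum_mem fun x hx => hmem x (Finset.mem_erase.1 hx).1)
        · rw [Finsupp.notMem_support_iff.1 h1, zero_sub]
          refine I.neg_mem ?_
          rw [← hsum]
          exact sum_mem fun x hx => hmem x (fun e => h1 (e ▸ hx))
      · rw [if_neg hm]
        exact Ideal.Quotient.eq_zero_iff_mem.2 (hmem m (Ne.symm hm))
    have heq : φ₁ = φ₀ := AlgHom.ext_of_adjoin_eq_top hs hgen
    intro x m hm
    have h := congrArg (fun z => (MonoidAlgebra.coeff z) m) (DFunLike.congr_fun heq x)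
    have hφ₀ : φ₀ x = MonoidAlgebra.single 1 (Ideal.Quotient.mk I x) := by
      simp [φ₀, MonoidAlgebra.coe_algebraMap]
    rw [hφ₀] at h
    simp only [MonoidAlgebra.coeff_single, Finsupp.single_apply, if_neg (Ne.symm hm)] at h
    rw [← Ideal.Quotient.eq_zero_iff_mem, ← h]
    show _ = (mk (γ x)).coeff m
    simp [mk]
  have hIq : ∀ q : Ideal B, q.IsMaximal → I ≤ q • I := by
    intro q hq
    refine Ideal.span_le.2 fun z hz => ?_
    obtain ⟨d, -, m, hm', rfl⟩ := (by simpa [G] using hz : ∃ d ∈ s, ∃ m, (¬(γ d).coeff m = 0 ∧ ¬m = 1) ∧ (γ d).coeff m = z)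
    have hm := hm'.symm
    set z := (γ d).coeff m with hzdef
    have hzI : z ∈ I := hI d m hm.1
    obtain ⟨t, ht, htz⟩ := hfib q d m hm.1
    let t₁ := (γ t).coeff 1
    have ht₁ : t₁ ∉ q := by
      intro h
      apply ht
      rw [← hcounit t]
      refine sum_mem fun n _ => ?_
      by_cases hn : n = 1
      · subst hn; exact h
      · obtain ⟨t', ht', h'⟩ := hfib q t n hn
        exact (hq.isPrime.mem_or_mem (Ideal.map_le_iff_le_comap.2 le_rfl h')).resolve_left ht'
    have hle : ((q.comap (algebraMap R B)).map (algebraMap R B)) * I ≤ q * I :=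
      Ideal.mul_mono_left (Ideal.map_le_iff_le_comap.2 le_rfl)
    have hkey : t₁ * z ∈ q * I := by
      have hw : ∀ w ∈ (q.comap (algebraMap R B)).map (algebraMap R B), (γ w).coeff m ∈ q * I := by
        intro w hw
        have hw' : w ∈ ((q.comap (algebraMap R B)).map (algebraMap R B)).restrictScalars R := hw
        rw [← Ideal.smul_top_eq_map] at hw'
        refine Submodule.smul_induction_on hw' (fun r hr c _ => hle ?_) fun x y hx hy => ?_
        · rw [Algebra.smul_def r c, map_mul, AlgHom.commutes, ← Algebra.smul_def, MonoidAlgebra.coeff_smul,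
            Finsupp.smul_apply, Algebra.smul_def]
          exact Ideal.mul_mem_mul (Ideal.mem_map_of_mem _ hr) (hI c m hm.1)
        · rw [map_add, MonoidAlgebra.coeff_add, Finsupp.add_apply]
          exact add_mem hx hy
      have h := hw _ htz
      rwa [map_mul, hcoassoc, MonoidAlgebra.coeff_mul_single_apply, mul_inv_cancel] at h
    obtain ⟨y, hy⟩ := Ideal.Quotient.maximal_ideal_iff_isField_quotient q |>.1 hq |>.mul_inv_cancel
      (a := Ideal.Quotient.mk q t₁) (fun h => ht₁ (Ideal.Quotient.eq_zero_iff_mem.1 h))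
    obtain ⟨y, rfl⟩ := Ideal.Quotient.mk_surjective y
    rw [← map_mul, ← map_one (Ideal.Quotient.mk q), Ideal.Quotient.eq] at hy
    show z ∈ q * I
    rw [show z = y * (t₁ * z) - (t₁ * y - 1) * z by ring]
    exact sub_mem (Ideal.mul_mem_left _ _ hkey) (Ideal.mul_mem_mul hy hzI)
  have hI0 : ∀ z ∈ I, z = 0 := by
    intro z hz
    by_contra hz0
    let A : Ideal B := Submodule.annihilator I
    have hA : A ≠ ⊤ := fun h => hz0 (by
      simpa using (Submodule.mem_annihilator.1 (h.symm ▸ Submodule.mem_top : (1 : B) ∈ A) z hz))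
    obtain ⟨q, hq, hAq⟩ := Ideal.exists_le_maximal A hA
    obtain ⟨x, hx1, hx⟩ := Submodule.exists_sub_one_mem_and_smul_eq_zero_of_fg_of_le_smul q I ⟨G, rfl⟩ (hIq q hq)
    have hxA : x ∈ q := hAq (Submodule.mem_annihilator.2 hx)
    exact hq.ne_top ((Ideal.eq_top_iff_one _).2 (by simpa using sub_mem hxA hx1))
  apply MonoidAlgebra.coeff_injective
  ext n
  rw [MonoidAlgebra.coe_algebraMap]
  simp only [Function.comp_apply, MonoidAlgebra.coeff_single, Finsupp.single_apply, Algebra.algebraMap_self, RingHom.id_apply]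
  split_ifs with hn
  · subst hn
    conv_rhs => rw [← hcounit b]
    rw [Finsupp.sum, Finset.sum_eq_single (1 : M)]
    · intro m _ hm
      exact hI0 _ (hI b m hm)
    · intro h
      exact Finsupp.notMem_support_iff.1 h
  · exact hI0 _ (hI b n (Ne.symm hn))

end core

variable {S : Scheme.{u}} {R : Type u} [CommRing R] (j : Spec (CommRingCat.of R) ⟶ S)
  {H G : Over S} [GrpObj H] [GrpObj G] (u : H ⟶ G) [IsMonHom u]

/-- Conjugation by the image of a point. -/
noncomputable def conjPt {T : Over S} (h : T ⟶ H) (g : T ⟶ G) : T ⟶ G := (h ≫ u) * g * (h ≫ u)⁻¹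

omit [IsMonHom u] in
theorem conjPt_comp {T T' : Over S} (f : T' ⟶ T) (h : T ⟶ H) (g : T ⟶ G) :
    f ≫ conjPt u h g = conjPt u (f ≫ h) (f ≫ g) := by
  simp only [conjPt, MonObj.comp_mul, GrpObj.comp_inv, Category.assoc]

theorem conjPt_mul {T : Over S} (h h' : T ⟶ H) (g : T ⟶ G) :
    conjPt u (h * h') g = conjPt u h (conjPt u h' g) := by
  simp only [conjPt, MonObj.mul_comp, mul_inv_rev, _root_.mul_assoc]

theorem conjPt_one {T : Over S} (g : T ⟶ G) : conjPt u (1 : T ⟶ H) g = g := by
  simp [conjPt, MonObj.one_comp]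

omit [IsMonHom u] in
theorem commute_iff_conjPt {T : Over S} (h : T ⟶ H) (g : T ⟶ G) :
    g * (h ≫ u) = (h ≫ u) * g ↔ conjPt u h g = g := by
  rw [conjPt, mul_inv_eq_iff_eq_mul]
  exact eq_comm

theorem conjPt_eq_of_fibre
    (hfib : ∀ (s : S) (X : Over (Spec (S.residueField s))) (g : X ⟶ Red.bc (S.fromSpecResidueField s) G)
      (h : X ⟶ Red.bc (S.fromSpecResidueField s) H),
      g * (h ≫ (Over.pullback (S.fromSpecResidueField s)).map u) = (h ≫ (Over.pullback (S.fromSpecResidueField s)).map u) * g)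
    {T : Over S} (s : S) (b : T.left ⟶ Spec (S.residueField s)) (hb : b ≫ S.fromSpecResidueField s = T.hom)
    (h : T ⟶ H) (g : T ⟶ G) : conjPt u h g = g := by
  let Z : Over (Spec (S.residueField s)) := Over.mk b
  let i : (Over.map (S.fromSpecResidueField s)).obj Z ≅ T := Over.isoMk (Iso.refl _) (by simp [Z, hb])
  rw [← cancel_epi i.hom, conjPt_comp (u := u), ← commute_iff_conjPt]
  apply (adjMulEquiv (S.fromSpecResidueField s) Z G).injective
  rw [map_mul, map_mul, adjMulEquiv_comp (w := u)]
  exact hfib s Z _ _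

theorem conjPt_eq_of_residue
    (hfib : ∀ (s : S) (X : Over (Spec (S.residueField s))) (g : X ⟶ Red.bc (S.fromSpecResidueField s) G)
      (h : X ⟶ Red.bc (S.fromSpecResidueField s) H),
      g * (h ≫ (Over.pullback (S.fromSpecResidueField s)).map u) = (h ≫ (Over.pullback (S.fromSpecResidueField s)).map u) * g)
    {D : Type u} [CommRing D] [Algebra R D] (p : Ideal R) [p.IsPrime] (hp : p ≤ RingHom.ker (algebraMap R D))
    (hu : ∀ r ∉ p, IsUnit (algebraMap R D r)) (h : ptS j D ⟶ H) (g : ptS j D ⟶ G) : conjPt u h g = g := by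
  let K := p.ResidueField
  let m : Spec (CommRingCat.of K) ⟶ S := Spec.map (CommRingCat.ofHom (algebraMap R K)) ≫ j
  obtain ⟨f, hf⟩ := exists_factor_residueField m _ rfl
  let ι₀ : K →ₐ[R] D := Ideal.ResidueField.liftₐ p (Algebra.ofId R D) hp (fun x hx => hu x hx)
  refine conjPt_eq_of_fibre u hfib _ (Spec.map (CommRingCat.ofHom ι₀.toRingHom) ≫ f) ?_ h g
  rw [Category.assoc, hf]
  show Spec.map _ ≫ Spec.map _ ≫ j = Spec.map (CommRingCat.ofHom (algebraMap R D)) ≫ j
  rw [← Category.assoc, ← Spec.map_comp, ← CommRingCat.ofHom_comp,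
    show ι₀.toRingHom.comp (algebraMap R K) = algebraMap R D from RingHom.ext ι₀.commutes]

/-- Centrality over an affine chart where the source is diagonalisable. -/
theorem conjPt_eq_of_split [LocallyOfFiniteType G.hom] {M : Type u} [CommGroup M]
    (eA : Grp.mk (Red.bc j H) ≅ Grp.mk (hspec R (MonoidAlgebra R M)))
    (hfib : ∀ (s : S) (X : Over (Spec (S.residueField s))) (g : X ⟶ Red.bc (S.fromSpecResidueField s) G)
      (h : X ⟶ Red.bc (S.fromSpecResidueField s) H),
      g * (h ≫ (Over.pullback (S.fromSpecResidueField s)).map u) = (h ≫ (Over.pullback (S.fromSpecResidueField s)).map u) * g)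
    {C : Type u} [CommRing C] [IsLocalRing C] [Algebra R C] (h : ptS j C ⟶ H) (g : ptS j C ⟶ G) :
    conjPt u h g = g := by
  classical
  let adj := fun (D : Type u) [CommRing D] [Algebra R D] => adjMulEquiv j (pt (R := R) D) G
  let yL : Spec (CommRingCat.of C) ⟶ (Red.bc j G).left := (adj C g).left
  obtain ⟨W, hW, hyW, -⟩ := exists_isAffineOpen_mem_and_subset (X := (Red.bc j G).left)
    (x := yL (IsLocalRing.closedPoint C)) (U := ⊤) trivial
  let B : Type u := Γ((Red.bc j G).left, W)
  let pB : Spec (CommRingCat.of B) ⟶ Spec (CommRingCat.of R) := hW.fromSpec ≫ (Red.bc j G).hom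
  let : Algebra R B := (Spec.preimage pB).hom.toAlgebra
  have hpB : Spec.map (CommRingCat.ofHom (algebraMap R B)) = pB := Spec.map_preimage pB
  let inc : pt (R := R) B ⟶ Red.bc j G := Over.homMk hW.fromSpec hpB.symm
  have : IsOpenImmersion inc.left := inferInstanceAs (IsOpenImmersion hW.fromSpec)
  have : Algebra.FiniteType R B := by
    have : LocallyOfFiniteType (Red.bc j G).hom := MorphismProperty.pullback_snd (P := @LocallyOfFiniteType) _ _ inferInstance
    have h1 : LocallyOfFiniteType (Spec.map (CommRingCat.ofHom (algebraMap R B))) := by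
      rw [hpB]
      exact MorphismProperty.comp_mem @LocallyOfFiniteType hW.fromSpec _ inferInstance inferInstance
    exact RingHom.finiteType_algebraMap.1 ((HasRingHomProperty.Spec_iff (P := @LocallyOfFiniteType)).1 h1)
  let gW := fun {D : Type u} [CommRing D] [Algebra R D] (ξ : B →ₐ[R] D) =>
    ((adj D).symm (ptMap ξ ≫ inc) : ptS j D ⟶ G)
  have hgW : ∀ {D D' : Type u} [CommRing D] [Algebra R D] [CommRing D'] [Algebra R D'] (f : D →ₐ[R] D')
      (ξ : B →ₐ[R] D), pSMap j f ≫ gW ξ = gW (f.comp ξ) := by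
    intro D D' _ _ _ _ f ξ
    apply (adj D').injective
    show (Over.mapPullbackAdj j).homEquiv _ G ((Over.map j).map (ptMap f) ≫ gW ξ) = adj D' ((adj D').symm _)
    rw [Adjunction.homEquiv_naturality_left, MulEquiv.apply_symm_apply]
    show ptMap f ≫ adj D ((adj D).symm _) = _
    rw [MulEquiv.apply_symm_apply, ← Category.assoc]
    congr 1
    apply Over.OverMorphism.ext
    show Spec.map _ ≫ Spec.map _ = Spec.map _
    rw [← Spec.map_comp]
    rfl
  have hinj : ∀ {D : Type u} [CommRing D] [Algebra R D] (ξ ξ' : B →ₐ[R] D), gW ξ = gW ξ' → ξ = ξ' := by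
    intro D _ _ ξ ξ' he
    have h1 : Spec.map (CommRingCat.ofHom ξ.toRingHom) ≫ hW.fromSpec = Spec.map (CommRingCat.ofHom ξ'.toRingHom) ≫ hW.fromSpec :=
      congrArg (fun z => z.left) ((adj D).symm.injective he)
    rw [cancel_mono] at h1
    exact AlgHom.coe_ringHom_injective (congrArg CommRingCat.Hom.hom (Spec.map_injective h1))
  have hlift : ∀ {D : Type u} [CommRing D] [Algebra R D] (z : ptS j D ⟶ G),
      (∀ x, ((adj D z).left : Spec (CommRingCat.of D) ⟶ _) x ∈ W) → ∃ ξ : B →ₐ[R] D, gW ξ = z := by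
    intro D _ _ z hz
    let zL : Spec (CommRingCat.of D) ⟶ (Red.bc j G).left := (adj D z).left
    have hr : Set.range zL ⊆ Set.range hW.fromSpec := by
      rw [hW.range_fromSpec]; rintro _ ⟨x, rfl⟩; exact hz x
    let l := IsOpenImmersion.lift hW.fromSpec zL hr
    have hl : l ≫ hW.fromSpec = zL := IsOpenImmersion.lift_fac _ _ _
    have he : CommRingCat.ofHom (algebraMap R B) ≫ Spec.preimage l = CommRingCat.ofHom (algebraMap R D) := by
      apply Spec.map_injective
      rw [Spec.map_comp, Spec.map_preimage, hpB]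
      show l ≫ hW.fromSpec ≫ _ = _
      rw [← Category.assoc, hl]
      exact Over.w (adj D z)
    refine ⟨{ (Spec.preimage l).hom with commutes' := fun r => CategoryTheory.congr_fun he r }, ?_⟩
    apply (adj D).injective
    show adj D ((adj D).symm _) = _
    rw [MulEquiv.apply_symm_apply]
    apply Over.OverMorphism.ext
    show Spec.map (Spec.preimage l) ≫ hW.fromSpec = _
    rw [Spec.map_preimage, hl]
  -- the coaction
  let BM := MonoidAlgebra B M
  let incB : B →ₐ[R] BM := IsScalarTower.toAlgHom R B BM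
  obtain ⟨γ, hγ⟩ : ∃ γ : B →ₐ[R] BM, gW γ = conjPt u (chiPt j eA (MonoidAlgebra.of B M)) (gW incB) := by
    refine hlift _ fun x => ?_
    let p : Ideal R := x.asIdeal.comap (algebraMap R BM)
    let q : BM →ₐ[R] x.asIdeal.ResidueField := IsScalarTower.toAlgHom R BM _
    have he : pSMap j q ≫ conjPt u (chiPt j eA (MonoidAlgebra.of B M)) (gW incB) = pSMap j q ≫ gW incB := by
      rw [conjPt_comp]
      refine conjPt_eq_of_residue j u hfib p (fun r hr => ?_) (fun r hr => ?_) _ _
      · rw [RingHom.mem_ker, IsScalarTower.algebraMap_apply R BM x.asIdeal.ResidueField]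
        exact Ideal.algebraMap_residueField_eq_zero.2 hr
      · rw [IsScalarTower.algebraMap_apply R BM x.asIdeal.ResidueField]
        exact Ne.isUnit fun h0 => hr ((Ideal.algebraMap_residueField_eq_zero (I := x.asIdeal)).1 h0)
    obtain ⟨x₀, hx₀⟩ : x ∈ Set.range (PrimeSpectrum.comap q.toRingHom) := by
      refine ⟨⟨⊥, Ideal.isPrime_bot⟩, PrimeSpectrum.ext ?_⟩
      exact Ideal.ker_algebraMap_residueField x.asIdeal
    have hnat : ∀ z : ptS j BM ⟶ G, ((adj _ (pSMap j q ≫ z)).left : Spec (CommRingCat.of x.asIdeal.ResidueField) ⟶ _) x₀ =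
        ((adj _ z).left : Spec (CommRingCat.of BM) ⟶ _) x := by
      intro z
      have e : adj _ (pSMap j q ≫ z) = ptMap q ≫ adj _ z := by
        show (Over.mapPullbackAdj j).homEquiv _ G ((Over.map j).map (ptMap q) ≫ z) = _
        rw [Adjunction.homEquiv_naturality_left]
        rfl
      rw [e]
      exact congrArg ((adj _ z).left : Spec (CommRingCat.of BM) ⟶ _) hx₀
    rw [← hnat, he, hgW]
    show ((adj _ ((adj _).symm _)).left : Spec (CommRingCat.of x.asIdeal.ResidueField) ⟶ _) x₀ ∈ W
    rw [MulEquiv.apply_symm_apply]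
    show hW.fromSpec _ ∈ W
    exact hW.range_fromSpec.le (Set.mem_range_self _)
  have hchi : ∀ {D : Type u} [CommRing D] [Algebra R D] (χ : M →* D) (ξ : B →ₐ[R] D),
      conjPt u (chiPt j eA χ) (gW ξ) =
        gW ((MonoidAlgebra.liftNCAlgHom ξ χ (fun _ _ => Commute.all _ _)).comp γ) := by
    intro D _ _ χ ξ
    rw [← hgW, hγ, conjPt_comp, chiPt_pSMap, hgW]
    congr 2
    · ext m
      show _ = MonoidAlgebra.liftNC (ξ : B →+ _) χ (MonoidAlgebra.single m 1)
      rw [MonoidAlgebra.liftNC_single]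
      simp
    · ext b
      show _ = MonoidAlgebra.liftNC (ξ : B →+ _) χ (MonoidAlgebra.single 1 (algebraMap B B b))
      rw [MonoidAlgebra.liftNC_single]
      simp
  have hev : ∀ {D : Type u} [CommRing D] [Algebra R D] (χ : M →* D) (ξ : B →ₐ[R] D) (b : B),
      MonoidAlgebra.liftNCAlgHom ξ χ (fun _ _ => Commute.all _ _) (γ b) =
        (γ b).coeff.sum fun m c => ξ c * χ m := fun χ ξ b => by
    show MonoidAlgebra.liftNC (ξ : B →+ _) χ (γ b) = _
    conv_lhs => rw [← MonoidAlgebra.sum_coeff_single (γ b)]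
    simp [Finsupp.sum, map_sum, MonoidAlgebra.liftNC_single]
  have hchi1 : ∀ {D : Type u} [CommRing D] [Algebra R D], chiPt j eA (1 : M →* D) = 1 := by
    intro D _ _
    have h1 := chiPt_mul j eA (1 : M →* D) 1
    rw [_root_.mul_one] at h1
    exact mul_eq_left.1 h1.symm
  have hcounit : ∀ b, ((γ b).coeff.sum fun _ c => c) = b := fun b => by
    have h1 := hchi (D := B) (1 : M →* B) (AlgHom.id R B)
    rw [hchi1, conjPt_one] at h1
    have h2 := DFunLike.congr_fun (hinj _ _ h1) b
    rw [AlgHom.comp_apply, hev] at h2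
    simpa using h2.symm
  have hcoassoc : ∀ b m, γ ((γ b).coeff m) = MonoidAlgebra.single m ((γ b).coeff m) := by
    intro b m
    let D := MonoidAlgebra B (M × M)
    let χ₁ : M →* D := (MonoidAlgebra.of B (M × M)).comp (MonoidHom.inl M M)
    let χ₂ : M →* D := (MonoidAlgebra.of B (M × M)).comp (MonoidHom.inr M M)
    let ξ : B →ₐ[R] D := IsScalarTower.toAlgHom R B D
    have h1 := hchi (χ₁ * χ₂) ξ
    rw [chiPt_mul, conjPt_mul, hchi, hchi] at h1
    have h2 := DFunLike.congr_fun (hinj _ _ h1) b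
    rw [AlgHom.comp_apply, AlgHom.comp_apply, hev, hev] at h2
    simp only [AlgHom.comp_apply, hev] at h2
    have h3 := fun n => congrArg (fun z : D => z.coeff (m, n)) h2
    apply MonoidAlgebra.coeff_injective
    ext n
    have h4 : _ = _ := h3 n
    dsimp only [D] at h4
    have halg : ∀ c : B, algebraMap B D c = MonoidAlgebra.single 1 c := fun c => by
      simp [D, MonoidAlgebra.coe_algebraMap]
    simp only [χ₁, χ₂, ξ, halg, Finsupp.sum, MonoidAlgebra.coeff_sum, Finsupp.finsetSum_apply, MonoidHom.mul_apply,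
      MonoidHom.comp_apply, MonoidHom.inl_apply, MonoidHom.inr_apply, MonoidAlgebra.of_apply,
      IsScalarTower.coe_toAlgHom', MonoidAlgebra.coe_algebraMap, Function.comp_apply, Finset.sum_mul,
      MonoidAlgebra.single_mul_single, _root_.one_mul, _root_.mul_one, Prod.mk_mul_mk, MonoidAlgebra.coeff_single,
      Finsupp.single_apply, Prod.mk.injEq, Algebra.algebraMap_self, RingHom.id_apply] at h4
    simp only [ite_and, Finset.sum_ite_irrel, Finset.sum_const_zero, Finset.sum_ite_eq', Finsupp.mem_support_iff,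
      ne_eq, ite_not] at h4
    rw [MonoidAlgebra.coeff_single, Finsupp.single_apply]
    by_cases hm : (γ b).coeff m = 0
    · simp [hm]
    · rw [if_neg hm, if_neg hm] at h4
      refine (?_ : _ = _).trans h4
      split_ifs with h <;> simp [h]
  have hfibre : ∀ (q : Ideal B) [q.IsPrime] (b : B) (m : M), m ≠ 1 →
      ∃ t ∉ q, t * (γ b).coeff m ∈ (q.comap (algebraMap R B)).map (algebraMap R B) := by
    intro q _ b m hm
    let p := q.comap (algebraMap R B)
    let P : Ideal B := p.map (algebraMap R B)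
    let L := Localization.AtPrime q
    let Q := L ⧸ P.map (algebraMap B L)
    let D := MonoidAlgebra Q M
    let π : BM →ₐ[R] D := AlgHom.mk (MonoidAlgebra.mapRingHom M (algebraMap B Q)) fun r => by
      show MonoidAlgebra.mapRingHom M (algebraMap B Q) (algebraMap R BM r) = _
      rw [IsScalarTower.algebraMap_apply R B BM, IsScalarTower.algebraMap_apply R B D, MonoidAlgebra.coe_algebraMap,
        MonoidAlgebra.coe_algebraMap]
      simp
    have he : pSMap (D := BM) (D' := D) j π ≫ gW γ = pSMap (D := BM) (D' := D) j π ≫ gW incB := by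
      rw [hγ, conjPt_comp]
      refine conjPt_eq_of_residue j u hfib p (fun r hr => ?_) (fun r hr => ?_) _ _
      · rw [RingHom.mem_ker, IsScalarTower.algebraMap_apply R Q D, IsScalarTower.algebraMap_apply R L Q,
          IsScalarTower.algebraMap_apply R B L, Ideal.Quotient.algebraMap_eq,
          Ideal.Quotient.eq_zero_iff_mem.2 (Ideal.mem_map_of_mem _ (Ideal.mem_map_of_mem _ hr)), map_zero]
      · rw [IsScalarTower.algebraMap_apply R Q D, IsScalarTower.algebraMap_apply R L Q, IsScalarTower.algebraMap_apply R B L]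
        exact ((IsLocalization.map_units (S := L) (⟨algebraMap R B r, hr⟩ : q.primeCompl)).map _).map _
    rw [hgW, hgW] at he
    have h1 := congrArg (fun z => (MonoidAlgebra.coeff z) m) (DFunLike.congr_fun (hinj _ _ he) b)
    have h2 : algebraMap B Q ((γ b).coeff m) = 0 := by
      refine Eq.trans ?_ (h1.trans ?_)
      · show _ = (MonoidAlgebra.mapRingHom M (algebraMap B Q) (γ b)).coeff m
        simp
      · show (MonoidAlgebra.mapRingHom M (algebraMap B Q) (algebraMap B BM b)).coeff m = 0
        rw [MonoidAlgebra.coe_algebraMap]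
        simp [Finsupp.single_apply, Ne.symm hm]
    rw [IsScalarTower.algebraMap_apply B L Q, Ideal.Quotient.algebraMap_eq, Ideal.Quotient.eq_zero_iff_mem] at h2
    obtain ⟨t, ht, htb⟩ := (IsLocalization.algebraMap_mem_map_algebraMap_iff q.primeCompl L P _).1 h2
    exact ⟨t, ht, htb⟩
  have htriv : γ = incB := AlgHom.ext fun b => grading_trivial γ hcoassoc hcounit hfibre b
  -- the given point
  obtain ⟨ξ, hξ⟩ := hlift g fun x => by
    have htop : yL ⁻¹ᵁ W = ⊤ := (IsLocalRing.closedPoint_mem_iff (yL ⁻¹ᵁ W)).1 hyW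
    exact (htop ▸ trivial : x ∈ yL ⁻¹ᵁ W)
  let χ : M →* C := (MonoidAlgebra.lift R C M).symm (ptEquiv j eA C h).ofConv
  have hh : h = chiPt j eA χ := by
    apply (ptEquiv j eA C).injective
    rw [chiPt, Equiv.apply_symm_apply, Equiv.apply_symm_apply]
  rw [hh, ← hξ, hchi, htriv]
  congr 1
  ext b
  show MonoidAlgebra.liftNC (ξ : B →+ _) χ (MonoidAlgebra.single 1 (algebraMap B B b)) = ξ b
  rw [MonoidAlgebra.liftNC_single]
  simp

/-- A homomorphism out of a group of multiplicative type which is central on the fibres is central. -/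
theorem commute_of_fibres (hH : SGA3x.IsMultTypeFT H) [LocallyOfFiniteType G.hom]
    (hfib : ∀ (s : S) (X : Over (Spec (S.residueField s))) (g : X ⟶ Red.bc (S.fromSpecResidueField s) G)
      (h : X ⟶ Red.bc (S.fromSpecResidueField s) H),
      g * (h ≫ (Over.pullback (S.fromSpecResidueField s)).map u) = (h ≫ (Over.pullback (S.fromSpecResidueField s)).map u) * g)
    (X : Over S) (g : X ⟶ G) (h : X ⟶ H) : g * (h ≫ u) = (h ≫ u) * g := by
  rw [commute_iff_conjPt]
  obtain ⟨S', f, hfl, hsurj, -, hloc⟩ := hH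
  let q : pullback X.hom f ⟶ X.left := pullback.fst X.hom f
  have : Flat q := MorphismProperty.pullback_fst (P := @Flat) _ _ hfl
  have : Surjective q := MorphismProperty.pullback_fst (P := @Surjective) _ _ hsurj
  have : Epi q := Flat.epi_of_flat_of_surjective q
  apply Over.OverMorphism.ext
  rw [← cancel_epi q]
  choose U hU M iM hM hiso using hloc
  choose W hW hsW hWU using fun s' : S' => exists_isAffineOpen_mem_and_subset (hU s')
  let p : pullback X.hom f ⟶ S' := pullback.snd X.hom f
  have hsup : iSup (fun s' => p ⁻¹ᵁ W s') = ⊤ :=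
    top_le_iff.1 fun x _ => TopologicalSpace.Opens.mem_iSup.2 ⟨p x, hsW (p x)⟩
  refine Scheme.Cover.hom_ext ((pullback X.hom f).openCoverOfIsOpenCover _ hsup) _ _ fun s' => ?_
  let O := p ⁻¹ᵁ W s'
  show O.ι ≫ q ≫ (conjPt u h g).left = O.ι ≫ q ≫ g.left
  let R : Type u := Γ(S', W s')
  let j : Spec (CommRingCat.of R) ⟶ S := (hW s').fromSpec ≫ f
  let T : Over S := Over.mk (O.ι ≫ q ≫ X.hom)
  let t : T ⟶ X := Over.homMk (O.ι ≫ q) (Category.assoc _ _ _)
  let b : T.left ⟶ Spec (CommRingCat.of R) := p.resLE (W s') O le_rfl ≫ (hW s').isoSpec.hom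
  have hb : b ≫ j = T.hom := by
    show (p.resLE (W s') O le_rfl ≫ (hW s').isoSpec.hom) ≫ (hW s').fromSpec ≫ f = O.ι ≫ q ≫ X.hom
    simp only [IsAffineOpen.fromSpec, Category.assoc, Iso.hom_inv_id_assoc, Scheme.Hom.resLE_comp_ι_assoc]
    rw [show q ≫ X.hom = p ≫ f from pullback.condition]
  suffices hT : t ≫ conjPt u h g = t ≫ g by
    have := congrArg (fun z : T ⟶ G => z.left) hT
    exact (Category.assoc _ _ _).symm.trans (this.trans (Category.assoc _ _ _))
  obtain ⟨eU⟩ := hiso s'
  let gU : Spec (CommRingCat.of R) ⟶ (U s').toScheme := (hW s').isoSpec.inv ≫ S'.homOfLE (hWU s')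
  have hgU : j = gU ≫ (U s').ι ≫ f := by
    simp only [j, gU, Category.assoc, Scheme.homOfLE_ι_assoc]
    rfl
  let tU := Limits.IsTerminal.from specULiftZIsTerminal (U s').toScheme
  let eA : Grp.mk (Red.bc j H) ≅ Grp.mk (hspec R (MonoidAlgebra R (ULift.{u} (Multiplicative (M s'))))) :=
    bcCongr hgU H ≪≫ bcComp gU _ H ≪≫ bcIso gU eU ≪≫ (bcComp gU tU _).symm ≪≫ bcDiag _ _ _ (M s')
  refine hom_ext_pieces j b hb _ _ fun C _ _ ρ _ => ?_
  apply Over.OverMorphism.ext
  refine hom_ext_atPrimes _ _ fun P => ?_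
  let e := pSMap j (IsScalarTower.toAlgHom R C (Localization.AtPrime P.asIdeal))
  show e.left ≫ (ρ ≫ t ≫ conjPt u h g).left = e.left ≫ (ρ ≫ t ≫ g).left
  rw [← Over.comp_left, ← Over.comp_left]
  congr 1
  rw [← Category.assoc, ← Category.assoc, ← Category.assoc, conjPt_comp]
  exact conjPt_eq_of_split j u eA hfib _ _

end Groth.Agent.MultHopf
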