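import Groth.Agent.MultHopf.BaseChangeFT
import Groth.Agent.MultHopf.CentralFib
import Groth.Agent.GeomConn.Scheme
import Groth.Agent.SchDescent.OverEpi
import Groth.Agent.S5286

/-!
# Descent of central homomorphisms out of groups of multiplicative type
-/

set_option autoImplicit false
set_option backward.isDefEq.respectTransparency.types false

universe u

open CategoryTheory CategoryTheory.Limits MonoidalCategory CartesianMonoidalCategory MonObj AlgebraicGeometry

namespace Groth.Agent.MultHopf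

variable {S S' : Scheme.{u}} (π : S' ⟶ S)

/-- Connected geometric fibres: all fibres over field valued points are connected. -/
theorem connectedSpace_pullback_of_geomPt
    (hconn : ∀ s : S, ConnectedSpace ↥(pullback π (Red.geomPt s))) (K : Type u) [Field K]
    (m : Spec (CommRingCat.of K) ⟶ S) : ConnectedSpace ↥(pullback π m) := by
  let Ω := AlgebraicClosure K
  let s := m (IsLocalRing.closedPoint K)
  obtain ⟨h, hh⟩ := exists_factor_residueField m s rfl
  let k := S.residueField s
  let : Algebra k Ω := ((algebraMap K Ω).comp (Spec.preimage h).hom).toAlgebra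
  let l : AlgebraicClosure k →ₐ[k] Ω := IsAlgClosed.lift
  let : Algebra (AlgebraicClosure k) Ω := l.toRingHom.toAlgebra
  have := hconn s
  have hbc := GeomConn.connectedSpace_bcTo_of_isAlgClosed (K := Ω) (pullback.snd π (Red.geomPt s))
  let eK : Spec (CommRingCat.of Ω) ⟶ Spec (CommRingCat.of (AlgebraicClosure k)) :=
    Spec.map (CommRingCat.ofHom (algebraMap (AlgebraicClosure k) Ω))
  let eΩ : Spec (CommRingCat.of Ω) ⟶ Spec (CommRingCat.of K) := Spec.map (CommRingCat.ofHom (algebraMap K Ω))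
  have he : eK ≫ Red.geomPt s = eΩ ≫ m := by
    rw [← hh, ← Spec.map_preimage h]
    show Spec.map _ ≫ Spec.map _ ≫ _ = Spec.map _ ≫ Spec.map _ ≫ _
    rw [← Category.assoc, ← Category.assoc, ← Spec.map_comp, ← Spec.map_comp]
    congr 2
    exact CommRingCat.hom_ext (RingHom.ext fun x => l.commutes x)
  let d : pullback (pullback.snd π (Red.geomPt s)) eK ⟶ pullback π m := pullback.lift (pullback.fst _ eK ≫ pullback.fst π (Red.geomPt s))
    (pullback.snd _ eK ≫ eΩ) (by
      rw [Category.assoc, pullback.condition, Category.assoc, ← he, pullback.condition_assoc])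
  have : Surjective eΩ := ⟨fun x => ⟨IsLocalRing.closedPoint Ω,
    Subsingleton.elim (α := PrimeSpectrum K) _ _⟩⟩
  have hd : d = (pullbackLeftPullbackSndIso π (Red.geomPt s) eK ≪≫ pullback.congrHom rfl he ≪≫
      (pullbackLeftPullbackSndIso π m eΩ).symm).hom ≫ pullback.fst (pullback.snd π m) eΩ := by
    apply pullback.hom_ext <;> simp only [d, Iso.trans_hom, Iso.symm_hom, Category.assoc, pullback.lift_fst, pullback.lift_snd, pullback.congrHom_hom, pullback.map,
      pullbackLeftPullbackSndIso_inv_fst, pullbackLeftPullbackSndIso_hom_fst, pullbackLeftPullbackSndIso_hom_snd,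
      pullbackLeftPullbackSndIso_inv_snd_snd, pullbackLeftPullbackSndIso_inv_fst_snd, pullback.condition, Category.comp_id,
      pullbackLeftPullbackSndIso_hom_snd_assoc, pullbackLeftPullbackSndIso_hom_fst_assoc,
      pullbackLeftPullbackSndIso_inv_snd_snd_assoc, pullback.lift_snd_assoc]
  have hs : Function.Surjective d := by
    rw [hd, Scheme.Hom.comp_base, TopCat.coe_comp]
    exact (Scheme.Hom.surjective _).comp (Scheme.Hom.surjective _)
  exact hs.connectedSpace d.continuous

variable {H G : Over S} [GrpObj H] [GrpObj G] (u' : Red.bc π H ⟶ Red.bc π G)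

/-- The point of the target attached to a point over the cover. -/
noncomputable def phi (Z : Over S') (y : (Over.map π).obj Z ⟶ H) : (Over.map π).obj Z ⟶ G :=
  (adjMulEquiv π Z G).symm (adjMulEquiv π Z H y ≫ u')

/-- The same, for a scheme over the base with a chosen lift. -/
noncomputable def psi (T : Over S) (b : T.left ⟶ S') (hb : b ≫ π = T.hom) (y : T ⟶ H) : T ⟶ G :=
  (Over.isoMk (Iso.refl _) (by simp [hb]) : (Over.map π).obj (Over.mk b) ≅ T).inv ≫
    phi π u' (Over.mk b) ((Over.isoMk (Iso.refl _) (by simp [hb]) : (Over.map π).obj (Over.mk b) ≅ T).hom ≫ y)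

theorem phi_comp {Z Z' : Over S'} (f : Z' ⟶ Z) (y : (Over.map π).obj Z ⟶ H) :
    (Over.map π).map f ≫ phi π u' Z y = phi π u' Z' ((Over.map π).map f ≫ y) := by
  apply (adjMulEquiv π Z' G).injective
  show (Over.mapPullbackAdj π).homEquiv Z' G _ = adjMulEquiv π Z' G ((adjMulEquiv π Z' G).symm _)
  rw [Adjunction.homEquiv_naturality_left, MulEquiv.apply_symm_apply]
  show f ≫ adjMulEquiv π Z G ((adjMulEquiv π Z G).symm _) = (Over.mapPullbackAdj π).homEquiv Z' H _ ≫ u'
  rw [MulEquiv.apply_symm_apply, Adjunction.homEquiv_naturality_left, Category.assoc]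
  rfl

theorem psi_comp {T T' : Over S} (f : T' ⟶ T) (b : T.left ⟶ S') (hb : b ≫ π = T.hom) (y : T ⟶ H) :
    f ≫ psi π u' T b hb y = psi π u' T' (f.left ≫ b) (by rw [Category.assoc, hb, Over.w f]) (f ≫ y) := by
  let f' : Over.mk (f.left ≫ b) ⟶ Over.mk b := Over.homMk f.left rfl
  let e : (Over.map π).obj (Over.mk b) ≅ T := Over.isoMk (Iso.refl _) (by simp [hb])
  let e' : (Over.map π).obj (Over.mk (f.left ≫ b)) ≅ T' :=
    Over.isoMk (Iso.refl _) (by simp [hb])
  have h : (Over.map π).map f' ≫ e.hom = e'.hom ≫ f := by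
    apply Over.OverMorphism.ext
    simp [f', e, e']
  show f ≫ e.inv ≫ phi π u' (Over.mk b) (e.hom ≫ y) = e'.inv ≫ phi π u' (Over.mk (f.left ≫ b)) (e'.hom ≫ f ≫ y)
  have h1 := phi_comp π u' f' (e.hom ≫ y)
  rw [← Category.assoc _ e.hom, h, Category.assoc] at h1
  rw [← h1, ← Category.assoc e'.inv,
    show e'.inv ≫ (Over.map π).map f' = f ≫ e.inv by rw [Iso.inv_comp_eq, ← Category.assoc, Iso.eq_comp_inv, h]]
  rw [Category.assoc]

theorem psi_congr {T : Over S} {b b' : T.left ⟶ S'} (h : b = b') (hb : b ≫ π = T.hom) (hb' : b' ≫ π = T.hom)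
    (y : T ⟶ H) : psi π u' T b hb y = psi π u' T b' hb' y := by
  subst h; rfl

theorem psi_mul [IsMonHom u'] {T : Over S} (b : T.left ⟶ S') (hb : b ≫ π = T.hom) (y y' : T ⟶ H) :
    psi π u' T b hb (y * y') = psi π u' T b hb y * psi π u' T b hb y' := by
  simp only [psi, phi, MonObj.comp_mul, map_mul, MonObj.mul_comp]

theorem psi_central
    (hc : ∀ (X : Over S') (g : X ⟶ Red.bc π G) (h : X ⟶ Red.bc π H), g * (h ≫ u') = (h ≫ u') * g)
    {T : Over S} (b : T.left ⟶ S') (hb : b ≫ π = T.hom) (y : T ⟶ H) (g : T ⟶ G) :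
    g * psi π u' T b hb y = psi π u' T b hb y * g := by
  let e : (Over.map π).obj (Over.mk b) ≅ T := Over.isoMk (Iso.refl _) (by simp [hb])
  rw [← cancel_epi e.hom, MonObj.comp_mul, MonObj.comp_mul]
  apply (adjMulEquiv π (Over.mk b) G).injective
  rw [map_mul, map_mul, psi, Iso.hom_inv_id_assoc, phi, MulEquiv.apply_symm_apply]
  exact hc _ _ _

theorem psi_map (Z : Over S') (y : (Over.map π).obj Z ⟶ H) :
    psi π u' ((Over.map π).obj Z) Z.hom rfl y = phi π u' Z y := by
  show _ ≫ phi π u' (Over.mk Z.hom) _ = _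
  have h : (Over.isoMk (Iso.refl _) (by simp) : (Over.map π).obj (Over.mk Z.hom) ≅ (Over.map π).obj Z) = Iso.refl _ := by
    ext; rfl
  exact (congrArg (fun e : (Over.map π).obj Z ≅ (Over.map π).obj Z => e.inv ≫ phi π u' Z (e.hom ≫ y)) h).trans
    (by rw [Iso.refl_hom, Iso.refl_inv]; exact (Category.id_comp _).trans (congrArg _ (Category.id_comp y)))

section two

variable {P : Scheme.{u}} (σ : P ⟶ S) (p₁ p₂ : P ⟶ S') (h₁ : p₁ ≫ π = σ) (h₂ : p₂ ≫ π = σ)

/-- The quotient of the two pulled back homomorphisms, on points. -/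
noncomputable def quotPt (T : Over S) (c : T.left ⟶ P) (hc : c ≫ σ = T.hom) (y : T ⟶ H) : T ⟶ G :=
  psi π u' T (c ≫ p₁) (by rw [Category.assoc, h₁, hc]) y *
    (psi π u' T (c ≫ p₂) (by rw [Category.assoc, h₂, hc]) y)⁻¹

theorem quotPt_comp {T T' : Over S} (f : T' ⟶ T) (c : T.left ⟶ P) (hc : c ≫ σ = T.hom) (y : T ⟶ H) :
    f ≫ quotPt π u' σ p₁ p₂ h₁ h₂ T c hc y =
      quotPt π u' σ p₁ p₂ h₁ h₂ T' (f.left ≫ c) (by rw [Category.assoc, hc, Over.w f]) (f ≫ y) := by
  simp only [quotPt, MonObj.comp_mul, GrpObj.comp_inv, psi_comp, Category.assoc]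

/-- The quotient of the two pulled back homomorphisms. -/
noncomputable def quotHom : Red.bc σ H ⟶ Red.bc σ G :=
  adjMulEquiv σ (Red.bc σ H) G (quotPt π u' σ p₁ p₂ h₁ h₂ ((Over.map σ).obj (Red.bc σ H)) (Red.bc σ H).hom rfl
    ((adjMulEquiv σ (Red.bc σ H) H).symm (𝟙 _)))

theorem comp_quotHom {Z : Over P} (x : Z ⟶ Red.bc σ H) :
    x ≫ quotHom π u' σ p₁ p₂ h₁ h₂ =
      adjMulEquiv σ Z G (quotPt π u' σ p₁ p₂ h₁ h₂ ((Over.map σ).obj Z) Z.hom rfl ((adjMulEquiv σ Z H).symm x)) := by
  show x ≫ (Over.mapPullbackAdj σ).homEquiv _ G _ = _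
  rw [← Adjunction.homEquiv_naturality_left, quotPt_comp]
  have e2 : (Over.map σ).map x ≫ (adjMulEquiv σ (Red.bc σ H) H).symm (𝟙 _) = (adjMulEquiv σ Z H).symm x := by
    apply (adjMulEquiv σ Z H).injective
    show (Over.mapPullbackAdj σ).homEquiv Z H _ = adjMulEquiv σ Z H ((adjMulEquiv σ Z H).symm x)
    rw [Adjunction.homEquiv_naturality_left, MulEquiv.apply_symm_apply]
    show x ≫ adjMulEquiv σ _ H ((adjMulEquiv σ _ H).symm _) = _
    rw [MulEquiv.apply_symm_apply]
    exact Category.comp_id x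
  simp only [e2]
  refine congrArg (adjMulEquiv σ Z G) ?_
  simp only [quotPt]
  congr 1
  · exact psi_congr π u' (congrArg (· ≫ p₁) (Over.w x)) _ _ _
  · exact congrArg _ (psi_congr π u' (congrArg (· ≫ p₂) (Over.w x)) _ _ _)

theorem isMonHom_quotHom [IsMonHom u']
    (hc : ∀ (X : Over S') (g : X ⟶ Red.bc π G) (h : X ⟶ Red.bc π H), g * (h ≫ u') = (h ≫ u') * g) :
    IsMonHom (quotHom π u' σ p₁ p₂ h₁ h₂) := by
  let w := quotHom π u' σ p₁ p₂ h₁ h₂
  have hmul : ∀ {Z : Over P} (x x' : Z ⟶ Red.bc σ H), (x * x') ≫ w = (x ≫ w) * (x' ≫ w) := by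
    intro Z x x'
    rw [comp_quotHom, comp_quotHom, comp_quotHom, map_mul, ← map_mul (adjMulEquiv σ Z G)]
    refine congrArg _ ?_
    simp only [quotPt, psi_mul, mul_inv_rev]
    have hcen : ∀ (b : ((Over.map σ).obj Z).left ⟶ S') (hb : b ≫ π = ((Over.map σ).obj Z).hom)
        (y : (Over.map σ).obj Z ⟶ H) (g : (Over.map σ).obj Z ⟶ G),
        Commute g (psi π u' _ b hb y) := fun b hb y g => psi_central π u' hc b hb y g
    rw [_root_.mul_assoc, _root_.mul_assoc]
    refine congrArg _ ?_
    rw [← _root_.mul_assoc, ← _root_.mul_assoc]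
    rw [((hcen _ _ _ _).inv_right).eq, ← _root_.mul_assoc, ((hcen _ _ _ _).inv_right).eq]
  constructor
  · have h1 := hmul (1 : 𝟙_ (Over P) ⟶ Red.bc σ H) 1
    rw [_root_.mul_one] at h1
    have : (1 : 𝟙_ (Over P) ⟶ Red.bc σ H) ≫ w = 1 := left_eq_mul.1 h1
    simpa [Hom.one_def] using this
  · have h1 := hmul (fst (Red.bc σ H) (Red.bc σ H)) (snd _ _)
    rw [Hom.mul_def, Hom.mul_def] at h1
    simpa [CartesianMonoidalCategory.lift_fst_snd, MonoidalCategory.tensorHom_def] using h1

end two

open Groth.Agent.SchDescent in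
/-- A central homomorphism from a group of multiplicative type descends along a covering with connected geometric
fibres. -/
theorem existsUnique_desc_central (hH : SGA3x.IsMultTypeFT H) [IsSeparated G.hom] [LocallyOfFinitePresentation G.hom]
    [QuasiCompact G.hom] [QuasiSeparated G.hom] [Flat π] [Surjective π]
    (hcov : ∀ V : S.Opens, IsAffineOpen V → ∃ W : S'.Opens, IsCompact (W : Set S') ∧ π.base '' (W : Set S') = (V : Set S))
    (hconn : ∀ s : S, ConnectedSpace ↥(pullback π (Red.geomPt s))) [IsMonHom u']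
    (hc : ∀ (X : Over S') (g : X ⟶ Red.bc π G) (h : X ⟶ Red.bc π H), g * (h ≫ u') = (h ≫ u') * g) :
    ∃! u : H ⟶ G, IsMonHom u ∧ (Over.pullback π).map u = u' := by
  -- the quotient of the two pullbacks
  let σ := pullback.fst π π ≫ π
  let p₁ := pullback.fst π π
  let p₂ := pullback.snd π π
  have h₂ : p₂ ≫ π = σ := pullback.condition.symm
  let w := quotHom π u' σ p₁ p₂ rfl h₂
  have := isMonHom_quotHom π u' σ p₁ p₂ rfl h₂ hc
  have : IsSeparated (Red.bc σ G).hom := MorphismProperty.pullback_snd (P := @IsSeparated) _ _ inferInstance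
  obtain ⟨U, hUcl, hU, hUw⟩ := S5286.result (Red.bc σ H) (Red.bc σ G) (isMultTypeFT_bc σ H hH)
    (Or.inr ⟨MorphismProperty.pullback_snd (P := @LocallyOfFinitePresentation) _ _ inferInstance,
      MorphismProperty.pullback_snd (P := @QuasiCompact) _ _ inferInstance,
      MorphismProperty.pullback_snd (P := @QuasiSeparated) _ _ inferInstance⟩) w
  let δ : S' ⟶ pullback π π := pullback.diagonal π
  have hδ : ∀ x' : S', δ x' ∈ U := fun x' => by
    rw [hU, map_eq_one_iff]
    intro Z b hb x
    rw [comp_quotHom]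
    refine (congrArg _ ?_).trans (map_one _)
    rw [quotPt, mul_inv_eq_one]
    refine psi_congr π u' ?_ _ _ _
    show Z.hom ≫ p₁ = Z.hom ≫ p₂
    rw [← hb, Category.assoc, Category.assoc]
    congr 1
    have : Surjective (Spec.map (δ.residueFieldMap x')) :=
      ⟨fun q => ⟨IsLocalRing.closedPoint (S'.residueField x'),
        Subsingleton.elim (α := PrimeSpectrum ((pullback π π : Scheme.{u}).residueField (δ x'))) _ _⟩⟩
    have : Flat (Spec.map (δ.residueFieldMap x')) := by
      rw [HasRingHomProperty.Spec_iff (P := @Flat)]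
      algebraize [(δ.residueFieldMap x').hom]
      exact RingHom.flat_algebraMap_iff.2 inferInstance
    have : Epi (Spec.map (δ.residueFieldMap x')) := Flat.epi_of_flat_of_surjective _
    rw [← cancel_epi (Spec.map (δ.residueFieldMap x')), ← Category.assoc, ← Category.assoc,
      Scheme.Hom.SpecMap_residueFieldMap_fromSpecResidueField, Category.assoc, Category.assoc]
    simp [δ, p₁, p₂]
  have huniv : ∀ x : (pullback π π : Scheme.{u}), x ∈ U := by
    intro x
    let x' := p₁ x
    let g := S'.fromSpecResidueField x'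
    have := connectedSpace_pullback_of_geomPt π hconn (S'.residueField x') (g ≫ π)
    have hC : ConnectedSpace ↥(pullback g p₁) :=
      ((pullbackRightPullbackFstIso π π g ≪≫ pullbackSymmetry (g ≫ π) π).schemeIsoToHomeo).symm.surjective.connectedSpace
        ((pullbackRightPullbackFstIso π π g ≪≫ pullbackSymmetry (g ≫ π) π).schemeIsoToHomeo).symm.continuous
    let F : Set (pullback π π : Scheme.{u}) := p₁ ⁻¹' {x'}
    have hF : _root_.IsPreconnected F := by
      have h1 : F = Set.range (pullback.snd g p₁) := by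
        rw [Scheme.Pullback.range_snd]
        show _ = p₁ ⁻¹' _
        rw [show Set.range g = {x'} from Scheme.range_fromSpecResidueField x']
      rw [h1]
      exact isPreconnected_range (pullback.snd g p₁).continuous
    have hδF : δ x' ∈ F := by
      show p₁ (δ x') = x'
      rw [← Scheme.Hom.comp_apply, pullback.diagonal_fst]
      rfl
    exact hF.subset_isClopen ⟨hUcl, U.isOpen⟩ ⟨δ x', hδF, hδ x'⟩ (show x ∈ F from rfl)
  have key : ∀ (T : Over S) (b₁ b₂ : T.left ⟶ S') (hb₁ : b₁ ≫ π = T.hom) (hb₂ : b₂ ≫ π = T.hom) (y : T ⟶ H),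
      psi π u' T b₁ hb₁ y = psi π u' T b₂ hb₂ y := by
    intro T b₁ b₂ hb₁ hb₂ y
    let c := pullback.lift b₁ b₂ (hb₁.trans hb₂.symm)
    have hcσ : c ≫ σ = T.hom := by
      show c ≫ pullback.fst π π ≫ π = _
      rw [pullback.lift_fst_assoc, hb₁]
    let Z : Over (pullback π π) := Over.mk c
    let e : (Over.map σ).obj Z ≅ T := Over.isoMk (Iso.refl _) (by simp [Z, hcσ])
    let x : Z ⟶ Red.bc σ H := adjMulEquiv σ Z H (e.hom ≫ y)
    have h1 : x ≫ w = 1 := by
      refine (map_eq_one_iff U.ι w).1 hUw Z (IsOpenImmersion.lift U.ι c ?_) (IsOpenImmersion.lift_fac _ _ _) x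
      rw [Scheme.Opens.range_ι]
      exact fun z _ => huniv z
    rw [comp_quotHom, ← map_one (adjMulEquiv σ Z G)] at h1
    have h2 := (adjMulEquiv σ Z G).injective h1
    rw [MulEquiv.symm_apply_apply, quotPt, mul_inv_eq_one] at h2
    rw [← cancel_epi e.hom, psi_comp, psi_comp]
    convert h2 using 2
    · exact (Category.id_comp _).trans (pullback.lift_fst _ _ _).symm
    · exact (Category.id_comp _).trans (pullback.lift_snd _ _ _).symm
  -- descent
  let p : (Over.map π).obj (Red.bc π H) ⟶ H := (adjMulEquiv π (Red.bc π H) H).symm (𝟙 _)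
  have hπ : IsCovHom π := IsCovHom.of_cover (𝟙 _) (Category.id_comp π) (isCover_of_image π hcov)
  have hcovp : ∀ {T : Over S}, IsCovHom (pullback.fst T.hom π) := fun {T} =>
    hπ.of_isPullback (IsPullback.of_hasPullback T.hom π).flip
  have hp : IsCovHom p.left := by
    have h : p.left = pullback.fst H.hom π := by
      have h := adj_left_fst π p
      rw [show adjMulEquiv π (Red.bc π H) H p = 𝟙 _ from MulEquiv.apply_symm_apply _ _] at h
      exact h.symm.trans (Category.id_comp _)
    rw [h]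
    exact hcovp
  obtain ⟨u, hu, huuniq⟩ := hp.existsUnique_desc (psi π u' _ (Red.bc π H).hom rfl p) (fun T a b hab => by
    rw [psi_comp, psi_comp, hab]
    exact key _ _ _ _ _ _)
  have hmap : ∀ v : H ⟶ G, (Over.pullback π).map v = u' ↔ p ≫ v = psi π u' _ (Red.bc π H).hom rfl p := by
    intro v
    rw [psi_map, phi, ← (adjMulEquiv π (Red.bc π H) G).injective.eq_iff, MulEquiv.apply_symm_apply,
      adjMulEquiv_comp (w := v), show adjMulEquiv π (Red.bc π H) H p = 𝟙 _ from MulEquiv.apply_symm_apply _ _,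
      Category.id_comp, Category.id_comp]
  refine ⟨u, ⟨?_, (hmap u).2 hu⟩, fun v hv => huuniq v ((hmap v).1 hv.2)⟩
  have hpt : ∀ (T : Over S) (b : T.left ⟶ S') (hb : b ≫ π = T.hom) (y : T ⟶ H), y ≫ u = psi π u' T b hb y := by
    intro T b hb y
    let e : (Over.map π).obj (Over.mk b) ≅ T := Over.isoMk (Iso.refl _) (by simp [hb])
    let x : Over.mk b ⟶ Red.bc π H := adjMulEquiv π (Over.mk b) H (e.hom ≫ y)
    let a : T ⟶ (Over.map π).obj (Red.bc π H) := e.inv ≫ (Over.map π).map x
    have hy : a ≫ p = y := by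
      show (e.inv ≫ (Over.map π).map x) ≫ p = y
      rw [Category.assoc, Iso.inv_comp_eq]
      apply (adjMulEquiv π (Over.mk b) H).injective
      show (Over.mapPullbackAdj π).homEquiv _ H ((Over.map π).map x ≫ p) = x
      rw [Adjunction.homEquiv_naturality_left]
      show x ≫ adjMulEquiv π _ H p = x
      rw [show adjMulEquiv π (Red.bc π H) H p = 𝟙 _ from MulEquiv.apply_symm_apply _ _, Category.comp_id]
    rw [← hy, Category.assoc, hu, psi_comp]
    exact psi_congr π u' ((Category.id_comp _).trans (adj_left_snd π (e.hom ≫ y))) _ _ _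
  have hmul : ∀ {T : Over S} (x x' : T ⟶ H), (x * x') ≫ u = (x ≫ u) * (x' ≫ u) := by
    intro T x x'
    let T' : Over S := Over.mk (pullback.fst T.hom π ≫ T.hom)
    let q : T' ⟶ T := Over.homMk (pullback.fst T.hom π) rfl
    refine IsCovHom.cancel (p := q) hcovp ?_
    have hb : pullback.snd T.hom π ≫ π = T'.hom := pullback.condition.symm
    simp only [MonObj.comp_mul, ← Category.assoc]
    rw [hpt _ _ hb, hpt _ _ hb, hpt _ _ hb, psi_mul]
  constructor
  · have h1 := hmul (1 : 𝟙_ (Over S) ⟶ H) 1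
    rw [_root_.mul_one] at h1
    simpa [Hom.one_def] using left_eq_mul.1 h1
  · have h1 := hmul (fst H H) (snd _ _)
    rw [Hom.mul_def, Hom.mul_def] at h1
    simpa [CartesianMonoidalCategory.lift_fst_snd, MonoidalCategory.tensorHom_def] using h1

end Groth.Agent.MultHopf
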