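import Groth.Agent.MultHopf.Trivial
import Groth.Agent.MultHopf.Locally
import Groth.Agent.MultHopf.Locus
import Groth.Agent.MultHopf.ActRigid

/-!
# Central rigidity of homomorphisms out of groups of multiplicative type
-/

set_option autoImplicit false
set_option backward.isDefEq.respectTransparency.types false

universe u

open CategoryTheory CategoryTheory.Limits MonoidalCategory CartesianMonoidalCategory MonObj AlgebraicGeometry
open scoped TensorProduct
open WithConv

namespace Groth.Agent.MultHopf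

section grouplike

variable {T : Type u} [CommRing T] [IsLocalRing T] {M : Type u} [CommGroup M]

/-- Over a local ring the group-like elements of a group algebra are the group elements. -/
theorem exists_eq_single (z : MonoidAlgebra T M) (h1 : Coalgebra.counit (R := T) z = 1)
    (h2 : Coalgebra.comul (R := T) z = z ⊗ₜ[T] z) : ∃ m, z = MonoidAlgebra.single m 1 := by
  classical
  let co : M → MonoidAlgebra T M →ₗ[T] T := fun m =>
    Finsupp.lapply m ∘ₗ (MonoidAlgebra.coeffLinearEquiv T).toLinearMap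
  have hco : ∀ m y, co m y = y.coeff m := fun _ _ => rfl
  let L : M → M → MonoidAlgebra T M ⊗[T] MonoidAlgebra T M →ₗ[T] T := fun m n =>
    LinearMap.mul' T T ∘ₗ TensorProduct.map (co m) (co n)
  have hL : ∀ m n y, L m n (Coalgebra.comul (R := T) y) = if m = n then y.coeff m else 0 := fun m n y => by
    induction y using MonoidAlgebra.induction_linear with
    | zero => simp
    | add a b ha hb => rw [map_add, map_add, ha, hb, MonoidAlgebra.coeff_add, Finsupp.add_apply]; split_ifs <;> simp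
    | single k r =>
      rw [MonoidAlgebra.comul_single, CommSemiring.comul_apply, TensorProduct.map_tmul]
      simp only [L, LinearMap.comp_apply, TensorProduct.map_tmul, hco, MonoidAlgebra.lsingle_apply,
        MonoidAlgebra.coeff_single, Finsupp.single_apply, LinearMap.mul'_apply]
      split_ifs <;> simp_all
  have hmul : ∀ m n, z.coeff m * z.coeff n = if m = n then z.coeff m else 0 := fun m n => by
    rw [← hL m n z, h2]
    simp [L, hco]
  have hsum : z.coeff.sum (fun _ c => c) = 1 := by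
    rw [← h1]
    conv_rhs => rw [← MonoidAlgebra.sum_coeff_single z]
    rw [map_finsuppSum]
    simp [MonoidAlgebra.counit_single]
  obtain ⟨m, hm⟩ : ∃ m, IsUnit (z.coeff m) := by
    by_contra hne
    have hno : ∀ m, z.coeff m ∈ IsLocalRing.maximalIdeal T := fun m hu => hne ⟨m, hu⟩
    refine (IsLocalRing.maximalIdeal.isMaximal T).ne_top ((Ideal.eq_top_iff_one _).2 ?_)
    rw [← hsum]
    exact sum_mem fun m _ => hno m
  have hm1 : z.coeff m = 1 := hm.mul_eq_left.1 (by simpa using hmul m m)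
  refine ⟨m, MonoidAlgebra.coeff_injective (Finsupp.ext fun n => ?_)⟩
  rw [MonoidAlgebra.coeff_single, Finsupp.single_apply]
  split_ifs with h
  · exact h ▸ hm1
  · have := hmul m n
    rwa [hm1, _root_.one_mul, if_neg h] at this

end grouplike

section trivial

variable {R : Type u} [CommRing R] {G : Over (Spec (CommRingCat.of R))} [GrpObj G] {M : Type u} [CommGroup M]

/-- Reduction of the group algebra modulo an ideal of the base. -/
noncomputable def redM (𝔞 : Ideal R) : MonoidAlgebra R M →ₐ[R] MonoidAlgebra (R ⧸ 𝔞) M :=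
  MonoidAlgebra.mapAlgHom M (Ideal.Quotient.mkₐ R 𝔞)

theorem ker_redM (𝔞 : Ideal R) :
    RingHom.ker (redM (M := M) 𝔞) ≤ 𝔞.map (algebraMap R (MonoidAlgebra R M)) := fun z hz =>
  mem_map_of_forall_coeff 𝔞 z fun m => by
    have h : (MonoidAlgebra.mapRingHom M (Ideal.Quotient.mk 𝔞) z).coeff m = 0 :=
      (congrArg (fun q => q.coeff m) hz).trans (by simp)
    rwa [MonoidAlgebra.coeff_mapRingHom, Ideal.Quotient.eq_zero_iff_mem] at h

theorem comp_redM {𝔞 : Ideal R} {D : Type u} [CommRing D] [Algebra R D] (f : MonoidAlgebra R M →ₐ[R] D)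
    (hD : 𝔞 ≤ RingHom.ker (algebraMap R D)) :
    ∃ g : MonoidAlgebra (R ⧸ 𝔞) M →ₐ[R] D, g.comp (redM 𝔞) = f := by
  have hsurj : Function.Surjective (redM (M := M) 𝔞) := fun z => by
    induction z using MonoidAlgebra.induction_linear with
    | zero => exact ⟨0, map_zero _⟩
    | add a b ha hb => obtain ⟨a, rfl⟩ := ha; obtain ⟨b, rfl⟩ := hb; exact ⟨a + b, map_add _ _ _⟩
    | single m r =>
      obtain ⟨r, rfl⟩ := Ideal.Quotient.mk_surjective r
      exact ⟨MonoidAlgebra.single m r, by simp [redM]⟩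
  refine ⟨AlgHom.liftOfSurjective _ hsurj f ((ker_redM 𝔞).trans ?_), AlgHom.liftOfSurjective_comp _ hsurj _ _⟩
  rw [Ideal.map_le_iff_le_comap]
  intro r hr
  show f (algebraMap R _ r) = 0
  rw [AlgHom.commutes]
  exact hD hr

variable (w : hspec R (MonoidAlgebra R M) ⟶ G)
  (hw : ∀ (C : Type u) [CommRing C] [Algebra R C] (φ ψ : WithConv (MonoidAlgebra R M →ₐ[R] C)),
    Spec.mapMulEquiv (φ * ψ) ≫ w = (Spec.mapMulEquiv φ ≫ w) * (Spec.mapMulEquiv ψ ≫ w))

theorem ptMap_point {D D' : Type u} [CommRing D] [Algebra R D] [CommRing D'] [Algebra R D']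
    (f : D →ₐ[R] D') (φ : MonoidAlgebra R M →ₐ[R] D) :
    ptMap f ≫ Spec.mapMulEquiv (toConv φ) ≫ w = Spec.mapMulEquiv (toConv (f.comp φ)) ≫ w := by
  rw [← Category.assoc, ptMap_comp_mapMulEquiv]

include hw in
theorem trivial_sq [IsLocalRing R] (𝔞 : Ideal R) (h : Spec.mapMulEquiv (toConv (redM 𝔞)) ≫ w = 1) :
    Spec.mapMulEquiv (toConv (redM (M := M) (𝔞 ^ 2))) ≫ w = 1 := by
  classical
  let T := R ⧸ 𝔞 ^ 2
  let MT : Type u := MonoidAlgebra T M
  let : CommRing MT := MonoidAlgebra.commRing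
  let φ : MonoidAlgebra R M →ₐ[R] MT := redM (𝔞 ^ 2)
  let C := MT ⊗[T] MT
  let K : Ideal T := 𝔞.map (algebraMap R T)
  have hK : ∀ (D : Type u) [CommRing D] [Algebra T D], ∀ x ∈ K.map (algebraMap T D), ∀ y ∈ K.map (algebraMap T D),
      x * y = 0 := by
    intro D _ _ x hx y hy
    have h := Ideal.mul_mem_mul hx hy
    rw [← Ideal.map_mul, ← Ideal.map_mul, ← pow_two,
      show (𝔞 ^ 2).map (algebraMap R T) = ⊥ from Ideal.map_quotient_self _, Ideal.map_bot] at h
    exact h
  let π : MT →ₐ[R] MT ⧸ K.map (algebraMap T MT) := Ideal.Quotient.mkₐ R _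
  obtain ⟨W⟩ := exists_unitNhd (G := G)
  let x := Spec.mapMulEquiv (toConv φ) ≫ w
  have hx : ptMap π ≫ x = 1 := by
    obtain ⟨g, hg⟩ := comp_redM (π.comp φ) (𝔞 := 𝔞) fun r hr => by
      rw [RingHom.mem_ker, IsScalarTower.algebraMap_apply R MT (MT ⧸ K.map (algebraMap T MT))]
      refine Ideal.Quotient.eq_zero_iff_mem.2 ?_
      rw [IsScalarTower.algebraMap_apply R T MT]
      exact Ideal.mem_map_of_mem _ (Ideal.mem_map_of_mem _ hr)
    rw [ptMap_point, ← hg, ← ptMap_point, h, MonObj.comp_one]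
  have hπker : ∀ q : PrimeSpectrum MT, RingHom.ker π ≤ q.asIdeal := fun q a ha => by
    have h := hK MT a (Ideal.Quotient.eq_zero_iff_mem.1 ha) a (Ideal.Quotient.eq_zero_iff_mem.1 ha)
    exact (q.isPrime.mem_or_mem (x := a) (y := a) (by rw [h]; exact zero_mem _)).elim id id
  obtain ⟨ξ, hξ, hξ0⟩ := W.exists_lift π hπker Ideal.Quotient.mk_surjective x hx
  have hξK : ∀ b, ξ b - algebraMap R MT (W.e b) ∈ K.map (algebraMap T MT) := fun b => by
    rw [← Ideal.Quotient.eq_zero_iff_mem, map_sub, sub_eq_zero]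
    exact DFunLike.congr_fun hξ0 b
  let iL : MT →ₐ[R] C := (Algebra.TensorProduct.includeLeft : MT →ₐ[T] C).restrictScalars R
  let iR : MT →ₐ[R] C := (Algebra.TensorProduct.includeRight : MT →ₐ[T] C).restrictScalars R
  let δ : MT →ₐ[R] C := (Bialgebra.comulAlgHom T MT).restrictScalars R
  have hmem : ∀ (f : MT →ₐ[T] C) (b : W.B),
      f (ξ b) - algebraMap R C (W.e b) ∈ K.map (algebraMap T C) := fun f b => by
    have h := Ideal.mem_map_of_mem f (hξK b)
    change f _ ∈ Ideal.map (f : MT →+* C) (Ideal.map (algebraMap T MT) K) at h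
    rw [Ideal.map_map, AlgHom.comp_algebraMap, map_sub, IsScalarTower.algebraMap_apply R T MT, AlgHom.commutes,
      ← IsScalarTower.algebraMap_apply R T C] at h
    exact h
  have hδ : toConv (δ.comp φ) = toConv (iL.comp φ) * toConv (iR.comp φ) := by
    apply WithConv.ofConv_injective
    ext m
    · rw [AlgHom.convMul_apply]
      have hs : φ (MonoidAlgebra.single m 1) = (MonoidAlgebra.single m 1 : MonoidAlgebra T M) :=
        (MonoidAlgebra.mapRingHom_single (Ideal.Quotient.mk (𝔞 ^ 2)) m (1 : R)).trans (by rw [map_one])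
      simp [δ, iL, iR, hs, CommSemiring.comul_apply]
      exact (MonoidAlgebra.comul_single _ _).trans (by
        rw [Algebra.TensorProduct.tmul_mul_tmul, _root_.mul_one, _root_.one_mul, CommSemiring.comul_apply,
          TensorProduct.map_tmul]
        rfl)
  have hcomp : ∀ (f : MT →ₐ[R] C), ptMap f ≫ x = ptMap (f.comp ξ) ≫ W.inc := fun f => by
    rw [hξ, ← Category.assoc]
    congr 1
    apply Over.OverMorphism.ext
    show Spec.map _ ≫ Spec.map _ = Spec.map _
    rw [← Spec.map_comp]
    rfl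
  have hhom : ptMap δ ≫ x = (ptMap iL ≫ x) * (ptMap iR ≫ x) := by
    simp only [x, ← Category.assoc, ptMap_comp_mapMulEquiv]
    rw [← hw, ← hδ]
  rw [hcomp, hcomp, hcomp] at hhom
  obtain ⟨ζ, hζ, hsum⟩ := W.mul_eq (K.map (algebraMap T C)) (hK C) (iL.comp ξ) (iR.comp ξ)
    (hmem (Algebra.TensorProduct.includeLeft : MT →ₐ[T] C)) (hmem (Algebra.TensorProduct.includeRight : MT →ₐ[T] C))
  rw [hsum] at hhom
  have hδζ : δ.comp ξ = ζ := by
    have h' : Spec.map (CommRingCat.ofHom (δ.comp ξ).toRingHom) ≫ W.inc.left =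
        Spec.map (CommRingCat.ofHom ζ.toRingHom) ≫ W.inc.left := congrArg (fun z : pt (R := R) C ⟶ G => z.left) hhom
    replace h' := (@cancel_mono _ _ _ _ _ _ W.mono_inc _ _).1 h'
    exact AlgHom.coe_ringHom_injective (congrArg CommRingCat.Hom.hom (Spec.map_injective h'))
  have hξe : ξ = (Algebra.ofId R MT).comp W.e := by
    refine AlgHom.ext fun b => ?_
    refine sub_eq_zero.1 (eq_zero_of_primitive _ ?_)
    have h1 : Coalgebra.comul (R := T) (ξ b) = ξ b ⊗ₜ[T] 1 + 1 ⊗ₜ[T] ξ b - algebraMap R C (W.e b) := by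
      exact (DFunLike.congr_fun hδζ b).trans (hζ b)
    have h2 : ∀ r : R, Coalgebra.comul (R := T) (algebraMap R MT r) = algebraMap R C r := fun r => by
      exact δ.commutes r
    have h3 : ∀ r : R, (algebraMap R MT r) ⊗ₜ[T] (1 : MT) = algebraMap R C r := fun r => iL.commutes r
    have h4 : ∀ r : R, (1 : MT) ⊗ₜ[T] (algebraMap R MT r) = algebraMap R C r := fun r => iR.commutes r
    show Coalgebra.comul (R := T) (ξ b - algebraMap R MT (W.e b)) =
      (ξ b - algebraMap R MT (W.e b)) ⊗ₜ[T] 1 + 1 ⊗ₜ[T] (ξ b - algebraMap R MT (W.e b))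
    rw [map_sub, h1, h2, TensorProduct.sub_tmul, TensorProduct.tmul_sub, h3, h4]
    abel
  show x = 1
  rw [hξ, hξe, W.inc_e]

include hw in
theorem eq_one_of_nilpotent [IsLocalRing R] (J : Ideal R) (hJ : IsNilpotent J)
    (h : Spec.mapMulEquiv (toConv (redM (M := M) J)) ≫ w = 1) : w = 1 := by
  obtain ⟨n, hn⟩ := hJ
  have hpow' : ∀ k, ∀ 𝔟 : Ideal R, 𝔟 = J ^ 2 ^ k → Spec.mapMulEquiv (toConv (redM (M := M) 𝔟)) ≫ w = 1 := fun k => by
    induction k with
    | zero =>
      rintro 𝔟 h𝔟
      rw [pow_zero, pow_one] at h𝔟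
      subst h𝔟
      exact h
    | succ k ih =>
      rintro 𝔟 h𝔟
      rw [pow_succ, pow_mul] at h𝔟
      subst h𝔟
      exact trivial_sq w hw _ (ih _ rfl)
  have hpow := fun k => hpow' k _ rfl
  have hb : J ^ 2 ^ n = ⊥ := by
    rw [eq_bot_iff, ← Submodule.zero_eq_bot, ← hn]
    exact Ideal.pow_le_pow_right (Nat.lt_two_pow_self).le
  obtain ⟨g, hg⟩ := comp_redM (𝔞 := J ^ 2 ^ n) (AlgHom.id R (MonoidAlgebra R M)) (by rw [hb]; exact bot_le)
  have h1 : Spec.mapMulEquiv (toConv (AlgHom.id R (MonoidAlgebra R M))) ≫ w = 1 := by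
    rw [← hg, ← ptMap_point, hpow n, MonObj.comp_one]
  have h2 : Spec.mapMulEquiv (toConv (AlgHom.id R (MonoidAlgebra R M))) = 𝟙 (hspec R (MonoidAlgebra R M)) := by
    apply Over.OverMorphism.ext
    exact Spec.map_id _
  rwa [h2, Category.id_comp] at h1

end trivial

section factor

variable {S : Scheme.{u}} {G H H' : Over S} [GrpObj G] [GrpObj H] [GrpObj H']

theorem pSMap_symm {R A : Type u} [CommRing R] [CommRing A] [HopfAlgebra R A] (j : Spec (CommRingCat.of R) ⟶ S)
    (eA : Grp.mk (Red.bc j H) ≅ Grp.mk (hspec R A)) {D D' : Type u} [CommRing D] [Algebra R D] [CommRing D']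
    [Algebra R D'] (f : D →ₐ[R] D') (φ : WithConv (A →ₐ[R] D)) :
    pSMap j f ≫ (ptEquiv j eA D).symm φ = (ptEquiv j eA D').symm (toConv (f.comp φ.ofConv)) := by
  apply (ptEquiv j eA D').injective
  rw [ptEquiv_pSMap, Equiv.apply_symm_apply, Equiv.apply_symm_apply]

theorem ptEquiv_symm_mul {R A : Type u} [CommRing R] [CommRing A] [HopfAlgebra R A] (j : Spec (CommRingCat.of R) ⟶ S)
    (eA : Grp.mk (Red.bc j H) ≅ Grp.mk (hspec R A)) {D : Type u} [CommRing D] [Algebra R D]
    (φ ψ : WithConv (A →ₐ[R] D)) :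
    (ptEquiv j eA D).symm (φ * ψ) = (ptEquiv j eA D).symm φ * (ptEquiv j eA D).symm ψ := by
  apply (ptEquiv j eA D).injective
  rw [ptEquiv_mul, Equiv.apply_symm_apply, Equiv.apply_symm_apply, Equiv.apply_symm_apply]

/-- If one of two diagonalisable subgroups is central and they agree modulo a nilpotent ideal, then the first one is
contained in the second one (local base). -/
theorem exists_factor_of_diag {R : Type u} [CommRing R] [IsLocalRing R] (j : Spec (CommRingCat.of R) ⟶ S)
    (J : Ideal R) (hJ : IsNilpotent J) {M M' : Type u} [CommGroup M] [CommGroup M']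
    (eA : Grp.mk (Red.bc j H) ≅ Grp.mk (hspec R (MonoidAlgebra R M)))
    (eA' : Grp.mk (Red.bc j H') ≅ Grp.mk (hspec R (MonoidAlgebra R M')))
    (i : H ⟶ G) [IsMonHom i] (i' : H' ⟶ G) [IsMonHom i'] [Mono i']
    (hc : (∀ (T : Over S) (g : T ⟶ G) (h : T ⟶ H), g * (h ≫ i) = (h ≫ i) * g) ∨
      ∀ (T : Over S) (g : T ⟶ G) (h : T ⟶ H'), g * (h ≫ i') = (h ≫ i') * g)
    (hcorr : ∀ (D : Type u) [CommRing D] [Algebra R D], J ≤ RingHom.ker (algebraMap R D) →
      ∀ y : ptS j D ⟶ H, ∃ y' : ptS j D ⟶ H', y' ≫ i' = y ≫ i)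
    (D : Type u) [CommRing D] [Algebra R D] (y : ptS j D ⟶ H) : ∃ y' : ptS j D ⟶ H', y' ≫ i' = y ≫ i := by
  classical
  let T := R ⧸ J
  have : Nontrivial T := Ideal.Quotient.nontrivial_iff.2 fun h => by
    obtain ⟨n, hn⟩ := hJ
    rw [h, ← Ideal.one_eq_top, one_pow] at hn
    exact one_ne_zero hn
  have : IsLocalRing T := IsLocalRing.of_surjective' (Ideal.Quotient.mk J) Ideal.Quotient.mk_surjective
  let D₀ : Type u := MonoidAlgebra T M
  let : CommRing D₀ := MonoidAlgebra.commRing
  let P := fun {E : Type u} [CommRing E] [Algebra R E] (φ : MonoidAlgebra R M →ₐ[R] E) =>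
    (ptEquiv j eA E).symm (toConv φ)
  let P' := fun {E : Type u} [CommRing E] [Algebra R E] (φ : MonoidAlgebra R M' →ₐ[R] E) =>
    (ptEquiv j eA' E).symm (toConv φ)
  obtain ⟨y₀', hy₀'⟩ := hcorr D₀ (fun r hr => by
    rw [RingHom.mem_ker, IsScalarTower.algebraMap_apply R T D₀, Ideal.Quotient.algebraMap_eq,
      Ideal.Quotient.eq_zero_iff_mem.2 hr, map_zero]) (P (redM J))
  let φ' : MonoidAlgebra R M' →ₐ[R] D₀ := (ptEquiv j eA' D₀ y₀').ofConv
  have hy : y₀' = P' φ' := by simp [P', φ']
  have hnat : ∀ {E : Type u} [CommRing E] [Algebra R E] (f : D₀ →ₐ[R] E),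
      P' (f.comp φ') ≫ i' = P (f.comp (redM J)) ≫ i := fun f => by
    rw [hy] at hy₀'
    have e := congrArg (pSMap j f ≫ ·) hy₀'
    simp only [← Category.assoc, P, P', pSMap_symm] at e
    exact e
  -- the image of a character is group-like
  have hgl : ∀ m', ∃ m, φ' (MonoidAlgebra.single m' 1) = MonoidAlgebra.single m 1 := by
    intro m'
    refine exists_eq_single _ ?_ ?_
    · let f : D₀ →ₐ[R] T := (Bialgebra.counitAlgHom T D₀).restrictScalars R
      let c : MonoidAlgebra R M' →ₐ[R] T := MonoidAlgebra.lift R T M' 1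
      have hc1 : toConv c = (1 : WithConv (MonoidAlgebra R M' →ₐ[R] T)) := by
        apply WithConv.ofConv_injective
        ext m
        simp [c, AlgHom.convOne_def]
      have hred : toConv (f.comp (redM J)) = (1 : WithConv (MonoidAlgebra R M →ₐ[R] T)) := by
        apply WithConv.ofConv_injective
        ext m
        simp [f, D₀, T, redM, AlgHom.convOne_def]
      have h1 : ∀ {A : Type u} [CommRing A] [HopfAlgebra R A] {K : Over S} [GrpObj K]
          (e : Grp.mk (Red.bc j K) ≅ Grp.mk (hspec R A)), (ptEquiv j e T).symm 1 = 1 := fun e => by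
        have := ptEquiv_symm_mul j e (D := T) 1 1
        rw [_root_.mul_one] at this
        exact mul_eq_left.1 this.symm
      have h2 := hnat f
      simp only [P, P'] at h2
      rw [hred, h1, MonObj.one_comp, ← MonObj.one_comp i', cancel_mono,
        ← h1 eA', (ptEquiv j eA' T).symm.injective.eq_iff, ← hc1] at h2
      have h3 := DFunLike.congr_fun (congrArg WithConv.ofConv h2) (MonoidAlgebra.single m' 1)
      simpa [f, c] using h3
    · let C := D₀ ⊗[T] D₀
      let iL : D₀ →ₐ[R] C := (Algebra.TensorProduct.includeLeft : D₀ →ₐ[T] C).restrictScalars R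
      let iR : D₀ →ₐ[R] C := (Algebra.TensorProduct.includeRight : D₀ →ₐ[T] C).restrictScalars R
      let δ : D₀ →ₐ[R] C := (Bialgebra.comulAlgHom T D₀).restrictScalars R
      have hδ : toConv (δ.comp (redM (M := M) J)) = toConv (iL.comp (redM J)) * toConv (iR.comp (redM J)) := by
        apply WithConv.ofConv_injective
        ext m
        rw [AlgHom.convMul_apply]
        have hs : redM J (MonoidAlgebra.single m 1) = (MonoidAlgebra.single m 1 : MonoidAlgebra T M) :=
          (MonoidAlgebra.mapRingHom_single (Ideal.Quotient.mk J) m (1 : R)).trans (by rw [map_one])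
        simp [δ, iL, iR, hs, CommSemiring.comul_apply]
        exact (MonoidAlgebra.comul_single _ _).trans (by
          rw [Algebra.TensorProduct.tmul_mul_tmul, _root_.mul_one, _root_.one_mul, CommSemiring.comul_apply,
            TensorProduct.map_tmul]
          rfl)
      have h2 := hnat δ
      simp only [P, P'] at h2
      rw [hδ, ptEquiv_symm_mul, MonObj.mul_comp] at h2
      have hL := hnat iL
      have hR := hnat iR
      simp only [P, P'] at hL hR
      rw [← hL, ← hR, ← MonObj.mul_comp, cancel_mono, ← ptEquiv_symm_mul,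
        (ptEquiv j eA' C).symm.injective.eq_iff] at h2
      have h3 := DFunLike.congr_fun (congrArg WithConv.ofConv h2) (MonoidAlgebra.single m' 1)
      simp [δ, iL, iR, AlgHom.convMul_apply, CommSemiring.comul_apply] at h3
      exact h3.trans ((Algebra.TensorProduct.tmul_mul_tmul _ _ _ _).trans (by rw [_root_.mul_one, _root_.one_mul]))
  choose θ hθ using hgl
  let φθ : MonoidAlgebra R M' →ₐ[R] MonoidAlgebra R M :=
    MonoidAlgebra.mapDomainAlgHom R R
      { toFun := θ
        map_one' := MonoidAlgebra.single_left_injective (R := T) (one_ne_zero) <|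
          show MonoidAlgebra.single (θ 1) (1 : T) = MonoidAlgebra.single 1 1 from
            (hθ 1).symm.trans (by rw [← MonoidAlgebra.one_def, map_one, MonoidAlgebra.one_def])
        map_mul' := fun a b => MonoidAlgebra.single_left_injective (R := T) (one_ne_zero) <| show
            MonoidAlgebra.single (θ (a * b)) 1 = MonoidAlgebra.single (θ a * θ b) 1 by
          rw [← hθ, show MonoidAlgebra.single (a * b) (1 : R) = .single a 1 * .single b 1 by simp, map_mul, hθ, hθ,
            MonoidAlgebra.single_mul_single, _root_.one_mul] }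
  let E := MonoidAlgebra R M
  let w₁ : ptS j E ⟶ G := (P' φθ ≫ i') * (P (AlgHom.id R E) ≫ i)⁻¹
  let w : hspec R E ⟶ Red.bc j G := adjMulEquiv j _ G w₁
  have hpt : ∀ {C : Type u} [CommRing C] [Algebra R C] (φ : E →ₐ[R] C),
      Spec.mapMulEquiv (toConv φ) ≫ w = adjMulEquiv j _ G ((P' (φ.comp φθ) ≫ i') * (P φ ≫ i)⁻¹) := by
    intro C _ _ φ
    have e1 : pSMap j φ ≫ w₁ = (P' (φ.comp φθ) ≫ i') * (P φ ≫ i)⁻¹ := by
      simp only [w₁, P, P', MonObj.comp_mul, GrpObj.comp_inv]
      rw [← Category.assoc, ← Category.assoc, pSMap_symm, pSMap_symm]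
      simp only [ofConv_toConv]
      rfl
    rw [← e1]
    show ptMap φ ≫ (Over.mapPullbackAdj j).homEquiv _ G w₁ = (Over.mapPullbackAdj j).homEquiv _ G ((Over.map j).map (ptMap φ) ≫ w₁)
    rw [Adjunction.homEquiv_naturality_left]
  have hw : ∀ (C : Type u) [CommRing C] [Algebra R C] (φ ψ : WithConv (E →ₐ[R] C)),
      Spec.mapMulEquiv (φ * ψ) ≫ w = (Spec.mapMulEquiv φ ≫ w) * (Spec.mapMulEquiv ψ ≫ w) := by
    intro C _ _ φ ψ
    rw [show φ = toConv φ.ofConv from rfl, show ψ = toConv ψ.ofConv from rfl, hpt, hpt,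
      show toConv φ.ofConv * toConv ψ.ofConv = toConv (toConv φ.ofConv * toConv ψ.ofConv).ofConv from rfl, hpt,
      ← map_mul]
    congr 1
    have e : toConv ((toConv φ.ofConv * toConv ψ.ofConv).ofConv.comp φθ) =
        toConv (φ.ofConv.comp φθ) * toConv (ψ.ofConv.comp φθ) := by
      apply WithConv.ofConv_injective
      ext m
      have hs : φθ (MonoidAlgebra.single m 1) = MonoidAlgebra.single (θ m) 1 := by simp [φθ]
      simp only [toConv_ofConv, AlgHom.convMul_apply, AlgHom.comp_apply, hs]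
      simp [AlgHom.convMul_apply, hs]
      rw [MonoidAlgebra.comul_single]
      simp [CommSemiring.comul_apply]
    simp only [P, P']
    rw [e, toConv_ofConv, ptEquiv_symm_mul, ptEquiv_symm_mul, MonObj.mul_comp, MonObj.mul_comp]
    have hcomm : Commute ((ptEquiv j eA C).symm φ ≫ i) ((ptEquiv j eA C).symm ψ ≫ i) := by
      show _ * _ = _ * _
      rw [← MonObj.mul_comp, ← MonObj.mul_comp, ← ptEquiv_symm_mul, ← ptEquiv_symm_mul, _root_.mul_comm φ ψ]
    simp only [toConv_ofConv] at hcomm ⊢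
    generalize (ptEquiv j eA' C).symm (toConv (φ.ofConv.comp φθ)) = a
    generalize hb : (ptEquiv j eA' C).symm (toConv (ψ.ofConv.comp φθ)) = b
    generalize hcc : (ptEquiv j eA C).symm φ = c at hcomm ⊢
    generalize hd : (ptEquiv j eA C).symm ψ = d at hcomm ⊢
    have key : (b ≫ i') * (d ≫ i)⁻¹ * (c ≫ i)⁻¹ = (c ≫ i)⁻¹ * ((b ≫ i') * (d ≫ i)⁻¹) := by
      rcases hc with hc | hc
      · exact (Commute.inv_right (a := (b ≫ i') * (d ≫ i)⁻¹) (b := c ≫ i) (hc _ _ c)).eq
      · exact ((Commute.inv_right (hc _ (c ≫ i) b).symm).mul_left hcomm.symm.inv_inv).eq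
    rw [_root_.mul_inv_rev, _root_.mul_assoc, _root_.mul_assoc, ← _root_.mul_assoc _ _ (c ≫ i)⁻¹, key]
  have h0 : Spec.mapMulEquiv (toConv (redM (M := M) J)) ≫ w = 1 := by
    rw [hpt, ← map_one (adjMulEquiv j _ G)]
    congr 1
    have e : (redM J).comp φθ = φ' := by
      ext m
      simp [φθ, hθ, redM]
    rw [e, ← hy, hy₀', mul_inv_cancel]
  have h1 : w = 1 := eq_one_of_nilpotent w hw J hJ h0
  have h2 : w₁ = 1 := (adjMulEquiv j _ G).injective (h1.trans (map_one _).symm)
  refine ⟨pSMap j ((ptEquiv j eA D y).ofConv) ≫ P' φθ, ?_⟩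
  rw [Category.assoc, mul_inv_eq_one.1 h2, ← Category.assoc]
  congr 1
  apply (ptEquiv j eA D).injective
  rw [ptEquiv_pSMap, Equiv.apply_symm_apply]
  rfl

end factor

section split

/-- Over a local ring a group of multiplicative type is diagonalised by a faithfully flat local extension. -/
theorem exists_split {S : Scheme.{u}} {R : Type u} [CommRing R] [IsLocalRing R] (H : Over S) [GrpObj H]
    (hH : IsMultTypeLoc H) (j : Spec (CommRingCat.of R) ⟶ S) :
    ∃ (R' : Type u) (_ : CommRing R') (_ : Algebra R R') (_ : IsLocalRing R'),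
      Module.FaithfullyFlat R R' ∧ ∃ (M : Type u) (_ : CommGroup M),
        Nonempty (Grp.mk (Red.bc (Spec.map (CommRingCat.ofHom (algebraMap R R')) ≫ j) H) ≅
          Grp.mk (hspec R' (MonoidAlgebra R' M))) := by
  obtain ⟨S', f, hfl, hsurj, -, hloc⟩ := hH
  let c : Spec (CommRingCat.of R) := IsLocalRing.closedPoint R
  have : Surjective (pullback.fst j f) := MorphismProperty.pullback_fst (P := @Surjective) _ _ hsurj
  have : Flat (pullback.fst j f) := MorphismProperty.pullback_fst (P := @Flat) _ _ hfl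
  obtain ⟨z, hz⟩ := (inferInstance : Surjective (pullback.fst j f)).surj c
  obtain ⟨U, hU, M, _, ⟨eU⟩⟩ := hloc (pullback.snd j f z)
  let R' : Type u := (pullback j f).presheaf.stalk z
  let p : Spec (CommRingCat.of R') ⟶ Spec (CommRingCat.of R) := (pullback j f).fromSpecStalk z ≫ pullback.fst j f
  let : Algebra R R' := (Spec.preimage p).hom.toAlgebra
  let g : Spec (CommRingCat.of R') ⟶ Spec (CommRingCat.of R) := Spec.map (CommRingCat.ofHom (algebraMap R R'))
  have hgp : g = p := Spec.map_preimage p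
  have hmax : Spec.map (CommRingCat.ofHom (algebraMap R R')) (IsLocalRing.closedPoint R') = c := by
    show g _ = c
    rw [hgp]
    exact (congrArg (pullback.fst j f) (Scheme.fromSpecStalk_closedPoint (X := pullback j f) (x := z))).trans hz
  have : IsLocalHom (algebraMap R R') :=
    ((IsLocalRing.local_hom_TFAE (algebraMap R R')).out 0 4).2 (congrArg PrimeSpectrum.asIdeal hmax)
  have : Module.Flat R R' := by
    have : Flat ((pullback j f).fromSpecStalk z) := Groth.Agent.FlatMorLib.flat_fromSpecStalk z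
    have : Flat p := inferInstanceAs (Flat (_ ≫ _))
    have : Flat g := hgp ▸ inferInstance
    exact RingHom.flat_algebraMap_iff.1 (Flat.SpecMap_iff.1 this)
  have : Module.FaithfullyFlat R R' := Module.FaithfullyFlat.of_flat_of_isLocalHom
  let w : Spec (CommRingCat.of R') ⟶ S' := (pullback j f).fromSpecStalk z ≫ pullback.snd j f
  have hwU : Set.range w ⊆ Set.range U.ι := by
    rw [Scheme.Opens.range_ι]
    rintro _ ⟨q, rfl⟩
    have hsp : w q ⤳ pullback.snd j f z := by
      have h := (IsLocalRing.specializes_closedPoint (R := R') q).map w.continuous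
      rwa [show w (IsLocalRing.closedPoint R') = pullback.snd j f z from
        congrArg (pullback.snd j f) (Scheme.fromSpecStalk_closedPoint (X := pullback j f) (x := z))] at h
    exact hsp.mem_open U.isOpen hU
  let g' : Spec (CommRingCat.of R') ⟶ U.toScheme := IsOpenImmersion.lift U.ι w hwU
  have hg : g ≫ j = g' ≫ U.ι ≫ f := by
    rw [← Category.assoc g', IsOpenImmersion.lift_fac, hgp]
    exact (Category.assoc _ _ _).trans ((congrArg _ pullback.condition).trans (Category.assoc _ _ _).symm)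
  let t := Limits.IsTerminal.from specULiftZIsTerminal U.toScheme
  exact ⟨R', inferInstance, inferInstance, inferInstance, inferInstance, ULift.{u} (Multiplicative M), inferInstance,
    ⟨bcCongr hg H ≪≫ bcComp g' _ H ≪≫ bcIso g' eU ≪≫ (bcComp g' t _).symm ≪≫ bcDiag _ _ _ M⟩⟩

end split

section global

/-- Base change of a group algebra. -/
noncomputable def baseChangeGroupAlgebra (R S : Type u) [CommRing R] [CommRing S] [Algebra R S] (M : Type u)
    [CommGroup M] : MonoidAlgebra S M ≃ₐc[S] S ⊗[R] MonoidAlgebra R M :=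
  (BialgEquiv.ofAlgEquiv (MonoidAlgebra.scalarTensorEquiv R S (M := M))
    (by ext m; simp [MonoidAlgebra.scalarTensorEquiv_tmul])
    (by ext m; simp [MonoidAlgebra.scalarTensorEquiv_tmul, TensorProduct.comul_tmul])).symm

variable {R : Type u} [CommRing R] (J : Ideal R)

/-- Subgroups of multiplicative type, one of them central, agreeing modulo a nilpotent ideal: containment. -/
theorem exists_factor (hJ : IsNilpotent J) {G H H' : Over (Spec (CommRingCat.of R))} [GrpObj G] [GrpObj H] [GrpObj H']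
    (hH : IsMultTypeLoc H) (hH' : IsMultTypeLoc H')
    (i : H ⟶ G) [IsMonHom i] (i' : H' ⟶ G) [IsMonHom i'] [IsImmersion i'.left]
    (hc : (∀ (T : Over (Spec (CommRingCat.of R))) (g : T ⟶ G) (h : T ⟶ H), g * (h ≫ i) = (h ≫ i) * g) ∨
      ∀ (T : Over (Spec (CommRingCat.of R))) (g : T ⟶ G) (h : T ⟶ H'), g * (h ≫ i') = (h ≫ i') * g)
    (hcorr : ∀ (T : Over (Spec (CommRingCat.of R))) (b : T.left ⟶ Spec (CommRingCat.of (R ⧸ J))),
      b ≫ Spec.map (CommRingCat.ofHom (Ideal.Quotient.mk J)) = T.hom → ∀ y : T ⟶ H, ∃ y' : T ⟶ H', y' ≫ i' = y ≫ i) :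
    ∃ h : H ⟶ H', h ≫ i' = i := by
  have : Mono i'.left := inferInstance
  have : Mono i' := Over.mono_of_mono_left i'
  have : IsAffineHom H.hom := isAffineHom_of_isMultTypeLoc H hH
  have : IsAffine H.left := isAffine_of_isAffineHom H.hom
  let k : pullback i.left i'.left ⟶ H.left := pullback.fst i.left i'.left
  have : IsImmersion k := MorphismProperty.pullback_fst (P := @IsImmersion) _ _ inferInstance
  -- points modulo `J`
  have hnear : ∀ (D : Type u) [CommRing D] [Algebra R D], J ≤ RingHom.ker (algebraMap R D) → ∀ y : pt (R := R) D ⟶ H,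
      ∃ y' : pt (R := R) D ⟶ H', y' ≫ i' = y ≫ i := by
    intro D _ _ hD y
    refine hcorr _ (Spec.map (CommRingCat.ofHom (Ideal.Quotient.lift J (algebraMap R D) hD))) ?_ y
    show Spec.map _ ≫ Spec.map _ = Spec.map _
    rw [← Spec.map_comp, ← CommRingCat.ofHom_comp, Ideal.Quotient.lift_comp_mk]
  have hsurj : Surjective k := ⟨fun x => by
    let K : Type u := H.left.residueField x
    let q : Spec (CommRingCat.of K) ⟶ Spec (CommRingCat.of R) := H.left.fromSpecResidueField x ≫ H.hom
    let : Algebra R K := (Spec.preimage q).hom.toAlgebra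
    have hK : J ≤ RingHom.ker (algebraMap R K) := fun r hr => by
      obtain ⟨n, hn⟩ := hJ
      have h : r ^ n ∈ J ^ n := Ideal.pow_mem_pow hr n
      rw [hn, Submodule.zero_eq_bot, Ideal.mem_bot] at h
      exact (IsReduced.eq_zero _ ⟨n, by rw [← map_pow, h, map_zero]⟩)
    let y : pt (R := R) K ⟶ H := Over.homMk (H.left.fromSpecResidueField x) (Spec.map_preimage q).symm
    obtain ⟨y', hy'⟩ := hnear K hK y
    let l : Spec (CommRingCat.of K) ⟶ pullback i.left i'.left :=
      pullback.lift (H.left.fromSpecResidueField x) y'.left (congrArg (fun z => z.left) hy'.symm)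
    refine ⟨l (IsLocalRing.closedPoint K), ?_⟩
    show k (l _) = x
    rw [← Scheme.Hom.comp_apply, show l ≫ k = H.left.fromSpecResidueField x from pullback.lift_fst _ _ _]
    exact Scheme.fromSpecResidueField_apply _ _⟩
  have : IsClosedImmersion k := IsClosedImmersion.of_isPreimmersion k (by rw [hsurj.surj.range_eq]; exact isClosed_univ)
  let A : Type u := Γ(H.left, ⊤)
  let P : Type u := Γ(pullback i.left i'.left, ⊤)
  obtain ⟨hKaff, hΦ⟩ := IsClosedImmersion.isAffine_surjective_of_isAffine k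
  let pA : Spec (CommRingCat.of A) ⟶ Spec (CommRingCat.of R) := H.left.isoSpec.inv ≫ H.hom
  let : Algebra R A := (Spec.preimage pA).hom.toAlgebra
  suffices hinj : Function.Injective k.appTop.hom by
    have : IsIso k.appTop := (ConcreteCategory.isIso_iff_bijective _).2 ⟨hinj, hΦ⟩
    have : IsIso k := (HasAffineProperty.iff_of_isAffine (P := MorphismProperty.isomorphisms Scheme)).2
      ⟨hKaff, this⟩
    refine ⟨Over.homMk (inv k ≫ pullback.snd i.left i'.left) ?_, ?_⟩
    · rw [Category.assoc, IsIso.inv_comp_eq, ← Over.w i', ← Category.assoc, ← pullback.condition, Category.assoc, Over.w i]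
    · apply Over.OverMorphism.ext
      show (inv k ≫ pullback.snd i.left i'.left) ≫ i'.left = i.left
      rw [Category.assoc, ← pullback.condition, IsIso.inv_hom_id_assoc]
  rw [injective_iff_map_eq_zero]
  intro a ha
  -- test on faithfully flat local extensions of the local rings
  have hloc : ∀ p : PrimeSpectrum R, ∃ c ∉ p.asIdeal, c • (a : A) = 0 := by
    intro p
    let Rp := Localization.AtPrime p.asIdeal
    let jp : Spec (CommRingCat.of Rp) ⟶ Spec (CommRingCat.of R) := Spec.map (CommRingCat.ofHom (algebraMap R Rp))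
    obtain ⟨R₁, _, _, _, hff₁, M, _, ⟨e₁⟩⟩ := exists_split H hH jp
    let g₁ : Spec (CommRingCat.of R₁) ⟶ Spec (CommRingCat.of Rp) := Spec.map (CommRingCat.ofHom (algebraMap Rp R₁))
    obtain ⟨R₂, _, _, _, hff₂, M', _, ⟨e₂⟩⟩ := exists_split H' hH' (g₁ ≫ jp)
    let g₂ : Spec (CommRingCat.of R₂) ⟶ Spec (CommRingCat.of R₁) := Spec.map (CommRingCat.ofHom (algebraMap R₁ R₂))
    let : Algebra Rp R₂ := ((algebraMap R₁ R₂).comp (algebraMap Rp R₁)).toAlgebra
    have : IsScalarTower Rp R₁ R₂ := IsScalarTower.of_algebraMap_eq fun _ => rfl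
    have : Module.FaithfullyFlat Rp R₂ := Module.FaithfullyFlat.trans Rp R₁ R₂
    let : Algebra R R₂ := ((algebraMap Rp R₂).comp (algebraMap R Rp)).toAlgebra
    have : IsScalarTower R Rp R₂ := IsScalarTower.of_algebraMap_eq fun _ => rfl
    let eA : Grp.mk (Red.bc (g₂ ≫ g₁ ≫ jp) H) ≅ Grp.mk (hspec R₂ (MonoidAlgebra R₂ M)) :=
      bcComp g₂ _ H ≪≫ bcIso g₂ e₁ ≪≫ bcSpec R₁ R₂ _ ≪≫ (hspecIso (baseChangeGroupAlgebra R₁ R₂ M)).symm
    have hj : g₂ ≫ g₁ ≫ jp = Spec.map (CommRingCat.ofHom (algebraMap R R₂)) := by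
      simp only [g₂, g₁, jp, ← Spec.map_comp, ← CommRingCat.ofHom_comp]
    let D : Type u := R₂ ⊗[R] A
    let iA : A →ₐ[R] D := Algebra.TensorProduct.includeRight
    have hD : Spec.map (CommRingCat.ofHom iA.toRingHom) ≫ pA =
        Spec.map (CommRingCat.ofHom (algebraMap R₂ D)) ≫ g₂ ≫ g₁ ≫ jp := by
      rw [hj, ← Spec.map_preimage pA, ← Spec.map_comp, ← Spec.map_comp]
      congr 1
      refine CommRingCat.hom_ext (RingHom.ext fun r => ?_)
      exact (iA.commutes r).trans (IsScalarTower.algebraMap_apply R R₂ D r)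
    let y : ptS (g₂ ≫ g₁ ≫ jp) D ⟶ H :=
      Over.homMk (Spec.map (CommRingCat.ofHom iA.toRingHom) ≫ H.left.isoSpec.inv) (by
        rw [Category.assoc]
        exact hD)
    have hJ₂ : IsNilpotent (J.map (algebraMap R R₂)) := by
      obtain ⟨n, hn⟩ := hJ
      exact ⟨n, by rw [← Ideal.map_pow, hn, Submodule.zero_eq_bot, Ideal.map_bot]; rfl⟩
    obtain ⟨y', hy'⟩ := exists_factor_of_diag (g₂ ≫ g₁ ≫ jp) (J.map (algebraMap R R₂)) hJ₂ eA e₂ i i' hc
      (fun E _ _ hE z => by
        let : Algebra R E := ((algebraMap R₂ E).comp (algebraMap R R₂)).toAlgebra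
        refine hcorr _ (Spec.map (CommRingCat.ofHom (Ideal.Quotient.lift J (algebraMap R E) fun r hr => hE (Ideal.mem_map_of_mem _ hr)))) ?_ z
        show Spec.map _ ≫ Spec.map _ = Spec.map (CommRingCat.ofHom (algebraMap R₂ E)) ≫ g₂ ≫ g₁ ≫ jp
        rw [hj, ← Spec.map_comp, ← Spec.map_comp, ← CommRingCat.ofHom_comp, ← CommRingCat.ofHom_comp,
          Ideal.Quotient.lift_comp_mk]) D y
    let q : Spec (CommRingCat.of D) ⟶ pullback i.left i'.left :=
      pullback.lift y.left y'.left (congrArg (fun z => z.left) hy'.symm)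
    have h1 : iA a = 0 := by
      have h2 : q ≫ k = Spec.map (CommRingCat.ofHom iA.toRingHom) ≫ H.left.isoSpec.inv := pullback.lift_fst _ _ _
      have h3 : (q ≫ (pullback i.left i'.left).isoSpec.hom) ≫ Spec.map k.appTop =
          Spec.map (CommRingCat.ofHom iA.toRingHom) := by
        rw [Category.assoc, Scheme.isoSpec_hom_naturality, ← Category.assoc, h2, Category.assoc, Iso.inv_hom_id]
        exact Category.comp_id _
      rw [← Spec.map_preimage (q ≫ (pullback i.left i'.left).isoSpec.hom), ← Spec.map_comp] at h3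
      have h4 := CategoryTheory.congr_fun (Spec.map_injective h3) a
      rw [← show _ = iA a from h4]
      show (Spec.preimage _).hom (k.appTop.hom a) = 0
      rw [ha, map_zero]
    have h5 : (1 : Rp) ⊗ₜ[R] a = 0 := by
      apply Module.FaithfullyFlat.tensorProduct_mk_injective (A := Rp) (B := R₂) (Rp ⊗[R] A)
      apply (TensorProduct.AlgebraTensorModule.cancelBaseChange R Rp R₂ R₂ A).injective
      rw [map_zero, map_zero, TensorProduct.mk_apply]
      simp only [TensorProduct.AlgebraTensorModule.cancelBaseChange_tmul, one_smul]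
      exact h1
    have h6 : LocalizedModule.mk a (1 : p.asIdeal.primeCompl) = 0 := by
      apply (LocalizedModule.equivTensorProduct p.asIdeal.primeCompl A).injective
      rw [map_zero, LocalizedModule.equivTensorProduct_apply_mk]
      rw [Localization.mk_one_eq_algebraMap, map_one]
      exact h5
    obtain ⟨c, hc'⟩ := LocalizedModule.mk_eq.1 (h6.trans (LocalizedModule.zero_mk 1).symm)
    refine ⟨c, c.2, ?_⟩
    simp only [smul_zero, one_smul] at hc'
    exact hc'
  by_contra hne
  obtain ⟨m, hm, hle⟩ := Ideal.exists_le_maximal (Ideal.torsionOf R A a) fun htop => hne (by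
    simpa using ((Ideal.eq_top_iff_one _).1 htop : (1 : R) ∈ Ideal.torsionOf R A a))
  obtain ⟨c, hc', hca⟩ := hloc ⟨m, hm.isPrime⟩
  exact hc' (hle hca)

end global

end Groth.Agent.MultHopf
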