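import Groth.Agent.MultHopf.KerLoc
import Groth.Agent.MultHopf.Locus

/-!
# Kernels of homomorphisms into separated groups, locally subgroup schemes
-/

set_option autoImplicit false
set_option backward.isDefEq.respectTransparency.types false

universe u

open CategoryTheory CategoryTheory.Limits MonoidalCategory CartesianMonoidalCategory MonObj AlgebraicGeometry
open scoped TensorProduct
open WithConv

namespace Groth.Agent.MultHopf

theorem map_map_of_comp' {X Y Z F G H : Type*} [CommRing X] [CommRing Y] [CommRing Z] [FunLike F X Y] [FunLike G Y Z]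
    [FunLike H X Z] [RingHomClass F X Y] [RingHomClass G Y Z] [RingHomClass H X Z] (I : Ideal X) (f : F) (g : G) (h : H)
    (hh : ∀ x, g (f x) = h x) : (I.map f).map g = I.map h := by
  refine le_antisymm (Ideal.map_le_iff_le_comap.2 (Ideal.map_le_iff_le_comap.2 fun x hx => ?_))
    (Ideal.map_le_iff_le_comap.2 fun x hx => ?_)
  · rw [Ideal.mem_comap, Ideal.mem_comap, hh]
    exact Ideal.mem_map_of_mem _ hx
  · rw [Ideal.mem_comap, ← hh]
    exact Ideal.mem_map_of_mem _ (Ideal.mem_map_of_mem _ hx)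

/-- The kernel of a surjective bialgebra map is a Hopf ideal. -/
theorem isHopfIdeal_ker_of_surjective {k A B : Type u} [CommRing k] [CommRing A] [HopfAlgebra k A] [CommRing B]
    [HopfAlgebra k B] (f : A →ₐc[k] B) (hf : Function.Surjective f) :
    (RingHom.ker (f : A →ₐ[k] B)).IsHopfIdeal k := by
  let I := RingHom.ker (f : A →ₐ[k] B)
  let g : A ⧸ (I.restrictScalars k) →ₗ[k] B :=
    (I.restrictScalars k).liftQ (f : A →ₐ[k] B).toLinearMap fun x hx => hx
  have hg : Function.Injective g := LinearMap.ker_eq_bot.1 (Submodule.ker_liftQ_eq_bot _ _ _ fun x hx => hx)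
  have hgs : Function.Surjective g := fun b => by
    obtain ⟨a, rfl⟩ := hf b
    exact ⟨Submodule.Quotient.mk a, rfl⟩
  refine { counit_eq_zero := fun x hx => ?_, map_mkQ_comul_eq_zero := fun x hx => ?_, antipode_mem := fun x hx => ?_ }
  · rw [← CoalgHomClass.counit_comp_apply f x, show f x = 0 from hx, map_zero]
  · apply (TensorProduct.congr (LinearEquiv.ofBijective g ⟨hg, hgs⟩) (LinearEquiv.ofBijective g ⟨hg, hgs⟩)).injective
    show TensorProduct.map g g _ = TensorProduct.map g g 0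
    rw [map_zero, ← LinearMap.comp_apply, ← TensorProduct.map_comp, Submodule.liftQ_mkQ]
    have h := CoalgHomClass.map_comp_comul_apply f x
    rw [show f x = 0 from hx, map_zero] at h
    exact h
  · show f (HopfAlgebra.antipode k x) = 0
    rw [antipode_bialgHom, show f x = 0 from hx, map_zero]

/-- The homomorphism of affine groups of a bialgebra map. -/
noncomputable def hspecHom {R A B : Type u} [CommRing R] [CommRing A] [HopfAlgebra R A] [CommRing B]
    [HopfAlgebra R B] (p : A →ₐc[R] B) : Grp.mk (hspec R B) ⟶ Grp.mk (hspec R A) :=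
  (hopfSpec (CommRingCat.of R)).map (CommHopfAlgCat.ofHom p).op

theorem hspecHom_hom {R A B : Type u} [CommRing R] [CommRing A] [HopfAlgebra R A] [CommRing B]
    [HopfAlgebra R B] (p : A →ₐc[R] B) : (hspecHom p).hom.hom = ptMap (p : A →ₐ[R] B) := rfl

theorem mapMulEquiv_comp_hspecHom {R A B C : Type u} [CommRing R] [CommRing A] [HopfAlgebra R A] [CommRing B]
    [HopfAlgebra R B] [CommRing C] [Algebra R C] (p : A →ₐc[R] B) (φ : WithConv (B →ₐ[R] C)) :
    Spec.mapMulEquiv φ ≫ (hspecHom p).hom.hom = Spec.mapMulEquiv (toConv (φ.ofConv.comp (p : A →ₐ[R] B))) := by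
  rw [hspecHom_hom, show Spec.mapMulEquiv φ = ptMap φ.ofConv from rfl]
  exact ptMap_comp_mapMulEquiv φ.ofConv (toConv (p : A →ₐ[R] B))

variable {S : Scheme.{u}} {R₀ : Type u} [CommRing R₀] (j : Spec (CommRingCat.of R₀) ⟶ S)
  {H G : Over S} [GrpObj H] [GrpObj G] {A₀ : Type u} [CommRing A₀] [HopfAlgebra R₀ A₀]
  (eA : Grp.mk (Red.bc j H) ≅ Grp.mk (hspec R₀ A₀)) (u : H ⟶ G) [IsMonHom u]

theorem ker_eq_of_isHopfIdeal {L : Type u} [CommRing L] [Algebra R₀ L] {M : Type u} [CommGroup M]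
    (ε : L ⊗[R₀] A₀ ≃ₐc[L] MonoidAlgebra L M) (J : Ideal A₀) [J.IsHopfIdeal R₀] :
    (J.map (theta ε)).IsHopfIdeal L := by
  rw [map_theta_eq_ker ε J]
  exact isHopfIdeal_ker_of_surjective _ (quotMap_surjective ε J)

theorem ker_eq_bot_comp {R A B : Type u} [CommRing R] [IsLocalRing R] [CommRing A] [HopfAlgebra R A] [CommRing B]
    [HopfAlgebra R B] {G' : Over (Spec (CommRingCat.of R))} [GrpObj G'] [IsSeparated G'.hom]
    (hB : SGA3b.IsMultType R B) (p : A →ₐc[R] B) (v : Grp.mk (hspec R A) ⟶ Grp.mk G') (J : Ideal A) (hJ : J.FG)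
    (hiff : ∀ (C : Type u) [CommRing C] [Algebra R C] (φ : WithConv (A →ₐ[R] C)),
      Spec.mapMulEquiv φ ≫ v.hom.hom = 1 ↔ ∀ x ∈ J, φ.ofConv x = 0)
    (hs : J.map p ≤ (IsLocalRing.maximalIdeal R).map (algebraMap R B)) : J.map p = ⊥ := by
  let w : hspec R B ⟶ G' := (hspecHom p ≫ v).hom.hom
  have : IsMonHom w := (hspecHom p ≫ v).hom.isMonHom_hom
  have hfg : (J.map p).FG := by
    obtain ⟨t, rfl⟩ := hJ
    rw [Ideal.map_span]
    exact Submodule.fg_span ((t.finite_toSet).image p)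
  refine ker_eq_bot_of_local (G := G') hB w (J.map p) hfg (fun C _ _ φ => ?_) hs
  show Spec.mapMulEquiv φ ≫ (hspecHom p).hom.hom ≫ v.hom.hom = 1 ↔ _
  rw [← Category.assoc, mapMulEquiv_comp_hspecHom, hiff]
  constructor
  · intro h x hx
    have hle : J.map p ≤ RingHom.ker φ.ofConv := Ideal.map_le_iff_le_comap.2 h
    exact hle hx
  · intro h x hx
    exact h _ (Ideal.mem_map_of_mem _ hx)

/-- Over a local ring the kernel is the subgroup scheme of a subgroup of characters. -/
theorem exists_eq_kId_of_local_pts (J : Ideal A₀) [J.IsHopfIdeal R₀] (hJfg : J.FG)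
    (hiff : ∀ (C : Type u) [CommRing C] [Algebra R₀ C] (φ : WithConv (A₀ →ₐ[R₀] C)),
      Spec.mapMulEquiv φ ≫ (resHom j eA u).hom.hom = 1 ↔ ∀ a ∈ J, φ.ofConv a = 0)
    [IsSeparated G.hom]
    {R : Type u} [CommRing R] [IsLocalRing R] [Algebra R₀ R] {M : Type u} [CommGroup M] [Group.FG M]
    (ε : R ⊗[R₀] A₀ ≃ₐc[R] MonoidAlgebra R M) : ∃ N : Subgroup M, J.map (theta ε) = kId R N := by
  let k := IsLocalRing.ResidueField R
  let : Algebra R₀ k := ((algebraMap R k).comp (algebraMap R₀ R)).toAlgebra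
  have : IsScalarTower R₀ R k := IsScalarTower.of_algebraMap_eq fun _ => rfl
  haveI : (J.map (theta ε)).IsHopfIdeal R := ker_eq_of_isHopfIdeal ε J
  haveI : (J.map (theta (bcE ε k))).IsHopfIdeal k := ker_eq_of_isHopfIdeal (bcE ε k) J
  have hk := eq_kId_of_field k (J.map (theta (bcE ε k)))
  rw [map_theta_bcE] at hk
  let N := charGrp ((J.map (theta ε)).map (coeffMap R k M))
  refine ⟨N, ?_⟩
  have hker : RingHom.ker (algebraMap R k) = IsLocalRing.maximalIdeal R := IsLocalRing.ker_residue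
  have hsurj : Function.Surjective (algebraMap R k) := IsLocalRing.residue_surjective
  have hN : kId R N ≤ J.map (theta ε) ⊔ (IsLocalRing.maximalIdeal R).map (algebraMap R (MonoidAlgebra R M)) := by
    intro z hz
    have h1 : coeffMap R k M z ∈ (J.map (theta ε)).map (coeffMap R k M) := by
      rw [show (J.map (theta ε)).map (coeffMap R k M) = kId k N from hk, ← kId_map (T := R) k]
      exact Ideal.mem_map_of_mem _ hz
    obtain ⟨y, hy, hyz⟩ := (Ideal.mem_map_iff_of_surjective (coeffMap R k M) (coeffMap_surjective k hsurj)).1 h1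
    rw [show z = y + (z - y) by ring]
    refine add_mem (Submodule.mem_sup_left hy) (Submodule.mem_sup_right ?_)
    rw [← hker, ← coeffMap_eq_zero_iff, map_sub, hyz, sub_self]
  refine eq_kId_of_local (J.map (theta ε)) ?_ hN
  -- the restricted homomorphism
  let gR : Spec (CommRingCat.of R) ⟶ Spec (CommRingCat.of R₀) := Spec.map (CommRingCat.ofHom (algebraMap R₀ R))
  let eR := bcModel (R := R) j eA
  let p : R ⊗[R₀] A₀ →ₐc[R] MonoidAlgebra R (M ⧸ N) := (qM R N).comp (ε : R ⊗[R₀] A₀ →ₐc[R] MonoidAlgebra R M)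
  have : IsSeparated (Red.bc (gR ≫ j) G).hom := MorphismProperty.pullback_snd (P := @IsSeparated) _ _ inferInstance
  let J'' := (J.map (Algebra.TensorProduct.includeRight : A₀ →ₐ[R₀] R ⊗[R₀] A₀)).map p
  have hJ''eq : J'' = (J.map (theta ε)).map (qM R N) := by
    show (J.map _).map p = _
    rw [map_theta_eq]
    exact (map_map_of_comp' _ _ _ _ fun x => rfl).symm
  have hbot : J'' = ⊥ := by
    refine ker_eq_bot_comp (isMultType_monoidAlgebra R (M ⧸ N)) p (resHom (gR ≫ j) eR u) _ (hJfg.map _)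
      (fun C _ _ φ => ker_ideal_baseChange j eA u J hiff C φ) ?_
    rw [show (J.map (Algebra.TensorProduct.includeRight : A₀ →ₐ[R₀] R ⊗[R₀] A₀)).map p = (J.map (theta ε)).map (qM R N)
      from hJ''eq, Ideal.map_le_iff_le_comap]
    intro z hz
    rw [Ideal.mem_comap, ← hker, ← coeffMap_eq_zero_iff]
    have hcomm : ∀ w : MonoidAlgebra R M, coeffMap R k (M ⧸ N) (qM R N w) = qM k N (coeffMap R k M w) := by
      intro w
      induction w using MonoidAlgebra.induction_linear with
      | zero => simp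
      | add a b ha hb => simp only [map_add, ha, hb]
      | single m r => rw [qM_single, coeffMap_single, coeffMap_single, qM_single]
    rw [hcomm, qM_eq_zero_iff, ← show (J.map (theta ε)).map (coeffMap R k M) = kId k N from hk]
    exact Ideal.mem_map_of_mem _ hz
  intro z hz
  rw [← qM_eq_zero_iff, ← Ideal.mem_bot, ← hbot, hJ''eq]
  exact Ideal.mem_map_of_mem _ hz

/-- The kernel near a prime of a splitting. -/
theorem exists_nhd_kId_pts (J : Ideal A₀) [J.IsHopfIdeal R₀] (hJfg : J.FG)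
    (hiff : ∀ (C : Type u) [CommRing C] [Algebra R₀ C] (φ : WithConv (A₀ →ₐ[R₀] C)),
      Spec.mapMulEquiv φ ≫ (resHom j eA u).hom.hom = 1 ↔ ∀ a ∈ J, φ.ofConv a = 0)
    [IsSeparated G.hom]
    {T : Type u} [CommRing T] [Algebra R₀ T] {M : Type u} [CommGroup M] [Group.FG M]
    (ε : T ⊗[R₀] A₀ ≃ₐc[T] MonoidAlgebra T M) (P : PrimeSpectrum T) :
    ∃ g ∉ P.asIdeal, ∃ N : Subgroup M, ∀ (L : Type u) [CommRing L] [Algebra T L],
      IsUnit (algebraMap T L g) → (J.map (theta ε)).map (coeffMap T L M) = kId L N := by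
  let L₀ := Localization.AtPrime P.asIdeal
  obtain ⟨N, hN⟩ := exists_eq_kId_of_local_pts j eA u J hJfg hiff (R := L₀) (bcE ε L₀)
  rw [map_theta_bcE, ← kId_map (T := T) L₀] at hN
  obtain ⟨g₁, hg₁, h₁⟩ := exists_forall_map_le (S := P.asIdeal.primeCompl) L₀ (hJfg.map _) hN.le
  obtain ⟨g₂, hg₂, h₂⟩ := exists_forall_map_le (S := P.asIdeal.primeCompl) L₀ (kId_fg N) hN.ge
  refine ⟨g₁ * g₂, P.asIdeal.primeCompl.mul_mem hg₁ hg₂, N, fun L _ _ hu => ?_⟩
  rw [map_mul, IsUnit.mul_iff] at hu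
  rw [← kId_map (T := T) L]
  exact le_antisymm (h₁ L hu.1) (h₂ L hu.2)

end Groth.Agent.MultHopf
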