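import Groth.Agent.MultHopf.LocIntegral
import Groth.Agent.MultHopf.CentralRigid
import Groth.Agent.FpqcDescent.Amitsur
import Mathlib.RingTheory.Bialgebra.TensorProduct
import Mathlib.AlgebraicGeometry.PullbackCarrier

/-!
# Finite fpqc pieces of the base diagonalising groups of multiplicative type
-/

set_option autoImplicit false
set_option backward.isDefEq.respectTransparency.types false

universe u

open CategoryTheory CategoryTheory.Limits MonoidalCategory CartesianMonoidalCategory MonObj AlgebraicGeometry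
open scoped TensorProduct

namespace Groth.Agent.MultHopf

variable {R : Type u} [CommRing R]

/-- A finite family of flat algebras, jointly surjective on spectra. -/
structure FamFF (R : Type u) [CommRing R] where
  κ : Type u
  [fintype : Fintype κ]
  S : κ → Type u
  [commRing : ∀ k, CommRing (S k)]
  [algebra : ∀ k, Algebra R (S k)]
  [flat : ∀ k, Module.Flat R (S k)]
  surj : ∀ p : PrimeSpectrum R, ∃ (k : κ) (q : PrimeSpectrum (S k)), PrimeSpectrum.comap (algebraMap R (S k)) q = p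

attribute [instance] FamFF.fintype FamFF.commRing FamFF.algebra FamFF.flat

theorem FamFF.faithfullyFlat (F : FamFF R) : Module.FaithfullyFlat R ((k : F.κ) → F.S k) := by
  classical
  have : Module.Flat R ((k : F.κ) → F.S k) := Module.Flat.of_linearEquiv (DFinsupp.linearEquivFunOnFintype (R := R) (M := F.S)).symm
  exact Module.FaithfullyFlat.of_comap_surjective fun p => by
    obtain ⟨k, q, hq⟩ := F.surj p
    exact ⟨PrimeSpectrum.comap (Pi.evalRingHom F.S k) q, by rw [← hq]; rfl⟩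

/-- Elements are detected by the members of the family. -/
theorem FamFF.eq_zero (F : FamFF R) {N : Type u} [AddCommGroup N] [Module R N] (x : N)
    (h : ∀ k, (1 : F.S k) ⊗ₜ[R] x = 0) : x = 0 := by
  classical
  have := F.faithfullyFlat
  apply Module.FaithfullyFlat.tensorProduct_mk_injective (A := R) (B := (k : F.κ) → F.S k) N
  apply ((TensorProduct.comm R ((k : F.κ) → F.S k) N).trans (TensorProduct.piRight R R N F.S)).injective
  rw [map_zero, map_zero]
  funext k
  have h1 := congrArg (TensorProduct.comm R (F.S k) N) (h k)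
  simpa using h1

/-- Two families have a common refinement. -/
noncomputable def FamFF.prod (F F' : FamFF R) : FamFF R where
  κ := F.κ × F'.κ
  S k := F.S k.1 ⊗[R] F'.S k.2
  surj p := by
    obtain ⟨k, q, hq⟩ := F.surj p
    obtain ⟨k', q', hq'⟩ := F'.surj p
    obtain ⟨z, hz, -⟩ := Scheme.Pullback.exists_preimage_pullback
      (f := Spec.map (CommRingCat.ofHom (algebraMap R (F.S k)))) (g := Spec.map (CommRingCat.ofHom (algebraMap R (F'.S k'))))
      q q' (hq.trans hq'.symm)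
    refine ⟨(k, k'), (pullbackSpecIso R (F.S k) (F'.S k')).hom z, ?_⟩
    rw [← hq, IsScalarTower.algebraMap_eq R (F.S k) (F.S k ⊗[R] F'.S k'), PrimeSpectrum.comap_comp_apply]
    congr 1
    refine Eq.trans ?_ hz
    show (Spec.map (CommRingCat.ofHom (algebraMap (F.S k) (F.S k ⊗[R] F'.S k')))) ((pullbackSpecIso R (F.S k) (F'.S k')).hom z) = _
    rw [← Scheme.Hom.comp_apply]
    rw [pullbackSpecIso_hom_fst]

variable {A : Type u} [CommRing A] [HopfAlgebra R A]

/-- Base change of a bialgebra map along an algebra map. -/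
theorem exists_bc {B : Type u} [CommRing B] [HopfAlgebra R B] {S₁ S₂ : Type u} [CommRing S₁] [Algebra R S₁] [CommRing S₂]
    [Algebra R S₂] (f : S₁ →ₐ[R] S₂) (V : S₁ ⊗[R] B →ₐc[S₁] S₁ ⊗[R] A) :
    ∃ V' : S₂ ⊗[R] B →ₐc[S₂] S₂ ⊗[R] A,
      ∀ b, V' ((1 : S₂) ⊗ₜ[R] b) = Algebra.TensorProduct.map f (AlgHom.id R A) (V ((1 : S₁) ⊗ₜ[R] b)) := by
  let : Algebra S₁ S₂ := f.toRingHom.toAlgebra
  have : IsScalarTower R S₁ S₂ := IsScalarTower.of_algebraMap_eq fun r => (f.commutes r).symm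
  refine ⟨((cancelBC R S₁ S₂ A : _ →ₐc[S₂] _).comp (Bialgebra.TensorProduct.map (BialgHom.id S₂ S₂) V)).comp
    ((cancelBC R S₁ S₂ B).symm : _ →ₐc[S₂] _), fun b => ?_⟩
  have hb : (cancelBC R S₁ S₂ B).symm ((1 : S₂) ⊗ₜ[R] b) = (1 : S₂) ⊗ₜ[S₁] ((1 : S₁) ⊗ₜ[R] b) := by
    apply (cancelBC R S₁ S₂ B).injective
    refine ((cancelBC R S₁ S₂ B).apply_symm_apply _).trans (Eq.symm ?_)
    show Algebra.TensorProduct.cancelBaseChange R S₁ S₂ S₂ B _ = _
    simp
  show cancelBC R S₁ S₂ A (Bialgebra.TensorProduct.map (BialgHom.id S₂ S₂) V ((cancelBC R S₁ S₂ B).symm ((1 : S₂) ⊗ₜ[R] b))) = _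
  rw [hb, Bialgebra.TensorProduct.map_tmul]
  generalize V ((1 : S₁) ⊗ₜ[R] b) = z
  induction z using TensorProduct.induction_on with
  | zero => simp
  | add x y hx hy => simp only [TensorProduct.tmul_add, map_add, hx, hy]
  | tmul s a =>
    simp [cancelBC, Algebra.smul_def]
    rfl

theorem nonempty_diag_bc {S₁ S₂ : Type u} [CommRing S₁] [Algebra R S₁] [CommRing S₂] [Algebra R S₂] (f : S₁ →ₐ[R] S₂)
    {M : Type u} [CommGroup M] (e : S₁ ⊗[R] A ≃ₐc[S₁] MonoidAlgebra S₁ M) :
    Nonempty (S₂ ⊗[R] A ≃ₐc[S₂] MonoidAlgebra S₂ M) := by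
  let : Algebra S₁ S₂ := f.toRingHom.toAlgebra
  have : IsScalarTower R S₁ S₂ := IsScalarTower.of_algebraMap_eq fun r => (f.commutes r).symm
  let g : S₂ ⊗[S₁] (S₁ ⊗[R] A) ≃ₐc[S₂] S₂ ⊗[S₁] MonoidAlgebra S₁ M :=
    BialgEquiv.ofBijective (Bialgebra.TensorProduct.map (BialgHom.id S₂ S₂) (e : _ →ₐc[S₁] _)) (by
      refine Function.bijective_iff_has_inverse.2 ⟨Bialgebra.TensorProduct.map (BialgHom.id S₂ S₂) (e.symm : _ →ₐc[S₁] _), fun z => ?_, fun z => ?_⟩
      all_goals
        induction z using TensorProduct.induction_on with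
        | zero => simp
        | add x y hx hy => simp only [map_add, hx, hy]
        | tmul s a => simp)
  exact ⟨((cancelBC R S₁ S₂ A).symm.trans g).trans (baseChangeGroupAlgebra S₁ S₂ M).symm⟩

/-- A diagonalisation of the affine model over every member of a family. -/
def Splits (A : Type u) [CommRing A] [HopfAlgebra R A] (F : FamFF R) : Prop :=
  ∀ k, ∃ (M : Type u) (_ : CommGroup M), Nonempty (F.S k ⊗[R] A ≃ₐc[F.S k] MonoidAlgebra (F.S k) M)

theorem Splits.prod_left {F : FamFF R} (h : Splits A F) (F' : FamFF R) : Splits A (F.prod F') := fun k => by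
  obtain ⟨M, _, ⟨e⟩⟩ := h k.1
  exact ⟨M, inferInstance, nonempty_diag_bc (Algebra.TensorProduct.includeLeft : F.S k.1 →ₐ[R] F.S k.1 ⊗[R] F'.S k.2) e⟩

theorem Splits.prod_right {F' : FamFF R} (h : Splits A F') (F : FamFF R) : Splits A (F.prod F') := fun k => by
  obtain ⟨M, _, ⟨e⟩⟩ := h k.2
  exact ⟨M, inferInstance, nonempty_diag_bc (Algebra.TensorProduct.includeRight : F'.S k.2 →ₐ[R] F.S k.1 ⊗[R] F'.S k.2) e⟩

/-- Groups of multiplicative type split on a finite family. -/
theorem exists_splits (H : Over (Spec (CommRingCat.of R))) [GrpObj H]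
    (hH : IsMultTypeLoc H) (eA : Grp.mk H ≅ Grp.mk (hspec R A)) : ∃ F : FamFF R, Splits A F := by
  classical
  obtain ⟨S', f, hfl, hsurj, hcov, hloc⟩ := hH
  obtain ⟨W, hWc, hW⟩ := hcov ⊤ (isAffineOpen_top _)
  choose U hU M _ hiso using hloc
  have haff : ∀ x : S', ∃ V : S'.Opens, IsAffineOpen V ∧ x ∈ V ∧ V ≤ U x := fun x =>
    exists_isAffineOpen_mem_and_subset (hU x)
  choose V hV hxV hVU using haff
  obtain ⟨t, ht⟩ := hWc.elim_finite_subcover (fun x => (V x : Set S')) (fun x => (V x).isOpen)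
    (fun w _ => Set.mem_iUnion.2 ⟨w, hxV w⟩)
  have hpiece : ∀ x : S', ∃ (R₁ : Type u) (_ : CommRing R₁) (_ : Algebra R R₁) (_ : Module.Flat R R₁),
      (∃ (N : Type u) (_ : CommGroup N), Nonempty (R₁ ⊗[R] A ≃ₐc[R₁] MonoidAlgebra R₁ N)) ∧
      ∀ y ∈ V x, ∃ q : PrimeSpectrum R₁, PrimeSpectrum.comap (algebraMap R R₁) q = f y := by
    intro x
    let R₁ : Type u := Γ(S', V x)
    let p : Spec (CommRingCat.of R₁) ⟶ Spec (CommRingCat.of R) := (hV x).fromSpec ≫ f
    let : Algebra R R₁ := (Spec.preimage p).hom.toAlgebra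
    let g : Spec (CommRingCat.of R₁) ⟶ Spec (CommRingCat.of R) := Spec.map (CommRingCat.ofHom (algebraMap R R₁))
    have hgp : g = p := Spec.map_preimage p
    have hflat : Module.Flat R R₁ := by
      have : Flat g := by
        rw [hgp]
        exact inferInstanceAs (Flat ((hV x).fromSpec ≫ f))
      exact RingHom.flat_algebraMap_iff.1 (Flat.SpecMap_iff.1 this)
    have hr : Set.range (hV x).fromSpec ⊆ Set.range (U x).ι := by
      rw [(hV x).range_fromSpec, Scheme.Opens.range_ι]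
      exact hVU x
    let g' : Spec (CommRingCat.of R₁) ⟶ (U x).toScheme := IsOpenImmersion.lift (U x).ι (hV x).fromSpec hr
    have hg : g = g' ≫ (U x).ι ≫ f := by
      rw [← Category.assoc g', IsOpenImmersion.lift_fac, hgp]
    obtain ⟨eU⟩ := hiso x
    let s := Limits.IsTerminal.from specULiftZIsTerminal (U x).toScheme
    let e : Grp.mk (hspec R₁ (R₁ ⊗[R] A)) ≅
        Grp.mk (hspec R₁ (MonoidAlgebra R₁ (ULift.{u} (Multiplicative (M x))))) :=
      (bcSpec R R₁ A).symm ≪≫ (bcIso g eA).symm ≪≫ bcCongr hg H ≪≫ bcComp g' _ H ≪≫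
        bcIso g' eU ≪≫ (bcComp g' s _).symm ≪≫ bcDiag _ _ _ (M x)
    refine ⟨R₁, inferInstance, inferInstance, hflat, ⟨_, inferInstance, nonempty_bialgEquiv_of_iso e⟩, fun y hy => ?_⟩
    obtain ⟨q, hq⟩ : y ∈ Set.range (hV x).fromSpec := (hV x).range_fromSpec.symm ▸ hy
    refine ⟨q, ?_⟩
    show g q = f y
    rw [hgp, ← hq]
    rfl
  choose R₁ i1 i2 hflat hsplit hsurj' using hpiece
  let F : FamFF R :=
    { κ := {x : S' // x ∈ t}
      S := fun k => R₁ k.1
      flat := fun k => hflat k.1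
      surj := fun p => by
        obtain ⟨w, hw, hwp⟩ := (hW.symm ▸ (trivial : p ∈ (⊤ : (Spec (CommRingCat.of R)).Opens)) : p ∈ f.base '' (W : Set S'))
        obtain ⟨x, hx⟩ := Set.mem_iUnion.1 (ht hw)
        obtain ⟨hxt, hwx⟩ := Set.mem_iUnion.1 hx
        obtain ⟨q, hq⟩ := hsurj' x w hwx
        exact ⟨⟨x, hxt⟩, q, hq.trans hwp⟩ }
  exact ⟨F, fun k => hsplit k.1⟩

end Groth.Agent.MultHopf
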