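import Groth.Agent.MultHopf.Pieces
import Groth.Agent.MultHopf.BaseChangeFT
import Groth.Agent.MultHopf.Locally
import Groth.Agent.CAlgML.Descent
import Groth.Agent.GrpSch.AgreeLocus

/-!
# Groups of multiplicative type have charts with projective coordinate rings
-/

set_option autoImplicit false
set_option backward.isDefEq.respectTransparency.types false

universe u

open CategoryTheory CategoryTheory.Limits MonoidalCategory CartesianMonoidalCategory MonObj AlgebraicGeometry
open scoped TensorProduct

namespace Groth.Agent.MultHopf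

variable {R : Type u} [CommRing R] {A : Type u} [CommRing A] [HopfAlgebra R A]

/-- A split Hopf algebra is projective. -/
theorem projective_of_splits {F : FamFF R} (h : Splits A F) : Module.Projective R A := by
  classical
  have := F.faithfullyFlat
  suffices hP : Module.Projective ((k : F.κ) → F.S k) (((k : F.κ) → F.S k) ⊗[R] A) from
    CAlgML.projective_of_faithfullyFlat ((k : F.κ) → F.S k) (M := A)
  let P := (k : F.κ) → F.S k
  letI : ∀ k, Algebra P (F.S k) := fun k => (Pi.evalRingHom F.S k).toAlgebra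
  haveI : ∀ k, IsScalarTower R P (F.S k) := fun k => IsScalarTower.of_algebraMap_eq fun r => rfl
  haveI hS : ∀ k, Module.Projective P (F.S k) := fun k =>
    Module.Projective.of_split
      ({ toFun := Pi.single k
         map_add' := Pi.single_add k
         map_smul' := fun c x => by
          ext l
          rcases eq_or_ne l k with rfl | hl
          · show Pi.single l (c l * x) l = c l * Pi.single l x l
            simp
          · show Pi.single k (c k * x) l = c l * Pi.single k x l
            simp [hl] } : F.S k →ₗ[P] P)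
      (Algebra.linearMap P (F.S k)) (LinearMap.ext fun x => by
        show Pi.single k x k = x
        simp)
  have hC : ∀ k, Module.Projective P (F.S k ⊗[R] A) := by
    intro k
    obtain ⟨M, _, ⟨e⟩⟩ := h k
    classical
    haveI : Module.Free (F.S k) (F.S k ⊗[R] A) :=
      Module.Free.of_equiv (e : F.S k ⊗[R] A ≃ₐ[F.S k] MonoidAlgebra (F.S k) M).toLinearEquiv.symm
    haveI : IsScalarTower P (F.S k) (F.S k ⊗[R] A) := inferInstance
    let b := Module.Free.chooseBasis (F.S k) (F.S k ⊗[R] A)
    exact Module.Projective.of_equiv ((finsuppLequivDFinsupp P).symm ≪≫ₗ (b.repr.symm.restrictScalars P))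
  haveI : Module.Projective P ((k : F.κ) → F.S k ⊗[R] A) :=
    Module.Projective.of_equiv (DFinsupp.linearEquivFunOnFintype (R := P) (M := fun k => F.S k ⊗[R] A))
  let φ : P ⊗[R] A →ₗ[P] ((k : F.κ) → F.S k ⊗[R] A) :=
    LinearMap.pi fun k => (Algebra.TensorProduct.map (IsScalarTower.toAlgHom P P (F.S k)) (AlgHom.id R A)).toLinearMap
  have hφ : ∀ x, φ x = TensorProduct.piLeft (R := R) (M := F.S) (N := A) x := by
    intro x
    induction x using TensorProduct.induction_on with
    | zero => simp
    | add x y hx hy => rw [map_add, map_add, hx, hy]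
    | tmul p a =>
      funext k
      show (IsScalarTower.toAlgHom P P (F.S k) p) ⊗ₜ[R] a = _
      simp [RingHom.algebraMap_toAlgebra]
      rfl
  have hb : Function.Bijective φ := by
    rw [show (φ : P ⊗[R] A → _) = TensorProduct.piLeft (R := R) (M := F.S) (N := A) from funext hφ]
    exact LinearEquiv.bijective _
  exact Module.Projective.of_equiv (LinearEquiv.ofBijective φ hb).symm

variable {S : Scheme.{u}}

theorem isMultTypeLoc_of_ft {H : Over S} [GrpObj H] (hH : SGA3x.IsMultTypeFT H) : IsMultTypeLoc H := by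
  obtain ⟨S', f, h₁, h₂, h₃, hloc⟩ := hH
  exact ⟨S', f, h₁, h₂, h₃, fun s => by obtain ⟨U, hU, M, i, -, e⟩ := hloc s; exact ⟨U, hU, M, i, e⟩⟩

theorem isMultTypeLoc_bc {T : Scheme.{u}} (g : T ⟶ S) (H : Over S) [GrpObj H] (hH : IsMultTypeLoc H) :
    IsMultTypeLoc (Red.bc g H) := by
  obtain ⟨S', f, hfl, hsurj, hcov, hloc⟩ := hH
  let p := pullback.fst g f
  let q := pullback.snd g f
  refine ⟨pullback g f, p, MorphismProperty.pullback_fst (P := @Flat) _ _ hfl,
    MorphismProperty.pullback_fst (P := @Surjective) _ _ hsurj, cov_pullback g f hcov, fun s => ?_⟩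
  obtain ⟨U, hU, M, iM, ⟨e⟩⟩ := hloc (q s)
  let U' := q ⁻¹ᵁ U
  let g₁ : U'.toScheme ⟶ U.toScheme := q.resLE U U' le_rfl
  have h1 : (U'.ι ≫ p) ≫ g = g₁ ≫ U.ι ≫ f := by
    rw [← Category.assoc g₁, Scheme.Hom.resLE_comp_ι, Category.assoc, Category.assoc, pullback.condition]
  let t₁ := Limits.IsTerminal.from specULiftZIsTerminal U.toScheme
  exact ⟨U', hU, M, iM, ⟨(bcComp (U'.ι ≫ p) g H).symm ≪≫ bcCongr h1 H ≪≫ bcComp g₁ _ H ≪≫ bcIso g₁ e ≪≫
    (bcComp g₁ t₁ _).symm ≪≫ bcCongr (specULiftZIsTerminal.hom_ext _ _) _⟩⟩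

/-- Projective charts. -/
theorem projChart_of_isMultTypeLoc (H : Over S) [GrpObj H] (hH : IsMultTypeLoc H) :
    GrpSch.WeilClosed.ProjChart H.hom := by
  intro s
  obtain ⟨U, hU, hsU, -⟩ := exists_isAffineOpen_mem_and_subset (x := s) (U := (⊤ : S.Opens)) trivial
  let R : Type u := Γ(S, U)
  let j : Spec (CommRingCat.of R) ⟶ S := hU.fromSpec
  have hK := isMultTypeLoc_bc j H hH
  have := isAffineHom_of_isMultTypeLoc _ hK
  obtain ⟨B, _, _, ⟨eA⟩⟩ := exists_hopf R (Red.bc j H)
  obtain ⟨F, hF⟩ := exists_splits (Red.bc j H) hK eA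
  have hproj := projective_of_splits hF
  let g : hspec R B ⟶ Red.bc j H := eA.inv.hom.hom
  have : IsIso g := ⟨eA.hom.hom.hom, congrArg (fun z => z.hom.hom) eA.inv_hom_id, congrArg (fun z => z.hom.hom) eA.hom_inv_id⟩
  have : IsIso g.left := inferInstanceAs (IsIso ((Over.forget _).map g))
  let k : Spec (CommRingCat.of B) ⟶ H.left := g.left ≫ pullback.fst H.hom j
  refine ⟨CommRingCat.of R, j, inferInstance, hU.range_fromSpec ▸ hsU, fun p hp => ?_⟩
  refine ⟨CommRingCat.of B, CommRingCat.ofHom (algebraMap R B), k, inferInstanceAs (IsOpenImmersion (g.left ≫ _)), ?_, ?_, ?_⟩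
  · obtain ⟨y, hy⟩ := hp
    obtain ⟨z, hz, -⟩ := Scheme.Pullback.exists_preimage_pullback (f := H.hom) (g := j) p y hy.symm
    obtain ⟨w, hw⟩ := (inferInstance : Surjective g.left).surj z
    refine ⟨w, ?_⟩
    show (g.left ≫ pullback.fst H.hom j) w = p
    rw [Scheme.Hom.comp_apply, hw, hz]
  · show (g.left ≫ pullback.fst H.hom j) ≫ H.hom = _
    rw [Category.assoc, pullback.condition, ← Category.assoc]
    exact congrArg (· ≫ j) (Over.w g)
  · convert hproj using 1
    exact Module.ext' _ _ fun r m => (Algebra.smul_def r m).symm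

end Groth.Agent.MultHopf
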