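import Groth.Agent.MultHopf.LiftHom
import Groth.Agent.MultHopf.ProjChart
import Groth.Agent.MultHopf.KerPts
import Groth.Agent.MultHopf.Pieces
import Groth.Agent.MultHopf.Locally

/-!
# Monomorphisms from groups of multiplicative type into affine groups are closed immersions
-/

set_option autoImplicit false
set_option backward.isDefEq.respectTransparency.types false

universe u

open CategoryTheory CategoryTheory.Limits MonoidalCategory CartesianMonoidalCategory MonObj AlgebraicGeometry
open scoped TensorProduct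

namespace Groth.Agent.MultHopf

variable {R : Type u} [CommRing R]

/-- The image of a bialgebra map into a group algebra is graded. -/
theorem single_coeff_mem_range {D : Type u} [CommRing D] [HopfAlgebra R D] {M : Type u} [CommGroup M]
    (ψ : D →ₐc[R] MonoidAlgebra R M) (d : D) (n : M) :
    MonoidAlgebra.single n ((ψ d).coeff n) ∈ Set.range ψ := by
  classical
  let c : MonoidAlgebra R M →ₗ[R] R := Finsupp.lapply n ∘ₗ (MonoidAlgebra.coeffLinearEquiv R).toLinearMap
  let ℓ : MonoidAlgebra R M ⊗[R] MonoidAlgebra R M →ₗ[R] MonoidAlgebra R M :=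
    (TensorProduct.rid R _).toLinearMap ∘ₗ TensorProduct.map LinearMap.id c
  have h1 : ∀ w, ℓ (Coalgebra.comul (R := R) w) = MonoidAlgebra.single n (w.coeff n) := by
    intro w
    induction w using MonoidAlgebra.induction_linear with
    | zero => simp
    | add a b ha hb => simp [map_add, ha, hb]
    | single m r =>
      rw [MonoidAlgebra.comul_single, CommSemiring.comul_apply]
      rcases eq_or_ne m n with rfl | hmn
      · simp [ℓ, c]
      · simp [ℓ, c, hmn, Finsupp.single_apply]
  let L : D →ₗ[R] MonoidAlgebra R M := (ψ : D →ₐ[R] MonoidAlgebra R M).toLinearMap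
  have h2 : ∀ z : D ⊗[R] D, ∃ d' : D, ψ d' = ℓ (TensorProduct.map L L z) := by
    intro z
    induction z using TensorProduct.induction_on with
    | zero => exact ⟨0, by simp⟩
    | add x y hx hy =>
      obtain ⟨a, ha⟩ := hx
      obtain ⟨b, hb⟩ := hy
      exact ⟨a + b, by simp [map_add, ha, hb]⟩
    | tmul x y => exact ⟨(c (L y)) • x, by simp [ℓ, L]⟩
  obtain ⟨d', hd'⟩ := h2 (Coalgebra.comul (R := R) d)
  refine ⟨d', hd'.trans ?_⟩
  rw [← h1]
  congr 1
  exact CoalgHomClass.map_comp_comul_apply ψ d

/-- An epimorphic bialgebra map into a group algebra is surjective. -/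
theorem surjective_of_epi_monoidAlgebra {D : Type u} [CommRing D] [HopfAlgebra R D] {M : Type u} [CommGroup M]
    (ψ : D →ₐc[R] MonoidAlgebra R M)
    (hepi : ∀ (X : Type u) [CommRing X] [Algebra R X] (f g : MonoidAlgebra R M →ₐ[R] X),
      (∀ d, f (ψ d) = g (ψ d)) → f = g) :
    Function.Surjective ψ := by
  classical
  let I : M → Ideal R := fun m =>
    { carrier := {a | ∃ d, ψ d = MonoidAlgebra.single m a}
      zero_mem' := ⟨0, by simp⟩
      add_mem' := fun {a b} ⟨x, hx⟩ ⟨y, hy⟩ => ⟨x + y, by rw [map_add, hx, hy]; simp⟩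
      smul_mem' := fun r a ⟨x, hx⟩ => ⟨r • x, by rw [map_smul, hx]; simp⟩ }
  have key : ∀ m, I m = ⊤ := by
    intro m₀
    by_contra hne
    obtain ⟨p, hp, hle⟩ := Ideal.exists_le_maximal _ hne
    let N : Subgroup M :=
      { carrier := {m | ¬ I m ≤ p}
        one_mem' := fun h => hp.ne_top ((Ideal.eq_top_iff_one p).2
          (h ⟨1, by rw [map_one, MonoidAlgebra.one_def]⟩))
        mul_mem' := by
          intro m n hm hn h
          obtain ⟨a, ⟨x, hx⟩, ha⟩ := SetLike.not_le_iff_exists.1 hm
          obtain ⟨b, ⟨y, hy⟩, hb⟩ := SetLike.not_le_iff_exists.1 hn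
          have : a * b ∈ p := h ⟨x * y, by rw [map_mul, hx, hy, MonoidAlgebra.single_mul_single]⟩
          exact (hp.isPrime.mem_or_mem this).elim ha hb
        inv_mem' := by
          intro m hm h
          obtain ⟨a, ⟨x, hx⟩, ha⟩ := SetLike.not_le_iff_exists.1 hm
          exact ha (h ⟨HopfAlgebraStruct.antipode R x, by
            rw [antipode_bialgHom, hx]
            simp⟩) }
    let X := MonoidAlgebra (R ⧸ p) (M ⧸ N)
    let f : MonoidAlgebra R M →ₐ[R] X :=
      MonoidAlgebra.lift R X M ((MonoidAlgebra.of (R ⧸ p) (M ⧸ N)).comp (QuotientGroup.mk' N))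
    let g : MonoidAlgebra R M →ₐ[R] X := MonoidAlgebra.lift R X M 1
    have hfg : f = g := by
      refine hepi X f g fun d => ?_
      have hterm : ∀ m, f (MonoidAlgebra.single m ((ψ d).coeff m)) = g (MonoidAlgebra.single m ((ψ d).coeff m)) := by
        intro m
        by_cases hm : m ∈ N
        · have : (m : M ⧸ N) = 1 := (QuotientGroup.eq_one_iff m).2 hm
          simp [f, g, this, ← MonoidAlgebra.one_def]
        · have hmem : (ψ d).coeff m ∈ p := not_not.1 hm (single_coeff_mem_range ψ d m)
          have h0 : algebraMap R X ((ψ d).coeff m) = 0 := by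
            rw [IsScalarTower.algebraMap_apply R (R ⧸ p) X, Ideal.Quotient.algebraMap_eq,
              Ideal.Quotient.eq_zero_iff_mem.2 hmem, map_zero]
          simp [f, g, Algebra.smul_def, h0]
      conv_lhs => rw [← MonoidAlgebra.sum_coeff_single (ψ d)]
      conv_rhs => rw [← MonoidAlgebra.sum_coeff_single (ψ d)]
      rw [map_finsuppSum, map_finsuppSum]
      exact Finsupp.sum_congr fun m _ => hterm m
    have h1 := congrArg (fun F : MonoidAlgebra R M →ₐ[R] X => F (MonoidAlgebra.single m₀ 1)) hfg
    simp only [f, g, MonoidAlgebra.lift_single, one_smul, MonoidHom.comp_apply, MonoidHom.one_apply,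
      MonoidAlgebra.of_apply, MonoidAlgebra.one_def] at h1
    have : Nontrivial (R ⧸ p) := Ideal.Quotient.nontrivial_iff.2 hp.ne_top
    have h2 := MonoidAlgebra.single_left_inj (one_ne_zero (α := R ⧸ p)) |>.1 h1
    exact (QuotientGroup.eq_one_iff m₀).1 h2 hle
  intro z
  induction z using MonoidAlgebra.induction_linear with
  | zero => exact ⟨0, map_zero ψ⟩
  | add a b ha hb =>
    obtain ⟨x, rfl⟩ := ha
    obtain ⟨y, rfl⟩ := hb
    exact ⟨x + y, map_add ψ x y⟩
  | single m r => exact (key m ▸ Submodule.mem_top : r ∈ I m)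

/-- An epimorphic bialgebra map into a split Hopf algebra is surjective. -/
theorem surjective_of_epi_splits {A C : Type u} [CommRing A] [HopfAlgebra R A] [CommRing C] [HopfAlgebra R C]
    (φ : C →ₐc[R] A)
    (hepi : ∀ (X : Type u) [CommRing X] [Algebra R X] (f g : A →ₐ[R] X), (∀ c, f (φ c) = g (φ c)) → f = g)
    {F : FamFF R} (hA : Splits A F) : Function.Surjective φ := by
  let L : C →ₗ[R] A := (φ : C →ₐ[R] A).toLinearMap
  suffices h : ∀ k, Function.Surjective (L.lTensor (F.S k)) by
    intro a
    have ha : Submodule.Quotient.mk (p := LinearMap.range L) a = 0 := by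
      refine F.eq_zero _ fun k => ?_
      obtain ⟨z, hz⟩ := h k ((1 : F.S k) ⊗ₜ[R] a)
      have h3 := congrArg ((LinearMap.range L).mkQ.lTensor (F.S k)) hz
      rw [← LinearMap.lTensor_comp_apply, show (LinearMap.range L).mkQ ∘ₗ L = 0 from
        LinearMap.ext fun c => (Submodule.Quotient.mk_eq_zero _).2 ⟨c, rfl⟩, LinearMap.lTensor_zero,
        LinearMap.zero_apply, LinearMap.lTensor_tmul] at h3
      exact h3.symm
    exact (Submodule.Quotient.mk_eq_zero _).1 ha
  intro k
  obtain ⟨M, _, ⟨e⟩⟩ := hA k
  let T := F.S k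
  let φT : T ⊗[R] C →ₐc[T] T ⊗[R] A := Bialgebra.TensorProduct.map (BialgHom.id T T) φ
  let ψ : T ⊗[R] C →ₐc[T] MonoidAlgebra T M := (e : T ⊗[R] A →ₐc[T] MonoidAlgebra T M).comp φT
  have hψ : Function.Surjective ψ := by
    refine surjective_of_epi_monoidAlgebra ψ fun X _ _ f g hfg => ?_
    let : Algebra R X := ((algebraMap T X).comp (algebraMap R T)).toAlgebra
    have : IsScalarTower R T X := IsScalarTower.of_algebraMap_eq fun r => rfl
    let eA : T ⊗[R] A →ₐ[T] MonoidAlgebra T M := (e : T ⊗[R] A →ₐc[T] MonoidAlgebra T M)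
    have h1 : f.comp eA = g.comp eA := by
      apply Algebra.TensorProduct.ext
      · ext
      · refine hepi X _ _ fun c => ?_
        have := hfg ((1 : T) ⊗ₜ[R] c)
        simpa [ψ, φT, eA] using this
    refine AlgHom.ext fun z => ?_
    obtain ⟨w, rfl⟩ := e.surjective z
    exact DFunLike.congr_fun h1 w
  intro z
  obtain ⟨w, hw⟩ := hψ (e z)
  refine ⟨w, ?_⟩
  have : φT w = z := e.injective hw
  rw [← this]
  clear hw this
  induction w using TensorProduct.induction_on with
  | zero => simp
  | add x y hx hy =>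
    show (LinearMap.lTensor (F.S k) L) (x + y) = φT (x + y)
    rw [map_add, map_add, hx, hy]
  | tmul t c => simp [L, φT]

variable {S : Scheme.{u}}

/-- Homomorphisms of affine groups come from bialgebra maps. -/
theorem exists_hspecHom_eq {A B : Type u} [CommRing A] [HopfAlgebra R A] [CommRing B]
    [HopfAlgebra R B] (w : Grp.mk (hspec R B) ⟶ Grp.mk (hspec R A)) : ∃ φ : A →ₐc[R] B, hspecHom φ = w := by
  let i := (hopfSpec.fullyFaithful (R := CommRingCat.of R)).preimage
    (X := Opposite.op (CommHopfAlgCat.of R B)) (Y := Opposite.op (CommHopfAlgCat.of R A)) w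
  exact ⟨i.unop.hom, (hopfSpec.fullyFaithful (R := CommRingCat.of R)).map_preimage
    (X := Opposite.op (CommHopfAlgCat.of R B)) (Y := Opposite.op (CommHopfAlgCat.of R A)) w⟩

/-- A homomorphism of affine groups that is a monomorphism, from a group of multiplicative type, is a
closed immersion (affine base). -/
theorem isClosedImmersion_of_mono_affine {H G : Over (Spec (CommRingCat.of R))} [GrpObj H] [GrpObj G]
    (hH : IsMultTypeLoc H) [IsAffineHom G.hom] (w : H ⟶ G) [IsMonHom w] [Mono w.left] :
    IsClosedImmersion w.left := by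
  have := isAffineHom_of_isMultTypeLoc H hH
  obtain ⟨A, _, _, ⟨eA⟩⟩ := exists_hopf R H
  obtain ⟨C, _, _, ⟨eC⟩⟩ := exists_hopf R G
  obtain ⟨F, hF⟩ := exists_splits H hH eA
  let gw : Grp.mk H ⟶ Grp.mk G := Grp.homMk'' w
  obtain ⟨φ, hφ⟩ := exists_hspecHom_eq (eA.inv ≫ gw ≫ eC.hom)
  let a : hspec R A ⟶ H := eA.inv.hom.hom
  let c : G ⟶ hspec R C := eC.hom.hom.hom
  have : IsIso a := ⟨eA.hom.hom.hom, congrArg (fun z => z.hom.hom) eA.inv_hom_id, congrArg (fun z => z.hom.hom) eA.hom_inv_id⟩
  have : IsIso c := ⟨eC.inv.hom.hom, congrArg (fun z => z.hom.hom) eC.hom_inv_id, congrArg (fun z => z.hom.hom) eC.inv_hom_id⟩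
  have : IsIso a.left := inferInstanceAs (IsIso ((Over.forget _).map a))
  have : IsIso c.left := inferInstanceAs (IsIso ((Over.forget _).map c))
  have hS : Spec.map (CommRingCat.ofHom (φ : C →ₐ[R] A).toRingHom) = a.left ≫ w.left ≫ c.left :=
    congrArg (fun z : Grp.mk (hspec R A) ⟶ Grp.mk (hspec R C) => z.hom.hom.left) hφ
  have hsurj : Function.Surjective φ := by
    refine surjective_of_epi_splits φ (fun X _ _ f g hfg => ?_) hF
    have hm : Mono (Spec.map (CommRingCat.ofHom (φ : C →ₐ[R] A).toRingHom)) := by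
      have hca : Mono c.left := @IsIso.mono_of_iso _ _ _ _ c.left (inferInstanceAs (IsIso ((Over.forget _).map c)))
      have haa : Mono a.left := @IsIso.mono_of_iso _ _ _ _ a.left (inferInstanceAs (IsIso ((Over.forget _).map a)))
      have : Mono (w.left ≫ c.left) := mono_comp _ _
      rw [hS]
      exact @mono_comp _ _ _ _ _ a.left haa _ this
    have h2 : Spec.map (CommRingCat.ofHom f.toRingHom) = Spec.map (CommRingCat.ofHom g.toRingHom) := by
      rw [← cancel_mono (Spec.map (CommRingCat.ofHom (φ : C →ₐ[R] A).toRingHom)), ← Spec.map_comp, ← Spec.map_comp]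
      congr 1
      ext c
      exact hfg c
    exact AlgHom.ext fun x => congrArg (fun F => F.hom x) (Spec.map_injective h2)
  have hci : IsClosedImmersion (a.left ≫ w.left ≫ c.left) := by
    rw [← hS]
    exact IsClosedImmersion.spec_of_surjective _ hsurj
  rwa [MorphismProperty.cancel_left_of_respectsIso (P := @IsClosedImmersion),
    MorphismProperty.cancel_right_of_respectsIso (P := @IsClosedImmersion)] at hci

/-- A homomorphism that is a monomorphism, from a group of multiplicative type into an affine group, is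
a closed immersion. -/
theorem isClosedImmersion_of_mono (H G : Over S) [GrpObj H] [GrpObj G] (hH : IsMultTypeLoc H)
    [IsAffineHom G.hom] (w : H ⟶ G) [IsMonHom w] [Mono w] : IsClosedImmersion w.left := by
  let 𝒰 := S.affineCover
  rw [IsZariskiLocalAtTarget.iff_of_openCover (P := @IsClosedImmersion) (𝒰.pullback₁ G.hom)]
  intro i
  let j : Spec (CommRingCat.of (S.affineOpenCover.X i)) ⟶ S := S.affineCover.f i
  let wj : Red.bc j H ⟶ Red.bc j G := (Over.pullback j).map w
  have : IsMonHom wj :=
    ((Over.pullback j).mapGrp.map (Grp.homMk'' w : Grp.mk H ⟶ Grp.mk G)).hom.isMonHom_hom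
  have : Mono w.left := inferInstanceAs (Mono ((Over.forget S).map w))
  have hsq : IsPullback wj.left (pullback.fst H.hom j) (pullback.fst G.hom j) w.left := by
    refine IsPullback.of_right ?_ (pullback.lift_fst _ _ _) (IsPullback.of_hasPullback G.hom j).flip
    rw [show wj.left ≫ pullback.snd G.hom j = pullback.snd H.hom j from pullback.lift_snd _ _ _, Over.w w]
    exact (IsPullback.of_hasPullback H.hom j).flip
  have : Mono wj.left := MorphismProperty.of_isPullback (P := MorphismProperty.monomorphisms Scheme) hsq.flip ‹Mono w.left›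
  have : IsAffineHom (Red.bc j G).hom := MorphismProperty.pullback_snd (P := @IsAffineHom) _ _ ‹_›
  have h := isClosedImmersion_of_mono_affine (isMultTypeLoc_bc j H hH) wj
  show IsClosedImmersion (pullback.snd w.left (pullback.fst G.hom j))
  rw [← hsq.flip.isoPullback_inv_snd]
  infer_instance

end Groth.Agent.MultHopf
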