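import Groth.Agent.MultHopf.TransporterRep
import Groth.Agent.MultHopf.SubgroupConj
import Groth.Agent.MultHopf.MonoClosed
import Mathlib.AlgebraicGeometry.Morphisms.FlatMono

/-!
# The centralizer is open and closed in the normalizer
-/

set_option autoImplicit false
set_option backward.isDefEq.respectTransparency.types false

universe u

open CategoryTheory CategoryTheory.Limits MonoidalCategory CartesianMonoidalCategory MonObj GrpObj AlgebraicGeometry

namespace Groth.Agent.MultHopf

/-- A point normalising a subgroup of multiplicative type and centralising it modulo a nilpotent ideal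
centralises it. -/
theorem centralizes_of_mod_nilpotent {R : Type u} [CommRing R] {J : Ideal R} (hJ : IsNilpotent J)
    {H G : Over (Spec (CommRingCat.of R))} [GrpObj H] [GrpObj G] (hH : IsMultTypeLoc H)
    (i : H ⟶ G) [IsMonHom i] [Mono i] (g : 𝟙_ (Over (Spec (CommRingCat.of R))) ⟶ G) (φ : H ⟶ H)
    (hφ : (toUnit H ≫ g) * i * (toUnit H ≫ g)⁻¹ = φ ≫ i)
    (h0 : ∀ (X : Over (Spec (CommRingCat.of R))) (p : X ⟶ cl J) (h : X ⟶ H),
      (p ≫ toUnit (cl J) ≫ g) * (h ≫ i) * (p ≫ toUnit (cl J) ≫ g)⁻¹ = h ≫ i) :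
    ∀ (X : Over (Spec (CommRingCat.of R))) (h : X ⟶ H),
      (toUnit X ≫ g) * (h ≫ i) * (toUnit X ≫ g)⁻¹ = h ≫ i := by
  have hk : ∀ (X : Over (Spec (CommRingCat.of R))) (h : X ⟶ H),
      (toUnit X ≫ g) * (h ≫ i) * (toUnit X ≫ g)⁻¹ = (h ≫ φ) ≫ i := by
    intro X h
    rw [Category.assoc, ← hφ, MonObj.comp_mul, MonObj.comp_mul, GrpObj.comp_inv, ← Category.assoc, comp_toUnit]
  have : IsMonHom (φ ≫ i) := hφ ▸ isMonHom_conj g i
  have : IsMonHom φ := isMonHom_of_comp_mono φ i
  have he : φ = 𝟙 H := by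
    refine hom_ext_multTypeLoc hJ hH hH φ (𝟙 H) (map_eq_of_comp_eq fun T p y => ?_)
    rw [← cancel_mono i, ← hk T y, Category.comp_id]
    have := h0 T p y
    rwa [← Category.assoc p, comp_toUnit] at this
  intro X h
  rw [hk, he, Category.comp_id]

variable {S : Scheme.{u}}

/-- The centralizer is open and closed in the normalizer. -/
theorem exists_centralizer_to_normalizer {H G Z N : Over S} [GrpObj H] [GrpObj G] [GrpObj Z] [GrpObj N]
    (hH : SGA3x.IsMultTypeFT H) (hG : Smooth G.hom) [IsAffineHom G.hom] (i : H ⟶ G) [IsMonHom i] [Mono i]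
    (j : Z ⟶ G) (k : N ⟶ G) (hj : Red.IsCentralizerOf i j) (hk : Red.IsNormalizerOf i k) :
    ∃ f : Z ⟶ N, f ≫ k = j ∧ IsOpenImmersion f.left ∧ IsClosedImmersion f.left := by
  have hH' := isMultTypeLoc_of_ft hH
  have := isClosedImmersion_of_mono H G hH' i
  have := isClosedImmersion_one (G := G)
  obtain ⟨Z', _, j', hj', hjc, hZs⟩ := exists_centralizer hH' hG i
  obtain ⟨N', _, k', hk', hkc, hNs⟩ := exists_normalizer hH hG i
  obtain ⟨_, hjm, hZ⟩ := hj
  obtain ⟨_, hj'm, hZ'⟩ := hj'
  obtain ⟨_, hkm, hN⟩ := hk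
  obtain ⟨_, hk'm, hN'⟩ := hk'
  have unique : ∀ {A B : Over S} (a : A ⟶ G) (b : B ⟶ G), Mono a → Mono b →
      (∀ (X : Over S) (g : X ⟶ G), (∃ z, z ≫ a = g) ↔ ∃ z, z ≫ b = g) → ∃ e : A ≅ B, e.hom ≫ b = a := by
    intro A B a b _ _ h
    obtain ⟨p, hp⟩ := (h _ a).1 ⟨𝟙 _, Category.id_comp _⟩
    obtain ⟨q, hq⟩ := (h _ b).2 ⟨𝟙 _, Category.id_comp _⟩
    exact ⟨⟨p, q, by rw [← cancel_mono a, Category.assoc, hq, hp, Category.id_comp],
      by rw [← cancel_mono b, Category.assoc, hp, hq, Category.id_comp]⟩, hp⟩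
  obtain ⟨eZ, heZ⟩ := unique j j' hjm hj'm fun X g => (hZ X g).trans (hZ' X g).symm
  obtain ⟨eN, heN⟩ := unique k k' hkm hk'm fun X g => (hN X g).trans (hN' X g).symm
  have : IsIso eZ.hom.left := inferInstanceAs (IsIso ((Over.forget S).map eZ.hom))
  have : IsIso eN.hom.left := inferInstanceAs (IsIso ((Over.forget S).map eN.hom))
  have hjc' : IsClosedImmersion j.left := by
    rw [← heZ]
    exact inferInstanceAs (IsClosedImmersion (eZ.hom.left ≫ j'.left))
  have hkc' : IsClosedImmersion k.left := by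
    rw [← heN]
    exact inferInstanceAs (IsClosedImmersion (eN.hom.left ≫ k'.left))
  have hZsm : Smooth Z.hom := by
    rw [← Over.w eZ.hom]
    infer_instance
  have hNsm : Smooth N.hom := by
    rw [← Over.w eN.hom]
    infer_instance
  obtain ⟨f, hf⟩ := (hN _ j).2 fun X' x h => by
    have e := (hZ _ j).1 ⟨𝟙 _, Category.id_comp _⟩ X' x h
    constructor
    · exact ⟨h, by rw [e, mul_inv_cancel_right]⟩
    · exact ⟨h, by rw [_root_.mul_assoc, ← e, inv_mul_cancel_left]⟩
  have : IsClosedImmersion (f.left ≫ k.left) := by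
    rw [← Over.comp_left, hf]
    exact hjc'
  have hfc : IsClosedImmersion f.left := IsClosedImmersion.of_comp f.left k.left
  have : LocallyOfFinitePresentation (f.left ≫ N.hom) := by
    rw [Over.w f]
    infer_instance
  have : LocallyOfFinitePresentation f.left := AlgSpc.lfp_of_comp f.left N.hom
  have hfs : Smooth f.left := by
    rw [SmoothLift.smooth_iff]
    refine ⟨inferInstance, fun A _ I hI a b hab => ?_⟩
    let b' : Spec (CommRingCat.of A) ⟶ S := b ≫ N.hom
    let gN : (Over.map b').obj (𝟙_ (Over (Spec (CommRingCat.of A)))) ⟶ N :=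
      Over.homMk b (Category.id_comp _).symm
    let g : 𝟙_ (Over (Spec (CommRingCat.of A))) ⟶ Red.bc b' G := adjMulEquiv b' _ G (gN ≫ k)
    let pi : Red.bc b' H ⟶ Red.bc b' G := (Over.pullback b').map i
    have : IsMonHom pi := isMonHom_pullback_map b' i
    have hpi : IsClosedImmersion pi.left := isClosedImmersion_pullback_map b' i
    have : Mono pi := Over.mono_of_mono_left pi
    obtain ⟨⟨h', hh'⟩, -⟩ := (hN _ (gN ≫ k)).1 ⟨gN, rfl⟩ ((Over.map b').obj (Red.bc b' H))
      ((Over.map b').map (toUnit _)) ((adjMulEquiv b' _ H).symm (𝟙 _))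
    have hφ : (toUnit _ ≫ g) * pi * (toUnit _ ≫ g)⁻¹ = adjMulEquiv b' (Red.bc b' H) H h' ≫ pi := by
      have hx := congrArg (adjMulEquiv b' (Red.bc b' H) G) hh'
      rw [map_mul, map_mul, map_inv, adjMulEquiv_map, adjMulEquiv_comp (w := i),
        adjMulEquiv_comp (w := i), MulEquiv.apply_symm_apply, Category.id_comp] at hx
      exact hx
    let z₀ : (Over.map b').obj (cl I) ⟶ Z := Over.homMk a (by
      show a ≫ Z.hom = Spec.map (CommRingCat.ofHom (Ideal.Quotient.mk I)) ≫ b ≫ N.hom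
      rw [← Over.w f, ← Category.assoc, ← hab, Category.assoc])
    have hz₀ : z₀ ≫ j = (Over.map b').map (toUnit (cl I)) ≫ gN ≫ k := by
      rw [← hf, ← Category.assoc, ← Category.assoc]
      congr 1
      exact Over.OverMorphism.ext hab.symm
    have hc := centralizes_of_mod_nilpotent (J := I) ⟨2, hI⟩ (isMultTypeLoc_bc b' H hH') pi g _ hφ
      (fun X p h => by
        obtain ⟨h₀, rfl⟩ := (adjMulEquiv b' X H).surjective h
        have e := congrArg (adjMulEquiv b' X G)
          ((hZ _ _).1 ⟨(Over.map b').map p ≫ z₀, rfl⟩ _ (𝟙 _) h₀)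
        rw [Category.id_comp, Category.assoc, hz₀, map_mul, map_mul, adjMulEquiv_map, adjMulEquiv_map,
          adjMulEquiv_comp (w := i)] at e
        rw [mul_inv_eq_iff_eq_mul]
        exact e)
    obtain ⟨z, hz⟩ := (hZ _ (gN ≫ k)).2 fun X' x h => by
      obtain ⟨X, p, e, he⟩ := exists_overIso b' x
      rw [← cancel_epi e.hom]
      simp only [MonObj.comp_mul, ← Category.assoc, he]
      apply (adjMulEquiv b' X G).injective
      rw [map_mul, map_mul, Category.assoc, adjMulEquiv_map, adjMulEquiv_comp (w := i),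
        ← mul_inv_eq_iff_eq_mul, Subsingleton.elim p (toUnit X)]
      exact hc X _
    have hzf : z ≫ f = gN := by
      rw [← cancel_mono k, Category.assoc, hf, hz]
    refine ⟨z.left, ?_, congrArg (fun q => CommaMorphism.left q) hzf⟩
    rw [← cancel_mono f.left, Category.assoc, ← hab]
    exact congrArg (fun t => Spec.map (CommRingCat.ofHom (Ideal.Quotient.mk I)) ≫ t)
      (congrArg (fun q => CommaMorphism.left q) hzf)
  exact ⟨f, hf, IsOpenImmersion.of_flat_of_mono f.left, hfc⟩

end Groth.Agent.MultHopf
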