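import Groth.Agent.MultHopf.FlatDiag
import Groth.Agent.AlgSpLoc.EtaleLift
import Mathlib.RingTheory.Etale.Basic
import Mathlib.RingTheory.IntegralClosure.IsIntegralClosure.Basic

/-!
# Isotriviality and quasi-isotriviality lift along nil ideals
-/

set_option autoImplicit false

universe u

open scoped TensorProduct
open WithConv Coalgebra SGA3b

namespace Groth.Agent.MultHopf

variable {R : Type u} [CommRing R] {I : Ideal R}

/-- Base change of a family. -/
noncomputable def FamFF.bc (F : FamFF R) (R₂ : Type u) [CommRing R₂] [Algebra R R₂] : FamFF R₂ where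
  κ := F.κ
  S k := R₂ ⊗[R] F.S k
  surj p := by
    obtain ⟨k, q, hq⟩ := F.surj (PrimeSpectrum.comap (algebraMap R R₂) p)
    obtain ⟨z, hz, -⟩ := AlgebraicGeometry.Scheme.Pullback.exists_preimage_pullback
      (f := AlgebraicGeometry.Spec.map (CommRingCat.ofHom (algebraMap R R₂)))
      (g := AlgebraicGeometry.Spec.map (CommRingCat.ofHom (algebraMap R (F.S k)))) p q hq.symm
    refine ⟨k, (AlgebraicGeometry.pullbackSpecIso R R₂ (F.S k)).hom z, ?_⟩
    refine Eq.trans ?_ hz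
    show (AlgebraicGeometry.Spec.map (CommRingCat.ofHom (algebraMap R₂ (R₂ ⊗[R] F.S k))))
      ((AlgebraicGeometry.pullbackSpecIso R R₂ (F.S k)).hom z) = _
    rw [← AlgebraicGeometry.Scheme.Hom.comp_apply, AlgebraicGeometry.pullbackSpecIso_hom_fst]

variable {A : Type u} [CommRing A] [HopfAlgebra R A]

theorem Splits.bc {F : FamFF R} (h : Splits A F) (R₂ : Type u) [CommRing R₂] [Algebra R R₂] :
    Splits (R := R₂) (R₂ ⊗[R] A) (F.bc R₂) := fun k => by
  obtain ⟨M, _, ⟨e⟩⟩ := h k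
  obtain ⟨e'⟩ := nonempty_diag_bc (Algebra.TensorProduct.includeRight : F.S k →ₐ[R] R₂ ⊗[R] F.S k) e
  refine ⟨M, inferInstance, ?_⟩
  show Nonempty ((R₂ ⊗[R] F.S k) ⊗[R₂] (R₂ ⊗[R] A) ≃ₐc[R₂ ⊗[R] F.S k] MonoidAlgebra (R₂ ⊗[R] F.S k) M)
  exact ⟨(cancelBC R R₂ (R₂ ⊗[R] F.S k) A).trans e'⟩

theorem isDiag_bc {S₁ S₂ : Type u} [CommRing S₁] [Algebra R S₁] [CommRing S₂] [Algebra R S₂] (f : S₁ →ₐ[R] S₂)
    (h : IsDiag S₁ (S₁ ⊗[R] A)) : IsDiag S₂ (S₂ ⊗[R] A) := by
  obtain ⟨M, _, ⟨e⟩⟩ := h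
  exact ⟨M, inferInstance, nonempty_diag_bc f e⟩

/-- The lifting property used for isotriviality. -/
def LiftsDiag (I : Ideal R) (A : Type u) [CommRing A] [HopfAlgebra R A] : Prop :=
  ∀ (R₂ : Type u) [CommRing R₂] [Algebra R R₂], IsDiag (Bar I R₂) (Bar I R₂ ⊗[R] A) → IsDiag R₂ (R₂ ⊗[R] A)

theorem liftsDiag_of_isMultType (hI : ∀ x ∈ I, IsNilpotent x) (hA : IsMultType R A) : LiftsDiag I A := by
  intro R₂ _ _ h
  obtain ⟨F, hF⟩ := exists_splits_of_isMultType hA
  obtain ⟨M, _, ⟨e⟩⟩ := h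
  exact ⟨M, inferInstance, nonempty_bialgEquiv_of_mod_nil (isNil_map hI R₂) (F.bc R₂) (hF.bc R₂)
    (splits_monoidAlgebra M (F.bc R₂))
    (((cancelBC R R₂ (Bar I R₂) A).trans e).trans (baseChangeGroupAlgebra R₂ (Bar I R₂) M))⟩

theorem liftsDiag_of_flat [Module.Flat R A] (hI : IsNilpotent I) : LiftsDiag I A := by
  intro R₂ _ _ h
  obtain ⟨M, _, ⟨e⟩⟩ := h
  have hK : IsNilpotent (I.map (algebraMap R R₂)) := by
    obtain ⟨n, hn⟩ := hI
    exact ⟨n, by rw [← Ideal.map_pow, hn, Submodule.zero_eq_bot, Ideal.map_bot]; rfl⟩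
  exact isDiag_of_flat hK ⟨M, inferInstance, ⟨(cancelBC R R₂ (Bar I R₂) A).trans e⟩⟩

theorem isUnit_of_isUnit_quot {S : Type u} [CommRing S] {K : Ideal S} (hK : ∀ x ∈ K, IsNilpotent x) {x : S}
    (h : IsUnit (Ideal.Quotient.mk K x)) : IsUnit x := by
  obtain ⟨y, hy⟩ := h.exists_right_inv
  obtain ⟨y, rfl⟩ := Ideal.Quotient.mk_surjective y
  rw [← map_mul, ← map_one (Ideal.Quotient.mk K), Ideal.Quotient.eq] at hy
  have := (hK _ hy).isUnit_add_one
  rw [sub_add_cancel] at this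
  exact isUnit_of_mul_isUnit_left this

theorem finite_of_finite_quot (hI : ∀ x ∈ I, IsNilpotent x) {S : Type u} [CommRing S] [Algebra R S]
    [Algebra.FiniteType R S] [Module.Finite R (Bar I S)] : Module.Finite R S := by
  have : Algebra.IsIntegral R S := ⟨fun x => by
    obtain ⟨p, hp, hpx⟩ := Algebra.IsIntegral.isIntegral (R := R) (Ideal.Quotient.mk (I.map (algebraMap R S)) x)
    have hmem : Polynomial.aeval x p ∈ I.map (algebraMap R S) := by
      rw [← Ideal.Quotient.eq_zero_iff_mem, ← Ideal.Quotient.mkₐ_eq_mk R, ← Polynomial.aeval_algHom_apply]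
      exact hpx
    obtain ⟨n, hn⟩ := isNil_map hI S _ hmem
    exact ⟨p ^ n, hp.pow n, by show Polynomial.aeval x (p ^ n) = 0; rw [map_pow, hn]⟩⟩
  exact Algebra.IsIntegral.finite

/-- Lifting an étale algebra over the reduction, with its covering property. -/
theorem exists_lift_etale (hI : ∀ x ∈ I, IsNilpotent x) (R₁ : Type u) [CommRing R₁] [Algebra R R₁] [Algebra (R ⧸ I) R₁]
    [IsScalarTower R (R ⧸ I) R₁] [Algebra.Etale (R ⧸ I) R₁] :
    ∃ (S : Type u) (_ : CommRing S) (_ : Algebra R S), Algebra.Etale R S ∧ ∃ (f : R₁ ≃ₐ[R] Bar I S),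
      ∀ (p : PrimeSpectrum R) (q : PrimeSpectrum R₁), PrimeSpectrum.comap (algebraMap R R₁) q = p →
        ∃ Q : PrimeSpectrum S, PrimeSpectrum.comap (algebraMap R S) Q = p := by
  obtain ⟨S, _, _, hS, ⟨ε⟩⟩ := AlgSpLoc.exists_etale_lift R I R₁
  let f : R₁ ≃ₐ[R] Bar I S := (ε.symm.restrictScalars R).trans
    ((Algebra.TensorProduct.quotIdealMapEquivQuotTensor S I).restrictScalars R).symm
  refine ⟨S, inferInstance, inferInstance, hS, f, fun p q hq => ?_⟩
  let g : S →ₐ[R] R₁ := f.symm.toAlgHom.comp (Ideal.Quotient.mkₐ R (I.map (algebraMap R S)))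
  refine ⟨PrimeSpectrum.comap g.toRingHom q, ?_⟩
  rw [← hq, ← PrimeSpectrum.comap_comp_apply]
  exact congrArg (fun k => PrimeSpectrum.comap k q) g.comp_algebraMap

theorem isIsotrivial_of_liftsDiag (hI : ∀ x ∈ I, IsNilpotent x) (hA : LiftsDiag I A)
    (h : IsIsotrivial (R ⧸ I) ((R ⧸ I) ⊗[R] A)) : IsIsotrivial R A := by
  obtain ⟨R₁, _, _, het, hfin, hff, M, _, ⟨e⟩⟩ := h
  let : Algebra R R₁ := ((algebraMap (R ⧸ I) R₁).comp (algebraMap R (R ⧸ I))).toAlgebra
  have : IsScalarTower R (R ⧸ I) R₁ := IsScalarTower.of_algebraMap_eq fun _ => rfl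
  obtain ⟨S, _, _, hS, f, hsurj⟩ := exists_lift_etale hI R₁
  have : Module.Finite R (R ⧸ I) := Module.Finite.of_surjective (Submodule.mkQ I) (Submodule.mkQ_surjective I)
  have : Module.Finite R R₁ := Module.Finite.trans (R ⧸ I) R₁
  have : Module.Finite R (Bar I S) := Module.Finite.equiv f.toLinearEquiv
  have : Module.FaithfullyFlat R S := Module.FaithfullyFlat.of_comap_surjective fun p => by
    have hp : I ≤ p.asIdeal := fun x hx => nilradical_le_prime p.asIdeal (mem_nilradical.2 (hI x hx))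
    obtain ⟨p₀, hp₀⟩ : p ∈ Set.range (PrimeSpectrum.comap (Ideal.Quotient.mk I)) := by
      rw [range_comap_of_surjective _ _ Ideal.Quotient.mk_surjective, Ideal.mk_ker]
      exact hp
    obtain ⟨q, hq⟩ := PrimeSpectrum.comap_surjective_of_faithfullyFlat (A := R ⧸ I) (B := R₁) p₀
    exact hsurj p q (by rw [← hp₀, ← hq, ← PrimeSpectrum.comap_comp_apply]; rfl)
  refine ⟨S, inferInstance, inferInstance, hS, finite_of_finite_quot hI, inferInstance, hA S ?_⟩
  exact isDiag_bc f.toAlgHom ⟨M, inferInstance, ⟨(cancelBC R (R ⧸ I) R₁ A).symm.trans e⟩⟩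

theorem isQuasiIsotrivial_of_liftsDiag (hI : ∀ x ∈ I, IsNilpotent x) (hA : LiftsDiag I A)
    (h : IsQuasiIsotrivial (R ⧸ I) ((R ⧸ I) ⊗[R] A)) : IsQuasiIsotrivial R A := by
  obtain ⟨s, hs, hs'⟩ := h
  refine ⟨Ideal.Quotient.mk I ⁻¹' s, ?_, fun f hf => ?_⟩
  · have h1 : (Ideal.span (Ideal.Quotient.mk I ⁻¹' s)).map (Ideal.Quotient.mk I) = ⊤ := by
      rw [Ideal.map_span, Set.image_preimage_eq s Ideal.Quotient.mk_surjective, hs]
    obtain ⟨a, ha, ha1⟩ := (Ideal.mem_map_iff_of_surjective _ Ideal.Quotient.mk_surjective).1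
      ((Ideal.eq_top_iff_one _).1 h1)
    exact Ideal.eq_top_of_isUnit_mem _ ha (isUnit_of_isUnit_quot hI (ha1 ▸ isUnit_one))
  obtain ⟨R₁, _, _, het, hff, M, _, ⟨e⟩⟩ := hs' (Ideal.Quotient.mk I f) hf
  let L₀ := Localization.Away (Ideal.Quotient.mk I f)
  let : Algebra (R ⧸ I) R₁ := ((algebraMap L₀ R₁).comp (algebraMap (R ⧸ I) L₀)).toAlgebra
  have : IsScalarTower (R ⧸ I) L₀ R₁ := IsScalarTower.of_algebraMap_eq fun _ => rfl
  let : Algebra R R₁ := ((algebraMap (R ⧸ I) R₁).comp (algebraMap R (R ⧸ I))).toAlgebra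
  have : IsScalarTower R (R ⧸ I) R₁ := IsScalarTower.of_algebraMap_eq fun _ => rfl
  have : Algebra.Etale L₀ R₁ := het
  have : Algebra.Etale (R ⧸ I) R₁ := Algebra.Etale.comp (R ⧸ I) L₀ R₁
  obtain ⟨S, _, _, hS, φ, hsurj⟩ := exists_lift_etale hI R₁
  have hu : IsUnit (algebraMap R S f) := by
    refine isUnit_of_isUnit_quot (isNil_map hI S) ?_
    have h1 : IsUnit (algebraMap R R₁ f) :=
      (IsLocalization.Away.algebraMap_isUnit (S := L₀) (Ideal.Quotient.mk I f)).map (algebraMap L₀ R₁)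
    have h2 := h1.map φ
    rwa [AlgEquiv.commutes] at h2
  let L := Localization.Away f
  let : Algebra L S := (IsLocalization.Away.lift (S := L) f hu).toAlgebra
  have : IsScalarTower R L S := IsScalarTower.of_algebraMap_eq fun r => (IsLocalization.Away.lift_eq f hu r).symm
  have hLS : Algebra.Etale L S := Algebra.Etale.of_restrictScalars R L S
  have : Module.FaithfullyFlat L S := Module.FaithfullyFlat.of_comap_surjective fun P => by
    let p := PrimeSpectrum.comap (algebraMap R L) P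
    have hp : I ≤ p.asIdeal := fun x hx => nilradical_le_prime p.asIdeal (mem_nilradical.2 (hI x hx))
    obtain ⟨p₀, hp₀⟩ : p ∈ Set.range (PrimeSpectrum.comap (Ideal.Quotient.mk I)) := by
      rw [range_comap_of_surjective _ _ Ideal.Quotient.mk_surjective, Ideal.mk_ker]
      exact hp
    have hfp : f ∉ p.asIdeal := by
      have : p ∈ Set.range (PrimeSpectrum.comap (algebraMap R L)) := ⟨P, rfl⟩
      rw [PrimeSpectrum.localization_away_comap_range L f] at this
      exact this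
    obtain ⟨P₀, hP₀⟩ : p₀ ∈ Set.range (PrimeSpectrum.comap (algebraMap (R ⧸ I) L₀)) := by
      rw [PrimeSpectrum.localization_away_comap_range L₀ (Ideal.Quotient.mk I f)]
      intro hmem
      apply hfp
      rw [← hp₀]
      exact hmem
    obtain ⟨q, hq⟩ := PrimeSpectrum.comap_surjective_of_faithfullyFlat (A := L₀) (B := R₁) P₀
    obtain ⟨Q, hQ⟩ := hsurj p q (by
      rw [← hp₀, ← hP₀, ← hq, ← PrimeSpectrum.comap_comp_apply, ← PrimeSpectrum.comap_comp_apply]; rfl)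
    refine ⟨Q, PrimeSpectrum.localization_comap_injective L (Submonoid.powers f) ?_⟩
    rw [← PrimeSpectrum.comap_comp_apply, ← IsScalarTower.algebraMap_eq]
    exact hQ
  refine ⟨S, inferInstance, inferInstance, hLS, inferInstance, ?_⟩
  have : IsScalarTower R L₀ R₁ := IsScalarTower.of_algebraMap_eq fun r => by
    show algebraMap (R ⧸ I) R₁ (algebraMap R (R ⧸ I) r) = _
    rw [IsScalarTower.algebraMap_apply R (R ⧸ I) L₀]
    rfl
  obtain ⟨N, _, ⟨e'⟩⟩ := hA S (isDiag_bc φ.toAlgHom ⟨M, inferInstance,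
    ⟨((cancelBC R (R ⧸ I) R₁ A).symm.trans (cancelBC (R ⧸ I) L₀ R₁ ((R ⧸ I) ⊗[R] A)).symm).trans e⟩⟩)
  exact ⟨N, inferInstance, ⟨(cancelBC R L S A).trans e'⟩⟩

end Groth.Agent.MultHopf
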