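import Groth.Agent.MultHopf.SplitData
import Groth.Agent.MultHopf.QuasiIso
import Groth.Agent.FpqcDescent.Amitsur
import Groth.Agent.CAlgML.Descent
import Mathlib.RingTheory.Etale.Locus
import Mathlib.RingTheory.RingHom.Flat

/-!
# The étale algebra of a character of a group of multiplicative type
-/

set_option autoImplicit false
set_option backward.isDefEq.respectTransparency.types false

universe u

open scoped TensorProduct
open Algebra.TensorProduct (includeLeft includeRight)

namespace Groth.Agent.MultHopf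

variable {R : Type u} [CommRing R] {A : Type u} [CommRing A] [HopfAlgebra R A]
  {T T' : Type u} [CommRing T] [Algebra R T] [CommRing T'] [Algebra R T']

theorem exists_coeffIdeal {W : Type u} [AddCommGroup W] [Module R W] [Module.Projective R W] {P : Type u} [CommRing P]
    [Algebra R P] (r : P ⊗[R] W) :
    ∃ J : Ideal P, J.FG ∧ ∀ (T : Type u) [CommRing T] [Algebra R T] (φ : P →ₐ[R] T),
      φ.toLinearMap.rTensor W r = 0 ↔ J ≤ RingHom.ker φ := by
  classical
  obtain ⟨s, hs⟩ := Module.projective_def.1 (inferInstance : Module.Projective R W)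
  let w := TensorProduct.finsuppScalarRight R R P W (s.lTensor P r)
  refine ⟨Ideal.span (w.support.image fun i => w i), ⟨_, rfl⟩, fun T _ _ φ => ?_⟩
  have hnat : ∀ (y : P ⊗[R] (W →₀ R)) (i : W), TensorProduct.finsuppScalarRight R R T W (φ.toLinearMap.rTensor _ y) i =
      φ (TensorProduct.finsuppScalarRight R R P W y i) := by
    intro y i
    induction y using TensorProduct.induction_on with
    | zero => simp
    | tmul p f => simp [TensorProduct.finsuppScalarRight_apply_tmul_apply]
    | add x y hx hy => simp only [map_add, Finsupp.add_apply, hx, hy]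
  have hcomm : φ.toLinearMap.rTensor (W →₀ R) (s.lTensor P r) = s.lTensor T (φ.toLinearMap.rTensor W r) := by
    rw [← LinearMap.comp_apply, ← LinearMap.comp_apply, LinearMap.rTensor_comp_lTensor, LinearMap.lTensor_comp_rTensor]
  rw [Ideal.span_le]
  refine ⟨fun h => ?_, fun h => ?_⟩
  · intro x hx
    obtain ⟨i, -, rfl⟩ := Finset.mem_image.1 (Finset.mem_coe.1 hx)
    show φ (w i) = 0
    rw [← hnat, hcomm, h]
    simp
  · have h0 : φ.toLinearMap.rTensor (W →₀ R) (s.lTensor P r) = 0 := by
      refine (TensorProduct.finsuppScalarRight R R T W).injective (Finsupp.ext fun i => ?_)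
      rw [hnat, map_zero, Finsupp.zero_apply]
      by_cases hi : i ∈ w.support
      · exact h (Finset.mem_coe.2 (Finset.mem_image.2 ⟨i, hi, rfl⟩))
      · show φ (w i) = 0
        rw [Finsupp.notMem_support_iff.1 hi, map_zero]
    have h1 := congrArg ((Finsupp.linearCombination R (id : W → W)).lTensor T) h0
    rw [hcomm, map_zero, ← LinearMap.lTensor_comp_apply] at h1
    rwa [show Finsupp.linearCombination R (id : W → W) ∘ₗ s = LinearMap.id from LinearMap.ext hs, LinearMap.lTensor_id_apply] at h1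

theorem mapT_eq_rTensor (φ : T →ₐ[R] T') (z : T ⊗[R] A) : mapT A φ z = φ.toLinearMap.rTensor A z := by
  induction z using TensorProduct.induction_on with
  | zero => simp
  | tmul t x => rfl
  | add x y hx hy => simp only [map_add, hx, hy]

theorem mapT_injective [Module.Flat R A] {φ : T →ₐ[R] T'} (hφ : Function.Injective φ) :
    Function.Injective (mapT A φ) := fun x y h =>
  Module.Flat.rTensor_preserves_injective_linearMap (M := A) φ.toLinearMap hφ (by rwa [← mapT_eq_rTensor, ← mapT_eq_rTensor])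

theorem GLT.of_injective [Module.Flat R A] {φ : T →ₐ[R] T'} (hφ : Function.Injective φ) {z : T ⊗[R] A}
    (h : GLT (mapT A φ z)) : GLT z := by
  have hinj : Function.Injective (Algebra.TensorProduct.map φ (AlgHom.id R (A ⊗[R] A))) :=
    Module.Flat.rTensor_preserves_injective_linearMap (M := A ⊗[R] A) φ.toLinearMap hφ
  refine ⟨hφ ?_, hinj ?_⟩
  · rw [← counitT_mapT, h.counit, map_one]
  · rw [← comulT_mapT, h.comul, map_mul, leftT_mapT, rightT_mapT]

theorem nil_ker_map (X : Type u) [CommRing X] [Algebra R X] (φ : T →ₐ[R] T') (hsurj : Function.Surjective φ)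
    (hφ : ∀ x, φ x = 0 → IsNilpotent x) :
    ∀ x, Algebra.TensorProduct.map (AlgHom.id R X) φ x = 0 → IsNilpotent x := fun x hx => by
  have hmem : x ∈ (RingHom.ker φ).map (includeRight : T →ₐ[R] X ⊗[R] T) := by
    rw [← Algebra.TensorProduct.lTensor_ker φ hsurj]
    exact hx
  have hle : (RingHom.ker φ).map (includeRight : T →ₐ[R] X ⊗[R] T) ≤ nilradical (X ⊗[R] T) :=
    Ideal.map_le_iff_le_comap.2 fun t ht => mem_nilradical.2 ((hφ t ht).map (includeRight : T →ₐ[R] X ⊗[R] T))
  exact mem_nilradical.1 (hle hmem)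

theorem exists_desc (R' : Type u) [CommRing R'] [Algebra R R'] [Module.FaithfullyFlat R R'] (z : (R' ⊗[R] T) ⊗[R] A)
    (h : mapT A (includeRight : R' ⊗[R] T →ₐ[R] R' ⊗[R] (R' ⊗[R] T)) z =
      mapT A (Algebra.TensorProduct.map (AlgHom.id R R') (includeRight : T →ₐ[R] R' ⊗[R] T)) z) :
    ∃ z₀ : T ⊗[R] A, mapT A (includeRight : T →ₐ[R] R' ⊗[R] T) z₀ = z := by
  let e := TensorProduct.assoc R R' T A
  let e₂ := (TensorProduct.assoc R R' (R' ⊗[R] T) A).trans (LinearEquiv.lTensor R' e)
  have h1 : ∀ w, e₂ (mapT A (includeRight : R' ⊗[R] T →ₐ[R] R' ⊗[R] (R' ⊗[R] T)) w) =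
      TensorProduct.mk R R' (R' ⊗[R] (T ⊗[R] A)) 1 (e w) := fun w => by
    induction w using TensorProduct.induction_on with
    | zero => simp
    | tmul y x => simp [e₂, e]
    | add p q hp hq => simp only [map_add, hp, hq]
  have h2 : ∀ w, e₂ (mapT A (Algebra.TensorProduct.map (AlgHom.id R R') (includeRight : T →ₐ[R] R' ⊗[R] T)) w) =
      LinearMap.lTensor R' (TensorProduct.mk R R' (T ⊗[R] A) 1) (e w) := fun w => by
    induction w using TensorProduct.induction_on with
    | zero => simp
    | tmul y x =>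
      induction y using TensorProduct.induction_on with
      | zero => simp
      | tmul p q => simp [e₂, e]
      | add p q hp hq => simp only [TensorProduct.add_tmul, map_add, hp, hq]
    | add p q hp hq => simp only [map_add, hp, hq]
  obtain ⟨z₀, hz₀⟩ := FpqcDescent.Amitsur.mem_range_mk R R' (T ⊗[R] A) (e z) (by rw [← h1, ← h2, h])
  refine ⟨z₀, e.injective ?_⟩
  rw [← hz₀]
  clear hz₀
  induction z₀ using TensorProduct.induction_on with
  | zero => simp
  | tmul t x => simp [e]
  | add p q hp hq => simp only [map_add, hp, hq]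

/-- The scheme of group-likes supported in a finite set of coordinates. -/
theorem exists_charAlg {V : Type u} [AddCommGroup V] [Module R V] [Module.Projective R V] [Module.Projective R A]
    (S : Finset A) (c : A → A →ₗ[R] R) (σ : A →ₗ[R] V) (L : V →ₗ[R] A)
    (hπ : ∀ a, (∑ i ∈ S, c i a • i) + L (σ a) = a) :
    ∃ (P : Type u) (_ : CommRing P) (_ : Algebra R P) (_ : Algebra.FinitePresentation R P) (zu : P ⊗[R] A),
      GLT zu ∧ σ.lTensor P zu = 0 ∧ ∀ (T : Type u) [CommRing T] [Algebra R T] (z : T ⊗[R] A), GLT z → σ.lTensor T z = 0 →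
        ∃! φ : P →ₐ[R] T, mapT A φ zu = z := by
  classical
  let P₀ := MvPolynomial S R
  let z₀ : P₀ ⊗[R] A := ∑ i : S, MvPolynomial.X i ⊗ₜ[R] (i : A)
  let co : ∀ (T : Type u) [CommRing T] [Algebra R T], A → T ⊗[R] A → T := fun T _ _ i z =>
    TensorProduct.rid R T ((c i).lTensor T z)
  have hco : ∀ (T T' : Type u) [CommRing T] [Algebra R T] [CommRing T'] [Algebra R T'] (φ : T →ₐ[R] T') (i : A) (z : T ⊗[R] A),
      co T' i (mapT A φ z) = φ (co T i z) := fun T T' _ _ _ _ φ i z => by
    induction z using TensorProduct.induction_on with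
    | zero => simp [co]
    | tmul t x => simp [co]
    | add p q hp hq => simp only [co, map_add] at hp hq ⊢; rw [hp, hq]
  have hrec : ∀ (T : Type u) [CommRing T] [Algebra R T] (z : T ⊗[R] A), σ.lTensor T z = 0 →
      ∑ i : S, co T i z ⊗ₜ[R] (i : A) = z := fun T _ _ z hz => by
    have h : ∀ w : T ⊗[R] A, (∑ i ∈ S, co T i w ⊗ₜ[R] i) + L.lTensor T (σ.lTensor T w) = w := fun w => by
      induction w using TensorProduct.induction_on with
      | zero => simp [co]
      | tmul t x =>
        simp only [co, LinearMap.lTensor_tmul, TensorProduct.rid_tmul, TensorProduct.smul_tmul]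
        rw [← TensorProduct.tmul_sum, ← TensorProduct.tmul_add, hπ]
      | add p q hp hq =>
        simp only [co, map_add, TensorProduct.add_tmul, Finset.sum_add_distrib] at hp hq ⊢
        rw [add_add_add_comm, hp, hq]
    have h1 := h z
    rw [hz, map_zero, add_zero, ← Finset.sum_coe_sort] at h1
    exact h1
  obtain ⟨J₂, hJ₂, hJ₂'⟩ := exists_coeffIdeal (comulT R A P₀ z₀ - leftT R A P₀ z₀ * rightT R A P₀ z₀)
  obtain ⟨J₃, hJ₃, hJ₃'⟩ := exists_coeffIdeal (σ.lTensor P₀ z₀)
  let J₁ : Ideal P₀ := Ideal.span {counitT R A P₀ z₀ - 1}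
  let J₄ : Ideal P₀ := Ideal.span (Finset.univ.image fun i : S => co P₀ i z₀ - MvPolynomial.X i)
  let J := J₁ ⊔ J₂ ⊔ J₃ ⊔ J₄
  have hJ : J.FG := (((Submodule.fg_span_singleton _).sup hJ₂).sup hJ₃).sup ⟨_, rfl⟩
  have hker : ∀ (T : Type u) [CommRing T] [Algebra R T] (φ : P₀ →ₐ[R] T), J ≤ RingHom.ker φ ↔
      GLT (mapT A φ z₀) ∧ σ.lTensor T (mapT A φ z₀) = 0 ∧ ∀ i : S, co T i (mapT A φ z₀) = φ (MvPolynomial.X i) := by
    intro T _ _ φ
    have e1 : J₁ ≤ RingHom.ker φ ↔ counitT R A T (mapT A φ z₀) = 1 := by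
      rw [Ideal.span_le, Set.singleton_subset_iff, SetLike.mem_coe, RingHom.mem_ker, map_sub, map_one, sub_eq_zero,
        counitT_mapT]
    have e2 : J₂ ≤ RingHom.ker φ ↔ comulT R A T (mapT A φ z₀) = leftT R A T (mapT A φ z₀) * rightT R A T (mapT A φ z₀) := by
      have hm : ∀ w : P₀ ⊗[R] (A ⊗[R] A), φ.toLinearMap.rTensor (A ⊗[R] A) w =
          Algebra.TensorProduct.map φ (AlgHom.id R (A ⊗[R] A)) w := fun w => rfl
      rw [← hJ₂', hm, map_sub, sub_eq_zero, map_mul, ← comulT_mapT, ← leftT_mapT, ← rightT_mapT]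
    have e3 : J₃ ≤ RingHom.ker φ ↔ σ.lTensor T (mapT A φ z₀) = 0 := by
      rw [← hJ₃', mapT_eq_rTensor, ← LinearMap.comp_apply, ← LinearMap.comp_apply, LinearMap.rTensor_comp_lTensor,
        LinearMap.lTensor_comp_rTensor]
    have e4 : J₄ ≤ RingHom.ker φ ↔ ∀ i : S, co T i (mapT A φ z₀) = φ (MvPolynomial.X i) := by
      rw [Ideal.span_le, Finset.coe_image, Set.image_subset_iff]
      refine ⟨fun h i => ?_, fun h i _ => ?_⟩
      · have := h (Finset.mem_coe.2 (Finset.mem_univ i))
        rw [Set.mem_preimage, SetLike.mem_coe, RingHom.mem_ker, map_sub, sub_eq_zero] at this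
        rw [hco, this]
      · rw [Set.mem_preimage, SetLike.mem_coe, RingHom.mem_ker, map_sub, sub_eq_zero, ← hco]
        exact h i
    rw [sup_le_iff, sup_le_iff, sup_le_iff, e1, e2, e3, e4]
    exact ⟨fun h => ⟨⟨h.1.1.1, h.1.1.2⟩, h.1.2, h.2⟩, fun h => ⟨⟨⟨h.1.counit, h.1.comul⟩, h.2.1⟩, h.2.2⟩⟩
  let P := P₀ ⧸ J
  let π : P₀ →ₐ[R] P := Ideal.Quotient.mkₐ R J
  obtain ⟨hu1, hu2, hu3⟩ := (hker P π).1 (Ideal.mk_ker (I := J)).ge
  refine ⟨P, inferInstance, inferInstance, Algebra.FinitePresentation.quotient hJ, mapT A π z₀, hu1, hu2, fun T _ _ z hz hσ => ?_⟩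
  let φ₀ : P₀ →ₐ[R] T := MvPolynomial.aeval fun i : S => co T i z
  have hX : ∀ i : S, φ₀ (MvPolynomial.X i) = co T i z := fun i => MvPolynomial.aeval_X _ i
  have hφ₀ : mapT A φ₀ z₀ = z := by
    simp only [z₀, map_sum, Algebra.TensorProduct.map_tmul, hX, AlgHom.coe_id, id_eq]
    exact hrec T z hσ
  have hle : J ≤ RingHom.ker φ₀ :=
    (hker T φ₀).2 ⟨by rw [hφ₀]; exact hz, by rw [hφ₀]; exact hσ, fun i => by rw [hφ₀, hX]⟩
  refine ⟨Ideal.Quotient.liftₐ J φ₀ hle, ?_, fun ψ hψ => ?_⟩
  · show mapT A _ (mapT A π z₀) = z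
    rw [mapT_mapT, show (Ideal.Quotient.liftₐ J φ₀ hle).comp π = φ₀ from AlgHom.ext fun _ => rfl, hφ₀]
  · refine Ideal.Quotient.algHom_ext R (MvPolynomial.algHom_ext fun i => ?_)
    show ψ (π (MvPolynomial.X i)) = φ₀ (MvPolynomial.X i)
    rw [← hu3 i, ← hco, hψ, hX]

/-- Two field-valued points with the same image have a common extension. -/
theorem exists_common_ext {P Q Q' : Type u} [CommRing P] [Algebra R P] [CommRing Q] [IsDomain Q] [Algebra R Q] [CommRing Q'] [IsDomain Q']
    [Algebra R Q'] (f : P →ₐ[R] Q) (f' : P →ₐ[R] Q') (h : ∀ p, f p = 0 ↔ f' p = 0) :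
    ∃ (T₂ : Type u) (_ : CommRing T₂) (_ : Algebra R T₂) (_ : Nontrivial T₂) (l : Q →ₐ[R] T₂) (r : Q' →ₐ[R] T₂),
      l.comp f = r.comp f' := by
  let : Algebra P Q := f.toRingHom.toAlgebra
  let : Algebra P Q' := f'.toRingHom.toAlgebra
  have : IsScalarTower R P Q := IsScalarTower.of_algebraMap_eq fun r => (f.commutes r).symm
  have : IsScalarTower R P Q' := IsScalarTower.of_algebraMap_eq fun r => (f'.commutes r).symm
  have hy : PrimeSpectrum.comap (algebraMap P Q) ⟨⊥, Ideal.isPrime_bot⟩ =
      PrimeSpectrum.comap (algebraMap P Q') ⟨⊥, Ideal.isPrime_bot⟩ :=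
    PrimeSpectrum.ext (Ideal.ext fun p => h p)
  obtain ⟨z, -, -⟩ := AlgebraicGeometry.Scheme.Pullback.exists_preimage_pullback
    (f := AlgebraicGeometry.Spec.map (CommRingCat.ofHom (algebraMap P Q)))
    (g := AlgebraicGeometry.Spec.map (CommRingCat.ofHom (algebraMap P Q'))) ⟨⊥, Ideal.isPrime_bot⟩ ⟨⊥, Ideal.isPrime_bot⟩ hy
  have : Nontrivial (Q ⊗[P] Q') :=
    PrimeSpectrum.nonempty_iff_nontrivial.1 ⟨(AlgebraicGeometry.pullbackSpecIso P Q Q').hom z⟩
  refine ⟨Q ⊗[P] Q', inferInstance, inferInstance, this, (includeLeft : Q →ₐ[P] Q ⊗[P] Q').restrictScalars R,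
    (includeRight : Q' →ₐ[P] Q ⊗[P] Q').restrictScalars R, AlgHom.ext fun p => ?_⟩
  exact ((includeLeft : Q →ₐ[P] Q ⊗[P] Q').commutes p).trans ((includeRight : Q' →ₐ[P] Q ⊗[P] Q').commutes p).symm

namespace SplitData

variable {R' : Type u} [CommRing R'] [Algebra R R'] {M : Type u} [CommGroup M] (D : SplitData R A R' M)

include D in
theorem projective [Module.FaithfullyFlat R R'] : Module.Projective R A := by
  have : Module.Projective R' (R' ⊗[R] A) := by
    let e : R' ⊗[R] A ≃ₐ[R'] MonoidAlgebra R' M :=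
      AlgEquiv.ofBijective (D.θ (AlgHom.id R R')) ⟨D.θ_injective, fun w => ⟨_, D.θ_lift w⟩⟩
    exact Module.Projective.of_equiv e.toLinearEquiv.symm
  exact CAlgML.projective_of_faithfullyFlat R' (M := A)

/-- A character over a field point comes from an étale algebra. -/
theorem exists_etale_glt [Module.FaithfullyFlat R R'] (m : M) {K : Type u} [Field K] [Algebra R K] (a : R' →ₐ[R] K) :
    ∃ (E : Type u) (_ : CommRing E) (_ : Algebra R E) (φ : E →ₐ[R] K) (g : E ⊗[R] A),
      Algebra.Etale R E ∧ GLT g ∧ mapT A φ g = D.zAt a m := by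
  classical
  have := D.projective
  obtain ⟨s, hs⟩ := Module.projective_def.1 (inferInstance : Module.Projective R A)
  let F := D.trans m
  have hfin : ∀ y : R' ⊗[R] (A →₀ R), ∃ S : Finset A, ∀ S' : Finset A, S ⊆ S' →
      (Finsupp.lsubtypeDomain {i : A | i ∉ S'} : (A →₀ R) →ₗ[R] _).lTensor R' y = 0 := by
    intro y
    induction y using TensorProduct.induction_on with
    | zero => exact ⟨∅, fun S' _ => map_zero _⟩
    | tmul r f =>
      refine ⟨f.support, fun S' hS' => ?_⟩
      rw [LinearMap.lTensor_tmul]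
      convert TensorProduct.tmul_zero ({i : A | i ∉ S'} →₀ R) r
      ext ⟨i, hi⟩
      show f i = 0
      exact Finsupp.notMem_support_iff.1 fun h => hi (hS' h)
    | add p q hp hq =>
      obtain ⟨S₁, h₁⟩ := hp
      obtain ⟨S₂, h₂⟩ := hq
      exact ⟨S₁ ∪ S₂, fun S' hS' => by
        rw [map_add, h₁ S' (Finset.subset_union_left.trans hS'), h₂ S' (Finset.subset_union_right.trans hS'), add_zero]⟩
  choose Sf hSf using hfin
  let S : Finset A := F.biUnion fun n => Sf (s.lTensor R' (D.ζ n))
  let V := {i : A | i ∉ S} →₀ R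
  let σ : A →ₗ[R] V := (Finsupp.lsubtypeDomain {i : A | i ∉ S}).comp s
  have hσζ : ∀ n ∈ F, σ.lTensor R' (D.ζ n) = 0 := fun n hn => by
    rw [LinearMap.lTensor_comp_apply]
    exact hSf _ S (Finset.subset_biUnion_of_mem (fun n => Sf (s.lTensor R' (D.ζ n))) hn)
  have hσz : ∀ (T : Type u) [CommRing T] [Algebra R T] (b : R' →ₐ[R] T), ∀ n ∈ F, σ.lTensor T (D.zAt b n) = 0 :=
    fun T _ _ b n hn => by
    rw [zAt_apply, mapT_eq_rTensor, ← LinearMap.comp_apply, LinearMap.lTensor_comp_rTensor, ← LinearMap.rTensor_comp_lTensor,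
      LinearMap.comp_apply, hσζ n hn, map_zero]
  have hπ : ∀ x, (∑ i ∈ S, s x i • i) + Finsupp.linearCombination R (Subtype.val : {i : A | i ∉ S} → A) (σ x) = x := by
    intro x
    have h1 : (∑ i ∈ S, Finsupp.single i (s x i)) + Finsupp.mapDomain Subtype.val (σ x) = s x := by
      ext i
      rw [Finsupp.add_apply, Finset.sum_apply']
      simp only [Finsupp.single_apply, Finset.sum_ite_eq']
      by_cases hi : i ∈ S
      · rw [if_pos hi, Finsupp.mapDomain_notin_range _ _ (by simp [hi]), add_zero]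
      · rw [if_neg hi, zero_add]
        exact Finsupp.mapDomain_apply Subtype.val_injective (σ x) (⟨i, hi⟩ : {i : A | i ∉ S})
    have h2 := congrArg (Finsupp.linearCombination R (id : A → A)) h1
    rw [map_add, map_sum, hs x, Finsupp.linearCombination_mapDomain, Function.id_comp] at h2
    simpa using h2
  obtain ⟨P, _, _, _, zu, hzu, hzuσ, huniv⟩ :=
    exists_charAlg (R := R) S (fun i => (Finsupp.lapply i).comp s) σ (Finsupp.linearCombination R Subtype.val) hπ
  have hmF : m ∈ F := D.mem_trans (a := a) (b := a) rfl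
  obtain ⟨φ₀, hφ₀, -⟩ := huniv K (D.zAt a m) (D.glt_zAt m) (hσz K a m hmF)
  let x : Ideal P := RingHom.ker φ₀
  have hx : x.IsPrime := RingHom.ker_isPrime φ₀
  let L := Localization.AtPrime x
  let j : P →ₐ[R] L := IsScalarTower.toAlgHom R P L
  -- the index at every point of `L` lies in `F`
  have hkey : ∀ (Q : Type u) [Field Q] [Algebra R Q] (h : L →ₐ[R] Q) (b : R' →ₐ[R] Q) (n : M),
      mapT A (h.comp j) zu = D.zAt b n → n ∈ F := by
    intro Q _ _ h b n hn
    let T := R' ⊗[R] P
    let : Algebra P T := Algebra.TensorProduct.rightAlgebra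
    have : Module.Flat P T := Module.Flat.of_linearEquiv (M := P ⊗[R] R')
      (Algebra.TensorProduct.commRight R P R').symm.toLinearEquiv
    let iP : P →ₐ[R] T := includeRight
    let w₀hom : T →ₐ[R] K := Algebra.TensorProduct.lift a φ₀ fun _ _ => Commute.all _ _
    have hwP : w₀hom.comp iP = φ₀ := Algebra.TensorProduct.lift_comp_includeRight a φ₀ (fun _ _ => Commute.all _ _)
    have hwR : w₀hom.comp includeLeft = a := AlgHom.ext fun r => by
      show w₀hom (r ⊗ₜ[R] (1 : P)) = a r
      exact (Algebra.TensorProduct.lift_tmul _ _ _ r 1).trans (by simp)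
    let e : T := D.coeff includeLeft (mapT A iP zu) m
    have hw₀e : w₀hom e = 1 := by
      show w₀hom (D.coeff includeLeft (mapT A iP zu) m) = 1
      rw [← coeff_mapT, mapT_mapT, hwP, hwR, hφ₀, coeff, θ_zAt]
      simp
    let w₀ : Ideal T := RingHom.ker w₀hom
    have : w₀.IsPrime := RingHom.ker_isPrime _
    let y : PrimeSpectrum P := ⟨RingHom.ker (h.comp j), RingHom.ker_isPrime _⟩
    have hyx : y.asIdeal ≤ x := fun p hp => by
      by_contra hpx
      have hu := (IsLocalization.map_units L (⟨p, hpx⟩ : x.primeCompl)).map h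
      exact hu.ne_zero hp
    have hw₀x : w₀.comap (algebraMap P T) = x := by
      ext p
      show w₀hom (algebraMap P T p) = 0 ↔ φ₀ p = 0
      rw [show w₀hom (algebraMap P T p) = φ₀ p from DFunLike.congr_fun hwP p]
    obtain ⟨w', hw'le, hw'y⟩ := RingHom.Flat.generalizingMap_comap (f := algebraMap P T)
      (RingHom.flat_algebraMap_iff.2 inferInstance) (a := ⟨w₀, inferInstance⟩) (b := y)
      ((PrimeSpectrum.le_iff_specializes _ _).1 (show y.asIdeal ≤ w₀.comap (algebraMap P T) by rw [hw₀x]; exact hyx))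
    rw [← PrimeSpectrum.le_iff_specializes] at hw'le
    let Q' := w'.asIdeal.ResidueField
    let q' : T →ₐ[R] Q' := IsScalarTower.toAlgHom R T Q'
    have hq'0 : ∀ t, q' t = 0 ↔ t ∈ w'.asIdeal := fun t => Ideal.algebraMap_residueField_eq_zero
    obtain ⟨n', hn'⟩ := D.existsUnique_index (q'.comp includeLeft) ((hzu.map iP).map q')
    have hn'm : n' = m := by
      by_contra hne
      have he : q' e = 0 := by
        show q' (D.coeff includeLeft (mapT A iP zu) m) = 0
        rw [← coeff_mapT, hn', coeff, θ_zAt]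
        simp [hne]
      have := hw'le ((hq'0 e).1 he)
      exact one_ne_zero (hw₀e.symm.trans this)
    rw [hn'm, mapT_mapT] at hn'
    -- a common extension
    obtain ⟨T₂, _, _, _, l, r, hlr⟩ := exists_common_ext (h.comp j) (q'.comp iP) (fun p => by
      show h (j p) = 0 ↔ q' (iP p) = 0
      rw [hq'0]
      exact (Ideal.ext_iff.1 (congrArg PrimeSpectrum.asIdeal hw'y) p).symm)
    refine D.mem_trans (a := r.comp (q'.comp includeLeft)) (b := l.comp b) ?_
    rw [← D.mapT_zAt r, ← D.mapT_zAt l, ← hn', ← hn, mapT_mapT, mapT_mapT, hlr]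
  have hL : Algebra.FormallyEtale R L := by
    rw [Algebra.FormallyEtale.iff_comp_bijective]
    intro B _ _ I hI
    let q : B →ₐ[R] B ⧸ I := Ideal.Quotient.mkₐ R I
    have hqs : Function.Surjective q := Ideal.Quotient.mkₐ_surjective R I
    have hqnil : ∀ t, q t = 0 → IsNilpotent t := fun t ht => ⟨2, by
      have := Ideal.pow_mem_pow (Ideal.Quotient.eq_zero_iff_mem.1 ht) 2
      rwa [hI, Ideal.mem_bot] at this⟩
    let iB : B →ₐ[R] R' ⊗[R] B := includeRight
    let iBI : B ⧸ I →ₐ[R] R' ⊗[R] (B ⧸ I) := includeRight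
    let qR : R' ⊗[R] B →ₐ[R] R' ⊗[R] (B ⧸ I) := Algebra.TensorProduct.map (AlgHom.id R R') q
    have hqR : ∀ t, qR t = 0 → IsNilpotent t := nil_ker_map R' q hqs hqnil
    have hcomm : qR.comp iB = iBI.comp q := AlgHom.ext fun t => rfl
    have hiB : ∀ (X : Type u) [CommRing X] [Algebra R X], Function.Injective (includeRight : X →ₐ[R] R' ⊗[R] X) :=
      fun X _ _ => Module.FaithfullyFlat.tensorProduct_mk_injective X
    refine ⟨fun ψ ψ' hψ => ?_, fun ψ₀ => ?_⟩
    · refine IsLocalization.algHom_ext x.primeCompl (?_ : ψ.comp j = ψ'.comp j)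
      have hσ : ∀ χ : L →ₐ[R] B, σ.lTensor B (mapT A (χ.comp j) zu) = 0 := fun χ => by
        rw [mapT_eq_rTensor, ← LinearMap.comp_apply, LinearMap.lTensor_comp_rTensor, ← LinearMap.rTensor_comp_lTensor,
          LinearMap.comp_apply, hzuσ, map_zero]
      refine (huniv B _ (hzu.map (ψ.comp j)) (hσ ψ)).unique rfl ?_
      refine mapT_injective (φ := iB) (hiB B) ?_
      refine D.eq_of_mapT_eq includeLeft qR hqR ((hzu.map _).map _) ((hzu.map _).map _) ?_
      rw [mapT_mapT, mapT_mapT, mapT_mapT, mapT_mapT, hcomm, AlgHom.comp_assoc, AlgHom.comp_assoc,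
        ← AlgHom.comp_assoc q ψ, ← AlgHom.comp_assoc q ψ', show q.comp ψ = q.comp ψ' from hψ]
    · let z₀ := mapT A (ψ₀.comp j) zu
      obtain ⟨z', hz', hz'0⟩ := D.exists_glt_lift includeLeft qR
        (TensorProduct.map_surjective Function.surjective_id hqs) hqR ((hzu.map (ψ₀.comp j)).map iBI)
      have hdesc : mapT A (includeRight : R' ⊗[R] B →ₐ[R] R' ⊗[R] (R' ⊗[R] B)) z' =
          mapT A (Algebra.TensorProduct.map (AlgHom.id R R') iB) z' := by
        let qR₂ : R' ⊗[R] (R' ⊗[R] B) →ₐ[R] R' ⊗[R] (R' ⊗[R] (B ⧸ I)) := Algebra.TensorProduct.map (AlgHom.id R R') qR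
        have hqR₂ : ∀ w, qR₂ w = 0 → IsNilpotent w :=
          nil_ker_map R' qR (TensorProduct.map_surjective Function.surjective_id hqs) hqR
        refine D.eq_of_mapT_eq (T := R' ⊗[R] (R' ⊗[R] B)) (T' := R' ⊗[R] (R' ⊗[R] (B ⧸ I))) includeLeft qR₂ hqR₂ (hz'.map _) (hz'.map _) ?_
        rw [mapT_mapT, mapT_mapT,
          show (Algebra.TensorProduct.map (AlgHom.id R R') qR).comp (includeRight : R' ⊗[R] B →ₐ[R] R' ⊗[R] (R' ⊗[R] B)) =
            (includeRight : R' ⊗[R] (B ⧸ I) →ₐ[R] R' ⊗[R] (R' ⊗[R] (B ⧸ I))).comp qR from AlgHom.ext fun _ => rfl,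
          show (Algebra.TensorProduct.map (AlgHom.id R R') qR).comp (Algebra.TensorProduct.map (AlgHom.id R R') iB) =
            (Algebra.TensorProduct.map (AlgHom.id R R') iBI).comp qR by
            refine Algebra.TensorProduct.ext (AlgHom.ext fun r => ?_) (AlgHom.ext fun t => ?_) <;>
              simp [qR, iB, iBI],
          ← mapT_mapT qR, ← mapT_mapT qR, hz'0, mapT_mapT, mapT_mapT]
        simp only [mapT_mapT, ← AlgHom.comp_assoc]
        rw [show (Algebra.TensorProduct.map (AlgHom.id R R') iBI).comp iBI =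
          (includeRight : R' ⊗[R] (B ⧸ I) →ₐ[R] R' ⊗[R] (R' ⊗[R] (B ⧸ I))).comp iBI from AlgHom.ext fun _ => rfl]
      obtain ⟨z, rfl⟩ := exists_desc R' z' hdesc
      have hz : GLT z := GLT.of_injective (hiB B) hz'
      have hzq : mapT A q z = z₀ := mapT_injective (φ := iBI) (hiB _) (by
        rw [← hz'0, mapT_mapT, mapT_mapT, hcomm])
      have hzσ : σ.lTensor B z = 0 := by
        have hinj : Function.Injective (iB.toLinearMap.rTensor V) :=
          Module.Flat.rTensor_preserves_injective_linearMap (M := V) iB.toLinearMap (hiB B)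
        apply hinj
        rw [map_zero, ← LinearMap.comp_apply, LinearMap.rTensor_comp_lTensor, ← LinearMap.lTensor_comp_rTensor,
          LinearMap.comp_apply, ← mapT_eq_rTensor, D.eq_sum (a := includeLeft) (mapT A iB z), map_sum]
        refine Finset.sum_eq_zero fun n _ => ?_
        by_cases hn : n ∈ F
        · let b : R' →ₐ[R] R' ⊗[R] B := includeLeft
          let c := D.coeff b (mapT A iB z) n
          have h3 : ∀ (t : R' ⊗[R] B) (w : (R' ⊗[R] B) ⊗[R] A), σ.lTensor _ (t • w) = t • σ.lTensor _ w := fun t w => by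
            induction w using TensorProduct.induction_on with
            | zero => simp
            | tmul p q => simp [TensorProduct.smul_tmul']
            | add p q hp hq => simp only [smul_add, map_add, hp, hq]
          rw [h3, hσz _ _ n hn, smul_zero]
        · let c := D.coeff (includeLeft : R' →ₐ[R] R' ⊗[R] B) (mapT A iB z) n
          suffices hc : c = 0 by
            show σ.lTensor _ (c • _) = 0
            rw [hc, zero_smul, map_zero]
          have hidem : IsIdempotentElem c := (D.isGL (hz.map iB)).idem n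
          refine hidem.eq_zero_of_isNilpotent (nilpotent_iff_mem_prime.2 (by
            intro w hw
            by_contra hcw
            have : w.IsPrime := hw
            let Q := w.ResidueField
            let qw : R' ⊗[R] B →ₐ[R] Q := IsScalarTower.toAlgHom R (R' ⊗[R] B) Q
            let qI : B ⧸ I →ₐ[R] Q := Ideal.Quotient.liftₐ I (qw.comp iB) fun t ht =>
              (((hqnil t (Ideal.Quotient.eq_zero_iff_mem.2 ht))).map (qw.comp iB)).eq_zero
            obtain ⟨n', hn'⟩ := D.existsUnique_index (qw.comp includeLeft) ((hz.map iB).map qw)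
            have hnn : n' = n := by
              by_contra hne
              refine hcw (Ideal.algebraMap_residueField_eq_zero.1 ?_)
              show qw (D.coeff includeLeft (mapT A iB z) n) = 0
              rw [← coeff_mapT, hn', coeff, θ_zAt]
              simp [hne]
            refine hn (hkey Q (qI.comp ψ₀) (qw.comp includeLeft) n ?_)
            rw [← hnn, ← hn', AlgHom.comp_assoc, ← mapT_mapT (ψ₀.comp j), show mapT A (ψ₀.comp j) zu = mapT A q z from hzq.symm,
              mapT_mapT, mapT_mapT]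
            rfl))
      obtain ⟨χ, hχ, -⟩ := huniv B z hz hzσ
      have hqχ : q.comp χ = ψ₀.comp j := by
        refine (huniv (B ⧸ I) z₀ (hzu.map _) ?_).unique ?_ rfl
        · show σ.lTensor _ (mapT A (ψ₀.comp j) zu) = 0
          rw [mapT_eq_rTensor, ← LinearMap.comp_apply, LinearMap.lTensor_comp_rTensor, ← LinearMap.rTensor_comp_lTensor,
            LinearMap.comp_apply, hzuσ, map_zero]
        · rw [← mapT_mapT, hχ, hzq]
      have hunit : ∀ p : x.primeCompl, IsUnit (χ p) := fun p => by
        refine isUnit_of_isUnit_quot (fun t ht => hqnil t (Ideal.Quotient.eq_zero_iff_mem.2 ht)) ?_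
        show IsUnit (q (χ p))
        rw [show q (χ p) = ψ₀ (j p) from DFunLike.congr_fun hqχ (p : P)]
        exact (IsLocalization.map_units L p).map ψ₀
      refine ⟨IsLocalization.liftAlgHom hunit, IsLocalization.algHom_ext x.primeCompl ?_⟩
      show (q.comp (IsLocalization.liftAlgHom hunit)).comp j = ψ₀.comp j
      rw [← hqχ, AlgHom.comp_assoc]
      congr 1
      exact AlgHom.ext fun p => IsLocalization.lift_eq (g := (χ : P →+* B)) hunit p
  have : Algebra.IsEtaleAt R x := hL
  obtain ⟨f, hf, hfet⟩ := Algebra.exists_etale_of_isEtaleAt (R := R) x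
  have hu : ∀ p : Submonoid.powers f, IsUnit (φ₀ p) := by
    rintro ⟨_, k, rfl⟩
    rw [map_pow]
    exact (isUnit_iff_ne_zero.2 hf).pow k
  let E := Localization.Away f
  let i : P →ₐ[R] E := IsScalarTower.toAlgHom R P E
  refine ⟨E, inferInstance, inferInstance, IsLocalization.liftAlgHom hu, mapT A i zu, hfet, hzu.map i, ?_⟩
  rw [mapT_mapT, show (IsLocalization.liftAlgHom hu : E →ₐ[R] K).comp i = φ₀ from
    AlgHom.ext fun p => IsLocalization.lift_eq (g := (φ₀ : P →+* K)) hu p, hφ₀]

end SplitData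

end Groth.Agent.MultHopf
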