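import Groth.Prelude.Def_SGA3b
import Groth.Agent.FinHopf.Power
import Groth.Agent.HopfLib.Antipode
import Mathlib.RingTheory.Flat.Stability
import Mathlib.RingTheory.Flat.Localization
import Mathlib.RingTheory.Flat.FaithfullyFlat.Algebra
import Mathlib.RingTheory.LocalRing.LocalSubring
import Mathlib.RingTheory.TensorProduct.MonoidAlgebra

/-!
# Charts of a Hopf algebra of multiplicative type
-/

set_option autoImplicit false

universe u v w

open scoped TensorProduct
open WithConv

namespace Groth.Agent.MultHopf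

open Groth.Agent.FinHopf (postComp)

variable (R : Type u) [CommRing R] (A : Type v) [CommRing A] [HopfAlgebra R A]

/-- A flat local base change over which `A` is a group algebra, covering the prime `p`. -/
structure Chart (p : PrimeSpectrum R) where
  R' : Type u
  [commRing : CommRing R']
  [algebra : Algebra R R']
  [isLocal : IsLocalRing R']
  [flat : Module.Flat R R']
  over : (IsLocalRing.maximalIdeal R').comap (algebraMap R R') = p.asIdeal
  M : Type u
  [commGroup : CommGroup M]
  θ : A →ₐ[R] MonoidAlgebra R' M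
  isBaseChange : IsBaseChange R' θ.toLinearMap
  comul_θ : ∀ a, Coalgebra.comul (R := R') (θ a) =
    Algebra.TensorProduct.lift
      ((Algebra.TensorProduct.includeLeft : MonoidAlgebra R' M →ₐ[R'] _ ⊗[R'] MonoidAlgebra R' M).restrictScalars R |>.comp θ)
      ((Algebra.TensorProduct.includeRight : MonoidAlgebra R' M →ₐ[R'] MonoidAlgebra R' M ⊗[R'] _).restrictScalars R |>.comp θ)
      (fun _ _ => Commute.all _ _) (Coalgebra.comul (R := R) a)

attribute [instance] Chart.commRing Chart.algebra Chart.isLocal Chart.flat Chart.commGroup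

variable {R A}

theorem exists_prime_localization (R₁ : Type u) [CommRing R₁] [Algebra R R₁] (q : Ideal R₁) [q.IsPrime]
    (p : PrimeSpectrum R) (hq : q.comap (algebraMap R R₁) = p.asIdeal) :
    (IsLocalRing.maximalIdeal (Localization.AtPrime q)).comap (algebraMap R (Localization.AtPrime q)) = p.asIdeal := by
  rw [IsScalarTower.algebraMap_eq R R₁ (Localization.AtPrime q), ← Ideal.comap_comap,
    show Ideal.comap (algebraMap R₁ (Localization.AtPrime q)) (IsLocalRing.maximalIdeal (Localization.AtPrime q)) = q from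
      Localization.AtPrime.comap_maximalIdeal (I := q), hq]

theorem exists_chart {A : Type u} [CommRing A] [HopfAlgebra R A] (h : SGA3b.IsMultType R A)
    (p : PrimeSpectrum R) : Nonempty (Chart R A p) := by
  obtain ⟨s, hs, hconst⟩ := h
  obtain ⟨f, hf, hfp⟩ : ∃ f ∈ s, f ∉ p.asIdeal := by
    by_contra hcon
    push Not at hcon
    exact p.isPrime.ne_top (top_le_iff.1 (hs ▸ Ideal.span_le.2 hcon))
  obtain ⟨R₁, _, _, hff, M, _, ⟨e⟩⟩ := hconst f hf
  let R₀ := Localization.Away f
  let q₀ : Ideal R₀ := p.asIdeal.map (algebraMap R R₀)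
  have hdisj : Disjoint (Submonoid.powers f : Set R) p.asIdeal := by
    rw [Set.disjoint_left]
    rintro _ ⟨n, rfl⟩ hn
    exact hfp (p.isPrime.mem_of_pow_mem n hn)
  have hq₀ : q₀.IsPrime := IsLocalization.isPrime_of_isPrime_disjoint (Submonoid.powers f) R₀ p.asIdeal p.isPrime hdisj
  have hq₀c : q₀.comap (algebraMap R R₀) = p.asIdeal :=
    IsLocalization.under_map_of_isPrime_disjoint (Submonoid.powers f) R₀ p.isPrime hdisj
  obtain ⟨q₁, hq₁⟩ := PrimeSpectrum.comap_surjective_of_faithfullyFlat (A := R₀) (B := R₁) ⟨q₀, hq₀⟩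
  let : Algebra R R₁ := ((algebraMap R₀ R₁).comp (algebraMap R R₀)).toAlgebra
  have : IsScalarTower R R₀ R₁ := IsScalarTower.of_algebraMap_eq fun _ => rfl
  have hq₁c : q₁.asIdeal.comap (algebraMap R R₁) = p.asIdeal := by
    rw [IsScalarTower.algebraMap_eq R R₀ R₁, ← Ideal.comap_comap]
    rw [show q₁.asIdeal.comap (algebraMap R₀ R₁) = q₀ from congrArg PrimeSpectrum.asIdeal hq₁, hq₀c]
  have : Module.Flat R R₁ := Module.Flat.trans R R₀ R₁
  let R' := Localization.AtPrime q₁.asIdeal
  have : Module.Flat R₁ R' := IsLocalization.flat R' q₁.asIdeal.primeCompl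
  have : Module.Flat R R' := Module.Flat.trans R R₁ R'
  let ι : MonoidAlgebra R₁ M →+* MonoidAlgebra R' M := MonoidAlgebra.mapRingHom M (algebraMap R₁ R')
  let θ₀ : A →ₐ[R] MonoidAlgebra R₁ M :=
    ((e : R₁ ⊗[R₀] (R₀ ⊗[R] A) →ₐ[R₁] MonoidAlgebra R₁ M).restrictScalars R).comp
      (((Algebra.TensorProduct.includeRight : R₀ ⊗[R] A →ₐ[R₀] R₁ ⊗[R₀] (R₀ ⊗[R] A)).restrictScalars R).comp
        Algebra.TensorProduct.includeRight)
  have hθ₀ : ∀ a, θ₀ a = e ((1 : R₁) ⊗ₜ[R₀] ((1 : R₀) ⊗ₜ[R] a)) := fun _ => rfl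
  let ι' : MonoidAlgebra R₁ M →ₐ[R] MonoidAlgebra R' M :=
    { ι with
      commutes' := fun r => by
        show ι (algebraMap R (MonoidAlgebra R₁ M) r) = algebraMap R (MonoidAlgebra R' M) r
        rw [IsScalarTower.algebraMap_apply R R₁ (MonoidAlgebra R₁ M),
          IsScalarTower.algebraMap_apply R R' (MonoidAlgebra R' M), IsScalarTower.algebraMap_apply R R₁ R']
        simp [ι] }
  let θ : A →ₐ[R] MonoidAlgebra R' M := ι'.comp θ₀
  refine ⟨{ R' := R', over := exists_prime_localization R₁ q₁.asIdeal p hq₁c, M := M, θ := θ, isBaseChange := ?_, comul_θ := ?_ }⟩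
  · have h₀ : IsBaseChange R₀ (TensorProduct.mk R R₀ A 1) := TensorProduct.isBaseChange R A R₀
    have h₁' : IsBaseChange R₁ ((e.toLinearEquiv.toLinearMap.restrictScalars R₀).comp
        (TensorProduct.mk R₀ R₁ (R₀ ⊗[R] A) 1)) :=
      IsBaseChange.of_equiv e.toLinearEquiv fun x => rfl
    have h01 := h₀.comp h₁'
    let ιl : MonoidAlgebra R₁ M →ₗ[R₁] MonoidAlgebra R' M :=
      (MonoidAlgebra.scalarTensorEquiv R₁ R' (M := M)).toLinearEquiv.toLinearMap.restrictScalars R₁ ∘ₗ
        TensorProduct.mk R₁ R' (MonoidAlgebra R₁ M) 1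
    have h₂ : IsBaseChange R' ιl :=
      IsBaseChange.of_equiv (MonoidAlgebra.scalarTensorEquiv R₁ R' (M := M)).toLinearEquiv fun x => rfl
    have h := h01.comp h₂
    have heq : θ.toLinearMap = (ιl.restrictScalars R).comp
        ((((e.toLinearEquiv.toLinearMap.restrictScalars R₀).comp
        (TensorProduct.mk R₀ R₁ (R₀ ⊗[R] A) 1)).restrictScalars R).comp (TensorProduct.mk R R₀ A 1)) := by
      ext a : 1
      show ι (θ₀ a) = MonoidAlgebra.scalarTensorEquiv R₁ R' ((1 : R') ⊗ₜ[R₁] θ₀ a)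
      rw [MonoidAlgebra.scalarTensorEquiv_tmul, one_smul]
      rfl
    rw [heq]
    exact h
  · intro a
    let iL := (Algebra.TensorProduct.includeLeft :
      MonoidAlgebra R' M →ₐ[R'] MonoidAlgebra R' M ⊗[R'] MonoidAlgebra R' M)
    let iR := (Algebra.TensorProduct.includeRight :
      MonoidAlgebra R' M →ₐ[R'] MonoidAlgebra R' M ⊗[R'] MonoidAlgebra R' M)
    have h1 := RingHom.congr_fun (MonoidAlgebra.comulAlgHom_comp_mapRingHom (M := M) (algebraMap R₁ R'))
      (θ₀ a)
    refine h1.trans ?_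
    show Algebra.TensorProduct.mapRingHom (algebraMap R₁ R') ι ι (by ext r; simp [ι]) (by ext r; simp [ι])
      (Coalgebra.comul (R := R₁) (θ₀ a)) = _
    have h2 : Coalgebra.comul (R := R₁) (θ₀ a) = TensorProduct.map
        (e : R₁ ⊗[R₀] (R₀ ⊗[R] A) →ₗ[R₁] MonoidAlgebra R₁ M) (e : R₁ ⊗[R₀] (R₀ ⊗[R] A) →ₗ[R₁] MonoidAlgebra R₁ M)
        (Coalgebra.comul (R := R₁) ((1 : R₁) ⊗ₜ[R₀] ((1 : R₀) ⊗ₜ[R] a))) := by
      rw [hθ₀]
      exact (LinearMap.congr_fun (e : R₁ ⊗[R₀] (R₀ ⊗[R] A) →ₐc[R₁] MonoidAlgebra R₁ M).toCoalgHom.map_comp_comul _).symm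
    rw [h2, TensorProduct.comul_tmul, TensorProduct.comul_tmul, CommSemiring.comul_apply, CommSemiring.comul_apply]
    induction Coalgebra.comul (R := R) a using TensorProduct.induction_on with
    | zero => simp
    | add u v hu hv => simp only [TensorProduct.tmul_add, map_add, hu, hv]
    | tmul x y =>
      simp only [TensorProduct.AlgebraTensorModule.tensorTensorTensorComm_tmul, TensorProduct.map_tmul,
        Algebra.TensorProduct.lift_tmul, AlgHom.comp_apply, AlgHom.restrictScalars_apply,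
        Algebra.TensorProduct.includeLeft_apply, Algebra.TensorProduct.includeRight_apply,
        Algebra.TensorProduct.tmul_mul_tmul, mul_one, one_mul]
      rw [Algebra.TensorProduct.mapRingHom_tmul]
      rfl

end Groth.Agent.MultHopf
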