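import Groth.Agent.MultHopf.LiftHom

/-!
# Infinitesimal rigidity of homomorphisms from groups of multiplicative type, up to conjugation
-/

set_option autoImplicit false

universe u v w

open scoped TensorProduct
open WithConv Coalgebra

namespace Groth.Agent.MultHopf

open Groth.Agent.FinHopf (postComp)

variable {R : Type u} [CommRing R] {A : Type u} [CommRing A] [HopfAlgebra R A] {C : Type u} [CommRing C] [HopfAlgebra R C]

/-- A bialgebra map as a compatible point. -/
theorem hom_eq (φ : C →ₐc[R] A) :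
    postComp (Bialgebra.comulAlgHom R A) (toConv (φ : C →ₐ[R] A)) =
      postComp i₁ (toConv (φ : C →ₐ[R] A)) * postComp i₂ (toConv (φ : C →ₐ[R] A)) := by
  apply WithConv.ofConv_injective
  refine AlgHom.ext fun c => ?_
  rw [AlgHom.convMul_apply]
  show comul (R := R) (φ c) = _
  rw [show comul (R := R) (φ c) = TensorProduct.map φ.toCoalgHom.toLinearMap φ.toCoalgHom.toLinearMap (comul c) from
    (LinearMap.congr_fun φ.toCoalgHom.map_comp_comul c).symm]
  induction comul (R := R) c using TensorProduct.induction_on with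
  | zero => simp
  | add a b ha hb => simp only [map_add, ha, hb]
  | tmul x y => simp [i₁, i₂]; rfl

/-- Conjugation by a constant point. -/
noncomputable def conjPt {T : Type u} [CommRing T] [Algebra R T] (g : WithConv (C →ₐ[R] R))
    (u : WithConv (C →ₐ[R] T)) : WithConv (C →ₐ[R] T) :=
  postComp (Algebra.ofId R T) g * u * cinv (postComp (Algebra.ofId R T) g)

theorem postComp_conjPt {T T' : Type u} [CommRing T] [Algebra R T] [CommRing T'] [Algebra R T']
    (φ : T →ₐ[R] T') (g : WithConv (C →ₐ[R] R)) (u : WithConv (C →ₐ[R] T)) :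
    postComp φ (conjPt g u) = conjPt g (postComp φ u) := by
  simp only [conjPt, map_mul, postComp_cinv, postComp_comp]
  rw [Subsingleton.elim (φ.comp (Algebra.ofId R T)) (Algebra.ofId R T')]

theorem conjPt_mul {T : Type u} [CommRing T] [Algebra R T] (g g' : WithConv (C →ₐ[R] R)) (u : WithConv (C →ₐ[R] T)) :
    conjPt (g * g') u = conjPt g (conjPt g' u) := by
  simp only [conjPt, map_mul, cinv_mul_rev, mul_assoc]

theorem conjPt_one {T : Type u} [CommRing T] [Algebra R T] (u : WithConv (C →ₐ[R] T)) :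
    conjPt 1 u = u := by
  simp only [conjPt, map_one, cinv_one, one_mul, mul_one]

theorem conjPt_map {T : Type u} [CommRing T] [Algebra R T] (g : WithConv (C →ₐ[R] R)) (u v : WithConv (C →ₐ[R] T)) :
    conjPt g (u * v) = conjPt g u * conjPt g v := by
  simp only [conjPt, mul_assoc]
  rw [← mul_assoc (cinv _) (postComp (Algebra.ofId R T) g), cinv_mul, one_mul]

/-- Conjugating a homomorphism by a constant point gives a homomorphism. -/
theorem hom_conjPt (g : WithConv (C →ₐ[R] R)) (u : WithConv (C →ₐ[R] A))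
    (hu : postComp (Bialgebra.comulAlgHom R A) u = postComp i₁ u * postComp i₂ u) :
    postComp (Bialgebra.comulAlgHom R A) (conjPt g u) = postComp i₁ (conjPt g u) * postComp i₂ (conjPt g u) := by
  rw [postComp_conjPt, postComp_conjPt, postComp_conjPt, hu, conjPt_map]

theorem compatible_mk (J : Ideal R) (u : WithConv (C →ₐ[R] A))
    (hu : postComp (Bialgebra.comulAlgHom R A) u = postComp i₁ u * postComp i₂ u) :
    Compatible J (postComp (Ideal.Quotient.mkₐ R (J.map (algebraMap R A))) u) := by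
  have h := congrArg (postComp (C := C) (Ideal.Quotient.mkₐ R (J.map (algebraMap R (A ⊗[R] A))))) hu
  rw [map_mul] at h
  exact h

theorem intLast₂_mul (l : A →ₗ[R] R) (x : A) (t : A ⊗[R] A) : intLast₂ l (i₁ x * t) = x * intLast₂ l t := by
  induction t using TensorProduct.induction_on with
  | zero => simp
  | add u v hu hv => simp only [mul_add, map_add, hu, hv]
  | tmul w a =>
    show intLast₂ l (x ⊗ₜ[R] 1 * w ⊗ₜ[R] a) = _
    rw [Algebra.TensorProduct.tmul_mul_tmul, one_mul, intLast₂_tmul, intLast₂_tmul, mul_smul_comm]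

theorem intLast₂_comul {l : A →ₗ[R] R} (hl : IsIntegral l) (a : A) :
    intLast₂ l (comul (R := R) a) = l a • (1 : A) := by
  show TensorProduct.rid R A (l.lTensor A (comul (R := R) a)) = _
  rw [hl.right]; simp

/-- Two homomorphisms congruent modulo a square-zero ideal are conjugate by a constant point. -/
theorem exists_conj_step {l : A →ₗ[R] R} (hl : IsIntegral l) {J K : Ideal R} (hKJ : K * K ≤ J)
    (ψ ψ' : WithConv (C →ₐ[R] Bar J A)) (hψ : Compatible J ψ) (hψ' : Compatible J ψ')
    (hc : InK K (ψ' * cinv ψ)) :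
    ∃ h : WithConv (C →ₐ[R] Bar J R), InK K h ∧
      ψ' = postComp (bar J (Algebra.ofId R A)) h * ψ * cinv (postComp (bar J (Algebra.ofId R A)) h) := by
  set c := ψ' * cinv ψ with hcdef
  have hA := sq_zero J K hKJ A
  have hP := sq_zero J K hKJ (A ⊗[R] A)
  have hR := sq_zero J K hKJ R
  set L := barL J (intLast₂ l) with hL
  set h := push K hR hA (barL J l) c hc with hh
  refine ⟨h, inK_push K hR hA _ c hc, ?_⟩
  set eh := postComp (bar J (Algebra.ofId R A)) h with heh
  have key : ∀ φ : A →ₐ[R] A ⊗[R] A, (∀ a, intLast₂ l (φ a) = l a • (1 : A)) →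
      push K hA hP L (postComp (bar J φ) c) (hc.postComp _) = eh := by
    intro φ hφ
    rw [push_postComp K hA hP (bar J φ) hA L c hc, heh, hh, postComp_push K hR hA _ hA (barL J l) c hc]
    refine push_congr K hA hA _ _ ?_ c c rfl hc
    refine LinearMap.ext fun z => ?_
    obtain ⟨z, rfl⟩ := Ideal.Quotient.mk_surjective z
    simp only [LinearMap.comp_apply, AlgHom.toLinearMap_apply, bar_mk, hL, barL_mk, hφ]
    rw [Algebra.ofId_apply, Algebra.algebraMap_eq_smul_one]
  have k1 : push K hA hP L (postComp (bar J i₁) c) (hc.postComp _) = c := by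
    rw [push_postComp K hA hP (bar J i₁) hA L c hc]
    refine (push_congr K hA hA _ LinearMap.id ?_ c c rfl hc).trans (push_id K hA c hc)
    refine LinearMap.ext fun z => ?_
    obtain ⟨z, rfl⟩ := Ideal.Quotient.mk_surjective z
    rw [LinearMap.comp_apply, AlgHom.toLinearMap_apply, bar_mk, hL, barL_mk, LinearMap.id_apply]
    show Ideal.Quotient.mk _ (intLast₂ l (z ⊗ₜ[R] 1)) = _
    rw [intLast₂_tmul, hl.one, one_smul]
  have k2 := push_conj K hA hP (bar J i₁) (AlgHom.id R _) L (fun x t => by
      obtain ⟨x, rfl⟩ := Ideal.Quotient.mk_surjective x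
      obtain ⟨t, rfl⟩ := Ideal.Quotient.mk_surjective t
      rw [bar_mk, ← map_mul, hL, barL_mk, barL_mk, intLast₂_mul, map_mul, AlgHom.id_apply])
    ψ (postComp (bar J i₂) c) (hc.postComp _)
  rw [key i₂ (fun a => by show intLast₂ l ((1 : A) ⊗ₜ[R] a) = _; rw [intLast₂_tmul])] at k2
  have cocycle : postComp (bar J (Bialgebra.comulAlgHom R A)) c = postComp (bar J i₁) c *
      (postComp (bar J i₁) ψ * postComp (bar J i₂) c * cinv (postComp (bar J i₁) ψ)) := by
    rw [hcdef, map_mul, map_mul, map_mul, postComp_cinv, postComp_cinv, postComp_cinv, hψ, hψ', cinv_mul_rev]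
    simp only [mul_assoc]
    rw [← mul_assoc (cinv (postComp (bar J i₁) ψ)) (postComp (bar J i₁) ψ), cinv_mul, one_mul]
  have e1 := push_congr K hA hP L L rfl _ _ cocycle (hc.postComp _)
  rw [push_mul K hA hP L _ _ (hc.postComp _) ((hc.postComp _).conj _), k1, k2, key _ (intLast₂_comul hl),
    show postComp (AlgHom.id R (Bar J A)) ψ = ψ from rfl] at e1
  calc ψ' = ψ' * eh * cinv ψ * (ψ * cinv eh) := by
        simp only [mul_assoc]
        rw [← mul_assoc (cinv ψ) ψ, cinv_mul, one_mul, mul_cinv, mul_one]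
    _ = eh * (ψ * cinv eh) := by
        congr 1
        conv_rhs => rw [e1, hcdef]
        simp only [mul_assoc]
        rw [← mul_assoc (cinv ψ) ψ, cinv_mul, one_mul]
    _ = eh * ψ * cinv eh := (mul_assoc _ _ _).symm

/-- Two homomorphisms congruent modulo a nilpotent ideal are conjugate by a constant point. -/
theorem exists_conj {l : A →ₗ[R] R} (hl : IsIntegral l) [Algebra.FormallySmooth R C] (I : Ideal R) (hI : IsNilpotent I)
    (ψ ψ' : WithConv (C →ₐ[R] A))
    (hψ : postComp (Bialgebra.comulAlgHom R A) ψ = postComp i₁ ψ * postComp i₂ ψ)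
    (hψ' : postComp (Bialgebra.comulAlgHom R A) ψ' = postComp i₁ ψ' * postComp i₂ ψ')
    (h : postComp (Ideal.Quotient.mkₐ R (I.map (algebraMap R A))) ψ' =
      postComp (Ideal.Quotient.mkₐ R (I.map (algebraMap R A))) ψ) :
    ∃ g : WithConv (C →ₐ[R] R), InK I g ∧ ψ' = conjPt g ψ := by
  obtain ⟨N, hN⟩ := hI
  suffices hn : ∀ n : ℕ, ∃ g : WithConv (C →ₐ[R] R), InK I g ∧
      postComp (Ideal.Quotient.mkₐ R ((I ^ (n + 1)).map (algebraMap R A))) ψ' =
        postComp (Ideal.Quotient.mkₐ R ((I ^ (n + 1)).map (algebraMap R A))) (conjPt g ψ) by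
    obtain ⟨g, hg, e⟩ := hn N
    refine ⟨g, hg, WithConv.ofConv_injective (AlgHom.ext fun c => ?_)⟩
    have e1 := Ideal.Quotient.eq.1 (DFunLike.congr_fun (congrArg WithConv.ofConv e) c)
    have hbot : I ^ (N + 1) = ⊥ := le_bot_iff.1 ((Ideal.pow_le_pow_right N.le_succ).trans hN.le)
    rw [hbot, Ideal.map_bot, Ideal.mem_bot, sub_eq_zero] at e1
    exact e1
  intro n
  induction n with
  | zero =>
    refine ⟨1, InK.one I, ?_⟩
    rw [conjPt_one, zero_add, pow_one]
    exact h
  | succ n ih =>
    obtain ⟨g, hg, e⟩ := ih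
    have hJK : I ^ (n + 1 + 1) ≤ I ^ (n + 1) := Ideal.pow_le_pow_right (Nat.le_succ _)
    have hJI : I ^ (n + 1 + 1) ≤ I := Ideal.pow_le_self (Nat.succ_ne_zero _)
    have hKI : I ^ (n + 1) ≤ I := Ideal.pow_le_self (Nat.succ_ne_zero _)
    have hKJ : I ^ (n + 1) * I ^ (n + 1) ≤ I ^ (n + 1 + 1) := by
      rw [← pow_add]; exact Ideal.pow_le_pow_right (by omega)
    obtain ⟨k, hk, hk'⟩ := exists_conj_step hl hKJ _ _ (compatible_mk _ _ (hom_conjPt g ψ hψ)) (compatible_mk _ _ hψ') (by
      rw [inK_iff_red hJK, map_mul, postComp_cinv, postComp_comp, postComp_comp]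
      show postComp (Ideal.Quotient.mkₐ R ((I ^ (n + 1)).map (algebraMap R A))) ψ' *
        cinv (postComp (Ideal.Quotient.mkₐ R ((I ^ (n + 1)).map (algebraMap R A))) (conjPt g ψ)) = 1
      rw [e, mul_cinv])
    have hnil : IsNilpotent (RingHom.ker ((Ideal.Quotient.mkₐ R ((I ^ (n + 1 + 1)).map (algebraMap R R))) :
        R →+* Bar (I ^ (n + 1 + 1)) R)) := by
      refine ⟨N, ?_⟩
      rw [Ideal.Quotient.mkₐ_ker, Algebra.algebraMap_self, Ideal.map_id]
      exact le_bot_iff.1 ((Ideal.pow_right_mono hJI N).trans hN.le)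
    let m : WithConv (C →ₐ[R] R) := toConv (Algebra.FormallySmooth.liftOfSurjective k.ofConv
      (Ideal.Quotient.mkₐ R _) Ideal.Quotient.mk_surjective hnil)
    have hm : postComp (Ideal.Quotient.mkₐ R ((I ^ (n + 1 + 1)).map (algebraMap R R))) m = k :=
      WithConv.ofConv_injective (Algebra.FormallySmooth.comp_liftOfSurjective k.ofConv (Ideal.Quotient.mkₐ R _) Ideal.Quotient.mk_surjective hnil)
    refine ⟨m * g, InK.mul ?_ hg, ?_⟩
    · rw [inK_iff]
      have h1 : postComp (red hKI R) (postComp (red hJK R) k) = 1 := by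
        rw [(inK_iff_red hJK k).1 hk, map_one]
      rw [← hm, postComp_comp, postComp_comp] at h1
      exact h1
    · rw [hk', ← hm, postComp_comp, conjPt_mul]
      rw [show conjPt m (conjPt g ψ) = postComp (Algebra.ofId R A) m * conjPt g ψ * cinv (postComp (Algebra.ofId R A) m) from rfl,
        map_mul, map_mul, postComp_cinv, postComp_comp]
      rfl

end Groth.Agent.MultHopf
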