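import Groth.Agent.MultTypeMono.Basic
import Groth.Agent.FpqcDescent.Basic

/-!
# Descending properties to groups of multiplicative type; they are affine
-/

set_option autoImplicit false
set_option backward.isDefEq.respectTransparency.types false

universe u

open CategoryTheory CategoryTheory.Limits MonoidalCategory CartesianMonoidalCategory AlgebraicGeometry

namespace Groth.Agent.MultHopf

variable {S : Scheme.{u}}

theorem of_isMultTypeFT (P : MorphismProperty Scheme.{u}) [IsZariskiLocalAtTarget P]
    [P.IsStableUnderBaseChange] [P.DescendsAlong (@Surjective ⊓ @Flat ⊓ @QuasiCompact)]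
    (hP₀ : ∀ (M : Type) [AddCommGroup M], AddGroup.FG M → P (Red.diag (ULift.{u} ℤ) M).hom)
    (H : Over S) [GrpObj H] (hH : SGA3x.IsMultTypeFT H) : P H.hom := by
  obtain ⟨S', f, hfl, hsurj, hcov, hloc⟩ := hH
  have h' : P (pullback.snd H.hom f) := by
    choose U hU M _ hM hiso using hloc
    have hsup : iSup U = ⊤ := top_le_iff.1 fun x _ => TopologicalSpace.Opens.mem_iSup.2 ⟨x, hU x⟩
    refine IsZariskiLocalAtTarget.of_iSup_eq_top (P := P) U hsup fun x => ?_
    obtain ⟨e⟩ := hiso x
    have : AddGroup.FG (M x) := hM x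
    have hl : P (Red.DS (U x : Scheme.{u}) (M x)).hom := MorphismProperty.pullback_snd (P := P) _ _ (hP₀ (M x) (hM x))
    let g : Red.bc ((U x).ι ≫ f) H ⟶ Red.DS (U x : Scheme.{u}) (M x) := e.hom.hom.hom
    have hg : IsIso g := by
      have : IsIso ((Grp.forget _).map e.hom) := inferInstance
      exact this
    have : IsIso g.left := inferInstanceAs (IsIso ((Over.forget _).map g))
    have hbc : P (pullback.snd H.hom ((U x).ι ≫ f)) := by
      have hw : g.left ≫ (Red.DS (U x : Scheme.{u}) (M x)).hom = pullback.snd H.hom ((U x).ι ≫ f) := Over.w g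
      rw [← hw, MorphismProperty.cancel_left_of_respectsIso (P := P)]
      exact hl
    rw [← (isPullback_morphismRestrict (pullback.snd H.hom f) (U x)).flip.isoPullback_hom_snd,
      MorphismProperty.cancel_left_of_respectsIso (P := P),
      ← MorphismProperty.cancel_left_of_respectsIso (P := P)
        (pullbackLeftPullbackSndIso H.hom f (U x).ι).inv, pullbackLeftPullbackSndIso_inv_snd_snd]
    exact hbc
  rw [IsZariskiLocalAtTarget.iff_of_iSup_eq_top (P := P) _ (iSup_affineOpens_eq_top S)]
  rintro ⟨V, hV⟩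
  obtain ⟨W, hWc, hWV⟩ := hcov V hV
  have hle : W ≤ f ⁻¹ᵁ V := fun w hw => hWV.le ⟨w, hw, rfl⟩
  let b : W.toScheme ⟶ V.toScheme := f.resLE V W hle
  have hb : b ≫ V.ι = W.ι ≫ f := Scheme.Hom.resLE_comp_ι f hle
  have : IsAffine V.toScheme := hV
  have : CompactSpace W.toScheme := isCompact_iff_compactSpace.1 hWc
  have : QuasiCompact b := inferInstance
  have : Flat b := MorphismProperty.of_postcomp (W := @Flat) (W' := @IsOpenImmersion) b V.ι
    inferInstance (hb ▸ inferInstance)
  have : Surjective b := ⟨fun v => by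
    obtain ⟨w, hw, hwv⟩ := hWV.ge v.2
    refine ⟨⟨w, hw⟩, V.ι.isOpenEmbedding.injective ?_⟩
    rw [← Scheme.Hom.comp_apply, hb, Scheme.Hom.comp_apply]
    exact hwv⟩
  rw [← (isPullback_morphismRestrict H.hom V).flip.isoPullback_hom_snd,
    MorphismProperty.cancel_left_of_respectsIso (P := P)]
  refine MorphismProperty.of_pullback_snd_of_descendsAlong (P := P)
    (Q := @Surjective ⊓ @Flat ⊓ @QuasiCompact) (g := b)
    ⟨⟨‹Surjective b›, ‹Flat b›⟩, ‹QuasiCompact b›⟩ ?_
  rw [← pullbackLeftPullbackSndIso_hom_snd, MorphismProperty.cancel_left_of_respectsIso (P := P)]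
  have hP : ∀ (q : W.toScheme ⟶ S), q = W.ι ≫ f → P (pullback.snd H.hom q) := by
    rintro _ rfl
    rw [← MorphismProperty.cancel_left_of_respectsIso (P := P)
      (pullbackLeftPullbackSndIso H.hom f W.ι).hom, pullbackLeftPullbackSndIso_hom_snd]
    exact MorphismProperty.pullback_snd _ _ h'
  exact hP _ hb

theorem isAffineHom_of_isMultTypeFT (H : Over S) [GrpObj H] (hH : SGA3x.IsMultTypeFT H) : IsAffineHom H.hom := by
  refine of_isMultTypeFT @IsAffineHom (fun M _ _ => ?_) H hH
  show IsAffineHom (Spec.map (CommRingCat.ofHom (algebraMap (ULift.{u} ℤ) (MonoidAlgebra (ULift.{u} ℤ) (Multiplicative M)))))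
  infer_instance

end Groth.Agent.MultHopf
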