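import Groth.Agent.MultHopf.SubgroupConj

/-!
# Groups of multiplicative type with isomorphic reductions modulo a nil ideal
-/

set_option autoImplicit false

universe u

open scoped TensorProduct
open WithConv Coalgebra SGA3b

namespace Groth.Agent.MultHopf

variable {R : Type u} [CommRing R] {A : Type u} [CommRing A] [HopfAlgebra R A] {B : Type u} [CommRing B] [HopfAlgebra R B]

theorem exists_splits_of_isMultType (hA : IsMultType R A) : ∃ F : FamFF R, Splits A F := by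
  classical
  obtain ⟨s, hs, hs'⟩ := hA
  obtain ⟨t, hts, hspan⟩ := Submodule.mem_span_finite_of_mem_span (hs.symm ▸ Submodule.mem_top : (1 : R) ∈ Ideal.span s)
  have hloc : ∀ f : t, ∃ (R₁ : Type u) (_ : CommRing R₁) (_ : Algebra R R₁) (_ : Module.Flat R R₁),
      (∃ (M : Type u) (_ : CommGroup M), Nonempty (R₁ ⊗[R] A ≃ₐc[R₁] MonoidAlgebra R₁ M)) ∧
      ∀ p : PrimeSpectrum R, (f : R) ∉ p.asIdeal → ∃ q : PrimeSpectrum R₁, PrimeSpectrum.comap (algebraMap R R₁) q = p := by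
    intro f
    obtain ⟨R₁, _, _, hff, M, _, ⟨e⟩⟩ := hs' f.1 (hts f.2)
    let : Algebra R R₁ := ((algebraMap (Localization.Away f.1) R₁).comp (algebraMap R (Localization.Away f.1))).toAlgebra
    have : IsScalarTower R (Localization.Away f.1) R₁ := IsScalarTower.of_algebraMap_eq fun _ => rfl
    refine ⟨R₁, inferInstance, inferInstance, Module.Flat.trans R (Localization.Away f.1) R₁,
      ⟨M, inferInstance, ⟨(cancelBC R (Localization.Away f.1) R₁ A).symm.trans e⟩⟩, fun p hp => ?_⟩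
    have h1 : p ∈ Set.range (PrimeSpectrum.comap (algebraMap R (Localization.Away f.1))) := by
      rw [PrimeSpectrum.localization_away_comap_range (Localization.Away f.1) f.1]
      exact hp
    obtain ⟨p₀, rfl⟩ := h1
    obtain ⟨q, rfl⟩ := PrimeSpectrum.comap_surjective_of_faithfullyFlat (A := Localization.Away f.1) (B := R₁) p₀
    exact ⟨q, rfl⟩
  choose R₁ i1 i2 hflat hsplit hsurj using hloc
  let F : FamFF R :=
    { κ := {x // x ∈ t}
      S := R₁
      flat := hflat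
      surj := fun p => by
        obtain ⟨f, hf⟩ : ∃ f : t, (f : R) ∉ p.asIdeal := by
          by_contra hcon
          push Not at hcon
          exact p.isPrime.ne_top (top_le_iff.1 ((Ideal.eq_top_iff_one _).2 hspan ▸ Ideal.span_le.2 fun x hx => hcon ⟨x, hx⟩))
        exact ⟨f, hsurj f p hf⟩ }
  exact ⟨F, hsplit⟩

theorem splits_monoidAlgebra (M : Type u) [CommGroup M] (F : FamFF R) : Splits (MonoidAlgebra R M) F :=
  fun k => ⟨M, inferInstance, ⟨(baseChangeGroupAlgebra R (F.S k) M).symm⟩⟩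

/-- Groups of multiplicative type with isomorphic reductions modulo a nil ideal are isomorphic. -/
theorem nonempty_bialgEquiv_of_mod_nil {I : Ideal R} (hI : ∀ x ∈ I, IsNilpotent x) (F : FamFF R) (hA : Splits A F)
    (hB : Splits B F) (e₀ : ((R ⧸ I) ⊗[R] A) ≃ₐc[R ⧸ I] ((R ⧸ I) ⊗[R] B)) : Nonempty (A ≃ₐc[R] B) := by
  obtain ⟨u, hu, hua⟩ := exists_compatible_of_bialgHom I (e₀ : ((R ⧸ I) ⊗[R] A) →ₐc[R ⧸ I] ((R ⧸ I) ⊗[R] B))
  obtain ⟨v, hv, hvb⟩ := exists_compatible_of_bialgHom I (e₀.symm : ((R ⧸ I) ⊗[R] B) →ₐc[R ⧸ I] ((R ⧸ I) ⊗[R] A))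
  obtain ⟨φ, hφ⟩ := exists_lift_hom_multType hI F hB hA u hu
  obtain ⟨ψ, hψ⟩ := exists_lift_hom_multType hI F hA hB v hv
  have hφ' : ∀ a, e₀ ((1 : R ⧸ I) ⊗ₜ[R] a) = (1 : R ⧸ I) ⊗ₜ[R] φ a := fun a => (hua a (φ a)).1 (hφ a).symm
  have hψ' : ∀ b, e₀.symm ((1 : R ⧸ I) ⊗ₜ[R] b) = (1 : R ⧸ I) ⊗ₜ[R] ψ b := fun b => (hvb b (ψ b)).1 (hψ b).symm
  have h1 : ψ.comp φ = BialgHom.id R A := eq_of_congr_multType hI F hA hA _ _ fun a => by
    refine (quot_tmul_eq_iff I (ψ (φ a)) a).1 ?_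
    rw [← hψ', ← hφ', BialgEquiv.symm_apply_apply]
  have h2 : φ.comp ψ = BialgHom.id R B := eq_of_congr_multType hI F hB hB _ _ fun b => by
    refine (quot_tmul_eq_iff I (φ (ψ b)) b).1 ?_
    rw [← hφ', ← hψ', BialgEquiv.apply_symm_apply]
  exact ⟨BialgEquiv.ofBijective φ (Function.bijective_iff_has_inverse.2
    ⟨ψ, fun a => DFunLike.congr_fun h1 a, fun b => DFunLike.congr_fun h2 b⟩)⟩

/-- A group of multiplicative type diagonalisable modulo a nil ideal is diagonalisable. -/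
theorem isDiag_of_isDiag_mod_nil {I : Ideal R} (hI : ∀ x ∈ I, IsNilpotent x) (hA : IsMultType R A)
    (h0 : IsDiag (R ⧸ I) ((R ⧸ I) ⊗[R] A)) : IsDiag R A := by
  obtain ⟨M, _, ⟨e⟩⟩ := h0
  obtain ⟨F, hF⟩ := exists_splits_of_isMultType hA
  exact ⟨M, inferInstance, nonempty_bialgEquiv_of_mod_nil hI F hF (splits_monoidAlgebra M F)
    (e.trans (baseChangeGroupAlgebra R (R ⧸ I) M))⟩

end Groth.Agent.MultHopf
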