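import Groth.Agent.MultHopf.TransporterRep
import Groth.Agent.MultHopf.MonoClosed
import Groth.Agent.AlgStB.EtaleSection

/-!
# Conjugacy of groups of multiplicative type locally for the étale topology
-/

set_option autoImplicit false
set_option backward.isDefEq.respectTransparency.types false

universe u

open CategoryTheory CategoryTheory.Limits MonoidalCategory CartesianMonoidalCategory MonObj GrpObj AlgebraicGeometry

namespace Groth.Agent.MultHopf

variable {S : Scheme.{u}}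

/-- A smooth scheme with a point over every geometric point has étale-local sections. -/
theorem exists_etale_section {T : Over S} [Smooth T.hom]
    (hgeom : ∀ s : S, Nonempty ((Over.mk (Red.geomPt s) : Over S) ⟶ T)) (s : S) :
    ∃ (S' : Scheme.{u}) (f : S' ⟶ S) (_ : (Over.map f).obj (𝟙_ (Over S')) ⟶ T), Etale f ∧ s ∈ Set.range f.base := by
  obtain ⟨p⟩ := hgeom s
  let z : Spec (CommRingCat.of (AlgebraicClosure (S.residueField s))) := default
  have hx : T.hom (p.left z) = s := by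
    rw [← Scheme.Hom.comp_apply, Over.w p]
    show (Spec.map _ ≫ S.fromSpecResidueField s) z = s
    rw [Scheme.Hom.comp_apply]
    exact Scheme.fromSpecResidueField_apply s _
  obtain ⟨W, v, hv, hr⟩ := AlgStB.exists_etale_piece T.hom (p.left z)
  refine ⟨W, v ≫ T.hom, Over.homMk v (Category.id_comp _).symm, hv, ?_⟩
  rw [← hx]
  exact hr

/-- Conjugacy of homomorphisms locally for the étale topology. -/
theorem locally_conj_homs (H G : Over S) [GrpObj H] [GrpObj G] (hH : IsMultTypeLoc H) (hG : Smooth G.hom)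
    [IsClosedImmersion η[G].left] (u₁ u₂ : H ⟶ G) [IsMonHom u₁] [IsMonHom u₂]
    (hgeom : ∀ s : S, ∃ g : Over.mk (Red.geomPt s) ⟶ G, ∀ (X : Over S) (p : X ⟶ Over.mk (Red.geomPt s)) (h : X ⟶ H),
      h ≫ u₂ = (p ≫ g) * (h ≫ u₁) * (p ≫ g)⁻¹) :
    TwC.Locally S TwC.Topology.etale (fun S' f => ∃ g : 𝟙_ (Over S') ⟶ Red.bc f G,
      ∀ (X : Over S') (h : X ⟶ Red.bc f H),
        h ≫ (Over.pullback f).map u₂ = (toUnit X ≫ g) * (h ≫ (Over.pullback f).map u₁) * (toUnit X ≫ g)⁻¹) := by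
  have := quasiCompact_of_loc hH
  obtain ⟨T, t, h₁, h₂, hT⟩ := exists_conjugates_closed (projChart_of_isMultTypeLoc H hH) u₁ u₂
  have hsm := smooth_of_lifts t hG _ hT (lifts_conjugates hH hG u₁ u₂)
  intro s
  obtain ⟨S', f, z, hf, hs⟩ := exists_etale_section (T := T) (fun s => by
    obtain ⟨g, hg⟩ := hgeom s
    obtain ⟨w, -⟩ := (hT _ g).2 fun X' x h => (hg X' x h).symm
    exact ⟨w⟩) s
  refine ⟨S', f, hf, hs, adjMulEquiv f _ G (z ≫ t), fun X h => ?_⟩
  obtain ⟨h', rfl⟩ := (adjMulEquiv f X H).surjective h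
  have hx := congrArg (adjMulEquiv f X G) ((hT _ (z ≫ t)).1 ⟨z, rfl⟩ _ ((Over.map f).map (toUnit X)) h')
  rw [map_mul, map_mul, map_inv, adjMulEquiv_map, adjMulEquiv_comp (w := u₁), adjMulEquiv_comp (w := u₂)] at hx
  exact hx.symm

/-- Conjugacy of subgroups locally for the étale topology. -/
theorem locally_conj_subgroups (H₁ H₂ G : Over S) [GrpObj H₁] [GrpObj H₂] [GrpObj G] (h₁ : SGA3x.IsMultTypeFT H₁)
    (h₂ : SGA3x.IsMultTypeFT H₂) (hG : Smooth G.hom) (i₁ : H₁ ⟶ G) [IsMonHom i₁] [IsClosedImmersion i₁.left]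
    (i₂ : H₂ ⟶ G) [IsMonHom i₂] [IsClosedImmersion i₂.left]
    (hgeom : ∀ s : S, ∃ g : Over.mk (Red.geomPt s) ⟶ G, ∀ (X : Over S) (p : X ⟶ Over.mk (Red.geomPt s)),
      (∀ a : X ⟶ H₁, ∃ b : X ⟶ H₂, (p ≫ g) * (a ≫ i₁) * (p ≫ g)⁻¹ = b ≫ i₂) ∧
      (∀ b : X ⟶ H₂, ∃ a : X ⟶ H₁, (p ≫ g)⁻¹ * (b ≫ i₂) * (p ≫ g) = a ≫ i₁)) :
    TwC.Locally S TwC.Topology.etale (fun S' f => ∃ g : 𝟙_ (Over S') ⟶ Red.bc f G,
      SGA3x.ConjBy ((Over.pullback f).map i₁) ((Over.pullback f).map i₂) g) := by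
  have h₁' := isMultTypeLoc_of_ft h₁
  have h₂' := isMultTypeLoc_of_ft h₂
  have := quasiCompact_of_loc h₁'
  have := quasiCompact_of_loc h₂'
  have := lfp_of_isMultTypeFT h₁
  have := lfp_of_isMultTypeFT h₂
  have := lfp_left i₁
  have := lfp_left i₂
  obtain ⟨T, t, hc, hp, hT⟩ := exists_strictTransports_closed (projChart_of_isMultTypeLoc H₁ h₁')
    (projChart_of_isMultTypeLoc H₂ h₂') i₁ i₂
  have hsm := smooth_of_lifts t hG _ hT (lifts_strictTransports h₁' h₂' hG i₁ i₂)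
  intro s
  obtain ⟨S', f, z, hf, hs⟩ := exists_etale_section (T := T) (fun s => by
    obtain ⟨g, hg⟩ := hgeom s
    obtain ⟨w, -⟩ := (hT _ g).2 hg
    exact ⟨w⟩) s
  refine ⟨S', f, hf, hs, adjMulEquiv f _ G (z ≫ t), ?_⟩
  have hz := fun (X : Over S') => (hT _ (z ≫ t)).1 ⟨z, rfl⟩ _ ((Over.map f).map (toUnit X))
  obtain ⟨a, ha⟩ := (hz (Red.bc f H₁)).1 ((adjMulEquiv f _ H₁).symm (𝟙 _))
  obtain ⟨b, hb⟩ := (hz (Red.bc f H₂)).2 ((adjMulEquiv f _ H₂).symm (𝟙 _))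
  let g := adjMulEquiv f _ G (z ≫ t)
  let p₁ : Red.bc f H₁ ⟶ Red.bc f G := (Over.pullback f).map i₁
  let p₂ : Red.bc f H₂ ⟶ Red.bc f G := (Over.pullback f).map i₂
  let φ : Red.bc f H₁ ⟶ Red.bc f H₂ := adjMulEquiv f _ H₂ a
  let ψ : Red.bc f H₂ ⟶ Red.bc f H₁ := adjMulEquiv f _ H₁ b
  have hφ : (toUnit _ ≫ g) * p₁ * (toUnit _ ≫ g)⁻¹ = φ ≫ p₂ := by
    have hx := congrArg (adjMulEquiv f (Red.bc f H₁) G) ha
    rw [map_mul, map_mul, map_inv, adjMulEquiv_map, adjMulEquiv_comp (w := i₁), adjMulEquiv_comp (w := i₂),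
      MulEquiv.apply_symm_apply, Category.id_comp] at hx
    exact hx
  have hψ : (toUnit _ ≫ g)⁻¹ * p₂ * (toUnit _ ≫ g) = ψ ≫ p₁ := by
    have hx := congrArg (adjMulEquiv f (Red.bc f H₂) G) hb
    rw [map_mul, map_mul, map_inv, adjMulEquiv_map, adjMulEquiv_comp (w := i₂), adjMulEquiv_comp (w := i₁),
      MulEquiv.apply_symm_apply, Category.id_comp] at hx
    exact hx
  have hp₁ : IsClosedImmersion p₁.left := isClosedImmersion_pullback_map f i₁
  have hp₂ : IsClosedImmersion p₂.left := isClosedImmersion_pullback_map f i₂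
  have : Mono p₁ := Over.mono_of_mono_left p₁
  have : Mono p₂ := Over.mono_of_mono_left p₂
  refine ⟨⟨φ, ψ, ?_, ?_⟩, hφ⟩
  · rw [← cancel_mono p₁, Category.assoc, ← hψ, MonObj.comp_mul, MonObj.comp_mul, GrpObj.comp_inv,
      ← Category.assoc, comp_toUnit, ← hφ, Category.id_comp]
    group
  · rw [← cancel_mono p₂, Category.assoc, ← hφ, MonObj.comp_mul, MonObj.comp_mul, GrpObj.comp_inv,
      ← Category.assoc, comp_toUnit, ← hψ, Category.id_comp]
    group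

end Groth.Agent.MultHopf
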