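import Groth.Agent.MultHopf.SplitData
import Mathlib.RingTheory.Support
import Mathlib.RingTheory.Jacobson.Ring
import Mathlib.FieldTheory.IsAlgClosed.AlgebraicClosure
import Mathlib.RingTheory.Spectrum.Prime.Chevalley

/-!
# Homomorphisms onto diagonalisable groups which are isomorphisms fibrewise
-/

set_option autoImplicit false
set_option backward.isDefEq.respectTransparency.types false

universe u

open scoped TensorProduct
open WithConv Coalgebra
open Algebra.TensorProduct (includeLeft includeRight)

namespace Groth.Agent.MultHopf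

/-- A map to a group algebra, surjective modulo an ideal in the radical, is surjective. -/
theorem surjective_of_mod_jacobson {R : Type u} [CommRing R] (I : Ideal R) (hI : I ≤ Ideal.jacobson ⊥) {C : Type u} [CommRing C]
    [HopfAlgebra R C] {M : Type u} [CommGroup M] (φ : C →ₐc[R] MonoidAlgebra R M)
    (h : ∀ m, ∃ c, ∀ n, (φ c).coeff n - (MonoidAlgebra.single m (1 : R)).coeff n ∈ I) : Function.Surjective φ := by
  classical
  let φA : C →ₐ[R] MonoidAlgebra R M := φ
  have key : ∀ (c : C) (m : M), MonoidAlgebra.single m ((φ c).coeff m) ∈ φA.range := by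
    intro c m
    let L : MonoidAlgebra R M ⊗[R] MonoidAlgebra R M →ₗ[R] MonoidAlgebra R M :=
      (TensorProduct.rid R (MonoidAlgebra R M)).toLinearMap ∘ₗ
        (Finsupp.lapply m ∘ₗ (MonoidAlgebra.coeffLinearEquiv R).toLinearMap).lTensor _
    have h1 : ∀ z : MonoidAlgebra R M, L (comul (R := R) z) = MonoidAlgebra.single m (z.coeff m) := fun z => by
      induction z using MonoidAlgebra.induction_linear with
      | zero => simp
      | add a b ha hb => rw [map_add, map_add, ha, hb, MonoidAlgebra.coeff_add, Finsupp.add_apply, MonoidAlgebra.single_add]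
      | single n r =>
        rw [MonoidAlgebra.comul_single, CommSemiring.comul_apply, TensorProduct.map_tmul]
        by_cases hn : n = m
        · subst hn
          simp [L, MonoidAlgebra.coeff_single]
        · simp [L, MonoidAlgebra.coeff_single, hn]
    rw [← h1, show comul (R := R) (φ c) = TensorProduct.map φ.toCoalgHom.toLinearMap φ.toCoalgHom.toLinearMap (comul c) from
      (LinearMap.congr_fun φ.toCoalgHom.map_comp_comul _).symm]
    induction comul (R := R) c using TensorProduct.induction_on with
    | zero => simp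
    | add a b ha hb => rw [map_add, map_add]; exact add_mem ha hb
    | tmul a b =>
      have h2 : L (φA a ⊗ₜ[R] φA b) = (φA b).coeff m • φA a := by simp [L]
      show L (φA a ⊗ₜ[R] φA b) ∈ _
      rw [h2]
      exact Subalgebra.smul_mem _ (show φA a ∈ φA.range from ⟨a, rfl⟩) _
  intro z
  suffices hz : z ∈ φA.range by exact hz
  rw [← MonoidAlgebra.sum_coeff_single z]
  refine Subalgebra.sum_mem _ fun m _ => ?_
  obtain ⟨c, hc⟩ := h m
  have hu : IsUnit ((φ c).coeff m) := by
    have h1 := hc m
    rw [MonoidAlgebra.coeff_single, Finsupp.single_eq_same] at h1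
    have h2 := Ideal.mem_jacobson_bot.1 (hI h1) 1
    rwa [mul_one, sub_add_cancel] at h2
  have h3 := Subalgebra.smul_mem _ (key c m) (z.coeff m * hu.unit⁻¹)
  have h4 : (z.coeff m * ↑hu.unit⁻¹) • MonoidAlgebra.single m ((φ c).coeff m) = MonoidAlgebra.single m (z.coeff m) := by
    rw [MonoidAlgebra.smul_single', mul_assoc, IsUnit.val_inv_mul, mul_one]
  rwa [h4] at h3

section Field

variable {K : Type u} [Field K] {B : Type u} [CommRing B] [HopfAlgebra K B] {M : Type u} [CommGroup M]

theorem antipode_inv (g : B →ₐ[K] K) :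
    toConv (g.comp (HopfAlgebra.antipodeAlgHom K B)) * toConv g = 1 := by
  apply WithConv.ofConv_injective
  refine AlgHom.ext fun x => ?_
  rw [AlgHom.convMul_apply, AlgHom.convOne_apply]
  have h := congrArg g (HopfAlgebra.mul_antipode_rTensor_comul_apply (R := K) x)
  refine Eq.trans ?_ (h.trans (g.commutes _))
  induction comul (R := K) x using TensorProduct.induction_on with
  | zero => simp
  | add a b ha hb => simp only [map_add, ha, hb]
  | tmul a b => simp

theorem antipode_inv' (g : B →ₐ[K] K) :
    toConv g * toConv (g.comp (HopfAlgebra.antipodeAlgHom K B)) = 1 := by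
  apply WithConv.ofConv_injective
  refine AlgHom.ext fun x => ?_
  rw [AlgHom.convMul_apply, AlgHom.convOne_apply]
  have h := congrArg g (HopfAlgebra.mul_antipode_lTensor_comul_apply (R := K) x)
  refine Eq.trans ?_ (h.trans (g.commutes _))
  induction comul (R := K) x using TensorProduct.induction_on with
  | zero => simp
  | add a b ha hb => simp only [map_add, ha, hb]
  | tmul a b => simp

/-- Translation by a point. -/
noncomputable def translate (g : B →ₐ[K] K) : B →ₐ[K] B :=
  (toConv (AlgHom.id K B) * toConv ((Algebra.ofId K B).comp g)).ofConv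

theorem translate_translate (g g' : B →ₐ[K] K) (h : toConv g' * toConv g = 1) (x : B) :
    translate g' (translate g x) = x := by
  have h1 : ∀ (u v : WithConv (B →ₐ[K] B)), (translate g').comp (u * v).ofConv =
      (toConv ((translate g').comp u.ofConv) * toConv ((translate g').comp v.ofConv)).ofConv := fun u v => by
    refine AlgHom.ext fun y => ?_
    rw [AlgHom.comp_apply, AlgHom.convMul_apply, AlgHom.convMul_apply]
    induction comul (R := K) y using TensorProduct.induction_on with
    | zero => simp
    | add a b ha hb => simp only [map_add, ha, hb]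
    | tmul a b => simp
  have h2 : toConv ((Algebra.ofId K B).comp g') * toConv ((Algebra.ofId K B).comp g) = 1 := by
    apply WithConv.ofConv_injective
    refine AlgHom.ext fun y => ?_
    have h3 := congrArg (Algebra.ofId K B) (DFunLike.congr_fun (congrArg WithConv.ofConv h) y)
    rw [AlgHom.convMul_apply, AlgHom.convOne_apply] at h3
    rw [AlgHom.convMul_apply, AlgHom.convOne_apply]
    refine Eq.trans ?_ (h3.trans (by simp))
    induction comul (R := K) y using TensorProduct.induction_on with
    | zero => simp
    | add a b ha hb => simp only [map_add, ha, hb]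
    | tmul a b => simp
  show ((translate g').comp (translate g)) x = x
  rw [show translate g = (toConv (AlgHom.id K B) * toConv ((Algebra.ofId K B).comp g)).ofConv from rfl, h1,
    ofConv_toConv, ofConv_toConv, AlgHom.comp_id, show (translate g').comp ((Algebra.ofId K B).comp g) = (Algebra.ofId K B).comp g from
      AlgHom.ext fun y => (translate g').commutes (g y),
    show toConv (translate g') = toConv (AlgHom.id K B) * toConv ((Algebra.ofId K B).comp g') from rfl,
    _root_.mul_assoc, h2, _root_.mul_one]
  rfl

theorem apply_translate (g g' : B →ₐ[K] K) (h : toConv g * toConv g' = 1) (x : B) :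
    g (translate g' x) = counit (R := K) x := by
  have h1 := DFunLike.congr_fun (congrArg WithConv.ofConv h) x
  rw [AlgHom.convMul_apply, AlgHom.convOne_apply] at h1
  simp only [Algebra.algebraMap_self, RingHom.id_apply] at h1
  refine Eq.trans ?_ h1
  rw [translate, AlgHom.convMul_apply]
  induction comul (R := K) x using TensorProduct.induction_on with
  | zero => simp
  | add a b ha hb => simp only [map_add, ha, hb]
  | tmul a b => simp

theorem translate_mem_ker (q : B →ₐc[K] MonoidAlgebra K M) (g' : B →ₐ[K] K) (hg : ∀ x, q x = 0 → g' x = 0)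
    (hq : Function.Surjective q) {x : B} (hx : q x = 0) : q (translate g' x) = 0 := by
  let qA : B →ₐ[K] MonoidAlgebra K M := q
  let g₀ : MonoidAlgebra K M →ₐ[K] K := AlgHom.liftOfSurjective qA hq g' fun y hy => hg y hy
  have hg₀ : ∀ y, g₀ (q y) = g' y := fun y => AlgHom.liftOfSurjective_apply qA hq g' _ y
  let L : MonoidAlgebra K M ⊗[K] MonoidAlgebra K M →ₐ[K] MonoidAlgebra K M :=
    Algebra.TensorProduct.lift (AlgHom.id K _) ((Algebra.ofId K _).comp g₀) fun _ _ => Commute.all _ _
  have h1 : q (translate g' x) = L (TensorProduct.map q.toCoalgHom.toLinearMap q.toCoalgHom.toLinearMap (comul x)) := by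
    rw [translate, AlgHom.convMul_apply]
    show qA _ = _
    induction comul (R := K) x using TensorProduct.induction_on with
    | zero => simp
    | add a b ha hb => simp only [map_add, ha, hb]
    | tmul a b =>
      show qA _ = L (qA a ⊗ₜ[K] qA b)
      simp only [L, Algebra.TensorProduct.lift_tmul, ofConv_toConv, map_mul, AlgHom.comp_apply, AlgHom.id_apply,
        AlgHom.commutes, show g₀ (qA b) = g' b from hg₀ b, Algebra.ofId_apply]
  rw [h1, show TensorProduct.map q.toCoalgHom.toLinearMap q.toCoalgHom.toLinearMap (comul x) = comul (R := K) (q x) from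
    LinearMap.congr_fun q.toCoalgHom.map_comp_comul _, hx, map_zero, map_zero]

theorem eq_zero_or_one_of_connected {X : Type u} [CommRing X] [ConnectedSpace (PrimeSpectrum X)] {e : X}
    (he : IsIdempotentElem e) : e = 0 ∨ e = 1 := by
  have hc : IsClopen (PrimeSpectrum.basicOpen e : Set (PrimeSpectrum X)) := by
    rw [PrimeSpectrum.isClopen_iff]
    exact ⟨e, he, rfl⟩
  rcases isClopen_iff.1 hc with h | h
  · refine Or.inl (he.eq_zero_of_isNilpotent (nilpotent_iff_mem_prime.2 fun w hw => ?_))
    by_contra hcon
    exact (Set.eq_empty_iff_forall_notMem.1 h) ⟨w, hw⟩ hcon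
  · refine Or.inr ?_
    have h1 : IsNilpotent (1 - e) := nilpotent_iff_mem_prime.2 fun w hw => by
      have hew : e ∉ w := (Set.eq_univ_iff_forall.1 h) ⟨w, hw⟩
      refine (hw.mem_or_mem (show e * (1 - e) ∈ w from ?_)).resolve_left hew
      rw [mul_sub, mul_one, he.eq, sub_self]
      exact zero_mem _
    exact (sub_eq_zero.1 (he.one_sub.eq_zero_of_isNilpotent h1)).symm

/-- Over an algebraically closed field: a closed diagonalisable subgroup of a connected group which is open
near the origin is everything. -/
theorem injective_of_algClosed [IsAlgClosed K] [Algebra.FiniteType K B] [ConnectedSpace (PrimeSpectrum B)]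
    (q : B →ₐc[K] MonoidAlgebra K M) (hq : Function.Surjective q) {s : B} (hs : counit (R := K) s ≠ 0)
    (hsq : ∀ x, q x = 0 → s * x = 0) : Function.Injective q := by
  classical
  let qA : B →ₐ[K] MonoidAlgebra K M := q
  let J : Ideal B := RingHom.ker qA
  let N : Ideal B := J.annihilator
  have hone : J ⊔ N = ⊤ := by
    by_contra hne
    obtain ⟨m, hm, hle⟩ := Ideal.exists_le_maximal _ hne
    let : Field (B ⧸ m) := Ideal.Quotient.field m
    have : Algebra.FiniteType K (B ⧸ m) := inferInstance
    have : Module.Finite K (B ⧸ m) := finite_of_finite_type_of_isJacobsonRing K (B ⧸ m)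
    have hbij : Function.Bijective (algebraMap K (B ⧸ m)) := IsAlgClosed.algebraMap_bijective_of_isIntegral
    let ι : (B ⧸ m) →ₐ[K] K := (AlgEquiv.ofBijective (Algebra.ofId K (B ⧸ m)) hbij).symm.toAlgHom
    let g : B →ₐ[K] K := ι.comp (Ideal.Quotient.mkₐ K m)
    have hgker : ∀ x, g x = 0 → x ∈ m := fun x hx => Ideal.Quotient.eq_zero_iff_mem.1
      ((map_eq_zero_iff ι (RingHom.injective ι.toRingHom)).1 hx)
    have hgJ : ∀ x, q x = 0 → g x = 0 := fun x hx => by
      have : x ∈ m := hle (Ideal.mem_sup_left hx)
      show ι (Ideal.Quotient.mk m x) = 0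
      rw [Ideal.Quotient.eq_zero_iff_mem.2 this, map_zero]
    let g' : B →ₐ[K] K := g.comp (HopfAlgebra.antipodeAlgHom K B)
    have hg'g : toConv g' * toConv g = 1 := antipode_inv g
    have hgg' : toConv g * toConv g' = 1 := antipode_inv' g
    refine hs ?_
    rw [← apply_translate g g' hgg' s]
    show ι (Ideal.Quotient.mk m _) = 0
    rw [Ideal.Quotient.eq_zero_iff_mem.2 (hle (Ideal.mem_sup_right ?_)), map_zero]
    rw [Submodule.mem_annihilator]
    intro x hx
    have h1 : q (translate g x) = 0 := translate_mem_ker q g hgJ hq hx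
    rw [smul_eq_mul, ← translate_translate g g' hg'g x, ← map_mul, hsq _ h1, map_zero]
  obtain ⟨j, hj, a, ha, hja⟩ := Submodule.mem_sup.1 ((Ideal.eq_top_iff_one _).1 hone)
  have hmul : ∀ x ∈ J, x = x * j := fun x hx => by
    have h1 : a * x = 0 := by
      have := Submodule.mem_annihilator.1 ha x hx
      rwa [smul_eq_mul] at this
    calc x = x * (j + a) := by rw [hja, mul_one]
      _ = x * j := by rw [mul_add, mul_comm x a, h1, add_zero]
  rcases eq_zero_or_one_of_connected (show IsIdempotentElem j from (hmul j hj).symm) with h | h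
  · refine (injective_iff_map_eq_zero _).2 fun x hx => ?_
    rw [hmul x hx, h, mul_zero]
  · rw [h] at hj
    have : (1 : MonoidAlgebra K M) = 0 := (map_one qA).symm.trans hj
    exact absurd this one_ne_zero

/-- A connected group with a rational point stays connected over an algebraic extension. -/
theorem connectedSpace_bc [ConnectedSpace (PrimeSpectrum B)] (L : Type u) [Field L] [Algebra K L]
    [Algebra.IsAlgebraic K L] : ConnectedSpace (PrimeSpectrum (L ⊗[K] B)) := by
  classical
  let : Algebra B (L ⊗[K] B) := Algebra.TensorProduct.rightAlgebra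
  let π : PrimeSpectrum (L ⊗[K] B) → PrimeSpectrum B := PrimeSpectrum.comap (algebraMap B (L ⊗[K] B))
  have hopen : IsOpenMap π := by
    let e : B ⊗[K] L ≃ₐ[B] L ⊗[K] B := Algebra.TensorProduct.commRight K B L
    have h1 : π = PrimeSpectrum.comap (algebraMap B (B ⊗[K] L)) ∘ PrimeSpectrum.comap (e : B ⊗[K] L →+* L ⊗[K] B) := by
      funext w
      refine PrimeSpectrum.ext (Ideal.ext fun x => ?_)
      show algebraMap B (L ⊗[K] B) x ∈ w.asIdeal ↔ e (algebraMap B (B ⊗[K] L) x) ∈ w.asIdeal
      rw [e.commutes]
    rw [h1]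
    exact PrimeSpectrum.isOpenMap_comap_algebraMap_tensorProduct_of_field.comp
      (PrimeSpectrum.homeomorphOfRingEquiv e.toRingEquiv).symm.isOpenMap
  have hint : (algebraMap B (L ⊗[K] B)).IsIntegral := fun x => by
    have h1 := (Algebra.IsIntegral.isIntegral (R := B) ((Algebra.TensorProduct.commRight K B L).symm x)).map
      (Algebra.TensorProduct.commRight K B L).toAlgHom
    show _root_.IsIntegral B x
    simpa using h1
  have hclosed : IsClosedMap π := PrimeSpectrum.isClosedMap_comap_of_isIntegral _ hint
  let εB : B →ₐ[K] K := Bialgebra.counitAlgHom K B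
  let εL : L ⊗[K] B →ₐ[L] L := Algebra.TensorProduct.lift (Algebra.ofId L L) ((Algebra.ofId K L).comp εB) fun _ _ => Commute.all _ _
  let b₀ : PrimeSpectrum B := ⟨RingHom.ker εB, RingHom.ker_isPrime _⟩
  let w₀ : PrimeSpectrum (L ⊗[K] B) := ⟨RingHom.ker εL, RingHom.ker_isPrime _⟩
  have hfib : ∀ w, π w = b₀ → w = w₀ := fun w hw => by
    have hmax : (RingHom.ker εL).IsMaximal :=
      RingHom.ker_isMaximal_of_surjective _ fun l => ⟨l ⊗ₜ[K] 1, by simp [εL]⟩
    refine PrimeSpectrum.ext (hmax.eq_of_le w.isPrime.ne_top fun z hz => ?_).symm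
    have h1 : ∀ z : L ⊗[K] B, z - εL z ⊗ₜ[K] (1 : B) ∈ w.asIdeal := fun z => by
      induction z using TensorProduct.induction_on with
      | zero => simp
      | add p q hp hq =>
        have := add_mem hp hq
        rwa [← add_sub_add_comm, ← TensorProduct.add_tmul, ← map_add] at this
      | tmul l x =>
        have hx : x - algebraMap K B (εB x) ∈ b₀.asIdeal := by
          show εB _ = 0
          rw [map_sub, AlgHom.commutes, Algebra.algebraMap_self, RingHom.id_apply, sub_self]
        rw [← hw] at hx
        have h2 : εL (l ⊗ₜ[K] x) ⊗ₜ[K] (1 : B) = l ⊗ₜ[K] algebraMap K B (εB x) := by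
          rw [Algebra.algebraMap_eq_smul_one, TensorProduct.tmul_smul, TensorProduct.smul_tmul']
          congr 1
          simp [εL, Algebra.smul_def, mul_comm, Algebra.ofId_apply]
        rw [h2, ← TensorProduct.tmul_sub, show l ⊗ₜ[K] (x - algebraMap K B (εB x)) =
          (l ⊗ₜ[K] (1 : B)) * algebraMap B (L ⊗[K] B) (x - algebraMap K B (εB x)) by
          simp [Algebra.TensorProduct.algebraMap_apply', Algebra.TensorProduct.right_algebraMap_apply]]
        exact w.asIdeal.mul_mem_left _ hx
    have h3 := h1 z
    rw [show εL z = 0 from hz, TensorProduct.zero_tmul, sub_zero] at h3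
    exact h3
  refine connectedSpace_iff_clopen.2 ⟨⟨w₀⟩, fun s hs => ?_⟩
  by_contra hcon
  push Not at hcon
  obtain ⟨h1, h2⟩ := hcon
  have huniv : ∀ t : Set (PrimeSpectrum (L ⊗[K] B)), IsClopen t → t.Nonempty → w₀ ∈ t := fun t ht htne => by
    have h3 : π '' t = Set.univ :=
      (isClopen_iff.1 ⟨hclosed _ ht.1, hopen _ ht.2⟩).resolve_left (htne.image π).ne_empty
    obtain ⟨w, hw, hwb⟩ : b₀ ∈ π '' t := h3 ▸ Set.mem_univ _
    rwa [← hfib w hwb]
  exact huniv sᶜ hs.compl (Set.nonempty_compl.2 h2) (huniv s hs h1)

end Field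

section Global

variable {R : Type u} [CommRing R] {C : Type u} [CommRing C] [Algebra R C] {P : Type u} [CommRing P] [Algebra R P]

/-- The kernel of a surjection onto a flat algebra, after base change. -/
theorem mem_ker_lTensor [Module.Flat R P] (φ : C →ₐ[R] P) (hφ : Function.Surjective φ) (N : Type u) [AddCommGroup N] [Module R N] :
    Function.Injective (((RingHom.ker φ).restrictScalars R).subtype.lTensor N) ∧
    LinearMap.ker (φ.toLinearMap.lTensor N) = LinearMap.range (((RingHom.ker φ).restrictScalars R).subtype.lTensor N) := by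
  have hex : Function.Exact ((RingHom.ker φ).restrictScalars R).subtype φ.toLinearMap := fun x =>
    ⟨fun h => ⟨⟨x, h⟩, rfl⟩, by rintro ⟨y, rfl⟩; exact y.2⟩
  exact ⟨LinearMap.lTensor_injective_of_exact_of_flat φ.toLinearMap hφ _ (Submodule.subtype_injective _) hex N,
    LinearMap.exact_iff.1 (lTensor_exact N hex hφ)⟩

/-- If the fibre of `φ` at `y` is injective, the kernel vanishes at the primes over `y`. -/
theorem exists_mul_eq_zero [IsNoetherianRing C] [Module.Flat R P] (φ : C →ₐ[R] P) (hφ : Function.Surjective φ) (N : Type u)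
    [CommRing N] [Algebra R N] (q : Ideal C) [q.IsPrime] (g : N →ₐ[R] q.ResidueField)
    (hN : Function.Injective (φ.toLinearMap.lTensor N)) : ∃ s ∉ q, ∀ x, φ x = 0 → s * x = 0 := by
  obtain ⟨hinj, hrange⟩ := mem_ker_lTensor φ hφ N
  let J : Ideal C := RingHom.ker φ
  have hzero : ∀ z : N ⊗[R] J.restrictScalars R, z = 0 := fun z => by
    refine hinj (hN ?_)
    rw [map_zero, map_zero]
    exact LinearMap.congr_fun (show φ.toLinearMap.lTensor N ∘ₗ (J.restrictScalars R).subtype.lTensor N = 0 by
      rw [← LinearMap.lTensor_comp, show φ.toLinearMap ∘ₗ (J.restrictScalars R).subtype = 0 from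
        LinearMap.ext fun x => x.2, LinearMap.lTensor_zero]) z
  have hsub : Subsingleton (q.ResidueField ⊗[C] J) := by
    refine subsingleton_of_forall_eq 0 fun z => ?_
    induction z using TensorProduct.induction_on with
    | zero => rfl
    | add a b ha hb => rw [ha, hb, add_zero]
    | tmul k x =>
      let β : N →ₗ[R] J.restrictScalars R →ₗ[R] q.ResidueField ⊗[C] J :=
        LinearMap.mk₂ R (fun a y => g a ⊗ₜ[C] (⟨y.1, y.2⟩ : J))
          (fun a b y => by rw [map_add, TensorProduct.add_tmul])
          (fun r a y => by rw [map_smul, TensorProduct.smul_tmul'])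
          (fun a y y' => by rw [← TensorProduct.tmul_add]; rfl)
          (fun r a y => by rw [← TensorProduct.tmul_smul]; rfl)
      have h1 := congrArg (TensorProduct.lift β) (hzero ((1 : N) ⊗ₜ[R] ⟨x.1, x.2⟩))
      rw [TensorProduct.lift.tmul, map_zero] at h1
      have h2 : (1 : q.ResidueField) ⊗ₜ[C] x = 0 := by simpa [β] using h1
      have h3 : k • ((1 : q.ResidueField) ⊗ₜ[C] x) = 0 := by rw [h2, smul_zero]
      rwa [TensorProduct.smul_tmul', smul_eq_mul, mul_one] at h3
  have hns : (⟨q, inferInstance⟩ : PrimeSpectrum C) ∉ Module.support C J := fun h => by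
    have := (Module.mem_support_iff_nontrivial_residueField_tensorProduct _).1 h
    exact not_subsingleton (q.ResidueField ⊗[C] J) hsub
  rw [Module.support_eq_zeroLocus, PrimeSpectrum.mem_zeroLocus, Set.not_subset] at hns
  obtain ⟨s, hs, hsq⟩ := hns
  refine ⟨s, hsq, fun x hx => ?_⟩
  exact congrArg Subtype.val (Module.mem_annihilator.1 hs ⟨x, hx⟩)

/-- A surjection onto a flat algebra which is injective on all fibres is bijective. -/
theorem bijective_of_fibres [IsNoetherianRing C] [Module.Flat R P] (φ : C →ₐ[R] P) (hφ : Function.Surjective φ)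
    (h : ∀ (y : Ideal R) [y.IsPrime], Function.Injective (φ.toLinearMap.lTensor y.ResidueField)) : Function.Bijective φ := by
  refine ⟨(injective_iff_map_eq_zero φ).2 fun x hx => ?_, hφ⟩
  by_contra hne
  have hann : (Submodule.span C {x}).annihilator ≠ ⊤ := fun htop => hne (by
    have h1 : (1 : C) ∈ (Submodule.span C {x}).annihilator := htop ▸ Submodule.mem_top
    rwa [Submodule.mem_annihilator_span_singleton, one_smul] at h1)
  obtain ⟨q, hq, hle⟩ := Ideal.exists_le_maximal _ hann
  let y : Ideal R := q.comap (algebraMap R C)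
  let g : y.ResidueField →ₐ[R] q.ResidueField := Ideal.ResidueField.mapₐ y q (Algebra.ofId R C) rfl
  obtain ⟨s, hs, hsx⟩ := exists_mul_eq_zero φ hφ y.ResidueField q g (h y)
  refine hs (hle ?_)
  rw [Submodule.mem_annihilator_span_singleton, smul_eq_mul]
  exact hsx x hx

/-- The kernel is killed by a function equal to `1` on the unit section. -/
theorem exists_counit_one {C : Type u} [CommRing C] [Bialgebra R C] [IsNoetherianRing C] [Module.Flat R P]
    (φ : C →ₐ[R] P) (hφ : Function.Surjective φ) (I : Ideal R) (hI : I ≤ Ideal.jacobson ⊥)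
    (hinj : Function.Injective (φ.toLinearMap.lTensor (R ⧸ I))) :
    ∃ s : C, counit (R := R) s = 1 ∧ ∀ x, φ x = 0 → s * x = 0 := by
  let ε : C →ₐ[R] R := Bialgebra.counitAlgHom R C
  let N : Ideal C := (RingHom.ker φ).annihilator
  have hεs : Function.Surjective ε := fun r => ⟨algebraMap R C r, ε.commutes r⟩
  suffices h : (1 : R) ∈ N.map ε by
    obtain ⟨s, hs, hs1⟩ := (Ideal.mem_map_iff_of_surjective ε hεs).1 h
    exact ⟨s, hs1, fun x hx => by
      have := Submodule.mem_annihilator.1 hs x hx
      rwa [smul_eq_mul] at this⟩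
  by_contra hne
  obtain ⟨m, hm, hle⟩ := Ideal.exists_le_maximal _ (show N.map ε ≠ ⊤ from fun htop => hne (by rw [htop]; exact Submodule.mem_top))
  have hIm : I ≤ m := hI.trans (sInf_le ⟨bot_le, hm⟩)
  let q : Ideal C := m.comap ε
  let g : R ⧸ I →ₐ[R] q.ResidueField := Ideal.Quotient.liftₐ I (Algebra.ofId R q.ResidueField) fun r hr => by
    rw [Algebra.ofId_apply, IsScalarTower.algebraMap_apply R C q.ResidueField, Ideal.algebraMap_residueField_eq_zero]
    show ε (algebraMap R C r) ∈ m
    rw [ε.commutes]
    exact hIm hr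
  obtain ⟨s, hs, hsx⟩ := exists_mul_eq_zero φ hφ (R ⧸ I) q g hinj
  refine hs (hle (Ideal.mem_map_of_mem ε ?_))
  rw [Submodule.mem_annihilator]
  intro x hx
  rw [smul_eq_mul]
  exact hsx x hx

end Global

end Groth.Agent.MultHopf
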