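import Groth.Agent.TorusPts.Galois
import Groth.Agent.TorusPts.Spread
import Groth.Agent.MultHopf.Bridge
import Groth.Prelude.Def_SGA3b
import Mathlib.FieldTheory.SeparableClosure
import Mathlib.FieldTheory.PurelyInseparable.Basic

/-!
# Groups of multiplicative type over a field are split by a finite separable extension
-/

set_option autoImplicit false
set_option backward.isDefEq.respectTransparency.types false

universe u

open scoped TensorProduct MonoidAlgebra
open MonoidAlgebra SGA3b

namespace Groth.Agent.MultHopf

open Groth.Agent.TorusPts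

/-- Over a purely inseparable normal extension, being split descends. -/
theorem nonempty_bialgEquiv_of_insep {K F A G : Type u} [Field K] [Field F] [Algebra K F]
    [FiniteDimensional K F] [IsPurelyInseparable K F] [CommRing A] [HopfAlgebra K A] [CommGroup G]
    (s : Splitting K F A G) : Nonempty (A ≃ₐc[K] K[G]) := by
  classical
  have hnormal : Normal K F := inferInstance
  have hfix : ∀ σ : F ≃ₐ[K] F, ∀ x : F, σ x = x := fun σ x => by
    obtain rfl : σ = AlgEquiv.refl := AlgEquiv.ext fun y =>
      AlgHom.congr_fun (Subsingleton.elim (σ : F →ₐ[K] F) (AlgHom.id K F)) y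
    rfl
  have hrat : ∀ g, (fun h => if h = g then (1 : F) else 0) ∈ s.rat := fun g =>
    s.pairing_mem_range _ (fun h => by by_cases hh : h = g <;> simp [hh]) (fun σ a => hfix σ _)
  have hpair : ∀ (g : G) (z : F[G]), pairing (fun h => if h = g then (1 : F) else 0) z = z.coeff g := by
    intro g z
    induction z using MonoidAlgebra.induction_linear with
    | zero => simp
    | add x y hx hy => simp [hx, hy]
    | single h r => rw [pairing_single]; by_cases hh : h = g <;> simp [hh]
  let ι' : K →ₐ[K] F := Algebra.ofId K F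
  have hι : Function.Injective ι' := (algebraMap K F).injective
  have hmem : ∀ a, s.f a ∈ (coeMap G ι').range := fun a => by
    rw [← MonoidAlgebra.sum_coeff_single (s.f a)]
    refine Subalgebra.sum_mem _ fun g _ => ?_
    obtain ⟨k, hk⟩ := hrat g a
    rw [hpair] at hk
    exact ⟨single g k, by
      show coeMap G ι' (single g k) = single g ((s.f a).coeff g)
      rw [coeMap_single, ← hk]; rfl⟩
  let f₀ : A →ₐ[K] K[G] :=
    ((AlgEquiv.ofInjective (coeMap G ι') (coeMap_injective _ hι)).symm :
      (coeMap G ι').range →ₐ[K] K[G]).comp (s.f.codRestrict _ hmem)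
  have hf₀ : (coeMap G ι').comp f₀ = s.f := AlgHom.ext fun x => by
    simp only [f₀, AlgHom.comp_apply]
    exact congrArg Subtype.val ((AlgEquiv.ofInjective (coeMap G ι')
      (coeMap_injective _ hι)).apply_symm_apply (s.f.codRestrict _ hmem x))
  have hc : IsCompat f₀ := IsCompat.of_map ι' hι (by rw [hf₀]; exact s.compat)
  have h1 : ∀ a, ext' s.f ((1 : F) ⊗ₜ[K] a) = coeMap G ι' (f₀ a) := fun a => by
    rw [ext'_tmul, one_smul, ← hf₀]; rfl
  have hinj : Function.Injective f₀ := fun a b hab => by
    have h2 : (1 : F) ⊗ₜ[K] a = (1 : F) ⊗ₜ[K] b := s.bij.1 (by rw [h1, h1, hab])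
    exact Module.FaithfullyFlat.tensorProduct_mk_injective (A := K) (B := F) A h2
  obtain ⟨π, hπ⟩ := LinearMap.exists_leftInverse_of_injective (Algebra.linearMap K F)
    (LinearMap.ker_eq_bot.2 (algebraMap K F).injective)
  have hπ1 : ∀ k, π (algebraMap K F k) = k := fun k => LinearMap.congr_fun hπ k
  have hsurj : Function.Surjective f₀ := fun z => by
    obtain ⟨w, hw⟩ := s.bij.2 (coeMap G ι' z)
    refine ⟨TensorProduct.lid K A (π.rTensor A w), ?_⟩
    suffices h : ∀ g : G, (f₀ (TensorProduct.lid K A (π.rTensor A w))).coeff g = π ((ext' s.f w).coeff g) by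
      ext g
      rw [h, hw]
      show π ((coeMap G ι' z).coeff g) = _
      simp [coeMap, ι', hπ1]
    intro g
    clear hw
    induction w using TensorProduct.induction_on with
    | zero => simp
    | add x y hx hy => simp only [map_add, MonoidAlgebra.coeff_add, Finsupp.add_apply, hx, hy]
    | tmul c a =>
      rw [LinearMap.rTensor_tmul, TensorProduct.lid_tmul, map_smul, ext'_tmul, ← hf₀]
      show π c * (f₀ a).coeff g = π (c * (coeMap G ι' (f₀ a)).coeff g)
      have : (coeMap G ι' (f₀ a)).coeff g = algebraMap K F ((f₀ a).coeff g) := by simp [coeMap, ι']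
      rw [this, mul_comm c, ← Algebra.smul_def, map_smul, smul_eq_mul, mul_comm]
  exact ⟨BialgEquiv.ofBijective hc.toBialgHom ⟨hinj, hsurj⟩⟩

/-- A group of multiplicative type over a field is split by a finite separable extension. -/
theorem exists_separable_split {K L A G : Type u} [Field K] [Field L] [Algebra K L] [CommRing A]
    [HopfAlgebra K A] [CommGroup G] [Group.FG G] (e : L ⊗[K] A ≃ₐc[L] L[G]) :
    ∃ (S : Type u) (_ : Field S) (_ : Algebra K S), Module.Finite K S ∧ Algebra.IsSeparable K S ∧
      Nonempty (S ⊗[K] A ≃ₐc[S] S[G]) := by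
  obtain ⟨F, _, _, hfd, hn, ⟨eF⟩⟩ := exists_normal_split e
  let S := separableClosure K F
  have : IsPurelyInseparable S F := separableClosure.isPurelyInseparable K F
  obtain ⟨s⟩ := exists_splitting (K := S) (A := S ⊗[K] A) ((cancelBC K S F A).trans eF)
  exact ⟨S, inferInstance, inferInstance, inferInstance, inferInstance, nonempty_bialgEquiv_of_insep s⟩

end Groth.Agent.MultHopf
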