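import Groth.Agent.MultHopf.Chart
import Mathlib.RingTheory.Nakayama
import Mathlib.RingTheory.Finiteness.Ideal
import Mathlib.RingTheory.TensorProduct.Quotient
import Mathlib.LinearAlgebra.TensorProduct.Quotient

/-!
# Rigidity of homomorphisms into groups of multiplicative type
-/

set_option autoImplicit false

universe u v w

open scoped TensorProduct
open WithConv Coalgebra

namespace Groth.Agent.MultHopf

open Groth.Agent.FinHopf (postComp)

variable {R : Type u} [CommRing R] {A : Type v} [CommRing A] [HopfAlgebra R A]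

/-- Charts detect elements. -/
theorem eq_zero_of_charts (a : A) (h : ∀ p, ∃ c : Chart R A p, c.θ a = 0) : a = 0 := by
  let f : R →ₗ[R] A := LinearMap.toSpanSingleton R A a
  suffices (1 : R) ∈ LinearMap.ker f by simpa [f] using this
  by_contra h1
  obtain ⟨m, hm, hle⟩ := Ideal.exists_le_maximal (LinearMap.ker f) fun h => h1 (h ▸ Submodule.mem_top)
  obtain ⟨c, hc⟩ := h ⟨m, hm.isPrime⟩
  have h0 : (1 : c.R') ⊗ₜ[R] a = 0 := by
    apply c.isBaseChange.equiv.injective
    rw [map_zero, IsBaseChange.equiv_tmul, one_smul]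
    exact hc
  let g : R ⧸ LinearMap.ker f →ₗ[R] A := Submodule.liftQ _ f le_rfl
  have hg : Function.Injective g := LinearMap.ker_eq_bot.1 (Submodule.ker_liftQ_eq_bot' _ _ rfl)
  have h2 : (1 : c.R') ⊗ₜ[R] (Ideal.Quotient.mk (LinearMap.ker f) 1) = 0 := by
    apply Module.Flat.lTensor_preserves_injective_linearMap (M := c.R') g hg
    rw [map_zero, LinearMap.lTensor_tmul]
    have : g (Ideal.Quotient.mk (LinearMap.ker f) 1) = a := by
      show f 1 = a
      simp [f]
    rw [this, h0]
  have hle' : LinearMap.ker f ≤ RingHom.ker (algebraMap R (IsLocalRing.ResidueField c.R')) := fun r hr => by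
    rw [RingHom.mem_ker, IsScalarTower.algebraMap_apply R c.R', IsLocalRing.ResidueField.algebraMap_eq,
      IsLocalRing.residue_eq_zero_iff, ← Ideal.mem_comap, c.over]
    exact hle hr
  let L : c.R' ⊗[R] (R ⧸ LinearMap.ker f) →ₐ[R] IsLocalRing.ResidueField c.R' :=
    Algebra.TensorProduct.lift (IsScalarTower.toAlgHom R c.R' _)
      (Ideal.Quotient.liftₐ _ (Algebra.ofId R _) hle') (fun _ _ => Commute.all _ _)
  have h3 := congrArg L h2
  simp [L] at h3

theorem coeff_mem_of_mem_map {R' : Type w} [CommRing R'] {M : Type*} [Monoid M] (J : Ideal R')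
    {x : MonoidAlgebra R' M} (hx : x ∈ J.map (algebraMap R' (MonoidAlgebra R' M))) (m : M) :
    x.coeff m ∈ J := by
  have h : J.map (algebraMap R' (MonoidAlgebra R' M)) ≤
      RingHom.ker (MonoidAlgebra.mapRingHom M (Ideal.Quotient.mk J)) := by
    rw [Ideal.map_le_iff_le_comap]
    intro r hr
    rw [Ideal.mem_comap, RingHom.mem_ker]
    simp [Ideal.Quotient.eq_zero_iff_mem.2 hr]
  have h2 := congrArg (fun z => z.coeff m) (RingHom.mem_ker.1 (h hx))
  rw [MonoidAlgebra.coeff_mapRingHom] at h2
  exact Ideal.Quotient.eq_zero_iff_mem.1 h2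

theorem sum_counit_smul_left' {C : Type*} [CommRing C] [HopfAlgebra R C] (c : C) :
    ∑ i ∈ (ℛ R c).index, counit (R := R) ((ℛ R c).right i) • (ℛ R c).left i = c := by
  simpa only [map_sum, TensorProduct.lift.tmul, LinearMap.flip_apply, LinearMap.lsmul_apply, one_smul]
    using congr(TensorProduct.lift (LinearMap.lsmul R C).flip $(Coalgebra.sum_tmul_counit_eq (R := R) (ℛ R c)))

variable {R' : Type w} [CommRing R'] [Algebra R R'] {M : Type*} [CommGroup M]
variable {C : Type*} [CommRing C] [HopfAlgebra R C]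

/-- Compatibility of a map to a group algebra with comultiplications. -/
def Compat (g : WithConv (C →ₐ[R] MonoidAlgebra R' M)) : Prop :=
  postComp ((Bialgebra.comulAlgHom R' (MonoidAlgebra R' M)).restrictScalars R) g =
    postComp ((Algebra.TensorProduct.includeLeft :
        MonoidAlgebra R' M →ₐ[R'] MonoidAlgebra R' M ⊗[R'] MonoidAlgebra R' M).restrictScalars R) g *
      postComp ((Algebra.TensorProduct.includeRight :
        MonoidAlgebra R' M →ₐ[R'] MonoidAlgebra R' M ⊗[R'] MonoidAlgebra R' M).restrictScalars R) g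

/-- The deviation of `g` from the trivial map. -/
noncomputable def dev (g : WithConv (C →ₐ[R] MonoidAlgebra R' M)) (c : C) : MonoidAlgebra R' M :=
  g.ofConv c - algebraMap R (MonoidAlgebra R' M) (counit c)

/-- If the deviation has coefficients in `J`, it has coefficients in `J * J`. -/
theorem dev_mem_mul {g : WithConv (C →ₐ[R] MonoidAlgebra R' M)} (hg : Compat g) (J : Ideal R')
    (hJ : ∀ c m, (dev g c).coeff m ∈ J) (c : C) (m : M) : (dev g c).coeff m ∈ J * J := by
  classical
  let B := MonoidAlgebra R' M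
  let Δ := Bialgebra.comulAlgHom R' B
  let x := dev g
  have hx : ∀ d, g.ofConv d = x d + algebraMap R B (counit d) := fun d => (sub_add_cancel _ _).symm
  have hsum : Δ (x c) - x c ⊗ₜ[R'] 1 - 1 ⊗ₜ[R'] x c =
      ∑ i ∈ (ℛ R c).index, x ((ℛ R c).left i) ⊗ₜ[R'] x ((ℛ R c).right i) := by
    have h := DFunLike.congr_fun (congrArg WithConv.ofConv hg) c
    rw [FinHopf.postComp_apply] at h
    change _ = _ at h
    have h' := h.trans (AlgHom.convMul_apply _ _ c)
    rw [← (ℛ R c).eq, map_sum] at h'
    simp only [Algebra.TensorProduct.lift_tmul, FinHopf.postComp_apply, AlgHom.restrictScalars_apply,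
      Algebra.TensorProduct.includeLeft_apply, Algebra.TensorProduct.includeRight_apply,
      Algebra.TensorProduct.tmul_mul_tmul, mul_one, one_mul] at h'
    have e1 : ∑ i ∈ (ℛ R c).index, x ((ℛ R c).left i) ⊗ₜ[R'] algebraMap R B (counit ((ℛ R c).right i)) =
        x c ⊗ₜ[R'] (1 : B) := by
      have hlin : ∀ (d : C) (r : R), x (r • d) = r • x d := fun d r => by
        simp [x, dev, Algebra.smul_def, mul_sub]
      have hadd : ∀ d d', x (d + d') = x d + x d' := fun d d' => by simp [x, dev]; abel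
      let xl : C →ₗ[R] B := ⟨⟨x, hadd⟩, fun r d => hlin d r⟩
      have hc : ∑ i ∈ (ℛ R c).index, counit (R := R) ((ℛ R c).right i) • (ℛ R c).left i = c :=
        sum_counit_smul_left' c
      calc _ = ∑ i ∈ (ℛ R c).index, (counit (R := R) ((ℛ R c).right i) • x ((ℛ R c).left i)) ⊗ₜ[R'] (1 : B) := by
            refine Finset.sum_congr rfl fun i _ => ?_
            rw [Algebra.algebraMap_eq_smul_one, TensorProduct.tmul_smul, TensorProduct.smul_tmul']
        _ = x c ⊗ₜ[R'] (1 : B) := by
            rw [← TensorProduct.sum_tmul]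
            congr 1
            conv_rhs => rw [← hc]
            exact (by simp [map_sum, xl] : ∑ i ∈ (ℛ R c).index, counit (R := R) ((ℛ R c).right i) • xl ((ℛ R c).left i) = xl (∑ i ∈ (ℛ R c).index, counit (R := R) ((ℛ R c).right i) • (ℛ R c).left i))
    have e2 : ∑ i ∈ (ℛ R c).index, algebraMap R B (counit ((ℛ R c).left i)) ⊗ₜ[R'] x ((ℛ R c).right i) =
        (1 : B) ⊗ₜ[R'] x c := by
      have hlin : ∀ (d : C) (r : R), x (r • d) = r • x d := fun d r => by
        simp [x, dev, Algebra.smul_def, mul_sub]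
      have hadd : ∀ d d', x (d + d') = x d + x d' := fun d d' => by simp [x, dev]; abel
      let xl : C →ₗ[R] B := ⟨⟨x, hadd⟩, fun r d => hlin d r⟩
      have hc : ∑ i ∈ (ℛ R c).index, counit (R := R) ((ℛ R c).left i) • (ℛ R c).right i = c :=
        Coalgebra.sum_counit_smul (ℛ R c)
      calc _ = ∑ i ∈ (ℛ R c).index, (1 : B) ⊗ₜ[R'] (counit (R := R) ((ℛ R c).left i) • x ((ℛ R c).right i)) := by
            refine Finset.sum_congr rfl fun i _ => ?_
            rw [Algebra.algebraMap_eq_smul_one, TensorProduct.tmul_smul, TensorProduct.smul_tmul']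
        _ = (1 : B) ⊗ₜ[R'] x c := by
            rw [← TensorProduct.tmul_sum]
            congr 1
            conv_rhs => rw [← hc]
            exact (by simp [map_sum, xl] : ∑ i ∈ (ℛ R c).index, counit (R := R) ((ℛ R c).left i) • xl ((ℛ R c).right i) = xl (∑ i ∈ (ℛ R c).index, counit (R := R) ((ℛ R c).left i) • (ℛ R c).right i))
    have e3 : ∑ i ∈ (ℛ R c).index, algebraMap R B (counit ((ℛ R c).left i)) ⊗ₜ[R'] algebraMap R B (counit ((ℛ R c).right i)) =
        algebraMap R (B ⊗[R'] B) (counit c) := by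
      have hc : ∑ i ∈ (ℛ R c).index, counit (R := R) ((ℛ R c).left i) * counit (R := R) ((ℛ R c).right i) = counit c := by
        have := congrArg (counit (R := R)) (Coalgebra.sum_counit_smul (ℛ R c))
        simpa [map_sum, map_smul] using this
      rw [← hc, map_sum]
      refine Finset.sum_congr rfl fun i _ => ?_
      rw [map_mul, Algebra.TensorProduct.algebraMap_apply, Algebra.algebraMap_eq_smul_one, Algebra.algebraMap_eq_smul_one, Algebra.algebraMap_eq_smul_one, TensorProduct.tmul_smul, ← TensorProduct.smul_tmul']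
      simp [TensorProduct.smul_tmul', Algebra.TensorProduct.one_def, smul_smul, mul_comm]
    have hΔ : Δ (g.ofConv c) = Δ (x c) + algebraMap R (B ⊗[R'] B) (counit c) := by
      rw [hx, map_add]
      congr 1
      exact (Δ.restrictScalars R).commutes _
    have h'' : Δ (g.ofConv c) =
        ∑ i ∈ (ℛ R c).index, g.ofConv ((ℛ R c).left i) ⊗ₜ[R'] g.ofConv ((ℛ R c).right i) := h'
    rw [hΔ] at h''
    simp only [hx, TensorProduct.add_tmul, TensorProduct.tmul_add, Finset.sum_add_distrib, e1, e2, e3] at h''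
    have := eq_sub_of_add_eq h''
    rw [this]
    abel
  let L : M → B ⊗[R'] B →ₗ[R'] R' := fun m =>
    LinearMap.mul' R' R' ∘ₗ TensorProduct.map
      ((Finsupp.lapply m) ∘ₗ (MonoidAlgebra.coeffLinearEquiv R').toLinearMap)
      ((Finsupp.lapply m) ∘ₗ (MonoidAlgebra.coeffLinearEquiv R').toLinearMap)
  have hL : ∀ m (a b : B), L m (a ⊗ₜ b) = a.coeff m * b.coeff m := fun m a b => by
    simp [L]
    rfl
  have hLΔ : ∀ m (y : B), L m (Δ y) = y.coeff m := by
    intro m y
    induction y using MonoidAlgebra.induction_linear with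
    | zero => simp
    | add a b ha hb => simp [map_add, ha, hb]
    | single n r =>
      by_cases h : n = m
      · subst h
        show L n (Coalgebra.comul (R := R') (MonoidAlgebra.single n r)) = _
        rw [MonoidAlgebra.comul_single, CommSemiring.comul_apply, TensorProduct.map_tmul, hL]
        simp [MonoidAlgebra.coeff_single]
      · show L m (Coalgebra.comul (R := R') (MonoidAlgebra.single n r)) = _
        rw [MonoidAlgebra.comul_single, CommSemiring.comul_apply, TensorProduct.map_tmul, hL]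
        simp [MonoidAlgebra.coeff_single, h]
  have h := congrArg (L m) hsum
  rw [map_sub, map_sub, hLΔ, hL, hL, map_sum] at h
  have hmem : ∑ i ∈ (ℛ R c).index, L m (x ((ℛ R c).left i) ⊗ₜ[R'] x ((ℛ R c).right i)) ∈ J * J :=
    sum_mem fun i _ => by rw [hL]; exact Ideal.mul_mem_mul (hJ _ _) (hJ _ _)
  rw [← h] at hmem
  have h1 : (1 : B).coeff m = if 1 = m then 1 else 0 := by
    rw [MonoidAlgebra.one_def, MonoidAlgebra.coeff_single, Finsupp.single_apply]
  rw [h1] at hmem
  by_cases hm : 1 = m
  · rw [if_pos hm] at hmem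
    simpa [x] using hmem
  · rw [if_neg hm] at hmem
    simpa [x] using hmem

theorem dev_eq_zero_of_nilpotent {g : WithConv (C →ₐ[R] MonoidAlgebra R' M)} (hg : Compat g)
    (J : Ideal R') (hn : IsNilpotent J) (hJ : ∀ c m, (dev g c).coeff m ∈ J) (c : C) : dev g c = 0 := by
  have key : ∀ k : ℕ, ∀ c m, (dev g c).coeff m ∈ J ^ (k + 1) := by
    intro k
    induction k with
    | zero => simpa using hJ
    | succ k ih =>
      intro c m
      have := dev_mem_mul hg _ ih c m
      rw [← pow_add] at this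
      exact Ideal.pow_le_pow_right (by omega) this
  obtain ⟨N, hN⟩ := hn
  ext m
  have := Ideal.pow_le_pow_right (Nat.le_succ N) (key N c m)
  rw [hN] at this
  simpa using this

theorem compat_of_chart {p : PrimeSpectrum R} (ch : Chart R A p) (f : C →ₐ[R] A)
    (hf : postComp (Bialgebra.comulAlgHom R A) (toConv f) =
      postComp (Algebra.TensorProduct.includeLeft : A →ₐ[R] A ⊗[R] A) (toConv f) *
        postComp Algebra.TensorProduct.includeRight (toConv f)) :
    Compat (toConv (ch.θ.comp f)) := by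
  let T : A ⊗[R] A →ₐ[R] MonoidAlgebra ch.R' ch.M ⊗[ch.R'] MonoidAlgebra ch.R' ch.M :=
    Algebra.TensorProduct.lift
      ((Algebra.TensorProduct.includeLeft : MonoidAlgebra ch.R' ch.M →ₐ[ch.R'] _ ⊗[ch.R'] MonoidAlgebra ch.R' ch.M).restrictScalars R |>.comp ch.θ)
      ((Algebra.TensorProduct.includeRight : MonoidAlgebra ch.R' ch.M →ₐ[ch.R'] MonoidAlgebra ch.R' ch.M ⊗[ch.R'] _).restrictScalars R |>.comp ch.θ)
      (fun _ _ => Commute.all _ _)
  have h := congrArg (postComp (C := C) T) hf
  rw [map_mul] at h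
  unfold Compat
  convert h using 1
  · apply WithConv.ofConv_injective
    ext c
    exact ch.comul_θ (f c)
  · congr 1 <;>
    · apply WithConv.ofConv_injective
      ext c
      simp [T, postComp]

theorem compat_bialgHom (φ : C →ₐc[R] A) :
    postComp (Bialgebra.comulAlgHom R A) (toConv (φ : C →ₐ[R] A)) =
      postComp (Algebra.TensorProduct.includeLeft : A →ₐ[R] A ⊗[R] A) (toConv (φ : C →ₐ[R] A)) *
        postComp Algebra.TensorProduct.includeRight (toConv (φ : C →ₐ[R] A)) := by
  apply WithConv.ofConv_injective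
  ext c
  show Coalgebra.comul (R := R) (φ c) = _
  rw [show Coalgebra.comul (R := R) (φ c) = TensorProduct.map (φ : C →ₗ[R] A) (φ : C →ₗ[R] A) (Coalgebra.comul (R := R) c) from
    (LinearMap.congr_fun φ.toCoalgHom.map_comp_comul c).symm]
  show _ = (postComp (Algebra.TensorProduct.includeLeft : A →ₐ[R] A ⊗[R] A) (toConv (φ : C →ₐ[R] A)) *
        postComp Algebra.TensorProduct.includeRight (toConv (φ : C →ₐ[R] A))).ofConv c
  rw [AlgHom.convMul_apply]
  induction Coalgebra.comul (R := R) c using TensorProduct.induction_on with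
  | zero => simp
  | add u v hu hv => simp only [map_add, hu, hv]
  | tmul x y => simp [postComp]

/-- The quotient of two homomorphisms is compatible when the source is cocommutative. -/
theorem compat_div [Coalgebra.IsCocomm R C] (φ ψ : C →ₐc[R] A) :
    let χ := (toConv (φ : C →ₐ[R] A))⁻¹ * toConv (ψ : C →ₐ[R] A)
    postComp (Bialgebra.comulAlgHom R A) χ =
      postComp (Algebra.TensorProduct.includeLeft : A →ₐ[R] A ⊗[R] A) χ *
        postComp Algebra.TensorProduct.includeRight χ := by
  intro χ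
  simp only [χ, map_mul, map_inv, compat_bialgHom φ, compat_bialgHom ψ]
  refine (congrArg₂ (fun a b : WithConv (C →ₐ[R] A ⊗[R] A) => a * b) (mul_inv_rev _ _) rfl).trans ?_
  exact (congrArg₂ (fun a b : WithConv (C →ₐ[R] A ⊗[R] A) => a * b) (mul_comm _ _) rfl).trans (mul_mul_mul_comm _ _ _ _)

omit [HopfAlgebra R A] in
/-- Two elements agree in `(R/I) ⊗ A` iff their difference lies in `I A`. -/
theorem quot_tmul_eq_iff [Algebra R A] (I : Ideal R) (a b : A) :
    (1 : R ⧸ I) ⊗ₜ[R] a = (1 : R ⧸ I) ⊗ₜ[R] b ↔ a - b ∈ I.map (algebraMap R A) := by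
  rw [← Ideal.Quotient.eq, ← Algebra.TensorProduct.quotIdealMapEquivQuotTensor_mk A I a,
    ← Algebra.TensorProduct.quotIdealMapEquivQuotTensor_mk A I b]
  exact (Algebra.TensorProduct.quotIdealMapEquivQuotTensor A I).injective.eq_iff

theorem Chart.θ_mem_map {p : PrimeSpectrum R} (ch : Chart R A p) (I : Ideal R) {a : A}
    (ha : a ∈ I.map (algebraMap R A)) :
    ch.θ a ∈ (I.map (algebraMap R ch.R')).map (algebraMap ch.R' (MonoidAlgebra ch.R' ch.M)) := by
  rw [Ideal.map_map, ← IsScalarTower.algebraMap_eq, ← AlgHom.comp_algebraMap ch.θ, ← Ideal.map_map]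
  exact Ideal.mem_map_of_mem _ ha

/-- The trivial map, up to compatibility. -/
theorem dev_chart {p : PrimeSpectrum R} (ch : Chart R A p) (f : C →ₐ[R] A) (c : C) :
    dev (toConv (ch.θ.comp f)) c = ch.θ (f c - algebraMap R A (counit c)) := by
  rw [map_sub, ch.θ.commutes]
  rfl

/-- Rigidity for nilpotent ideals. -/
theorem eq_counit_of_nilpotent {A : Type u} [CommRing A] [HopfAlgebra R A] (hH : SGA3b.IsMultType R A)
    (I : Ideal R) (hI : IsNilpotent I) (f : C →ₐ[R] A)
    (hf : postComp (Bialgebra.comulAlgHom R A) (toConv f) =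
      postComp (Algebra.TensorProduct.includeLeft : A →ₐ[R] A ⊗[R] A) (toConv f) *
        postComp Algebra.TensorProduct.includeRight (toConv f))
    (h0 : ∀ c, f c - algebraMap R A (counit c) ∈ I.map (algebraMap R A)) (c : C) :
    f c = algebraMap R A (counit c) := by
  rw [← sub_eq_zero]
  refine eq_zero_of_charts (R := R) _ fun p => ?_
  obtain ⟨ch⟩ := exists_chart hH p
  refine ⟨ch, ?_⟩
  rw [← dev_chart ch f c]
  refine dev_eq_zero_of_nilpotent (compat_of_chart ch f hf) (I.map (algebraMap R ch.R')) ?_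
    (fun d m => ?_) c
  · obtain ⟨n, hn⟩ := hI
    exact ⟨n, by rw [← Ideal.map_pow, hn]; simp⟩
  · rw [dev_chart]
    exact coeff_mem_of_mem_map _ (ch.θ_mem_map I (h0 d)) m

/-- Rigidity over a local ring. -/
theorem eq_counit_of_local [IsLocalRing R] {A : Type u} [CommRing A] [HopfAlgebra R A]
    (hH : SGA3b.IsMultType R A) (f : C →ₐ[R] A)
    (hf : postComp (Bialgebra.comulAlgHom R A) (toConv f) =
      postComp (Algebra.TensorProduct.includeLeft : A →ₐ[R] A ⊗[R] A) (toConv f) *
        postComp Algebra.TensorProduct.includeRight (toConv f))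
    (h0 : ∀ c, f c - algebraMap R A (counit c) ∈ (IsLocalRing.maximalIdeal R).map (algebraMap R A))
    (hfg : ∃ S : Finset C, ∀ c, f c - algebraMap R A (counit c) ∈
      Ideal.span ((fun d => f d - algebraMap R A (counit d)) '' (S : Set C))) (c : C) :
    f c = algebraMap R A (counit c) := by
  classical
  obtain ⟨ch⟩ := exists_chart hH ⟨IsLocalRing.maximalIdeal R, inferInstance⟩
  obtain ⟨S, hS⟩ := hfg
  let g := toConv (ch.θ.comp f)
  have hover : (IsLocalRing.maximalIdeal ch.R').comap (algebraMap R ch.R') = IsLocalRing.maximalIdeal R :=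
    ch.over
  have : IsLocalHom (algebraMap R ch.R') :=
    ((IsLocalRing.local_hom_TFAE (algebraMap R ch.R')).out 0 4).2 hover
  have : Module.FaithfullyFlat R ch.R' := Module.FaithfullyFlat.of_flat_of_isLocalHom
  let coeffs : Finset ch.R' := S.biUnion fun d => (dev g d).coeff.support.image (dev g d).coeff
  let J : Ideal ch.R' := Ideal.span (coeffs : Set ch.R')
  have hJS : ∀ d ∈ S, dev g d ∈ J.map (algebraMap ch.R' (MonoidAlgebra ch.R' ch.M)) := fun d hd => by
    rw [← MonoidAlgebra.sum_coeff_single (dev g d)]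
    refine sum_mem fun m hm => ?_
    rw [show MonoidAlgebra.single m ((dev g d).coeff m) =
      algebraMap ch.R' (MonoidAlgebra ch.R' ch.M) ((dev g d).coeff m) * MonoidAlgebra.single m 1 by simp]
    exact Ideal.mul_mem_right _ _ (Ideal.mem_map_of_mem _ (Ideal.subset_span
      (Finset.mem_biUnion.2 ⟨d, hd, Finset.mem_image.2 ⟨m, hm, rfl⟩⟩)))
  have hJall : ∀ d m, (dev g d).coeff m ∈ J := fun d m => by
    refine coeff_mem_of_mem_map J ?_ m
    rw [dev_chart]
    have h := Ideal.mem_map_of_mem (ch.θ : A →+* MonoidAlgebra ch.R' ch.M) (hS d)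
    rw [Ideal.map_span] at h
    refine Ideal.span_le.2 ?_ h
    rintro _ ⟨_, ⟨e, he, rfl⟩, rfl⟩
    have := hJS e he
    rwa [dev_chart] at this
  have hJle : J ≤ J • J := Ideal.span_le.2 fun r hr => by
    obtain ⟨d, _, m, _, rfl⟩ := (by simpa [coeffs] using hr :
      ∃ d ∈ S, ∃ m, ¬(dev g d).coeff m = 0 ∧ (dev g d).coeff m = r)
    rw [smul_eq_mul]
    exact dev_mem_mul (compat_of_chart ch f hf) J hJall d m
  have hJmax : J ≤ IsLocalRing.maximalIdeal ch.R' := Ideal.span_le.2 fun r hr => by
    obtain ⟨d, _, m, _, rfl⟩ := (by simpa [coeffs] using hr :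
      ∃ d ∈ S, ∃ m, ¬(dev g d).coeff m = 0 ∧ (dev g d).coeff m = r)
    refine Ideal.map_le_iff_le_comap.2 (le_of_eq hover.symm) (coeff_mem_of_mem_map _ ?_ m)
    rw [dev_chart]
    exact ch.θ_mem_map _ (h0 d)
  have hJ0 : J = ⊥ := Submodule.eq_bot_of_le_smul_of_le_jacobson_bot J J
    ⟨coeffs, rfl⟩ hJle (hJmax.trans (IsLocalRing.jacobson_eq_maximalIdeal ⊥ bot_ne_top).ge)
  rw [← sub_eq_zero]
  have hθ : ch.θ (f c - algebraMap R A (counit c)) = 0 := by
    rw [← dev_chart]
    ext m
    have := hJall c m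
    rw [hJ0, Ideal.mem_bot] at this
    simpa using this
  apply Module.FaithfullyFlat.tensorProduct_mk_injective (A := R) (B := ch.R') A
  apply ch.isBaseChange.equiv.injective
  rw [map_zero, TensorProduct.mk_apply, IsBaseChange.equiv_tmul, one_smul]
  simpa using hθ

/-- A finite set of generators controls the deviation. -/
theorem exists_finset_span_of_finiteType [Algebra.FiniteType R C] (f : C →ₐ[R] A) :
    ∃ S : Finset C, ∀ c, f c - algebraMap R A (counit c) ∈
      Ideal.span ((fun d => f d - algebraMap R A (counit d)) '' (S : Set C)) := by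
  obtain ⟨S, hS⟩ := Algebra.FiniteType.out (R := R) (A := C)
  refine ⟨S, fun c => ?_⟩
  let K := Ideal.span ((fun d => f d - algebraMap R A (counit d)) '' (S : Set C))
  rw [← Ideal.Quotient.eq]
  have : ((Ideal.Quotient.mkₐ R K).comp f) =
      (Ideal.Quotient.mkₐ R K).comp ((Algebra.ofId R A).comp (Bialgebra.counitAlgHom R C)) :=
    AlgHom.ext_of_adjoin_eq_top hS fun d hd => Ideal.Quotient.eq.2 (Ideal.subset_span ⟨d, hd, rfl⟩)
  exact DFunLike.congr_fun this c

/-- Noetherian sources control the deviation. -/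
theorem exists_finset_span_of_noetherian [IsNoetherianRing A] (f : C →ₐ[R] A) :
    ∃ S : Finset C, ∀ c, f c - algebraMap R A (counit c) ∈
      Ideal.span ((fun d => f d - algebraMap R A (counit d)) '' (S : Set C)) := by
  classical
  obtain ⟨T, hTsub, hT⟩ := Submodule.fg_span_iff_fg_span_finset_subset
    (R := A) (Set.range fun d => f d - algebraMap R A (counit d)) |>.1 (IsNoetherian.noetherian _)
  choose e he using fun t : T => hTsub t.2
  refine ⟨Finset.univ.image e, fun c => ?_⟩
  have h1 : f c - algebraMap R A (counit c) ∈ Submodule.span A (T : Set A) := hT ▸ Submodule.subset_span ⟨c, rfl⟩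
  refine Submodule.span_mono ?_ h1
  intro t ht
  exact ⟨e ⟨t, ht⟩, by simp, he ⟨t, ht⟩⟩

/-- Two maps agreeing modulo an ideal have trivial quotient modulo the ideal. -/
theorem div_sub_counit_mem [Coalgebra.IsCocomm R C] (φ ψ : C →ₐc[R] A) (K : Ideal A)
    (h : ∀ c, φ c - ψ c ∈ K) (c : C) :
    ((toConv (φ : C →ₐ[R] A))⁻¹ * toConv (ψ : C →ₐ[R] A)).ofConv c - algebraMap R A (counit c) ∈ K := by
  have hk : postComp (C := C) (Ideal.Quotient.mkₐ R K) (toConv (φ : C →ₐ[R] A)) =
      postComp (Ideal.Quotient.mkₐ R K) (toConv (ψ : C →ₐ[R] A)) := by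
    apply WithConv.ofConv_injective
    ext d
    exact Ideal.Quotient.eq.2 (h d)
  have h1 : postComp (C := C) (Ideal.Quotient.mkₐ R K)
      ((toConv (φ : C →ₐ[R] A))⁻¹ * toConv (ψ : C →ₐ[R] A)) = 1 := by
    rw [map_mul, ← hk, ← map_mul, inv_mul_cancel, map_one]
  rw [← Ideal.Quotient.eq]
  exact DFunLike.congr_fun (congrArg WithConv.ofConv h1) c

theorem eq_of_div_eq_counit [Coalgebra.IsCocomm R C] (φ ψ : C →ₐc[R] A)
    (h : ∀ c, ((toConv (φ : C →ₐ[R] A))⁻¹ * toConv (ψ : C →ₐ[R] A)).ofConv c = algebraMap R A (counit c)) :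
    φ = ψ := by
  have h1 : (toConv (φ : C →ₐ[R] A))⁻¹ * toConv (ψ : C →ₐ[R] A) = 1 := by
    apply WithConv.ofConv_injective
    ext c
    exact h c
  rw [inv_mul_eq_one] at h1
  ext c
  exact DFunLike.congr_fun (congrArg WithConv.ofConv h1) c

end Groth.Agent.MultHopf
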