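import Groth.Agent.MultHopf.KerSubgroup
import Groth.Agent.MultHopf.Rigid
import Groth.Agent.FinHopf.Power
import Mathlib.RingTheory.Ideal.Maps

/-!
# Kernels of homomorphisms out of diagonalisable groups into affine groups
-/

set_option autoImplicit false
set_option backward.isDefEq.respectTransparency.types false

universe u

open Coalgebra WithConv Groth.Agent.FinHopf
open scoped TensorProduct

namespace Groth.Agent.MultHopf

variable {R : Type u} [CommRing R] {A C D : Type u} [CommRing A] [HopfAlgebra R A] [CommRing C]
  [HopfAlgebra R C] [CommRing D] [Algebra R D]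

/-- Precomposition with a bialgebra map. -/
noncomputable def preC (φ : C →ₐc[R] A) : WithConv (A →ₐ[R] D) →* WithConv (C →ₐ[R] D) where
  toFun f := toConv (f.ofConv.comp (φ : C →ₐ[R] A))
  map_one' := by
    apply WithConv.ofConv_injective
    ext c
    simp [AlgHom.convOne_def]
  map_mul' f g := by
    apply WithConv.ofConv_injective
    ext c
    change (f * g).ofConv (φ c) = _
    rw [AlgHom.convMul_apply, AlgHom.convMul_apply, ← CoalgHomClass.map_comp_comul_apply]
    induction Coalgebra.comul (R := R) c using TensorProduct.induction_on with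
    | zero => simp
    | add x y hx hy => simp only [map_add, hx, hy]
    | tmul x y => simp

theorem comul_eq_incl_mul :
    toConv (Bialgebra.comulAlgHom R A) =
      toConv (Algebra.TensorProduct.includeLeft : A →ₐ[R] A ⊗[R] A) * toConv Algebra.TensorProduct.includeRight := by
  apply WithConv.ofConv_injective
  ext a
  rw [AlgHom.convMul_apply]
  change Coalgebra.comul a = _
  induction Coalgebra.comul (R := R) a using TensorProduct.induction_on with
  | zero => simp
  | add x y hx hy => rw [map_add, ← hx, ← hy]
  | tmul x y => simp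

theorem comul_bialgHom (φ : C →ₐc[R] A) :
    postComp (Bialgebra.comulAlgHom R A) (toConv (φ : C →ₐ[R] A)) =
      postComp (Algebra.TensorProduct.includeLeft : A →ₐ[R] A ⊗[R] A) (toConv (φ : C →ₐ[R] A)) *
        postComp Algebra.TensorProduct.includeRight (toConv (φ : C →ₐ[R] A)) :=
  (congrArg (preC φ) comul_eq_incl_mul).trans (map_mul (preC φ) _ _)

theorem antipode_bialgHom (φ : C →ₐc[R] A) (c : C) :
    φ (HopfAlgebraStruct.antipode R c) = HopfAlgebraStruct.antipode R (φ c) := by
  have h : postComp (C := C) (φ : C →ₐ[R] A) (toConv (AlgHom.id R C)) = preC φ (toConv (AlgHom.id R A)) := rfl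
  have h' := congrArg (·⁻¹) h
  simp only [← map_inv] at h'
  exact DFunLike.congr_fun (congrArg WithConv.ofConv h') c

/-- The ideal of the kernel of a bialgebra map. -/
noncomputable def kerJ (φ : C →ₐc[R] A) : Ideal A :=
  (RingHom.ker (Bialgebra.counitAlgHom R C)).map (φ : C →ₐ[R] A)

theorem kerJ_le_iff (φ : C →ₐc[R] A) (I : Ideal A) :
    kerJ φ ≤ I ↔ ∀ c : C, φ c - algebraMap R A (counit c) ∈ I := by
  rw [kerJ, Ideal.map_le_iff_le_comap]
  constructor
  · intro h c
    have := h (show c - algebraMap R C (counit c) ∈ RingHom.ker (Bialgebra.counitAlgHom R C) by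
      simp [RingHom.mem_ker])
    have e : φ (algebraMap R C (counit (R := R) c)) = algebraMap R A (counit (R := R) c) :=
      AlgHomClass.commutes φ _
    rw [← e, ← map_sub]
    exact this
  · intro h c hc
    have := h c
    rwa [show counit (R := R) c = 0 from hc, map_zero, sub_zero] at this

theorem kerJ_isHopfIdeal (φ : C →ₐc[R] A) : (kerJ φ).IsHopfIdeal R := by
  refine @Ideal.IsHopfIdeal.mk R A _ _ _ (kerJ φ) ⟨fun x hx => ?_, fun x hx => ?_⟩ (fun x hx => ?_)
  · have h : kerJ φ ≤ RingHom.ker (Bialgebra.counitAlgHom R A) :=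
      (kerJ_le_iff φ _).2 fun c => by simp [RingHom.mem_ker]
    exact h hx
  · let mk : A →ₐ[R] A ⧸ kerJ φ := Ideal.Quotient.mkₐ R _
    let ψ : A →ₐ[R] (A ⧸ kerJ φ) ⊗[R] (A ⧸ kerJ φ) :=
      (Algebra.TensorProduct.map mk mk).comp (Bialgebra.comulAlgHom R A)
    have hmk : ∀ c, mk (φ c) = algebraMap R _ (counit (R := R) c) := fun c => by
      exact Ideal.Quotient.eq.2 ((kerJ_le_iff φ _).1 le_rfl c)
    have h : kerJ φ ≤ RingHom.ker ψ := by
      refine (kerJ_le_iff φ _).2 fun c => ?_
      rw [RingHom.mem_ker, map_sub, AlgHom.commutes, sub_eq_zero]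
      change Algebra.TensorProduct.map mk mk (Coalgebra.comul (φ c)) = _
      rw [← CoalgHomClass.map_comp_comul_apply]
      have hw : ∀ w : C ⊗[R] C, Algebra.TensorProduct.map mk mk
          (TensorProduct.map ((φ : C →ₐc[R] A) : C →ₗ[R] A) ((φ : C →ₐc[R] A) : C →ₗ[R] A) w) =
            algebraMap R _ (counit (TensorProduct.rid R C (LinearMap.lTensor C counit w))) := by
        intro w
        induction w using TensorProduct.induction_on with
        | zero => simp
        | add x y hx hy => simp only [map_add, hx, hy]
        | tmul x y =>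
          simp [hmk, Algebra.TensorProduct.algebraMap_apply, Algebra.algebraMap_eq_smul_one,
            TensorProduct.smul_tmul', TensorProduct.tmul_smul, smul_smul, mul_comm,
            Algebra.TensorProduct.one_def]
      rw [hw, Coalgebra.lTensor_counit_comul]
      simp
    exact h hx
  · have h : kerJ φ ≤ (kerJ φ).comap (HopfAlgebra.antipodeAlgHom R A) := by
      refine (kerJ_le_iff φ _).2 fun c => ?_
      rw [Ideal.mem_comap, map_sub, AlgHom.commutes]
      change HopfAlgebraStruct.antipode R (φ c) - _ ∈ _
      rw [← antipode_bialgHom, ← HopfAlgebra.counit_antipode (R := R) c]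
      exact (kerJ_le_iff φ _).1 le_rfl _
    exact h hx

end Groth.Agent.MultHopf
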