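import Groth.Agent.MultHopf.FormalIso
import Groth.Agent.FpqcDescent.Amitsur
import Groth.Agent.MultHopf.KerAlg
import Mathlib.RingTheory.Flat.Localization

/-!
# The clopen subgroup of multiplicative type of a group over a complete ring

A group which is flat along the closed fibre and isotrivial of multiplicative type modulo `I` contains an open and
closed isotrivial subgroup of multiplicative type.
-/

set_option autoImplicit false
set_option backward.isDefEq.respectTransparency.types false

universe u

open scoped TensorProduct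
open SGA3b Coalgebra WithConv
open Algebra.TensorProduct (includeLeft includeRight)

namespace Groth.Agent.MultHopf

variable {R : Type u} [CommRing R] {C : Type u} [CommRing C]

/-- Flatness along the closed fibre gives flatness modulo the powers of the ideal. -/
theorem flat_quot_of_flat_at [Algebra R C] (I : Ideal R)
    (hfl : ∀ (q : Ideal C) [q.IsPrime], Ideal.map (algebraMap R C) I ≤ q → Module.Flat R (Localization.AtPrime q))
    (n : ℕ) : Module.Flat (R ⧸ I ^ (n + 1)) ((R ⧸ I ^ (n + 1)) ⊗[R] C) := by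
  let Q := R ⧸ I ^ (n + 1)
  rw [Module.Flat.iff_lTensor_injective']
  intro a
  let f : a →ₗ[R] Q := a.subtype.restrictScalars R
  have key : Function.Injective (f.lTensor C) := by
    refine (injective_iff_map_eq_zero _).2 fun z hz => ?_
    let N : Ideal C := (Submodule.span C {z}).annihilator
    suffices h : N = ⊤ by
      have h1 : (1 : C) ∈ N := h ▸ Submodule.mem_top
      rwa [Submodule.mem_annihilator_span_singleton, one_smul] at h1
    by_contra hne
    obtain ⟨q, hq, hle⟩ := Ideal.exists_le_maximal _ hne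
    have hnot : ∀ c ∉ q, c • z ≠ 0 := fun c hc h => hc (hle ((Submodule.mem_annihilator_span_singleton _ _).2 h))
    by_cases hI : Ideal.map (algebraMap R C) I ≤ q
    · have := hfl q hI
      let L := Localization.AtPrime q
      let g : C ⊗[R] a →ₗ[C] L ⊗[R] a := TensorProduct.AlgebraTensorModule.rTensor R a (Algebra.linearMap C L)
      have h0 : g z = 0 := by
        refine Module.Flat.lTensor_preserves_injective_linearMap (M := L) f a.subtype_injective ?_
        rw [map_zero]
        show f.lTensor L (((Algebra.linearMap C L).restrictScalars R).rTensor a z) = 0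
        rw [← LinearMap.comp_apply, LinearMap.lTensor_comp_rTensor, ← LinearMap.rTensor_comp_lTensor,
          LinearMap.comp_apply, hz, map_zero]
      obtain ⟨c, hc⟩ := (IsLocalizedModule.eq_zero_iff q.primeCompl g).1 h0
      exact hnot c.1 c.2 hc
    · obtain ⟨r, hr, hrq⟩ := SetLike.not_le_iff_exists.1 (fun h : I ≤ q.comap (algebraMap R C) => hI (Ideal.map_le_iff_le_comap.2 h))
      refine hnot (algebraMap R C (r ^ (n + 1))) (fun h => hrq (hq.isPrime.mem_of_pow_mem (n + 1) (by rwa [← map_pow]))) ?_
      rw [algebraMap_smul]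
      clear hz hnot hle hne
      induction z using TensorProduct.induction_on with
      | zero => rw [smul_zero]
      | add u v hu hv => rw [smul_add, hu, hv, add_zero]
      | tmul c x =>
        rw [← TensorProduct.tmul_smul, show r ^ (n + 1) • x = 0 from Subtype.ext ?_, TensorProduct.tmul_zero]
        show r ^ (n + 1) • (x : Q) = 0
        rw [Algebra.smul_def, show algebraMap R Q (r ^ (n + 1)) = 0 from
          Ideal.Quotient.eq_zero_iff_mem.2 (Ideal.pow_mem_pow hr _), zero_mul]
  let e₁ : ∀ (X : Type u) [AddCommGroup X] [Module Q X] [Module R X] [IsScalarTower R Q X],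
      (Q ⊗[R] C) ⊗[Q] X ≃ₗ[R] C ⊗[R] X := fun X _ _ _ _ =>
    ((TensorProduct.comm Q _ _).trans (TensorProduct.AlgebraTensorModule.cancelBaseChange R Q Q X C)).restrictScalars R
      ≪≫ₗ TensorProduct.comm R X C
  have hcomm : ∀ w, e₁ Q (a.subtype.lTensor (Q ⊗[R] C) w) = f.lTensor C (e₁ a w) := fun w => by
    induction w using TensorProduct.induction_on with
    | zero => simp only [LinearMap.map_zero, LinearEquiv.map_zero]
    | add u v hu hv => simp only [LinearMap.map_add, LinearEquiv.map_add, hu, hv]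
    | tmul y x =>
      induction y using TensorProduct.induction_on with
      | zero => simp only [TensorProduct.zero_tmul, LinearMap.map_zero, LinearEquiv.map_zero]
      | add u v hu hv => simp only [TensorProduct.add_tmul, LinearMap.map_add, LinearEquiv.map_add, hu, hv]
      | tmul t c =>
        simp [e₁, f]
        rfl
  intro v w hvw
  exact (e₁ a).injective (key (by rw [← hcomm, ← hcomm, hvw]))

section

variable [HopfAlgebra R C] {S : Type u} [CommRing S] [Algebra R S] {N : Type u} [CommGroup N]

/-- The kernel of the formal splitting is locally zero or everything. -/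
theorem exists_ker_idem [IsNoetherianRing S] [Algebra.FiniteType R C]
    (φ : S ⊗[R] C →ₐc[S] MonoidAlgebra S N) (hφ : Function.Surjective φ) {s : S ⊗[R] C}
    (hs : counit (R := S) s = 1) (hsφ : ∀ x, φ x = 0 → s * x = 0) :
    ∃ e : S ⊗[R] C, IsIdempotentElem e ∧ ∀ z, φ z = 0 ↔ z = z * e := by
  classical
  let B := S ⊗[R] C
  have : IsNoetherianRing B := Algebra.FiniteType.isNoetherianRing S _
  let φA : B →ₐ[S] MonoidAlgebra S N := φ
  let J : Ideal B := RingHom.ker φA
  have hone : J ⊔ J.annihilator = ⊤ := by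
    by_contra hne
    obtain ⟨q, hq, hle⟩ := Ideal.exists_le_maximal _ hne
    let K := AlgebraicClosure q.ResidueField
    let g : B →ₐ[S] K := IsScalarTower.toAlgHom S B K
    have hgq : ∀ x, g x = 0 ↔ x ∈ q := fun x => by
      show algebraMap B K x = 0 ↔ _
      rw [IsScalarTower.algebraMap_apply B q.ResidueField K, map_eq_zero_iff _ (algebraMap q.ResidueField K).injective,
        Ideal.algebraMap_residueField_eq_zero]
    let g' : K ⊗[S] B →ₐ[K] K := Algebra.TensorProduct.lift (AlgHom.id K K) g fun _ _ => Commute.all _ _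
    let ψ : K ⊗[S] B →ₐc[K] MonoidAlgebra K N :=
      ((baseChangeGroupAlgebra S K N).symm : _ →ₐc[K] _).comp (Bialgebra.TensorProduct.map (BialgHom.id K K) φ)
    have hψ : ∀ z, ψ z = (baseChangeGroupAlgebra S K N).symm (φA.toLinearMap.lTensor K z) := fun z => by
      show (baseChangeGroupAlgebra S K N).symm (Bialgebra.TensorProduct.map (BialgHom.id K K) φ z) = _
      congr 1
    have hψs : Function.Surjective ψ := fun w => by
      obtain ⟨z, hz⟩ := LinearMap.lTensor_surjective K (g := φA.toLinearMap) hφ (baseChangeGroupAlgebra S K N w)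
      exact ⟨z, by rw [hψ, hz, BialgEquiv.symm_apply_apply]⟩
    let incl : K ⊗[S] J.restrictScalars S →ₗ[S] K ⊗[S] B := (J.restrictScalars S).subtype.lTensor K
    have hker : ∀ z, ψ z = 0 → z ∈ LinearMap.range incl := fun z hz => by
      rw [← (mem_ker_lTensor φA hφ K).2, LinearMap.mem_ker]
      rw [hψ] at hz
      exact Function.LeftInverse.injective (baseChangeGroupAlgebra S K N).apply_symm_apply (hz.trans (map_zero _).symm)
    have hker' : ∀ w, ψ (incl w) = 0 := fun w => by
      rw [hψ, show φA.toLinearMap.lTensor K (incl w) = 0 from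
        LinearMap.mem_ker.1 (by rw [(mem_ker_lTensor φA hφ K).2]; exact ⟨w, rfl⟩), map_zero]
    have hkill : ∀ z, ψ z = 0 → ((1 : K) ⊗ₜ[S] s) * z = 0 := fun z hz => by
      obtain ⟨w, rfl⟩ := hker z hz
      clear hz
      induction w using TensorProduct.induction_on with
      | zero => simp
      | add a b ha hb => rw [map_add, mul_add, ha, hb, add_zero]
      | tmul a x =>
        rw [LinearMap.lTensor_tmul, Algebra.TensorProduct.tmul_mul_tmul]
        show (1 * a) ⊗ₜ[S] (s * x.1) = 0
        rw [hsφ x.1 x.2, TensorProduct.tmul_zero]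
    have hg'ker : ∀ z, ψ z = 0 → g' z = 0 := fun z hz => by
      obtain ⟨w, rfl⟩ := hker z hz
      clear hz
      induction w using TensorProduct.induction_on with
      | zero => simp
      | add a b ha hb => rw [map_add, map_add, ha, hb, add_zero]
      | tmul a x =>
        have : g x.1 = 0 := (hgq _).2 (hle (Ideal.mem_sup_left x.2))
        simp [incl, g', this]
    let g'' : K ⊗[S] B →ₐ[K] K := g'.comp (HopfAlgebra.antipodeAlgHom K (K ⊗[S] B))
    let u := translate g'' ((1 : K) ⊗ₜ[S] s)
    have hu1 : g' u = 1 := by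
      rw [apply_translate g' g'' (antipode_inv' g') _]
      simp [hs, Algebra.smul_def]
    have hu : ∀ z, ψ z = 0 → u * z = 0 := fun z hz => by
      rw [← translate_translate g' g'' (antipode_inv g') z, ← map_mul,
        hkill _ (translate_mem_ker ψ g' hg'ker hψs hz), map_zero]
    -- the fibre of the kernel at `q` vanishes
    have hzero : ∀ y : J, (1 : K) ⊗ₜ[B] y = 0 := fun y => by
      let L : K ⊗[S] B →ₗ[S] K ⊗[S] J.restrictScalars S :=
        (LinearMap.toSpanSingleton B (J : Submodule B B) y).restrictScalars S |>.lTensor K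
      let β : K ⊗[S] J.restrictScalars S →ₗ[S] K ⊗[B] J :=
        TensorProduct.lift (LinearMap.mk₂ S (fun a (x : J.restrictScalars S) => a ⊗ₜ[B] (⟨x.1, x.2⟩ : J))
          (fun a b x => TensorProduct.add_tmul a b _)
          (fun r a x => by rw [TensorProduct.smul_tmul'])
          (fun a x x' => by rw [← TensorProduct.tmul_add]; rfl)
          (fun r a x => by rw [← TensorProduct.tmul_smul]; rfl))
      have hL : ∀ w, incl (L w) = w * ((1 : K) ⊗ₜ[S] (y : B)) := fun w => by
        induction w using TensorProduct.induction_on with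
        | zero => simp
        | add a b ha hb => rw [map_add, map_add, add_mul, ha, hb]
        | tmul a c =>
          simp [L, incl]
          rfl
      have hβ : ∀ w, β (L w) = g' w ⊗ₜ[B] y := fun w => by
        induction w using TensorProduct.induction_on with
        | zero => simp
        | add a b ha hb => rw [map_add, map_add, map_add, TensorProduct.add_tmul, ha, hb]
        | tmul a c =>
          show a ⊗ₜ[B] (c • y) = g' (a ⊗ₜ[S] c) ⊗ₜ[B] y
          rw [← TensorProduct.smul_tmul, Algebra.smul_def, mul_comm]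
          simp [g', g]
      have h1 : L u = 0 := (mem_ker_lTensor φA hφ K).1 (by
        show incl (L u) = incl 0
        rw [map_zero, hL, hu _ ?_]
        have := hker' ((1 : K) ⊗ₜ[S] (⟨y.1, y.2⟩ : J.restrictScalars S))
        simpa [incl] using this)
      rw [← hu1, ← hβ, h1, map_zero]
    have hsub : Subsingleton (q.ResidueField ⊗[B] J) := by
      have hK : Subsingleton (K ⊗[B] J) := subsingleton_of_forall_eq 0 fun z => by
        induction z using TensorProduct.induction_on with
        | zero => rfl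
        | add a b ha hb => rw [ha, hb, add_zero]
        | tmul k x =>
          rw [show k ⊗ₜ[B] x = k • ((1 : K) ⊗ₜ[B] x) by rw [TensorProduct.smul_tmul', smul_eq_mul, mul_one],
            hzero, smul_zero]
      let e := (TensorProduct.AlgebraTensorModule.cancelBaseChange B q.ResidueField K K J)
      have : Subsingleton (K ⊗[q.ResidueField] (q.ResidueField ⊗[B] J)) := e.toEquiv.subsingleton
      exact Module.FaithfullyFlat.lTensor_reflects_triviality q.ResidueField K (q.ResidueField ⊗[B] J)
    have hns : (⟨q, inferInstance⟩ : PrimeSpectrum B) ∉ Module.support B J := fun h => by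
      have := (Module.mem_support_iff_nontrivial_residueField_tensorProduct _).1 h
      exact not_subsingleton (q.ResidueField ⊗[B] J) hsub
    rw [Module.support_eq_zeroLocus, PrimeSpectrum.mem_zeroLocus, Set.not_subset] at hns
    obtain ⟨c, hc, hcq⟩ := hns
    exact hcq (hle (Ideal.mem_sup_right hc))
  obtain ⟨j, hj, a, ha, hja⟩ := Submodule.mem_sup.1 ((Ideal.eq_top_iff_one _).1 hone)
  have hmul : ∀ x ∈ J, x = x * j := fun x hx => by
    have h1 : a * x = 0 := by
      have := Submodule.mem_annihilator.1 ha x hx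
      rwa [smul_eq_mul] at this
    calc x = x * (j + a) := by rw [hja, mul_one]
      _ = x * j := by rw [mul_add, mul_comm x a, h1, add_zero]
  refine ⟨j, (hmul j hj).symm, fun z => ⟨fun hz => hmul z hz, fun hz => ?_⟩⟩
  show φA z = 0
  rw [hz, map_mul, show φA j = 0 from hj, mul_zero]

/-- A section of the projection onto the clopen subgroup. -/
theorem exists_section (φ : S ⊗[R] C →ₐc[S] MonoidAlgebra S N) (hφ : Function.Surjective φ) {e : S ⊗[R] C}
    (he : ∀ z, φ z = 0 ↔ z = z * e) :
    ∃ σ : MonoidAlgebra S N →ₗ[S] S ⊗[R] C, ∀ z, σ (φ z) = z * (1 - e) := by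
  let φA : S ⊗[R] C →ₐ[S] MonoidAlgebra S N := φ
  choose pre hpre using hφ
  have hpre' : ∀ x, φA (pre x) = x := hpre
  refine ⟨{ toFun := fun w => pre w * (1 - e), map_add' := fun v w => ?_, map_smul' := fun r w => ?_ }, fun z => ?_⟩
  · rw [← add_mul, ← sub_eq_zero, ← sub_mul, mul_sub, mul_one, sub_eq_zero, ← he]
    show φA _ = 0
    simp only [map_sub, map_add, hpre', sub_self]
  · rw [RingHom.id_apply, ← smul_mul_assoc, ← sub_eq_zero, ← sub_mul, mul_sub, mul_one, sub_eq_zero, ← he]
    show φA _ = 0
    simp only [map_sub, map_smul, hpre', sub_self]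
  · show pre (φ z) * (1 - e) = z * (1 - e)
    rw [← sub_eq_zero, ← sub_mul, mul_sub, mul_one, sub_eq_zero, ← he]
    show φA _ = 0
    rw [map_sub, show ∀ x, φA (pre x) = x from hpre]
    exact sub_self _

/-- An idempotent of the group algebra in an ideal which lies in the radical is trivial. -/
theorem eq_zero_of_idem_mem [IsNoetherianRing R] (I : Ideal R) [IsAdicComplete I R] {T : Type u} [CommRing T]
    [Algebra R T] [Module.Finite R T] {x : MonoidAlgebra T N} (hx : IsIdempotentElem x)
    (hI : x ∈ I.map (algebraMap R (MonoidAlgebra T N))) : x = 0 := by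
  refine eq_zero_of_forall_mem I ((MonoidAlgebra.coeffLinearEquiv T).restrictScalars R).toLinearMap
    ((MonoidAlgebra.coeffLinearEquiv T).restrictScalars R).injective x fun n => ?_
  rw [Ideal.map_pow, ← hx.pow_succ_eq n]
  exact Ideal.pow_mem_pow hI _

/-- The two pullbacks of the idempotent agree. -/
theorem map_idem_eq [IsNoetherianRing R] (I : Ideal R) [IsAdicComplete I R] [Module.Finite R S]
    (φ : S ⊗[R] C →ₐc[S] MonoidAlgebra S N) (hφ : Function.Surjective φ) {e : S ⊗[R] C}
    (hid : IsIdempotentElem e) (he : ∀ z, φ z = 0 ↔ z = z * e) (heI : e ∈ I.map (algebraMap R (S ⊗[R] C)))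
    (i j : S →ₐ[R] S ⊗[R] S) :
    Algebra.TensorProduct.map j (AlgHom.id R C) e =
      Algebra.TensorProduct.map j (AlgHom.id R C) e * Algebra.TensorProduct.map i (AlgHom.id R C) e := by
  classical
  let T := S ⊗[R] S
  obtain ⟨σ, hσ⟩ := exists_section φ hφ he
  let φA : S ⊗[R] C →ₐ[S] MonoidAlgebra S N := φ
  let Mi := Algebra.TensorProduct.map i (AlgHom.id R C)
  let ψ : T ⊗[R] C →ₐ[T] MonoidAlgebra T N := Algebra.TensorProduct.lift (Algebra.ofId T _)
    ((MonoidAlgebra.mapAlgHom N i).comp ((φA.restrictScalars R).comp includeRight)) fun _ _ => Commute.all _ _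
  let L : MonoidAlgebra T N →ₗ[T] T ⊗[R] C :=
    Finsupp.linearCombination T (fun n => Mi (σ (MonoidAlgebra.single n 1))) ∘ₗ (MonoidAlgebra.coeffLinearEquiv T).toLinearMap
  have hL1 : ∀ w, L (MonoidAlgebra.mapAlgHom N i w) = Mi (σ w) := fun w => by
    induction w using MonoidAlgebra.induction_linear with
    | zero => simp
    | add a b ha hb => rw [map_add, map_add, map_add, map_add, ha, hb]
    | single n r =>
      rw [show MonoidAlgebra.single n r = r • MonoidAlgebra.single n (1 : S) by simp, map_smul σ, Algebra.smul_def (A := S ⊗[R] C),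
        map_mul Mi]
      simp [L, Mi, Algebra.smul_def]
      exact Algebra.smul_def (A := (S ⊗[R] S) ⊗[R] C) _ _
  have hL : ∀ z, L (ψ z) = z * Mi (1 - e) := fun z => by
    induction z using TensorProduct.induction_on with
    | zero => simp
    | add a b ha hb => rw [map_add, map_add, add_mul, ha, hb]
    | tmul t c =>
      have h1 : ψ (t ⊗ₜ[R] c) = t • MonoidAlgebra.mapAlgHom N i (φA ((1 : S) ⊗ₜ[R] c)) := by
        simp [ψ, Algebra.smul_def, Algebra.ofId_apply]; rfl
      rw [h1, map_smul, hL1, show σ (φA ((1 : S) ⊗ₜ[R] c)) = _ from hσ _, map_mul, ← smul_mul_assoc]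
      simp [Mi, TensorProduct.smul_tmul']
  have hzero : ψ (Algebra.TensorProduct.map j (AlgHom.id R C) e) = 0 := by
    refine eq_zero_of_idem_mem I ((hid.map _).map _) ?_
    let k : S ⊗[R] C →ₐ[R] MonoidAlgebra T N :=
      (ψ.restrictScalars R).comp (Algebra.TensorProduct.map j (AlgHom.id R C))
    exact map_mem_of_linear k.toLinearMap I heI
  have h2 := hL (Algebra.TensorProduct.map j (AlgHom.id R C) e)
  rw [hzero, map_zero, map_sub, map_one, mul_sub, mul_one] at h2
  exact sub_eq_zero.1 h2.symm

end

/-- The clopen isotrivial subgroup of a group over a complete Noetherian ring. -/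
theorem exists_clopen_formal [HopfAlgebra R C] [IsNoetherianRing R] (I : Ideal R) [IsAdicComplete I R] [Algebra.FiniteType R C]
    (hfl : ∀ (q : Ideal C) [q.IsPrime], Ideal.map (algebraMap R C) I ≤ q → Module.Flat R (Localization.AtPrime q))
    (h0 : IsIsotrivial (R ⧸ I) ((R ⧸ I) ⊗[R] C)) :
    ∃ e : C, IsIdempotentElem e ∧ e ∈ Ideal.map (algebraMap R C) I ∧
      ∃ (S : Type u) (_ : CommRing S) (_ : Algebra R S) (_ : Module.Finite R S), Algebra.Etale R S ∧ Module.FaithfullyFlat R S ∧
      ∃ (N : Type u) (_ : CommGroup N) (φ : S ⊗[R] C →ₐc[S] MonoidAlgebra S N), Function.Surjective φ ∧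
        ∀ z, φ z = 0 ↔ z = z * ((1 : S) ⊗ₜ[R] e) := by
  classical
  obtain ⟨S, _, _, hfin, _, het, hff, hJ, N, _, φ, hφ, hinj, s, hs, hsφ⟩ :=
    exists_formal_split' I (flat_quot_of_flat_at I hfl) h0
  obtain ⟨e₁, hid, he⟩ := exists_ker_idem φ hφ hs hsφ
  let J := I.map (algebraMap R S) ^ (0 + 1)
  have hJ' : J = I.map (algebraMap R S) := by simp [J]
  have he₁I : e₁ ∈ I.map (algebraMap R (S ⊗[R] C)) := by
    have h1 : (1 : S ⧸ J) ⊗ₜ[S] e₁ = 0 := hinj (by
      rw [LinearMap.lTensor_tmul, map_zero]
      show (1 : S ⧸ J) ⊗ₜ[S] φ e₁ = 0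
      rw [(he e₁).2 hid.eq.symm, TensorProduct.tmul_zero])
    rw [← mem_smul_top_iff_tmul, hJ', Ideal.smul_top_eq_map, map_map_algebraMap] at h1
    exact h1
  have heq : Algebra.TensorProduct.map (includeLeft : S →ₐ[R] S ⊗[R] S) (AlgHom.id R C) e₁ =
      Algebra.TensorProduct.map (includeRight : S →ₐ[R] S ⊗[R] S) (AlgHom.id R C) e₁ := by
    rw [map_idem_eq I φ hφ hid he he₁I includeRight includeLeft, mul_comm,
      ← map_idem_eq I φ hφ hid he he₁I includeLeft includeRight]
  obtain ⟨e, hee⟩ := FpqcDescent.Amitsur.mem_range_mk R S C e₁ (by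
    let α := TensorProduct.assoc R S S C
    have h1 : ∀ w : S ⊗[R] C, α (Algebra.TensorProduct.map (includeRight : S →ₐ[R] S ⊗[R] S) (AlgHom.id R C) w) =
        TensorProduct.mk R S (S ⊗[R] C) 1 w := fun w => by
      induction w using TensorProduct.induction_on with
      | zero => simp
      | add a b ha hb => simp only [map_add, ha, hb]
      | tmul a c => simp [α]
    have h2 : ∀ w : S ⊗[R] C, α (Algebra.TensorProduct.map (includeLeft : S →ₐ[R] S ⊗[R] S) (AlgHom.id R C) w) =
        LinearMap.lTensor S (TensorProduct.mk R S C 1) w := fun w => by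
      induction w using TensorProduct.induction_on with
      | zero => simp
      | add a b ha hb => simp only [map_add, ha, hb]
      | tmul a c => simp [α]
    rw [← h1, ← h2, heq])
  rw [TensorProduct.mk_apply] at hee
  have hinjC : Function.Injective (TensorProduct.mk R S C 1) := Module.FaithfullyFlat.tensorProduct_mk_injective C
  have hide : IsIdempotentElem e := hinjC (by
    show (1 : S) ⊗ₜ[R] (e * e) = (1 : S) ⊗ₜ[R] e
    rw [← one_mul (1 : S), ← Algebra.TensorProduct.tmul_mul_tmul, one_mul, hee, hid.eq])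
  have heI : e ∈ Ideal.map (algebraMap R C) I := by
    rw [← Ideal.Quotient.eq_zero_iff_mem]
    let q := Ideal.Quotient.mkₐ R (Ideal.map (algebraMap R C) I)
    let Q := Algebra.TensorProduct.map (AlgHom.id R S) q
    apply Module.FaithfullyFlat.tensorProduct_mk_injective (A := R) (B := S) _
    rw [map_zero]
    show Q ((1 : S) ⊗ₜ[R] e) = 0
    have h1 := map_mem_of_linear Q.toLinearMap I he₁I
    have h2 : I.map (algebraMap R (S ⊗[R] (C ⧸ Ideal.map (algebraMap R C) I))) = ⊥ := by
      rw [Ideal.map_eq_bot_iff_le_ker]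
      intro r hr
      rw [RingHom.mem_ker, Algebra.algebraMap_eq_smul_one, Algebra.TensorProduct.one_def, ← TensorProduct.tmul_smul,
        show r • (1 : C ⧸ Ideal.map (algebraMap R C) I) = 0 from
          (Algebra.algebraMap_eq_smul_one r).symm.trans (Ideal.Quotient.eq_zero_iff_mem.2 (Ideal.mem_map_of_mem _ hr)),
        TensorProduct.tmul_zero]
    rw [h2, Ideal.mem_bot] at h1
    rw [hee]
    exact h1
  exact ⟨e, hide, heI, S, inferInstance, inferInstance, hfin, het, hff, N, inferInstance, φ, hφ, by rw [hee]; exact he⟩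

variable [HopfAlgebra R C] {S : Type u} [CommRing S] [Algebra R S] [Module.FaithfullyFlat R S] {N : Type u} [CommGroup N]

/-- The comultiplication identity of the clopen subgroup. -/
theorem comul_idem_mul (φ : S ⊗[R] C →ₐc[S] MonoidAlgebra S N) (hφ : Function.Surjective φ) {e : C}
    (hid : IsIdempotentElem e) (he : ∀ z, φ z = 0 ↔ z = z * ((1 : S) ⊗ₜ[R] e)) :
    comul (R := R) e * ((1 - e) ⊗ₜ[R] (1 - e)) = 0 := by
  obtain ⟨σ, hσ⟩ := exists_section φ hφ he
  let δ := TensorProduct.AlgebraTensorModule.distribBaseChange R S C C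
  have hδ : ∀ w : C ⊗[R] C, δ ((1 : S) ⊗ₜ[R] (w * ((1 - e) ⊗ₜ[R] (1 - e)))) =
      TensorProduct.map σ σ (TensorProduct.map φ.toCoalgHom.toLinearMap φ.toCoalgHom.toLinearMap (δ ((1 : S) ⊗ₜ[R] w))) :=
    fun w => by
    induction w using TensorProduct.induction_on with
    | zero => simp
    | add a b ha hb => rw [add_mul, TensorProduct.tmul_add, map_add, ha, hb, TensorProduct.tmul_add, map_add, map_add, map_add]
    | tmul a b =>
      simp only [Algebra.TensorProduct.tmul_mul_tmul]
      simp only [δ, TensorProduct.AlgebraTensorModule.distribBaseChange_tmul, TensorProduct.map_tmul]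
      show _ = σ (φ _) ⊗ₜ[S] σ (φ _)
      rw [hσ, hσ]
      simp [mul_sub, TensorProduct.tmul_sub]
  apply Module.FaithfullyFlat.tensorProduct_mk_injective (A := R) (B := S) (C ⊗[R] C)
  apply δ.injective
  simp only [TensorProduct.mk_apply, TensorProduct.tmul_zero, map_zero]
  rw [hδ]
  have h1 : δ ((1 : S) ⊗ₜ[R] comul (R := R) e) = comul (R := S) ((1 : S) ⊗ₜ[R] e) := by
    rw [TensorProduct.comul_tmul, CommSemiring.comul_apply]
    induction comul (R := R) e using TensorProduct.induction_on with
    | zero => simp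
    | add a b ha hb => simp only [TensorProduct.tmul_add, map_add, ha, hb]
    | tmul a b => simp [δ]
  rw [h1, show TensorProduct.map φ.toCoalgHom.toLinearMap φ.toCoalgHom.toLinearMap (comul (R := S) ((1 : S) ⊗ₜ[R] e)) =
      comul (R := S) (φ ((1 : S) ⊗ₜ[R] e)) from LinearMap.congr_fun φ.toCoalgHom.map_comp_comul _,
    (he _).2 (by rw [Algebra.TensorProduct.tmul_mul_tmul, one_mul, hid.eq]), map_zero, map_zero]

/-- The clopen subgroup is a subgroup. -/
theorem isHopfIdeal_idem (φ : S ⊗[R] C →ₐc[S] MonoidAlgebra S N) (hφ : Function.Surjective φ) {e : C}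
    (hid : IsIdempotentElem e) (he : ∀ z, φ z = 0 ↔ z = z * ((1 : S) ⊗ₜ[R] e)) :
    (Ideal.span {e}).IsHopfIdeal R := by
  let φA : S ⊗[R] C →ₐ[S] MonoidAlgebra S N := φ
  have hmem : ∀ x ∈ Ideal.span {e}, φ ((1 : S) ⊗ₜ[R] x) = 0 := fun x hx => by
    obtain ⟨c, rfl⟩ := Ideal.mem_span_singleton'.1 hx
    rw [he, Algebra.TensorProduct.tmul_mul_tmul, one_mul, mul_assoc, hid.eq]
  refine @Ideal.IsHopfIdeal.mk R C _ _ _ (Ideal.span {e}) ⟨fun x hx => ?_, fun x hx => ?_⟩ (fun x hx => ?_)
  · apply (FaithfulSMul.algebraMap_injective R S)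
    have h := CoalgHomClass.counit_comp_apply (R := S) φ ((1 : S) ⊗ₜ[R] x)
    rw [hmem x hx, map_zero] at h
    rw [map_zero]
    refine Eq.trans ?_ h.symm
    simp [Algebra.algebraMap_eq_smul_one]
  · let mk : C →ₐ[R] C ⧸ Ideal.span {e} := Ideal.Quotient.mkₐ R _
    show Algebra.TensorProduct.map mk mk (comul (R := R) x) = 0
    obtain ⟨c, rfl⟩ := Ideal.mem_span_singleton'.1 hx
    rw [Bialgebra.comul_mul, map_mul]
    have h1 : mk (1 - e) = 1 := by
      rw [map_sub, map_one, show mk e = 0 from Ideal.Quotient.eq_zero_iff_mem.2 (Ideal.mem_span_singleton_self e), sub_zero]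
    have h2 := congrArg (Algebra.TensorProduct.map mk mk) (comul_idem_mul φ hφ hid he)
    rw [map_mul, Algebra.TensorProduct.map_tmul, h1, ← Algebra.TensorProduct.one_def, mul_one, map_zero] at h2
    rw [h2, mul_zero]
  · refine Ideal.mem_span_singleton'.2 ⟨HopfAlgebra.antipode R x, ?_⟩
    apply Module.FaithfullyFlat.tensorProduct_mk_injective (A := R) (B := S) C
    simp only [TensorProduct.mk_apply]
    rw [← one_mul (1 : S), ← Algebra.TensorProduct.tmul_mul_tmul, one_mul, eq_comm, ← he]
    have h3 : (1 : S) ⊗ₜ[R] HopfAlgebra.antipode R x = HopfAlgebra.antipode S ((1 : S) ⊗ₜ[R] x) := by simp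
    rw [h3, antipode_bialgHom, hmem x hx, map_zero]

/-- The clopen subgroup is isotrivial. -/
theorem isIsotrivial_idem [Module.Finite R S] [Algebra.Etale R S] (φ : S ⊗[R] C →ₐc[S] MonoidAlgebra S N)
    (hφ : Function.Surjective φ) {e : C} (hid : IsIdempotentElem e) [(Ideal.span {e}).IsHopfIdeal R]
    (he : ∀ z, φ z = 0 ↔ z = z * ((1 : S) ⊗ₜ[R] e)) : IsIsotrivial R (C ⧸ Ideal.span {e}) := by
  classical
  let φA : S ⊗[R] C →ₐ[S] MonoidAlgebra S N := φ
  let mk : C →ₐc[R] C ⧸ Ideal.span {e} := Bialgebra.Quotient.mkBialgHom _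
  let q : S ⊗[R] C →ₐc[S] S ⊗[R] (C ⧸ Ideal.span {e}) := Bialgebra.TensorProduct.map (BialgHom.id S S) mk
  have hq : Function.Surjective q := fun y => by
    induction y using TensorProduct.induction_on with
    | zero => exact ⟨0, map_zero _⟩
    | add a b ha hb =>
      obtain ⟨a', rfl⟩ := ha
      obtain ⟨b', rfl⟩ := hb
      exact ⟨a' + b', map_add _ _ _⟩
    | tmul t x =>
      obtain ⟨x, rfl⟩ := Ideal.Quotient.mk_surjective x
      exact ⟨t ⊗ₜ[R] x, rfl⟩
  let χ : C ⧸ Ideal.span {e} →ₐ[R] MonoidAlgebra S N :=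
    Ideal.Quotient.liftₐ (Ideal.span {e}) ((φA.restrictScalars R).comp includeRight) fun x hx => by
      obtain ⟨c, rfl⟩ := Ideal.mem_span_singleton'.1 hx
      show φA ((1 : S) ⊗ₜ[R] (c * e)) = 0
      rw [← one_mul (1 : S), ← Algebra.TensorProduct.tmul_mul_tmul, map_mul]
      have h1 : φA ((1 : S) ⊗ₜ[R] e) = 0 := (he _).2 (by rw [Algebra.TensorProduct.tmul_mul_tmul, one_mul, hid.eq])
      rw [h1, mul_zero]
  let f : S ⊗[R] (C ⧸ Ideal.span {e}) →ₐ[S] MonoidAlgebra S N :=
    Algebra.TensorProduct.lift (Algebra.ofId S _) χ fun _ _ => Commute.all _ _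
  have hf : ∀ z, f (q z) = φ z := fun z => by
    induction z using TensorProduct.induction_on with
    | zero => simp
    | add a b ha hb => simp only [map_add, ha, hb]
    | tmul t c =>
      rw [show φ (t ⊗ₜ[R] c) = φA (t • ((1 : S) ⊗ₜ[R] c)) by rw [TensorProduct.smul_tmul', smul_eq_mul, mul_one]; rfl, map_smul]
      show f (t ⊗ₜ[R] Ideal.Quotient.mk _ c) = _
      simp [f, χ, φA, Algebra.smul_def, Algebra.ofId_apply]
  have hε : (Bialgebra.counitAlgHom S _).comp f = Bialgebra.counitAlgHom S _ := AlgHom.ext fun y => by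
    obtain ⟨z, rfl⟩ := hq y
    show counit (R := S) (f (q z)) = counit (R := S) (q z)
    rw [hf, CoalgHomClass.counit_comp_apply, CoalgHomClass.counit_comp_apply]
  have hΔ : (Algebra.TensorProduct.map f f).comp (Bialgebra.comulAlgHom S _) = (Bialgebra.comulAlgHom S _).comp f :=
    AlgHom.ext fun y => by
    obtain ⟨z, rfl⟩ := hq y
    show Algebra.TensorProduct.map f f (comul (R := S) (q z)) = comul (R := S) (f (q z))
    rw [hf, ← CoalgHomClass.map_comp_comul_apply q z, ← CoalgHomClass.map_comp_comul_apply φ z]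
    induction comul (R := S) z using TensorProduct.induction_on with
    | zero => simp
    | add a b ha hb => simp only [map_add, ha, hb]
    | tmul a b =>
      show f (q a) ⊗ₜ[S] f (q b) = φ a ⊗ₜ[S] φ b
      rw [hf, hf]
  let Φ : S ⊗[R] (C ⧸ Ideal.span {e}) →ₐc[S] MonoidAlgebra S N := BialgHom.ofAlgHom f hε hΔ
  have hΦ : Function.Bijective Φ := by
    refine ⟨(injective_iff_map_eq_zero f).2 fun y hy => ?_, fun w => ?_⟩
    · obtain ⟨z, rfl⟩ := hq y
      rw [hf, he] at hy
      rw [hy, map_mul]
      have : q ((1 : S) ⊗ₜ[R] e) = 0 := by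
        show (1 : S) ⊗ₜ[R] Ideal.Quotient.mk _ e = 0
        rw [Ideal.Quotient.eq_zero_iff_mem.2 (Ideal.mem_span_singleton_self e), TensorProduct.tmul_zero]
      rw [this, mul_zero]
    · obtain ⟨z, rfl⟩ := hφ w
      exact ⟨q z, hf z⟩
  exact ⟨S, inferInstance, inferInstance, inferInstance, inferInstance, inferInstance, N, inferInstance,
    ⟨BialgEquiv.ofBijective Φ hΦ⟩⟩

end Groth.Agent.MultHopf
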