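import Groth.Prelude.Def_SGA3b
import Groth.Agent.FinHopf.Power
import Mathlib.RingTheory.Bialgebra.TensorProduct
import Mathlib.RingTheory.Bialgebra.MonoidAlgebra
import Mathlib.RingTheory.TensorProduct.MonoidAlgebra
import Mathlib.RingTheory.Finiteness.Descent
import Mathlib.RingTheory.Localization.Finiteness
import Mathlib.RingTheory.Flat.FaithfullyFlat.Algebra
import Mathlib.RingTheory.FiniteType
import Mathlib.RingTheory.LocalProperties.Basic
import Mathlib.RingTheory.Localization.BaseChange
import Mathlib.GroupTheory.OrderOfElement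
import Mathlib.GroupTheory.Finiteness
import Mathlib.GroupTheory.Torsion
import Mathlib.GroupTheory.FiniteAbelian.Basic
import Mathlib.LinearAlgebra.TensorProduct.RightExactness

/-!
# Power maps and torsion ideals
-/

set_option autoImplicit false

universe u v

open scoped TensorProduct
open WithConv Coalgebra SGA3b

namespace Groth.Agent.MultHopf

open Groth.Agent.FinHopf (postComp)

variable {R : Type u} [CommRing R] {A B : Type u} [CommRing A] [HopfAlgebra R A] [CommRing B] [HopfAlgebra R B]

/-- Precomposition with a bialgebra map. -/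
noncomputable def preComp {L : Type v} [CommRing L] [Algebra R L] (φ : A →ₐc[R] B) :
    WithConv (B →ₐ[R] L) →* WithConv (A →ₐ[R] L) where
  toFun f := toConv (f.ofConv.comp (φ : A →ₐ[R] B))
  map_one' := by
    apply WithConv.ofConv_injective
    ext b
    show algebraMap R L (counit (φ b)) = algebraMap R L (counit b)
    rw [CoalgHomClass.counit_comp_apply]
  map_mul' f g := by
    apply WithConv.ofConv_injective
    exact AlgHom.convMul_comp_bialgHom_distrib f g φ

theorem powConv_map (φ : A →ₐc[R] B) (n : ℕ) (a : A) : φ (powConv R A n a) = powConv R B n (φ a) := by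
  have h1 := map_pow (postComp (C := A) (φ : A →ₐ[R] B)) (toConv (AlgHom.id R A)) n
  have h2 := map_pow (preComp (L := B) φ) (toConv (AlgHom.id R B)) n
  have e : postComp (C := A) (φ : A →ₐ[R] B) (toConv (AlgHom.id R A)) =
      preComp (L := B) φ (toConv (AlgHom.id R B)) := rfl
  rw [e, ← h2] at h1
  exact DFunLike.congr_fun (congrArg WithConv.ofConv h1) a

variable (S : Type u) [CommRing S] [Algebra R S]

/-- Restriction of points of the base change. -/
noncomputable def preBase {L : Type v} [CommRing L] [Algebra R L] [Algebra S L] [IsScalarTower R S L] :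
    WithConv ((S ⊗[R] A) →ₐ[S] L) →* WithConv (A →ₐ[R] L) where
  toFun f := toConv ((f.ofConv.restrictScalars R).comp Algebra.TensorProduct.includeRight)
  map_one' := by
    apply WithConv.ofConv_injective
    ext a
    show algebraMap S L (counit (R := S) ((1 : S) ⊗ₜ[R] a)) = algebraMap R L (counit a)
    rw [IsScalarTower.algebraMap_apply R S L]
    congr 1
    simp [Algebra.smul_def]
  map_mul' f g := by
    apply WithConv.ofConv_injective
    ext a
    simp only [AlgHom.comp_apply, AlgHom.restrictScalars_apply, Algebra.TensorProduct.includeRight_apply]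
    rw [AlgHom.convMul_apply, AlgHom.convMul_apply, TensorProduct.comul_tmul, CommSemiring.comul_apply]
    induction Coalgebra.comul (R := R) a using TensorProduct.induction_on with
    | zero => simp
    | add u v hu hv => simp only [TensorProduct.tmul_add, map_add, hu, hv]
    | tmul x y => simp

theorem powConv_tmul (n : ℕ) (a : A) :
    powConv S (S ⊗[R] A) n ((1 : S) ⊗ₜ[R] a) = (1 : S) ⊗ₜ[R] powConv R A n a := by
  have h1 := map_pow (preBase (A := A) S (L := S ⊗[R] A)) (toConv (AlgHom.id S (S ⊗[R] A))) n
  have h2 := map_pow (postComp (C := A) (Algebra.TensorProduct.includeRight : A →ₐ[R] S ⊗[R] A))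
    (toConv (AlgHom.id R A)) n
  have e : preBase (A := A) S (L := S ⊗[R] A) (toConv (AlgHom.id S (S ⊗[R] A))) =
      postComp (C := A) (Algebra.TensorProduct.includeRight : A →ₐ[R] S ⊗[R] A) (toConv (AlgHom.id R A)) := rfl
  rw [e, ← h2] at h1
  exact DFunLike.congr_fun (congrArg WithConv.ofConv h1) a

omit [Algebra R S] in
theorem powConv_single {M : Type u} [CommGroup M] (n : ℕ) (m : M) :
    powConv R (MonoidAlgebra R M) n (MonoidAlgebra.single m 1) = MonoidAlgebra.single (m ^ n) 1 := by
  unfold powConv
  induction n with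
  | zero =>
    rw [pow_zero, pow_zero]
    show algebraMap R (MonoidAlgebra R M) (counit (MonoidAlgebra.single m (1 : R))) = _
    simp [MonoidAlgebra.one_def]
  | succ n ih =>
    rw [pow_succ, AlgHom.convMul_apply, MonoidAlgebra.comul_single, CommSemiring.comul_apply]
    simp only [TensorProduct.map_tmul, Algebra.TensorProduct.lift_tmul, MonoidAlgebra.lsingle_apply, ih]
    simp [MonoidAlgebra.single_mul_single, pow_succ]

/-- Killed by `n`. -/
def IsKilled (R : Type u) [CommRing R] (A : Type u) [CommRing A] [HopfAlgebra R A] (n : ℕ) : Prop :=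
  ∀ a : A, powConv R A n a = algebraMap R A (counit a)

theorem torsionIdeal_eq_bot_iff (n : ℕ) : torsionIdeal R A n = ⊥ ↔ IsKilled R A n := by
  rw [torsionIdeal, Ideal.map_eq_bot_iff_le_ker]
  refine ⟨fun h a => ?_, fun h a ha => ?_⟩
  · have := h (show a - algebraMap R A (counit a) ∈ RingHom.ker (Bialgebra.counitAlgHom R A) by simp)
    rw [RingHom.mem_ker, map_sub, AlgHom.commutes, sub_eq_zero] at this
    exact this
  · rw [RingHom.mem_ker, h a, show counit (R := R) a = 0 from ha, map_zero]

theorem IsKilled.of_surjective {n : ℕ} (h : IsKilled R A n) (φ : A →ₐc[R] B) (hφ : Function.Surjective φ) :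
    IsKilled R B n := fun b => by
  obtain ⟨a, rfl⟩ := hφ b
  rw [← powConv_map, h a, AlgHomClass.commutes, CoalgHomClass.counit_comp_apply]

theorem IsKilled.of_injective {n : ℕ} (h : IsKilled R B n) (φ : A →ₐc[R] B) (hφ : Function.Injective φ) :
    IsKilled R A n := fun a => hφ <| by
  rw [powConv_map, h, AlgHomClass.commutes, CoalgHomClass.counit_comp_apply]

theorem isKilled_congr {n : ℕ} (e : A ≃ₐc[R] B) : IsKilled R A n ↔ IsKilled R B n :=
  ⟨fun h => h.of_surjective (e : A →ₐc[R] B) (EquivLike.surjective e),
    fun h => h.of_injective (e : A →ₐc[R] B) (EquivLike.injective e)⟩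

theorem IsKilled.baseChange {n : ℕ} (h : IsKilled R A n) : IsKilled S (S ⊗[R] A) n := fun x => by
  induction x using TensorProduct.induction_on with
  | zero => simp
  | add u v hu hv => simp [hu, hv, TensorProduct.add_tmul]
  | tmul s a =>
    rw [show s ⊗ₜ[R] a = s • ((1 : S) ⊗ₜ[R] a) by rw [TensorProduct.smul_tmul', smul_eq_mul, mul_one],
      map_smul, powConv_tmul, h a]
    simp [Algebra.algebraMap_eq_smul_one, Algebra.TensorProduct.one_def, TensorProduct.tmul_smul, TensorProduct.smul_tmul', mul_comm]

theorem IsKilled.descend [Module.FaithfullyFlat R S] {n : ℕ} (h : IsKilled S (S ⊗[R] A) n) :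
    IsKilled R A n := fun a => Module.FaithfullyFlat.tensorProduct_mk_injective (A := R) (B := S) A <| by
  simp only [TensorProduct.mk_apply]
  rw [← powConv_tmul, h]
  simp [Algebra.algebraMap_eq_smul_one, Algebra.TensorProduct.one_def, TensorProduct.tmul_smul, TensorProduct.smul_tmul']

theorem isKilled_monoidAlgebra [Nontrivial R] {M : Type u} [CommGroup M] {n : ℕ} :
    IsKilled R (MonoidAlgebra R M) n ↔ ∀ m : M, m ^ n = 1 := by
  refine ⟨fun h m => ?_, fun h x => ?_⟩
  · have := h (MonoidAlgebra.single m 1)
    rw [powConv_single] at this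
    exact (MonoidAlgebra.of_injective (R := R) (M := M)) (by simpa [MonoidAlgebra.one_def] using this)
  · induction x using MonoidAlgebra.induction_linear with
    | zero => simp
    | add u v hu hv => simp [hu, hv]
    | single m r =>
      rw [show MonoidAlgebra.single m r = r • MonoidAlgebra.single m (1 : R) by simp, map_smul,
        powConv_single, h m]
      simp [MonoidAlgebra.one_def]

/-- Elements vanishing over a covering vanish. -/
theorem eq_zero_of_cover {M : Type v} [AddCommGroup M] [Module R M] (s : Set R) (hs : Ideal.span s = ⊤) (x : M)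
    (h : ∀ f ∈ s, (1 : Localization.Away f) ⊗ₜ[R] x = 0) : x = 0 := by
  have hmem : ∀ f ∈ s, f ∈ ((R ∙ x).annihilator).radical := fun f hf => by
    obtain ⟨⟨_, n, rfl⟩, hn⟩ := (IsLocalizedModule.eq_zero_iff (Submonoid.powers f)
      (TensorProduct.mk R (Localization.Away f) M 1)).1 (h f hf)
    exact ⟨n, (Submodule.mem_annihilator_span_singleton _ _).2 hn⟩
  have htop : (R ∙ x).annihilator = ⊤ :=
    Ideal.radical_eq_top.1 (top_le_iff.1 (hs ▸ Ideal.span_le.2 hmem))
  exact (one_smul R x).symm.trans ((Submodule.mem_annihilator_span_singleton x 1).1 (htop ▸ Submodule.mem_top))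

theorem torsionIdeal_equiv (e : A ≃ₐc[R] B) (n : ℕ) :
    (torsionIdeal R A n).map (e : A →+* B) = torsionIdeal R B n := by
  unfold torsionIdeal
  have hker : RingHom.ker (Bialgebra.counitAlgHom R B) = (RingHom.ker (Bialgebra.counitAlgHom R A)).map (e : A →+* B) := by
    refine le_antisymm (fun b hb => ?_) ?_
    · obtain ⟨a, rfl⟩ := EquivLike.surjective e b
      exact Ideal.mem_map_of_mem _ (by simpa [RingHom.mem_ker] using hb)
    · exact Ideal.map_le_iff_le_comap.2 fun a ha => by simpa [RingHom.mem_ker] using ha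
  rw [hker]
  rw [← Ideal.map_coe (powConv R A n), ← Ideal.map_coe (powConv R B n), Ideal.map_map, Ideal.map_map]
  congr 1
  ext a
  exact powConv_map (e : A →ₐc[R] B) n a

theorem ker_comp_equiv {C : Type u} [CommRing C] [HopfAlgebra R C] (e : A ≃ₐc[R] B) (g : B →ₐc[R] C) (n : ℕ)
    (h : RingHom.ker g = torsionIdeal R B n) :
    RingHom.ker (g.comp (e : A →ₐc[R] B)) = torsionIdeal R A n := by
  have h2 : RingHom.ker (g.comp (e : A →ₐc[R] B)) = (RingHom.ker g).comap (e : A →+* B) := by
    ext x; rfl
  rw [h2, h, ← torsionIdeal_equiv e n, Ideal.comap_map_of_bijective (e : A →+* B) (EquivLike.bijective e)]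

theorem IsKilled.dvd {d m : ℕ} (h : IsKilled R A d) (hd : d ∣ m) : IsKilled R A m := by
  obtain ⟨k, rfl⟩ := hd
  intro a
  have h1 : (toConv (AlgHom.id R A)) ^ d = 1 := WithConv.ofConv_injective (AlgHom.ext h)
  unfold powConv
  erw [pow_mul, h1, one_pow]
  rfl

theorem torsionIdeal_baseChange (n : ℕ) :
    (torsionIdeal R A n).map (Algebra.TensorProduct.includeRight : A →ₐ[R] S ⊗[R] A) =
      torsionIdeal S (S ⊗[R] A) n := by
  unfold torsionIdeal
  have hker : RingHom.ker (Bialgebra.counitAlgHom S (S ⊗[R] A)) =
      (RingHom.ker (Bialgebra.counitAlgHom R A)).map (Algebra.TensorProduct.includeRight : A →ₐ[R] S ⊗[R] A) := by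
    refine le_antisymm (fun x hx => ?_) ?_
    · have key : ∀ y : S ⊗[R] A, y - algebraMap S (S ⊗[R] A) (counit y) ∈
          (RingHom.ker (Bialgebra.counitAlgHom R A)).map (Algebra.TensorProduct.includeRight : A →ₐ[R] S ⊗[R] A) := by
        intro y
        induction y using TensorProduct.induction_on with
        | zero => simp
        | add u v hu hv => rw [map_add, map_add, add_sub_add_comm]; exact add_mem hu hv
        | tmul s a =>
          have : s ⊗ₜ[R] a - algebraMap S (S ⊗[R] A) (counit (R := S) (s ⊗ₜ[R] a)) =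
              algebraMap S (S ⊗[R] A) s *
                (Algebra.TensorProduct.includeRight : A →ₐ[R] S ⊗[R] A) (a - algebraMap R A (counit a)) := by
            simp [mul_sub, TensorProduct.tmul_sub, Algebra.algebraMap_eq_smul_one, Algebra.TensorProduct.one_def, TensorProduct.tmul_smul, TensorProduct.smul_tmul', mul_comm]
          rw [this]
          exact Ideal.mul_mem_left _ _ (Ideal.mem_map_of_mem _ (by simp [RingHom.mem_ker]))
      have := key x
      rwa [show counit (R := S) x = 0 from hx, map_zero, sub_zero] at this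
    · exact Ideal.map_le_iff_le_comap.2 fun a ha => by
        simp [RingHom.mem_ker, show counit (R := R) a = 0 from ha]
  rw [hker]
  rw [← Ideal.map_coe (powConv R A n), ← Ideal.map_coe (powConv S (S ⊗[R] A) n),
    ← Ideal.map_coe (Algebra.TensorProduct.includeRight : A →ₐ[R] S ⊗[R] A),
    ← Ideal.map_coe (Algebra.TensorProduct.includeRight : A →ₐ[R] S ⊗[R] A), Ideal.map_map, Ideal.map_map]
  congr 1
  ext a
  exact (powConv_tmul S n a).symm

/-- The subgroup of `n`-th powers. -/
def powRange (M : Type u) [CommGroup M] (n : ℕ) : Subgroup M := (powMonoidHom n).range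

/-- The projection killing `n`-th powers. -/
noncomputable def powQuot (R : Type u) [CommRing R] (M : Type u) [CommGroup M] (n : ℕ) :
    MonoidAlgebra R M →ₐc[R] MonoidAlgebra R (M ⧸ powRange M n) :=
  MonoidAlgebra.mapDomainBialgHom R (QuotientGroup.mk' (powRange M n))

theorem powQuot_surjective (M : Type u) [CommGroup M] (n : ℕ) : Function.Surjective (powQuot R M n) := fun x => by
  induction x using MonoidAlgebra.induction_linear with
  | zero => exact ⟨0, map_zero _⟩
  | add u v hu hv => obtain ⟨a, rfl⟩ := hu; obtain ⟨b, rfl⟩ := hv; exact ⟨a + b, map_add _ _ _⟩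
  | single m r =>
    obtain ⟨m, rfl⟩ := QuotientGroup.mk_surjective m
    exact ⟨MonoidAlgebra.single m r, MonoidAlgebra.mapDomainBialgHom_single _ m r⟩

theorem torsionIdeal_monoidAlgebra (M : Type u) [CommGroup M] (n : ℕ) :
    torsionIdeal R (MonoidAlgebra R M) n = RingHom.ker (powQuot R M n) := by
  classical
  refine le_antisymm ?_ ?_
  · rw [torsionIdeal, Ideal.map_le_iff_le_comap]
    intro x hx
    rw [Ideal.mem_comap, RingHom.mem_ker]
    have h : ((powQuot R M n : MonoidAlgebra R M →ₐ[R] MonoidAlgebra R (M ⧸ powRange M n))).comp (powConv R (MonoidAlgebra R M) n) =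
        (Algebra.ofId R _).comp (Bialgebra.counitAlgHom R (MonoidAlgebra R M)) := by
      refine MonoidAlgebra.algHom_ext (fun m => ?_) (by ext)
      simp only [AlgHom.comp_apply, powConv_single]
      show powQuot R M n (MonoidAlgebra.single (m ^ n) 1) = _
      rw [powQuot, MonoidAlgebra.mapDomainBialgHom_single,
        show QuotientGroup.mk' (powRange M n) (m ^ n) = 1 from (QuotientGroup.eq_one_iff _).2 ⟨m, rfl⟩]
      simp [MonoidAlgebra.one_def]
    have h2 := DFunLike.congr_fun h x
    simpa [show Bialgebra.counitAlgHom R (MonoidAlgebra R M) x = 0 from hx] using h2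
  · let T := torsionIdeal R (MonoidAlgebra R M) n
    let g : M →* MonoidAlgebra R M ⧸ T := (Ideal.Quotient.mk T : _ →* _).comp (MonoidAlgebra.of R M)
    have hg : powRange M n ≤ g.ker := by
      rintro _ ⟨m, rfl⟩
      rw [MonoidHom.mem_ker]
      show Ideal.Quotient.mk T (MonoidAlgebra.single (m ^ n) 1) = 1
      rw [← map_one (Ideal.Quotient.mk T), Ideal.Quotient.eq]
      have h1 := Ideal.mem_map_of_mem (powConv R (MonoidAlgebra R M) n)
        (show MonoidAlgebra.single m (1 : R) - 1 ∈ RingHom.ker (Bialgebra.counitAlgHom R (MonoidAlgebra R M)) by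
          simp [RingHom.mem_ker])
      rwa [map_sub, map_one, powConv_single] at h1
    let Φ := MonoidAlgebra.lift R _ _ (QuotientGroup.lift (powRange M n) g hg)
    have h : Φ.comp (powQuot R M n : MonoidAlgebra R M →ₐ[R] MonoidAlgebra R (M ⧸ powRange M n)) = Ideal.Quotient.mkₐ R T := by
      ext m
      show Φ (powQuot R M n (MonoidAlgebra.single m 1)) = _
      rw [powQuot, MonoidAlgebra.mapDomainBialgHom_single]
      simp [Φ, g]
    intro x hx
    rw [← Ideal.Quotient.eq_zero_iff_mem]
    have h2 := (DFunLike.congr_fun h x).symm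
    rw [AlgHom.comp_apply] at h2
    refine h2.trans ?_
    rw [show (powQuot R M n : MonoidAlgebra R M →ₐ[R] MonoidAlgebra R (M ⧸ powRange M n)) x = 0 from hx, map_zero]

/-- Bialgebra maps out of one bialgebra with the same kernel have isomorphic images. -/
theorem nonempty_bialgEquiv_of_ker_eq {C : Type u} [CommRing C] [HopfAlgebra R C] (f : A →ₐc[R] B) (g : A →ₐc[R] C)
    (hf : Function.Surjective f) (hg : Function.Surjective g) (h : RingHom.ker f = RingHom.ker g) :
    Nonempty (B ≃ₐc[R] C) := by
  let e : B ≃ₐ[R] C := (Ideal.quotientKerAlgEquivOfSurjective (f := (f : A →ₐ[R] B)) hf).symm.trans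
    ((Ideal.quotientEquivAlgOfEq R h).trans (Ideal.quotientKerAlgEquivOfSurjective (f := (g : A →ₐ[R] C)) hg))
  have he : ∀ a, e (f a) = g a := fun a => by
    have : (Ideal.quotientKerAlgEquivOfSurjective (f := (f : A →ₐ[R] B)) hf).symm (f a) = Ideal.Quotient.mk _ a := by
      rw [AlgEquiv.symm_apply_eq]; rfl
    simp only [e, AlgEquiv.trans_apply, this]
    rfl
  refine ⟨BialgEquiv.ofAlgEquiv e ?_ ?_⟩
  · ext b
    obtain ⟨a, rfl⟩ := hf b
    simp [he, CoalgHomClass.counit_comp_apply]
  · ext b
    obtain ⟨a, rfl⟩ := hf b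
    simp only [AlgHom.comp_apply, AlgEquiv.coe_toAlgHom, Bialgebra.comulAlgHom_apply, he]
    have h1 := LinearMap.congr_fun g.toCoalgHom.map_comp_comul a
    have h2 := LinearMap.congr_fun f.toCoalgHom.map_comp_comul a
    simp only [LinearMap.comp_apply] at h1 h2
    rw [show comul (R := R) (g a) = TensorProduct.map g.toCoalgHom.toLinearMap g.toCoalgHom.toLinearMap (comul a) from h1.symm,
      show comul (R := R) (f a) = TensorProduct.map f.toCoalgHom.toLinearMap f.toCoalgHom.toLinearMap (comul a) from h2.symm]
    induction comul (R := R) a using TensorProduct.induction_on with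
    | zero => simp
    | add u v hu hv => simp only [map_add, hu, hv]
    | tmul x y =>
      rw [TensorProduct.map_tmul, TensorProduct.map_tmul, Algebra.TensorProduct.map_tmul]
      exact (congrArg₂ (fun p q => p ⊗ₜ[R] q) (he x).symm (he y).symm).symm

end Groth.Agent.MultHopf
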