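import Groth.Agent.MultHopf.KerAlg
import Groth.Agent.MultHopf.Bridge
import Groth.Agent.MultHopf.Torsion

/-!
# Kernels after a splitting base change
-/

set_option autoImplicit false
set_option backward.isDefEq.respectTransparency.types false

universe u

open Coalgebra WithConv Groth.Agent.FinHopf
open scoped TensorProduct

namespace Groth.Agent.MultHopf

variable {R A : Type u} [CommRing R] [CommRing A] [HopfAlgebra R A] {T : Type u} [CommRing T] [Algebra R T]
  {M : Type u} [CommGroup M]

/-- The splitting map attached to a trivialisation. -/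
noncomputable def theta (e : T ⊗[R] A ≃ₐc[T] MonoidAlgebra T M) : A →+* MonoidAlgebra T M :=
  (e : T ⊗[R] A →+* MonoidAlgebra T M).comp
    (Algebra.TensorProduct.includeRight : A →ₐ[R] T ⊗[R] A).toRingHom

theorem theta_apply (e : T ⊗[R] A ≃ₐc[T] MonoidAlgebra T M) (a : A) : theta e a = e ((1 : T) ⊗ₜ[R] a) := rfl

theorem theta_algebraMap (e : T ⊗[R] A ≃ₐc[T] MonoidAlgebra T M) (r : R) :
    theta e (algebraMap R A r) = algebraMap T (MonoidAlgebra T M) (algebraMap R T r) := by
  rw [theta_apply]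
  have h : (1 : T) ⊗ₜ[R] algebraMap R A r = algebraMap T (T ⊗[R] A) (algebraMap R T r) := by
    rw [Algebra.algebraMap_eq_smul_one r, TensorProduct.tmul_smul, TensorProduct.smul_tmul',
      ← Algebra.algebraMap_eq_smul_one r]
    rfl
  rw [h]
  exact AlgHomClass.commutes e _

theorem map_theta_eq (e : T ⊗[R] A ≃ₐc[T] MonoidAlgebra T M) (J : Ideal A) :
    J.map (theta e) = (J.map (Algebra.TensorProduct.includeRight : A →ₐ[R] T ⊗[R] A)).map
      (e : T ⊗[R] A →+* MonoidAlgebra T M) := by
  rw [theta, ← Ideal.map_map]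
  rfl

theorem map_id_bijective {X Y : Type u} [CommRing X] [CommRing Y] [HopfAlgebra T X] [HopfAlgebra T Y]
    (e : X ≃ₐc[T] Y) (L : Type u) [CommRing L] [Algebra T L] :
    Function.Bijective (Bialgebra.TensorProduct.map (BialgHom.id L L) (e : X →ₐc[T] Y)) := by
  refine Function.bijective_iff_has_inverse.2
    ⟨Bialgebra.TensorProduct.map (BialgHom.id L L) (e.symm : Y →ₐc[T] X), fun x => ?_, fun x => ?_⟩
  · induction x using TensorProduct.induction_on with
    | zero => simp
    | add x y hx hy => rw [map_add, map_add, hx, hy]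
    | tmul l x => simp
  · induction x using TensorProduct.induction_on with
    | zero => simp
    | add x y hx hy => rw [map_add, map_add, hx, hy]
    | tmul l x => simp

/-- Base change of an isomorphism of Hopf algebras. -/
noncomputable def congrBC {X Y : Type u} [CommRing X] [CommRing Y] [HopfAlgebra T X] [HopfAlgebra T Y]
    (e : X ≃ₐc[T] Y) (L : Type u) [CommRing L] [Algebra T L] : L ⊗[T] X ≃ₐc[L] L ⊗[T] Y :=
  BialgEquiv.ofBijective _ (map_id_bijective e L)

theorem congrBC_tmul {X Y : Type u} [CommRing X] [CommRing Y] [HopfAlgebra T X] [HopfAlgebra T Y]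
    (e : X ≃ₐc[T] Y) (L : Type u) [CommRing L] [Algebra T L] (l : L) (x : X) :
    congrBC e L (l ⊗ₜ[T] x) = l ⊗ₜ[T] e x := rfl

/-- A trivialisation after a further base change. -/
noncomputable def bcE (e : T ⊗[R] A ≃ₐc[T] MonoidAlgebra T M) (L : Type u) [CommRing L] [Algebra R L]
    [Algebra T L] [IsScalarTower R T L] : L ⊗[R] A ≃ₐc[L] MonoidAlgebra L M :=
  (cancelBC R T L A).symm.trans ((congrBC e L).trans (baseChangeGroupAlgebra T L M).symm)

theorem theta_bcE (e : T ⊗[R] A ≃ₐc[T] MonoidAlgebra T M) (L : Type u) [CommRing L] [Algebra R L]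
    [Algebra T L] [IsScalarTower R T L] :
    theta (bcE e L) = (MonoidAlgebra.mapRingHom M (algebraMap T L)).comp (theta e) := by
  refine RingHom.ext fun a => ?_
  rw [RingHom.comp_apply, theta_apply, theta_apply]
  have h1 : (cancelBC R T L A).symm ((1 : L) ⊗ₜ[R] a) = (1 : L) ⊗ₜ[T] ((1 : T) ⊗ₜ[R] a) :=
    Algebra.TensorProduct.cancelBaseChange_symm_tmul R T L L A 1 a
  show (baseChangeGroupAlgebra T L M).symm (congrBC e L ((cancelBC R T L A).symm ((1 : L) ⊗ₜ[R] a))) = _
  rw [h1, congrBC_tmul]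
  show MonoidAlgebra.scalarTensorEquiv T L ((1 : L) ⊗ₜ[T] e ((1 : T) ⊗ₜ[R] a)) = _
  rw [MonoidAlgebra.scalarTensorEquiv_tmul, one_smul]
  rfl

theorem map_theta_bcE (e : T ⊗[R] A ≃ₐc[T] MonoidAlgebra T M) (L : Type u) [CommRing L] [Algebra R L]
    [Algebra T L] [IsScalarTower R T L] (J : Ideal A) :
    J.map (theta (bcE e L)) = (J.map (theta e)).map (MonoidAlgebra.mapRingHom M (algebraMap T L)) := by
  rw [theta_bcE, ← Ideal.map_map]

/-- The homomorphism to the target group after the splitting. -/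
noncomputable def splitHom {C : Type u} [CommRing C] [HopfAlgebra R C] (φ : C →ₐc[R] A)
    (e : T ⊗[R] A ≃ₐc[T] MonoidAlgebra T M) : T ⊗[R] C →ₐc[T] MonoidAlgebra T M :=
  (e : T ⊗[R] A →ₐc[T] MonoidAlgebra T M).comp (Bialgebra.TensorProduct.map (BialgHom.id T T) φ)

theorem splitHom_tmul {C : Type u} [CommRing C] [HopfAlgebra R C] (φ : C →ₐc[R] A)
    (e : T ⊗[R] A ≃ₐc[T] MonoidAlgebra T M) (c : C) :
    splitHom φ e ((1 : T) ⊗ₜ[R] c) = theta e (φ c) := rfl

theorem kerJ_splitHom {C : Type u} [CommRing C] [HopfAlgebra R C] (φ : C →ₐc[R] A)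
    (e : T ⊗[R] A ≃ₐc[T] MonoidAlgebra T M) : kerJ (splitHom φ e) = (kerJ φ).map (theta e) := by
  apply le_antisymm
  · refine (kerJ_le_iff _ _).2 fun w => ?_
    induction w using TensorProduct.induction_on with
    | zero => simp
    | add x y hx hy => rw [map_add, map_add, map_add, add_sub_add_comm]; exact add_mem hx hy
    | tmul t c =>
      have h : splitHom φ e (t ⊗ₜ[R] c) - algebraMap T _ (counit (R := T) (t ⊗ₜ[R] c)) =
          algebraMap T _ t * theta e (φ c - algebraMap R A (counit (R := R) c)) := by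
        rw [show t ⊗ₜ[R] c = t • ((1 : T) ⊗ₜ[R] c) by simp [TensorProduct.smul_tmul'], map_smul, map_smul,
          splitHom_tmul, Algebra.smul_def, map_sub, mul_sub, smul_eq_mul, map_mul]
        rw [theta_algebraMap, TensorProduct.counit_tmul]
        simp [Algebra.smul_def]
      rw [h]
      exact Ideal.mul_mem_left _ _ (Ideal.mem_map_of_mem _ ((kerJ_le_iff φ _).1 le_rfl c))
  · rw [Ideal.map_le_iff_le_comap]
    refine (kerJ_le_iff φ _).2 fun c => ?_
    rw [Ideal.mem_comap, map_sub]
    have := (kerJ_le_iff (splitHom φ e) _).1 le_rfl ((1 : T) ⊗ₜ[R] c)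
    rw [splitHom_tmul] at this
    have h2 : theta e (algebraMap R A (counit (R := R) c)) = algebraMap T _ (counit (R := T) ((1 : T) ⊗ₜ[R] c)) := by
      rw [theta_algebraMap, TensorProduct.counit_tmul]
      simp [Algebra.smul_def]
    rwa [h2]

theorem map_theta_eq_ker (e : T ⊗[R] A ≃ₐc[T] MonoidAlgebra T M) (J : Ideal A) [J.IsHopfIdeal R] :
    J.map (theta e) = RingHom.ker ((Bialgebra.TensorProduct.map (BialgHom.id T T)
      (Bialgebra.Quotient.mkBialgHom (R := R) J)).comp
        (e.symm : MonoidAlgebra T M →ₐc[T] T ⊗[R] A)) := by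
  rw [map_theta_eq]
  ext x
  have hk : RingHom.ker (Bialgebra.TensorProduct.map (BialgHom.id T T)
      (Bialgebra.Quotient.mkBialgHom (R := R) J)) =
      J.map (Algebra.TensorProduct.includeRight : A →ₐ[R] T ⊗[R] A) := by
    refine (Algebra.TensorProduct.lTensor_ker (Ideal.Quotient.mkₐ R J) Ideal.Quotient.mk_surjective).trans ?_
    exact congrArg _ (Ideal.Quotient.mkₐ_ker R J)
  rw [← hk, Ideal.mem_map_iff_of_surjective (e : T ⊗[R] A →+* MonoidAlgebra T M) (EquivLike.surjective e)]
  constructor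
  · rintro ⟨y, hy, rfl⟩
    rw [RingHom.mem_ker]
    show Bialgebra.TensorProduct.map _ _ (e.symm (e y)) = 0
    rw [BialgEquiv.symm_apply_apply]
    exact hy
  · intro h
    exact ⟨e.symm x, h, e.apply_symm_apply x⟩

theorem quotMap_surjective (e : T ⊗[R] A ≃ₐc[T] MonoidAlgebra T M) (J : Ideal A) [J.IsHopfIdeal R] :
    Function.Surjective ((Bialgebra.TensorProduct.map (BialgHom.id T T)
      (Bialgebra.Quotient.mkBialgHom (R := R) J)).comp
        (e.symm : MonoidAlgebra T M →ₐc[T] T ⊗[R] A)) :=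
  (LinearMap.lTensor_surjective T (g := (Bialgebra.Quotient.mkBialgHom (R := R) J : A →ₗ[R] A ⧸ J))
    Ideal.Quotient.mk_surjective).comp (EquivLike.surjective e.symm)

/-- The quotient after the splitting, identified through any surjection with the same kernel. -/
theorem nonempty_equiv_of_map_theta (e : T ⊗[R] A ≃ₐc[T] MonoidAlgebra T M) (J : Ideal A) [J.IsHopfIdeal R]
    {B : Type u} [CommRing B] [HopfAlgebra T B] (f : MonoidAlgebra T M →ₐc[T] B) (hf : Function.Surjective f)
    (h : RingHom.ker f = J.map (theta e)) : Nonempty (T ⊗[R] (A ⧸ J) ≃ₐc[T] B) :=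
  nonempty_bialgEquiv_of_ker_eq _ f (quotMap_surjective e J) hf ((map_theta_eq_ker e J).symm.trans h.symm)

end Groth.Agent.MultHopf
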