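import Groth.Agent.MultHopf.NearModel
import Groth.Agent.MultHopf.FormalClopen
import Groth.Agent.MultHopf.FieldSep
import Groth.Agent.MultHopf.KerSplit
import Groth.Agent.MultHopf.QuasiIso
import Groth.Agent.AdicNoeth.Basic
import Mathlib.RingTheory.AdicCompletion.LocalRing
import Mathlib.RingTheory.AdicCompletion.AsTensorProduct
import Mathlib.RingTheory.Etale.Field

/-!
# Groups over a local ring with closed fibre of multiplicative type

After a faithfully flat local extension such a group contains an open and closed diagonalisable subgroup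
containing the closed fibre.
-/

set_option autoImplicit false
set_option backward.isDefEq.respectTransparency.types false

universe u

open scoped TensorProduct
open SGA3b
open IsLocalRing (maximalIdeal)
open Algebra.TensorProduct (includeLeft includeRight)

namespace Groth.Agent.MultHopf

/-- A group of multiplicative type over a field is split by a field extension. -/
theorem exists_field_split {k B : Type u} [Field k] [CommRing B] [HopfAlgebra k B] (h : IsMultType k B) :
    ∃ (K : Type u) (_ : Field K) (_ : Algebra k K), IsDiag K (K ⊗[k] B) := by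
  obtain ⟨s, hs, hs'⟩ := h
  obtain ⟨f, hf, hf0⟩ : ∃ f ∈ s, f ≠ 0 := by
    by_contra hcon
    push Not at hcon
    have : Ideal.span s ≤ ⊥ := Ideal.span_le.2 fun x hx => hcon x hx
    rw [hs] at this
    exact one_ne_zero ((Submodule.mem_bot k).1 (this Submodule.mem_top))
  obtain ⟨R'', _, _, hff, M, _, ⟨e⟩⟩ := hs' f hf
  let L := Localization.Away f
  have : Nontrivial L := (IsLocalization.injective L (M := Submonoid.powers f)
    (Submonoid.powers_le.2 (mem_nonZeroDivisors_of_ne_zero hf0))).nontrivial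
  have : Nontrivial R'' := (FaithfulSMul.algebraMap_injective L R'').nontrivial
  obtain ⟨q, hq⟩ := Ideal.exists_maximal R''
  let : Algebra k R'' := ((algebraMap L R'').comp (algebraMap k L)).toAlgebra
  have : IsScalarTower k L R'' := IsScalarTower.of_algebraMap_eq fun _ => rfl
  let K := q.ResidueField
  exact ⟨K, inferInstance, inferInstance, isDiag_bc (IsScalarTower.toAlgHom k R'' K)
    ⟨M, inferInstance, ⟨(cancelBC k L R'' B).symm.trans e⟩⟩⟩

variable {R₀ : Type u} [CommRing R₀] {C₀ : Type u} [CommRing C₀] [HopfAlgebra R₀ C₀]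

/-- Base change of isotriviality. -/
theorem isIsotrivial_bc {Q Q' : Type u} [CommRing Q] [Algebra R₀ Q] [CommRing Q'] [Algebra R₀ Q'] (g : Q →ₐ[R₀] Q')
    (h : IsIsotrivial Q (Q ⊗[R₀] C₀)) : IsIsotrivial Q' (Q' ⊗[R₀] C₀) := by
  obtain ⟨S, _, _, het, hfin, hff, M, _, ⟨e⟩⟩ := h
  have := het
  have := hfin
  have := hff
  let : Algebra Q Q' := g.toRingHom.toAlgebra
  have : IsScalarTower R₀ Q Q' := IsScalarTower.of_algebraMap_eq fun r => (g.commutes r).symm
  let S' := Q' ⊗[Q] S
  let : Algebra R₀ S := ((algebraMap Q S).comp (algebraMap R₀ Q)).toAlgebra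
  have : IsScalarTower R₀ Q S := IsScalarTower.of_algebraMap_eq fun _ => rfl
  have : IsScalarTower R₀ Q' S' := inferInstance
  let a : S →ₐ[R₀] S' := (includeRight : S →ₐ[Q] S').restrictScalars R₀
  obtain ⟨e'⟩ := nonempty_diag_bc a ((cancelBC R₀ Q S C₀).symm.trans e)
  exact ⟨S', inferInstance, inferInstance, inferInstance, inferInstance, inferInstance, M, inferInstance,
    ⟨(cancelBC R₀ Q' S' C₀).trans e'⟩⟩

/-- The kernel of a base change of a surjection whose kernel is generated by an idempotent. -/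
theorem ker_bc {S B P : Type u} [CommRing S] [CommRing B] [Algebra S B] [CommRing P] [Algebra S P] [Module.Flat S P]
    (φ : B →ₐ[S] P) (hφ : Function.Surjective φ) {e : B} (hid : IsIdempotentElem e) (he : ∀ z, φ z = 0 ↔ z = z * e)
    (T : Type u) [CommRing T] [Algebra S T] (z : T ⊗[S] B) :
    φ.toLinearMap.lTensor T z = 0 ↔ z = z * ((1 : T) ⊗ₜ[S] e) := by
  let L : T ⊗[S] B →ₗ[S] T ⊗[S] P := φ.toLinearMap.lTensor T
  constructor
  · intro hz
    obtain ⟨w, rfl⟩ : z ∈ LinearMap.range (((RingHom.ker φ).restrictScalars S).subtype.lTensor T) := by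
      rw [← (mem_ker_lTensor φ hφ T).2]
      exact hz
    clear hz
    induction w using TensorProduct.induction_on with
    | zero => simp
    | add a b ha hb => rw [map_add, add_mul, ← ha, ← hb]
    | tmul t x =>
      rw [LinearMap.lTensor_tmul, Algebra.TensorProduct.tmul_mul_tmul, mul_one]
      congr 1
      exact (he x.1).1 x.2
  · intro hz
    rw [hz]
    clear hz
    induction z using TensorProduct.induction_on with
    | zero => simp
    | add a b ha hb => rw [add_mul, map_add, ha, hb, add_zero]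
    | tmul t x =>
      rw [Algebra.TensorProduct.tmul_mul_tmul, LinearMap.lTensor_tmul, AlgHom.toLinearMap_apply, map_mul]
      rw [(he e).2 hid.eq.symm, mul_zero, TensorProduct.tmul_zero]

/-- Pushing a formal splitting to a base. -/
theorem split_push {A S' N : Type u} [CommRing A] [Algebra R₀ A] [CommRing S'] [Algebra A S'] [Algebra R₀ S']
    [IsScalarTower R₀ A S'] [CommGroup N] (φ : S' ⊗[A] (A ⊗[R₀] C₀) →ₐc[S'] MonoidAlgebra S' N) (hφ : Function.Surjective φ)
    (eA : A ⊗[R₀] C₀) (heA : IsIdempotentElem eA) (hker : ∀ z, φ z = 0 ↔ z = z * ((1 : S') ⊗ₜ[A] eA))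
    (I : Ideal R₀) (hI : eA ∈ I.map (algebraMap R₀ (A ⊗[R₀] C₀)))
    (T : Type u) [CommRing T] [Algebra R₀ T] [Algebra A T] [Algebra S' T] [IsScalarTower R₀ A T] [IsScalarTower A S' T]
    {D : Type u} [CommRing D] [HopfAlgebra T D] (ι' : T ⊗[R₀] C₀ ≃ₐc[T] D) :
    ∃ (φT : D →ₐc[T] MonoidAlgebra T N) (e : D), Function.Surjective φT ∧ IsIdempotentElem e ∧
      e ∈ (I.map (algebraMap R₀ T)).map (algebraMap T D) ∧ ∀ z, φT z = 0 ↔ z = z * e := by
  let ι : T ⊗[S'] (S' ⊗[A] (A ⊗[R₀] C₀)) ≃ₐc[T] D :=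
    ((cancelBC A S' T (A ⊗[R₀] C₀)).trans (cancelBC R₀ A T C₀)).trans ι'
  let φT : D →ₐc[T] MonoidAlgebra T N :=
    (((baseChangeGroupAlgebra S' T N).symm : _ →ₐc[T] _).comp (Bialgebra.TensorProduct.map (BialgHom.id T T) φ)).comp
      (ι.symm : _ →ₐc[T] _)
  let φA : S' ⊗[A] (A ⊗[R₀] C₀) →ₐ[S'] MonoidAlgebra S' N := φ
  have hφT : ∀ z, φT z = (baseChangeGroupAlgebra S' T N).symm (φA.toLinearMap.lTensor T (ι.symm z)) := fun z => by
    show (baseChangeGroupAlgebra S' T N).symm (Bialgebra.TensorProduct.map (BialgHom.id T T) φ (ι.symm z)) = _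
    congr 1
  have hid := heA.map (includeRight : A ⊗[R₀] C₀ →ₐ[A] S' ⊗[A] (A ⊗[R₀] C₀))
  refine ⟨φT, ι ((1 : T) ⊗ₜ[S'] ((1 : S') ⊗ₜ[A] eA)), fun w => ?_, ?_, ?_, fun z => ?_⟩
  · obtain ⟨v, hv⟩ := LinearMap.lTensor_surjective T (g := φA.toLinearMap) hφ (baseChangeGroupAlgebra S' T N w)
    exact ⟨ι v, by rw [hφT, BialgEquiv.symm_apply_apply, hv, BialgEquiv.symm_apply_apply]⟩
  · exact (hid.map (includeRight : S' ⊗[A] (A ⊗[R₀] C₀) →ₐ[S'] T ⊗[S'] (S' ⊗[A] (A ⊗[R₀] C₀)))).map ι
  · let : Algebra R₀ D := ((algebraMap T D).comp (algebraMap R₀ T)).toAlgebra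
    have : IsScalarTower R₀ T D := IsScalarTower.of_algebraMap_eq fun _ => rfl
    let : Algebra A D := ((algebraMap T D).comp (algebraMap A T)).toAlgebra
    have : IsScalarTower R₀ A D := IsScalarTower.of_algebraMap_eq fun r =>
      congrArg (algebraMap T D) (IsScalarTower.algebraMap_apply R₀ A T r)
    let L : A ⊗[R₀] C₀ →ₐ[A] D :=
      { toRingHom := (ι : T ⊗[S'] (S' ⊗[A] (A ⊗[R₀] C₀)) ≃ₐc[T] D).toAlgEquiv.toRingEquiv.toRingHom.comp
          ((includeRight : S' ⊗[A] (A ⊗[R₀] C₀) →ₐ[S'] T ⊗[S'] (S' ⊗[A] (A ⊗[R₀] C₀))).toRingHom.comp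
            (includeRight : A ⊗[R₀] C₀ →ₐ[A] S' ⊗[A] (A ⊗[R₀] C₀)).toRingHom)
        commutes' := fun a => by
          show ι ((1 : T) ⊗ₜ[S'] ((1 : S') ⊗ₜ[A] algebraMap A (A ⊗[R₀] C₀) a)) = algebraMap T D (algebraMap A T a)
          rw [show ((1 : S') ⊗ₜ[A] algebraMap A (A ⊗[R₀] C₀) a) = algebraMap S' _ (algebraMap A S' a) from
              ((includeRight : A ⊗[R₀] C₀ →ₐ[A] S' ⊗[A] (A ⊗[R₀] C₀)).commutes a).trans
                (IsScalarTower.algebraMap_apply A S' _ a),
            show ((1 : T) ⊗ₜ[S'] algebraMap S' (S' ⊗[A] (A ⊗[R₀] C₀)) (algebraMap A S' a)) =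
              algebraMap T _ (algebraMap S' T (algebraMap A S' a)) from
              ((includeRight : S' ⊗[A] (A ⊗[R₀] C₀) →ₐ[S'] T ⊗[S'] (S' ⊗[A] (A ⊗[R₀] C₀))).commutes _).trans
                (IsScalarTower.algebraMap_apply S' T _ _), ← IsScalarTower.algebraMap_apply A S' T]
          exact ι.toAlgEquiv.commutes _ }
    have h1 := map_mem_of_linear (L.restrictScalars R₀).toLinearMap I hI
    rwa [IsScalarTower.algebraMap_eq R₀ T D, ← Ideal.map_map] at h1
  · rw [hφT]
    have hinj : Function.Injective (baseChangeGroupAlgebra S' T N).symm :=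
      Function.LeftInverse.injective (baseChangeGroupAlgebra S' T N).apply_symm_apply
    rw [map_eq_zero_iff _ hinj, ker_bc φA hφ hid hker T]
    constructor
    · intro h
      have h2 := congrArg ι h
      rwa [map_mul, BialgEquiv.apply_symm_apply] at h2
    · intro h
      refine ι.toEquiv.injective ?_
      show ι _ = ι _
      rw [map_mul, BialgEquiv.apply_symm_apply]
      exact h

set_option maxHeartbeats 2000000 in
set_option synthInstance.maxHeartbeats 200000 in
/-- The splitting near the closed fibre. -/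
theorem exists_near_split {R : Type u} [CommRing R] [IsLocalRing R] {C : Type u} [CommRing C] [HopfAlgebra R C]
    [Algebra.FinitePresentation R C] (hfl : FlatNear R C (maximalIdeal R))
    (hs : IsMultType (IsLocalRing.ResidueField R) (IsLocalRing.ResidueField R ⊗[R] C)) :
    ∃ (T : Type u) (_ : CommRing T) (_ : IsLocalRing T) (_ : Algebra R T), Module.FaithfullyFlat R T ∧
      ∃ (N : Type u) (_ : CommGroup N), Group.FG N ∧ ∃ (φ : T ⊗[R] C →ₐc[T] MonoidAlgebra T N) (e : T ⊗[R] C),
        Function.Surjective φ ∧ IsIdempotentElem e ∧ e ∈ (maximalIdeal T).map (algebraMap T (T ⊗[R] C)) ∧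
        ∀ z, φ z = 0 ↔ z = z * e := by
  classical
  obtain ⟨R₀, _, _, _, _, hloc, C₀, _, _, _, hnear, ⟨ψ⟩⟩ := exists_near_model hfl
  let k := IsLocalRing.ResidueField R
  let k₀ := IsLocalRing.ResidueField R₀
  -- the closed fibre of the model
  obtain ⟨K, _, _, N, _, ⟨eK⟩⟩ := exists_field_split hs
  let : Algebra R K := ((algebraMap k K).comp (algebraMap R k)).toAlgebra
  have : IsScalarTower R k K := IsScalarTower.of_algebraMap_eq fun _ => rfl
  let : Algebra R₀ K := ((algebraMap R K).comp (algebraMap R₀ R)).toAlgebra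
  have : IsScalarTower R₀ R K := IsScalarTower.of_algebraMap_eq fun _ => rfl
  let : Algebra k₀ K := ((algebraMap k K).comp (IsLocalRing.ResidueField.map (algebraMap R₀ R))).toAlgebra
  have : IsScalarTower R₀ k₀ K := IsScalarTower.of_algebraMap_eq fun _ => rfl
  let eK₀ : K ⊗[k₀] (k₀ ⊗[R₀] C₀) ≃ₐc[K] MonoidAlgebra K N :=
    (((cancelBC R₀ k₀ K C₀).trans (cancelBC R₀ R K C₀).symm).trans (congrBC ψ K)).trans ((cancelBC R k K C).symm.trans eK)
  have hFG : Group.FG N := by
    have : Algebra.FiniteType K (MonoidAlgebra K N) := Algebra.FiniteType.equiv inferInstance eK₀.toAlgEquiv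
    exact Group.fg_iff_monoid_fg.2 (MonoidAlgebra.fg_of_finiteType (R := K))
  obtain ⟨S, _, _, hSfin, hSsep, ⟨eS⟩⟩ := exists_separable_split eK₀
  have : Algebra.FormallyEtale k₀ S := Algebra.FormallyEtale.of_isSeparable k₀ S
  have : Algebra.FinitePresentation k₀ S := Algebra.FinitePresentation.of_finiteType.1 inferInstance
  have : Algebra.Etale k₀ S := ⟨inferInstance, inferInstance⟩
  have hk₀ : IsIsotrivial k₀ (k₀ ⊗[R₀] C₀) :=
    ⟨S, inferInstance, inferInstance, inferInstance, hSfin, inferInstance, N, inferInstance, ⟨eS⟩⟩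
  -- the completion
  let A := AdicCompletion (maximalIdeal R₀) R₀
  have : IsNoetherianRing A := AdicNoeth.isNoetherianRing_adicCompletion _
  have hmax : maximalIdeal A = (maximalIdeal R₀).map (algebraMap R₀ A) := AdicCompletion.maximalIdeal_eq_map
  let g : k₀ →ₐ[R₀] A ⧸ maximalIdeal A := Ideal.Quotient.liftₐ (maximalIdeal R₀) (Algebra.ofId R₀ _) fun r hr => by
    rw [Algebra.ofId_apply, IsScalarTower.algebraMap_apply R₀ A, Ideal.Quotient.algebraMap_eq, Ideal.Quotient.eq_zero_iff_mem, hmax]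
    exact Ideal.mem_map_of_mem _ hr
  have h0 : IsIsotrivial (A ⧸ maximalIdeal A) ((A ⧸ maximalIdeal A) ⊗[A] (A ⊗[R₀] C₀)) := by
    obtain ⟨S', _, _, h1, h2, h3, M', _, ⟨e'⟩⟩ := isIsotrivial_bc g hk₀
    exact ⟨S', inferInstance, inferInstance, h1, h2, h3, M', inferInstance,
      ⟨(congrBC (cancelBC R₀ A (A ⧸ maximalIdeal A) C₀) S').trans e'⟩⟩
  obtain ⟨eA, heA, heAI, S', _, _, hS'fin, -, hS'ff, N', _, φ, hφ, hker⟩ :=
    exists_clopen_formal (C := A ⊗[R₀] C₀) (maximalIdeal A)
      (fun q _ hq => (hnear.baseChange A (maximalIdeal A) hmax.ge).flat_at q hq) h0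
  -- the local extension
  have : Module.FaithfullyFlat R₀ A := Module.FaithfullyFlat.of_flat_of_isLocalHom
  let : Algebra R₀ S' := ((algebraMap A S').comp (algebraMap R₀ A)).toAlgebra
  have : IsScalarTower R₀ A S' := IsScalarTower.of_algebraMap_eq fun _ => rfl
  have : Module.FaithfullyFlat R₀ S' := Module.FaithfullyFlat.trans R₀ A S'
  let T₁ := R ⊗[R₀] S'
  have : Module.FaithfullyFlat R T₁ := inferInstance
  obtain ⟨P, hP⟩ := PrimeSpectrum.comap_surjective_of_faithfullyFlat (A := R) (B := T₁) (IsLocalRing.closedPoint R)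
  let T := Localization.AtPrime P.asIdeal
  have hlocT : IsLocalHom (algebraMap R T) := ⟨fun r hr => by
    by_contra hu
    have h1 : algebraMap R T₁ r ∈ P.asIdeal := by
      have : r ∈ (PrimeSpectrum.comap (algebraMap R T₁) P).asIdeal := by rw [hP]; exact hu
      exact this
    rw [IsScalarTower.algebraMap_apply R T₁ T] at hr
    exact (IsLocalization.AtPrime.isUnit_to_map_iff T P.asIdeal _).1 hr h1⟩
  have : Module.Flat R T := Module.Flat.trans R T₁ T
  have hff : Module.FaithfullyFlat R T := Module.FaithfullyFlat.of_flat_of_isLocalHom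
  let : Algebra S' T := ((algebraMap T₁ T).comp (includeRight : S' →ₐ[R₀] T₁).toRingHom).toAlgebra
  let : Algebra A T := ((algebraMap S' T).comp (algebraMap A S')).toAlgebra
  have : IsScalarTower A S' T := IsScalarTower.of_algebraMap_eq fun _ => rfl
  have hR₀T : ∀ r, algebraMap R₀ T r = algebraMap S' T (algebraMap R₀ S' r) := fun r => by
    show algebraMap R T (algebraMap R₀ R r) = algebraMap T₁ T ((includeRight : S' →ₐ[R₀] T₁) (algebraMap R₀ S' r))
    rw [AlgHom.commutes, IsScalarTower.algebraMap_apply R₀ R T₁, ← IsScalarTower.algebraMap_apply R T₁ T]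
  have : IsScalarTower R₀ A T := IsScalarTower.of_algebraMap_eq fun r => hR₀T r
  obtain ⟨φT, eT, h1, h2, h3, h4⟩ := split_push φ hφ eA heA hker (maximalIdeal R₀) (by rwa [hmax, map_map_algebraMap] at heAI)
    T ((cancelBC R₀ R T C₀).symm.trans (congrBC ψ T))
  have hN' : Group.FG N' := by
    have : Nontrivial S' := (algebraMap S' T).domain_nontrivial
    let φA : S' ⊗[A] (A ⊗[R₀] C₀) →ₐ[S'] MonoidAlgebra S' N' := φ
    have : Algebra.FiniteType S' (MonoidAlgebra S' N') := Algebra.FiniteType.of_surjective φA hφ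
    exact Group.fg_iff_monoid_fg.2 (MonoidAlgebra.fg_of_finiteType (R := S'))
  refine ⟨T, inferInstance, inferInstance, inferInstance, hff, N', inferInstance, hN', φT, eT, h1, h2, ?_, h4⟩
  refine Ideal.map_mono (Ideal.map_le_iff_le_comap.2 fun r hr => ?_) h3
  rw [Ideal.mem_comap, IsScalarTower.algebraMap_apply R₀ R T, IsLocalRing.mem_maximalIdeal, mem_nonunits_iff, isUnit_map_iff,
    isUnit_map_iff]
  exact hr

end Groth.Agent.MultHopf
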