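import Groth.Agent.MultHopf.FormalComm
import Groth.Agent.MultHopf.NearSplit
import Groth.Agent.MultHopf.Torsion

/-!
# Commutative groups over local rings with finite torsion
-/

set_option autoImplicit false
set_option backward.isDefEq.respectTransparency.types false

universe u

open scoped TensorProduct
open SGA3b Coalgebra WithConv
open IsLocalRing (maximalIdeal)
open Algebra.TensorProduct (includeLeft includeRight)

namespace Groth.Agent.MultHopf

/-- An idempotent cutting out a diagonalisable subgroup and vanishing on all torsion subgroups is zero. -/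
theorem idem_eq_zero_of_torsion {R : Type u} [CommRing R] {C : Type u} [CommRing C] [HopfAlgebra R C] [Algebra.FiniteType R C]
    [Coalgebra.IsCocomm R C] {S : Type u} [CommRing S] [Algebra R S] [Module.FaithfullyFlat R S] {N : Type u} [CommGroup N]
    (φ : S ⊗[R] C →ₐc[S] MonoidAlgebra S N) (hφ : Function.Surjective φ) {e : C} (hid : IsIdempotentElem e)
    (he : ∀ z, φ z = 0 ↔ z = z * ((1 : S) ⊗ₜ[R] e)) (htor : ∀ n : ℕ, 0 < n → e ∈ torsionIdeal R C n) :
    (1 : S) ⊗ₜ[R] e = 0 := by
  classical
  let φA : S ⊗[R] C →ₐ[S] MonoidAlgebra S N := φ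
  have hφe : φ ((1 : S) ⊗ₜ[R] e) = 0 := (he _).2 (by rw [Algebra.TensorProduct.tmul_mul_tmul, one_mul, hid.eq])
  have hone : counit (R := R) e = 0 := by
    apply FaithfulSMul.algebraMap_injective R S
    have h := CoalgHomClass.counit_comp_apply (R := S) φ ((1 : S) ⊗ₜ[R] e)
    rw [hφe, map_zero] at h
    rw [map_zero]
    refine Eq.trans ?_ h.symm
    simp [Algebra.algebraMap_eq_smul_one]
  refine (hid.map (includeRight : C →ₐ[R] S ⊗[R] C)).eq_zero_of_isNilpotent
    (nilpotent_iff_mem_prime.2 fun J hJ => ?_)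
  obtain ⟨q, rfl⟩ : ∃ q : PrimeSpectrum (S ⊗[R] C), q.asIdeal = J := ⟨⟨J, hJ⟩, rfl⟩
  let K := AlgebraicClosure q.asIdeal.ResidueField
  let G : S ⊗[R] C →ₐ[S] K := IsScalarTower.toAlgHom S _ K
  have hGq : G ((1 : S) ⊗ₜ[R] e) = 0 → (1 : S) ⊗ₜ[R] e ∈ q.asIdeal := fun h => by
    rw [← Ideal.algebraMap_residueField_eq_zero]
    refine (map_eq_zero_iff _ (algebraMap q.asIdeal.ResidueField K).injective).1 ?_
    rw [← IsScalarTower.algebraMap_apply]
    exact h
  refine hGq ?_
  have : Nontrivial S := (IsScalarTower.toAlgHom S S K : S →ₐ[S] K).toRingHom.domain_nontrivial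
  have hNfg : Group.FG N := by
    have : Algebra.FiniteType S (MonoidAlgebra S N) := Algebra.FiniteType.of_surjective φA hφ
    exact Group.fg_iff_monoid_fg.2 (MonoidAlgebra.fg_of_finiteType (R := S))
  let x : WithConv (C →ₐ[R] K) := toConv ((G.restrictScalars R).comp includeRight)
  show x.ofConv e = 0
  -- points of the subgroup
  let pt : (N →* K) → WithConv (C →ₐ[R] K) := fun h =>
    toConv (((MonoidAlgebra.lift S K N h).comp φA).restrictScalars R |>.comp includeRight)
  have hpt0 : ∀ h, (pt h).ofConv e = 0 := fun h => by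
    show MonoidAlgebra.lift S K N h (φ ((1 : S) ⊗ₜ[R] e)) = 0
    rw [hφe, map_zero]
  have hptmul : ∀ h h', pt (h * h') = pt h * pt h' := fun h h' => by
    apply WithConv.ofConv_injective
    refine AlgHom.ext fun c => ?_
    rw [AlgHom.convMul_apply]
    let L := Algebra.TensorProduct.lift (MonoidAlgebra.lift S K N h) (MonoidAlgebra.lift S K N h') fun _ _ => Commute.all _ _
    have hL : ∀ w, L (comul (R := S) w) = MonoidAlgebra.lift S K N (h * h') w := fun w => by
      induction w using MonoidAlgebra.induction_linear with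
      | zero => simp
      | add a b ha hb => simp only [map_add, ha, hb]
      | single n r =>
        rw [MonoidAlgebra.comul_single, CommSemiring.comul_apply, TensorProduct.map_tmul]
        simp [L, Algebra.smul_def]
        ring
    show MonoidAlgebra.lift S K N (h * h') (φ ((1 : S) ⊗ₜ[R] c)) = _
    rw [← hL, ← CoalgHomClass.map_comp_comul_apply φ ((1 : S) ⊗ₜ[R] c), TensorProduct.comul_tmul, CommSemiring.comul_apply]
    induction comul (R := R) c using TensorProduct.induction_on with
    | zero => simp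
    | add a b ha hb => simp only [TensorProduct.tmul_add, map_add, ha, hb]
    | tmul a b => simp [L, pt, φA]
  have hpt1 : pt 1 = 1 := by
    apply WithConv.ofConv_injective
    refine AlgHom.ext fun c => ?_
    rw [AlgHom.convOne_apply]
    have hL : ∀ w, MonoidAlgebra.lift S K N 1 w = algebraMap S K (counit (R := S) w) := fun w => by
      induction w using MonoidAlgebra.induction_linear with
      | zero => simp
      | add a b ha hb => simp only [map_add, ha, hb]
      | single n r => simp [Algebra.smul_def]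
    show MonoidAlgebra.lift S K N 1 (φ ((1 : S) ⊗ₜ[R] c)) = _
    rw [hL, CoalgHomClass.counit_comp_apply, TensorProduct.counit_tmul]
    simp [Algebra.smul_def, IsScalarTower.algebraMap_apply R S K]
  let ptM : (N →* K) →* WithConv (C →ₐ[R] K) := { toFun := pt, map_one' := hpt1, map_mul' := hptmul }
  have hsurj : ∀ z : WithConv (C →ₐ[R] K), z.ofConv e = 0 → ∃ h, z = pt h := fun z hz => by
    let zS : S ⊗[R] C →ₐ[S] K := Algebra.TensorProduct.lift (Algebra.ofId S K) z.ofConv fun _ _ => Commute.all _ _
    let L : MonoidAlgebra S N →ₐ[S] K := AlgHom.liftOfSurjective φA hφ zS fun w hw => by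
      show zS w = 0
      rw [(he w).1 hw, map_mul, show zS ((1 : S) ⊗ₜ[R] e) = 0 by simp [zS, hz], mul_zero]
    refine ⟨(L : MonoidAlgebra S N →* K).comp (MonoidAlgebra.of S N), ?_⟩
    apply WithConv.ofConv_injective
    refine AlgHom.ext fun c => ?_
    show z.ofConv c = MonoidAlgebra.lift S K N _ (φA ((1 : S) ⊗ₜ[R] c))
    rw [show MonoidAlgebra.lift S K N ((L : MonoidAlgebra S N →* K).comp (MonoidAlgebra.of S N)) = L from
      (MonoidAlgebra.lift S K N).apply_symm_apply L, AlgHom.liftOfSurjective_apply]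
    simp [zS]
  obtain ⟨n, hn, hxn⟩ := exists_pow_mem hid hone x
  obtain ⟨h, hh⟩ := hsurj _ hxn
  obtain ⟨k, hk, y, hy⟩ := exists_root_char hNfg K h hn
  let Y := ptM y
  have hY : Y ^ (n * k) = x ^ (n * k) := by
    rw [pow_mul x, hh, show pt h = ptM h from rfl, ← map_pow, ← map_pow]
    congr 1
    exact MonoidHom.ext fun t => by simpa using hy t
  have hYu : ∀ t, y t ≠ 0 := fun t => ((Group.isUnit t).map y).ne_zero
  let y' : N →* K := { toFun := fun t => (y t)⁻¹, map_one' := by simp, map_mul' := fun a b => by rw [map_mul, mul_inv] }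
  have hYY : Y * ptM y' = 1 := by
    rw [← map_mul, ← map_one ptM]
    congr 1
    exact MonoidHom.ext fun t => mul_inv_cancel₀ (hYu t)
  let t := x * ptM y'
  have ht : t ^ (n * k) = 1 := by
    rw [mul_pow, ← hY, ← mul_pow, hYY, one_pow]
  have hte : t.ofConv e = 0 := by
    exact apply_eq_zero_of_torsion t ht (htor _ (Nat.mul_pos hn hk))
  have hxY : x = Y * t := by
    rw [show Y * t = x * (Y * ptM y') by rw [← mul_assoc, mul_comm Y, mul_assoc], hYY, mul_one]
  have h4 := congrArg (Algebra.TensorProduct.lift Y.ofConv t.ofConv fun _ _ => Commute.all _ _) (comul_idem_mul φ hφ hid he)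
  rw [map_mul, map_zero, Algebra.TensorProduct.lift_tmul, map_sub, map_sub, map_one, map_one,
    show Y.ofConv e = 0 from hpt0 y, hte, sub_zero, mul_one, mul_one] at h4
  rw [hxY, AlgHom.convMul_apply]
  exact h4

/-- An idempotent in `m D` vanishes in a quotient which is finite over a local ring. -/
theorem idem_mem_of_finite {T : Type u} [CommRing T] [IsLocalRing T] {D : Type u} [CommRing D] [Algebra T D] (J : Ideal D)
    [Module.Finite T (D ⧸ J)] {e : D} (he : IsIdempotentElem e) (heI : e ∈ (maximalIdeal T).map (algebraMap T D)) : e ∈ J := by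
  rw [← Ideal.Quotient.eq_zero_iff_mem]
  let Q := D ⧸ J
  let x : Q := Ideal.Quotient.mk J e
  have hx : IsIdempotentElem x := he.map _
  let M : Submodule T Q := LinearMap.range (LinearMap.mulLeft T x)
  have hfg : M.FG := Module.Finite.iff_fg.1 inferInstance
  have hxI : x ∈ maximalIdeal T • (⊤ : Submodule T Q) := by
    rw [Ideal.smul_top_eq_map]
    show x ∈ (maximalIdeal T).map (algebraMap T Q)
    rw [IsScalarTower.algebraMap_eq T D Q, ← Ideal.map_map]
    exact Ideal.mem_map_of_mem _ heI
  have hle : M ≤ maximalIdeal T • M := by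
    rintro _ ⟨y, rfl⟩
    have h1 : (x * y) * x ∈ (maximalIdeal T • (⊤ : Submodule T Q)).map (LinearMap.mulLeft T (x * y)) :=
      ⟨x, hxI, rfl⟩
    rw [Submodule.map_smul''] at h1
    have h2 : (x * y) * x = x * y := by rw [mul_right_comm, hx.eq]
    rw [h2] at h1
    refine Submodule.smul_mono le_rfl ?_ h1
    rintro _ ⟨z, -, rfl⟩
    exact ⟨y * z, (mul_assoc x y z).symm⟩
  have hM : M = ⊥ := Submodule.eq_bot_of_le_smul_of_le_jacobson_bot _ M hfg hle
    (IsLocalRing.maximalIdeal_le_jacobson ⊥)
  have : x ∈ M := ⟨1, by simp⟩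
  rwa [hM, Submodule.mem_bot] at this

/-- A commutative group with closed fibre of multiplicative type and finite torsion is of multiplicative type. -/
theorem isMultType_of_near_torsion_finite {R : Type u} [CommRing R] [IsLocalRing R] {C : Type u} [CommRing C]
    [HopfAlgebra R C] [Coalgebra.IsCocomm R C] [Algebra.FinitePresentation R C] (hfl : FlatNear R C (maximalIdeal R))
    (hs : IsMultType (IsLocalRing.ResidueField R) (IsLocalRing.ResidueField R ⊗[R] C))
    (hfin : ∀ n : ℕ, 0 < n → Module.Finite R (C ⧸ torsionIdeal R C n)) : IsMultType R C := by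
  obtain ⟨T, _, _, _, hff, N, _, -, φ, e, hφ, he, hem, hker⟩ := exists_near_split hfl hs
  let l := Bialgebra.TensorProduct.lid T (T ⊗[R] C)
  let φ' : T ⊗[T] (T ⊗[R] C) →ₐc[T] MonoidAlgebra T N := φ.comp (l : T ⊗[T] (T ⊗[R] C) →ₐc[T] T ⊗[R] C)
  have hl : l ((1 : T) ⊗ₜ[T] e) = e := by simp [l]
  have hl' : ∀ z, φ' z = φ (l z) := fun z => rfl
  have htor : ∀ n : ℕ, 0 < n → e ∈ torsionIdeal T (T ⊗[R] C) n := fun n hn => by
    have := hfin n hn
    let J := torsionIdeal R C n
    let J' := torsionIdeal T (T ⊗[R] C) n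
    let g : C ⧸ J →ₐ[R] (T ⊗[R] C) ⧸ J' := Ideal.Quotient.liftₐ J ((Ideal.Quotient.mkₐ R J').comp includeRight)
      fun c hc => by
        show Ideal.Quotient.mk J' ((includeRight : C →ₐ[R] T ⊗[R] C) c) = 0
        rw [Ideal.Quotient.eq_zero_iff_mem]
        show _ ∈ torsionIdeal T (T ⊗[R] C) n
        rw [← torsionIdeal_baseChange]
        exact Ideal.mem_map_of_mem _ hc
    let G : T ⊗[R] (C ⧸ J) →ₐ[T] (T ⊗[R] C) ⧸ J' :=
      Algebra.TensorProduct.lift (Algebra.ofId T _) g fun _ _ => Commute.all _ _
    have hG : Function.Surjective G := fun y => by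
      obtain ⟨y, rfl⟩ := Ideal.Quotient.mk_surjective y
      induction y using TensorProduct.induction_on with
      | zero => exact ⟨0, by simp⟩
      | add a b ha hb =>
        obtain ⟨a', ha'⟩ := ha
        obtain ⟨b', hb'⟩ := hb
        exact ⟨a' + b', by rw [map_add, map_add, ha', hb']⟩
      | tmul t c =>
        refine ⟨t ⊗ₜ Ideal.Quotient.mk J c, ?_⟩
        show algebraMap T _ t * g (Ideal.Quotient.mk J c) = _
        show Ideal.Quotient.mk J' (algebraMap T (T ⊗[R] C) t) * Ideal.Quotient.mk J' ((1 : T) ⊗ₜ[R] c) = _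
        rw [← map_mul]
        congr 1
        simp
    have : Module.Finite T ((T ⊗[R] C) ⧸ J') := Module.Finite.of_surjective G.toLinearMap hG
    exact idem_mem_of_finite J' he hem
  have h0 := idem_eq_zero_of_torsion (R := T) (C := T ⊗[R] C) (S := T) φ' (hφ.comp l.toEquiv.surjective) he
    (fun z => by
      rw [hl', hker]
      constructor
      · intro h
        refine l.toEquiv.injective ?_
        show l z = l _
        rwa [map_mul, hl]
      · intro h
        conv_lhs => rw [h, map_mul, hl]) htor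
  have he0 : e = 0 := by rw [← hl, h0, map_zero]
  have hbij : Function.Bijective φ := by
    refine ⟨fun x y h => ?_, hφ⟩
    have hz : φ (x - y) = 0 := by rw [map_sub, sub_eq_zero]; exact h
    have := (hker _).1 hz
    rwa [he0, mul_zero, sub_eq_zero] at this
  exact isMultType_of_split T ⟨N, inferInstance, ⟨BialgEquiv.ofBijective φ hbij⟩⟩

end Groth.Agent.MultHopf
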