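import Groth.Agent.MultHopf.LocalToGlobal
import Groth.Agent.MultHopf.NearComm

/-!
# Fibres of multiplicative type and finite torsion
-/

set_option autoImplicit false
set_option backward.isDefEq.respectTransparency.types false

universe u

open scoped TensorProduct
open SGA3b
open Algebra.TensorProduct (includeLeft includeRight)

namespace Groth.Agent.MultHopf

variable {R : Type u} [CommRing R] {A : Type u} [CommRing A] [HopfAlgebra R A]

/-- Finiteness of torsion is stable under base change. -/
theorem finite_torsion_bc (n : ℕ) [Module.Finite R (A ⧸ torsionIdeal R A n)] (T : Type u) [CommRing T] [Algebra R T] :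
    Module.Finite T ((T ⊗[R] A) ⧸ torsionIdeal T (T ⊗[R] A) n) := by
  let J := torsionIdeal R A n
  let J' := torsionIdeal T (T ⊗[R] A) n
  let g : A ⧸ J →ₐ[R] (T ⊗[R] A) ⧸ J' := Ideal.Quotient.liftₐ J ((Ideal.Quotient.mkₐ R J').comp includeRight)
    fun c hc => by
      show Ideal.Quotient.mk J' ((includeRight : A →ₐ[R] T ⊗[R] A) c) = 0
      rw [Ideal.Quotient.eq_zero_iff_mem]
      show _ ∈ torsionIdeal T (T ⊗[R] A) n
      rw [← torsionIdeal_baseChange]
      exact Ideal.mem_map_of_mem _ hc
  let G : T ⊗[R] (A ⧸ J) →ₐ[T] (T ⊗[R] A) ⧸ J' :=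
    Algebra.TensorProduct.lift (Algebra.ofId T _) g fun _ _ => Commute.all _ _
  refine Module.Finite.of_surjective G.toLinearMap fun y => ?_
  obtain ⟨y, rfl⟩ := Ideal.Quotient.mk_surjective y
  induction y using TensorProduct.induction_on with
  | zero => exact ⟨0, by simp⟩
  | add a b ha hb =>
    obtain ⟨a', ha'⟩ := ha
    obtain ⟨b', hb'⟩ := hb
    exact ⟨a' + b', by rw [map_add, map_add, ha', hb']⟩
  | tmul t c =>
    refine ⟨t ⊗ₜ Ideal.Quotient.mk J c, ?_⟩
    show algebraMap T _ t * g (Ideal.Quotient.mk J c) = _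
    show Ideal.Quotient.mk J' (algebraMap T (T ⊗[R] A) t) * Ideal.Quotient.mk J' ((1 : T) ⊗ₜ[R] c) = _
    rw [← map_mul]
    congr 1
    simp

/-- Flat commutative groups with fibres of multiplicative type and finite torsion are of multiplicative type. -/
theorem isMultType_of_fibres_torsion [Coalgebra.IsCocomm R A] [Module.Flat R A] [Algebra.FinitePresentation R A]
    (hfib : ∀ (p : Ideal R) [p.IsPrime], IsMultType p.ResidueField (p.ResidueField ⊗[R] A))
    (hfin : ∀ n : ℕ, 0 < n → Module.Finite R (A ⧸ torsionIdeal R A n)) : IsMultType R A := by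
  refine isMultType_of_atPrime fun p _ => ?_
  let Rp := Localization.AtPrime p
  refine isMultType_of_near_torsion_finite (flatNear_of_flat_at fun q _ _ => inferInstance)
    (isMultType_congr (cancelBC R Rp (IsLocalRing.ResidueField Rp) A).symm (hfib p)) fun n hn => ?_
  have := hfin n hn
  exact finite_torsion_bc n Rp

end Groth.Agent.MultHopf
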