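import Groth.Agent.MultHopf.QuasiIso

/-!
# Isotrivial groups are of multiplicative type
-/

set_option autoImplicit false
set_option backward.isDefEq.respectTransparency.types false

universe u

open scoped TensorProduct
open SGA3b

namespace Groth.Agent.MultHopf

variable {R : Type u} [CommRing R] {A : Type u} [CommRing A] [HopfAlgebra R A]

theorem isMultType_of_split (R' : Type u) [CommRing R'] [Algebra R R'] [Module.FaithfullyFlat R R']
    (h : IsDiag R' (R' ⊗[R] A)) : IsMultType R A := by
  refine ⟨{1}, Ideal.span_singleton_one, ?_⟩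
  rintro f hf
  obtain rfl : f = 1 := hf
  let L := Localization.Away (1 : R)
  refine ⟨L ⊗[R] R', inferInstance, inferInstance, inferInstance, ?_⟩
  obtain ⟨M, _, ⟨e⟩⟩ := isDiag_bc (S₂ := L ⊗[R] R') Algebra.TensorProduct.includeRight h
  exact ⟨M, inferInstance, ⟨(cancelBC R L (L ⊗[R] R') A).trans e⟩⟩

theorem isMultType_of_isIsotrivial' (h : IsIsotrivial R A) : IsMultType R A := by
  obtain ⟨R', _, _, -, -, hff, hD⟩ := h
  exact isMultType_of_split R' hD

end Groth.Agent.MultHopf
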