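import Groth.Agent.MultHopf.Algebraize

/-!
# Lifting homomorphisms from isotrivial groups of multiplicative type over adically complete rings
-/

set_option autoImplicit false

universe u

open scoped TensorProduct
open WithConv Coalgebra SGA3b

namespace Groth.Agent.MultHopf

open Groth.Agent.FinHopf (postComp)

theorem isMultType_of_isIsotrivial {R : Type u} [CommRing R] {B : Type u} [CommRing B] [HopfAlgebra R B]
    (hB : IsIsotrivial R B) : ∃ l : B →ₗ[R] R, IsIntegral l := by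
  obtain ⟨R', _, _, -, -, hff, M, _, ⟨e⟩⟩ := hB
  exact exists_integral_of_faithfullyFlat R' ((isIntegral_coeff.map e).restrict R')

variable {R : Type u} [CommRing R] {B : Type u} [CommRing B] [HopfAlgebra R B] {C : Type u} [CommRing C] [HopfAlgebra R C]

/-- Algebraization of compatible maps modulo the powers of `I`. -/
theorem exists_algebraize_compatible [IsNoetherianRing R] (I : Ideal R) [IsAdicComplete I R] (hB : IsIsotrivial R B)
    (w : ∀ n : ℕ, WithConv (C →ₐ[R] Bar (I ^ (n + 1)) B)) (hw : ∀ n, Compatible (I ^ (n + 1)) (w n))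
    (hcons : ∀ n, postComp (red (Ideal.pow_le_pow_right (Nat.le_succ (n + 1))) B) (w (n + 1)) = w n) :
    ∃ φ : C →ₐc[R] B, ∀ n c, Ideal.Quotient.mk _ (φ c) = (w n).ofConv c := by
  choose x hx using fun (n : ℕ) (c : C) => Ideal.Quotient.mk_surjective ((w n).ofConv c)
  obtain ⟨φ, hφ⟩ := exists_algebraize (C := C) I hB x
    (fun n c => by
      rw [← Ideal.Quotient.eq, hx n c, ← hcons n, FinHopf.postComp_apply, ← hx (n + 1) c]
      rfl)
    (fun n a b => by rw [← Ideal.Quotient.eq, map_add, hx, hx, hx, map_add])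
    (fun n a b => by rw [← Ideal.Quotient.eq, map_mul, hx, hx, hx, map_mul])
    (fun n r => by
      rw [← Ideal.Quotient.eq, hx, AlgHom.commutes]
      rfl)
    (fun n c => by
      rw [← Ideal.Quotient.eq]
      have h := DFunLike.congr_fun (congrArg WithConv.ofConv (hw n)) c
      rw [FinHopf.postComp_apply, AlgHom.convMul_apply, ← hx n c, bar_mk, Bialgebra.comulAlgHom_apply] at h
      rw [h, ← (ℛ R c).eq, map_sum, map_sum]
      refine Finset.sum_congr rfl fun i _ => ?_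
      rw [Algebra.TensorProduct.lift_tmul, FinHopf.postComp_apply, FinHopf.postComp_apply, ← hx, ← hx, bar_mk, bar_mk, ← map_mul]
      simp [i₁, i₂])
  exact ⟨φ, fun n c => (Ideal.Quotient.eq.2 (hφ n c)).trans (hx n c)⟩

/-- Dependent choice. -/
theorem exists_seq {X : ℕ → Sort*} (rel : ∀ n, X n → X (n + 1) → Prop) (x₀ : X 0)
    (step : ∀ n (x : X n), ∃ y, rel n x y) : ∃ w : ∀ n, X n, w 0 = x₀ ∧ ∀ n, rel n (w n) (w (n + 1)) := by
  choose nxt hnxt using step
  exact ⟨fun n => Nat.rec (motive := X) x₀ nxt n, rfl, fun n => hnxt n _⟩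

/-- One step of the tower. -/
theorem exists_step {l : B →ₗ[R] R} (hl : IsIntegral l) [Algebra.FormallySmooth R C] (I : Ideal R) (n : ℕ)
    (u : WithConv (C →ₐ[R] Bar (I ^ (n + 1)) B)) (hu : Compatible (I ^ (n + 1)) u) :
    ∃ u' : WithConv (C →ₐ[R] Bar (I ^ (n + 1 + 1)) B), Compatible (I ^ (n + 1 + 1)) u' ∧
      postComp (red (Ideal.pow_le_pow_right (Nat.le_succ (n + 1))) B) u' = u :=
  exists_lift_compatible hl (Ideal.pow_le_pow_right (Nat.le_succ (n + 1)))
    (by rw [← pow_add]; exact Ideal.pow_le_pow_right (by omega)) u hu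

theorem quot_eq_of_red {J K : Ideal R} (hJK : J ≤ K) (v : WithConv (C →ₐ[R] Bar J B)) (u : WithConv (C →ₐ[R] Bar K B))
    (hvu : postComp (red hJK B) v = u) (c : C) (b : B) (h : Ideal.Quotient.mk _ b = v.ofConv c) :
    u.ofConv c = Ideal.Quotient.mk _ b := by
  rw [← hvu, FinHopf.postComp_apply, ← h]
  rfl

/-- The tower of compatible lifts. -/
theorem exists_tower {l : B →ₗ[R] R} (hl : IsIntegral l) [Algebra.FormallySmooth R C] (I : Ideal R)
    (v : WithConv (C →ₐ[R] Bar (I ^ (0 + 1)) B)) (hv : Compatible (I ^ (0 + 1)) v) :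
    ∃ w : ∀ n : ℕ, WithConv (C →ₐ[R] Bar (I ^ (n + 1)) B), w 0 = v ∧ (∀ n, Compatible (I ^ (n + 1)) (w n)) ∧
      ∀ n, postComp (red (Ideal.pow_le_pow_right (Nat.le_succ (n + 1))) B) (w (n + 1)) = w n := by
  obtain ⟨w, hw0, hw⟩ := exists_seq (X := fun n => {u : WithConv (C →ₐ[R] Bar (I ^ (n + 1)) B) // Compatible (I ^ (n + 1)) u})
    (fun n x y => postComp (red (Ideal.pow_le_pow_right (Nat.le_succ (n + 1))) B) y.1 = x.1) ⟨v, hv⟩
    (fun n x => by
      obtain ⟨u', h1, h2⟩ := exists_step hl I n x.1 x.2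
      exact ⟨⟨u', h1⟩, h2⟩)
  exact ⟨fun n => (w n).1, congrArg Subtype.val hw0, fun n => (w n).2, hw⟩

/-- Homomorphisms into smooth groups lift from `R/I` for `I`-adically complete `R`. -/
theorem exists_lift_of_adicComplete [IsNoetherianRing R] (I : Ideal R) [IsAdicComplete I R] (hB : IsIsotrivial R B)
    [Algebra.FormallySmooth R C] (φ₀ : ((R ⧸ I) ⊗[R] C) →ₐc[R ⧸ I] ((R ⧸ I) ⊗[R] B)) :
    ∃ φ : C →ₐc[R] B, ∀ c : C, φ₀ ((1 : R ⧸ I) ⊗ₜ[R] c) = (1 : R ⧸ I) ⊗ₜ[R] (φ c) := by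
  obtain ⟨l, hl⟩ := isMultType_of_isIsotrivial hB
  obtain ⟨u₀, hu₀, hu₀a⟩ := exists_compatible_of_bialgHom I φ₀
  have h0 : I ^ (0 + 1) ≤ I := by simp
  obtain ⟨v, hv, hvr⟩ := exists_lift_compatible hl h0 (by simpa using Ideal.mul_le_left) u₀ hu₀
  obtain ⟨w, hw0, hw, hcons⟩ := exists_tower hl I v hv
  obtain ⟨φ, hφ⟩ := exists_algebraize_compatible I hB w hw hcons
  refine ⟨φ, fun c => (hu₀a c (φ c)).1 (quot_eq_of_red h0 v u₀ hvr c (φ c) ?_)⟩
  rw [← hw0]
  exact hφ 0 c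

end Groth.Agent.MultHopf
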