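import Groth.Agent.MultHopf.FormalClopen
import Groth.Agent.MultHopf.LiftAdic
import Groth.Agent.MultHopf.QuasiIso
import Groth.Agent.MultHopf.IsoBasic
import Groth.Agent.MultHopf.KerSplit

/-!
# Homomorphisms from isotrivial groups of multiplicative type over complete rings
-/

set_option autoImplicit false
set_option backward.isDefEq.respectTransparency.types false

universe u

open scoped TensorProduct
open SGA3b Coalgebra WithConv
open Algebra.TensorProduct (includeLeft includeRight)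

namespace Groth.Agent.MultHopf

open Groth.Agent.FinHopf (postComp)

variable {R : Type u} [CommRing R] {B : Type u} [CommRing B] [HopfAlgebra R B] {C : Type u} [CommRing C] [HopfAlgebra R C]

/-- Base change of quasi-isotriviality. -/
theorem isQuasiIsotrivial_bc {Q Q' : Type u} [CommRing Q] [Algebra R Q] [CommRing Q'] [Algebra R Q'] (g : Q →ₐ[R] Q')
    (h : IsQuasiIsotrivial Q (Q ⊗[R] C)) : IsQuasiIsotrivial Q' (Q' ⊗[R] C) := by
  obtain ⟨s, hs, hs'⟩ := h
  refine ⟨g '' s, ?_, fun f' hf' => ?_⟩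
  · rw [← Ideal.map_span, hs, Ideal.map_top]
  obtain ⟨f, hf, rfl⟩ := hf'
  obtain ⟨R₁, _, _, het, hff, hd⟩ := hs' f hf
  let L := Localization.Away f
  let L' := Localization.Away (g f)
  let : Algebra Q Q' := g.toRingHom.toAlgebra
  have : IsScalarTower R Q Q' := IsScalarTower.of_algebraMap_eq fun r => (g.commutes r).symm
  let gL : L →+* L' := IsLocalization.Away.lift (S := L) f (g := (algebraMap Q' L').comp g.toRingHom)
    (IsLocalization.Away.algebraMap_isUnit (S := L') (g f))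
  let : Algebra L L' := gL.toAlgebra
  have : IsScalarTower R L L' := IsScalarTower.of_algebraMap_eq fun r => by
    rw [RingHom.algebraMap_toAlgebra, IsScalarTower.algebraMap_apply R Q L, IsLocalization.Away.lift_eq,
      IsScalarTower.algebraMap_apply R Q' L']
    show algebraMap Q' L' (algebraMap R Q' r) = algebraMap Q' L' (g (algebraMap R Q r))
    rw [g.commutes]
  have := het
  have := hff
  let R₁' := L' ⊗[L] R₁
  let : Algebra R R₁ := ((algebraMap L R₁).comp (algebraMap R L)).toAlgebra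
  have : IsScalarTower R L R₁ := IsScalarTower.of_algebraMap_eq fun _ => rfl
  let a : R₁ →ₐ[R] R₁' := (includeRight : R₁ →ₐ[L] R₁').restrictScalars R
  refine ⟨R₁', inferInstance, inferInstance, inferInstance, inferInstance, ?_⟩
  obtain ⟨M, _, ⟨e⟩⟩ := hd
  have : IsScalarTower R L' R₁' := inferInstance
  let : Algebra Q R₁ := ((algebraMap L R₁).comp (algebraMap Q L)).toAlgebra
  have : IsScalarTower Q L R₁ := IsScalarTower.of_algebraMap_eq fun _ => rfl
  have : IsScalarTower R Q R₁ := IsScalarTower.of_algebraMap_eq fun r => by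
    show algebraMap L R₁ (algebraMap R L r) = algebraMap L R₁ (algebraMap Q L (algebraMap R Q r))
    rw [← IsScalarTower.algebraMap_apply R Q L]
  obtain ⟨e'⟩ := nonempty_diag_bc a (((cancelBC Q L R₁ (Q ⊗[R] C)).trans (cancelBC R Q R₁ C)).symm.trans e)
  exact ⟨M, inferInstance, ⟨((cancelBC Q' L' R₁' (Q' ⊗[R] C)).trans (cancelBC R Q' R₁' C)).trans e'⟩⟩

theorem isQuasiIsotrivial_congr {T : Type u} [CommRing T] {A A' : Type u} [CommRing A] [HopfAlgebra T A] [CommRing A']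
    [HopfAlgebra T A'] (e : A ≃ₐc[T] A') (h : IsQuasiIsotrivial T A) : IsQuasiIsotrivial T A' := by
  obtain ⟨s, hs, hs'⟩ := h
  refine ⟨s, hs, fun f hf => ?_⟩
  obtain ⟨R₁, _, _, het, hff, M, _, ⟨d⟩⟩ := hs' f hf
  exact ⟨R₁, inferInstance, inferInstance, het, hff, M, inferInstance,
    ⟨(congrBC (congrBC e (Localization.Away f)) R₁).symm.trans d⟩⟩

theorem isMultType_of_isQuasiIsotrivial {T : Type u} [CommRing T] {A : Type u} [CommRing A] [HopfAlgebra T A]
    (h : IsQuasiIsotrivial T A) : IsMultType T A := by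
  obtain ⟨s, hs, hs'⟩ := h
  refine ⟨s, hs, fun f hf => ?_⟩
  obtain ⟨R₁, _, _, -, hff, hd⟩ := hs' f hf
  exact ⟨R₁, inferInstance, inferInstance, hff, hd⟩

set_option maxHeartbeats 1000000 in
/-- Compatible maps change base. -/
theorem exists_compatible_bc (Q : Type u) [CommRing Q] [Algebra R Q] (J : Ideal R) (u : WithConv (C →ₐ[R] Bar J B))
    (hu : Compatible J u) :
    ∃ u' : WithConv (Q ⊗[R] C →ₐ[Q] Bar (J.map (algebraMap R Q)) (Q ⊗[R] B)),
      Compatible (J.map (algebraMap R Q)) u' ∧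
      ∀ c b, u.ofConv c = Ideal.Quotient.mk _ b → u'.ofConv ((1 : Q) ⊗ₜ[R] c) = Ideal.Quotient.mk _ ((1 : Q) ⊗ₜ[R] b) := by
  classical
  let K := J.map (algebraMap R Q)
  let MT := Q ⊗[R] B
  let ε : B →ₐ[R] MT := includeRight
  let ρ : Bar J B →ₐ[R] Bar K MT :=
    Ideal.Quotient.liftₐ _ (((Ideal.Quotient.mkₐ Q _).restrictScalars R).comp ε) fun x hx =>
      Ideal.Quotient.eq_zero_iff_mem.2 (by rw [map_map_algebraMap]; exact map_mem_of_linear ε.toLinearMap J hx)
  let v₀ : WithConv (Q ⊗[R] C →ₐ[Q] Bar K MT) :=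
    toConv (Algebra.TensorProduct.lift (Algebra.ofId Q _) (ρ.comp u.ofConv) (fun _ _ => Commute.all _ _))
  have hv'1 : ∀ c, v₀.ofConv ((1 : Q) ⊗ₜ[R] c) = ρ (u.ofConv c) := fun c => by simp [v₀]
  have hρ : ∀ z, ρ (Ideal.Quotient.mk _ z) = Ideal.Quotient.mk _ (ε z) := fun z => rfl
  refine ⟨v₀, ?_, fun c b hcb => by rw [hv'1, hcb]; rfl⟩
  let ψ : B ⊗[R] B →ₐ[R] MT ⊗[Q] MT :=
    Algebra.TensorProduct.lift (((i₁ (R := Q) (A := MT)).restrictScalars R).comp ε)
      (((i₂ (R := Q) (A := MT)).restrictScalars R).comp ε) (fun _ _ => Commute.all _ _)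
  let Θ : Bar J (B ⊗[R] B) →ₐ[R] Bar K (MT ⊗[Q] MT) :=
    Ideal.Quotient.liftₐ _ (((Ideal.Quotient.mkₐ Q _).restrictScalars R).comp ψ) fun x hx => by
      refine Ideal.Quotient.eq_zero_iff_mem.2 ?_
      rw [map_map_algebraMap]
      exact map_mem_of_linear ψ.toLinearMap J hx
  have hΘ : ∀ z, Θ (Ideal.Quotient.mk _ z) = Ideal.Quotient.mk _ (ψ z) := fun z => rfl
  have hψΔ : ∀ b : B, ψ (comul (R := R) b) = comul (R := Q) (ε b) := fun b => by
    show _ = comul (R := Q) ((1 : Q) ⊗ₜ[R] b)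
    rw [TensorProduct.comul_tmul, CommSemiring.comul_apply]
    induction comul (R := R) b using TensorProduct.induction_on with
    | zero => simp
    | add x y hx hy => simp only [TensorProduct.tmul_add, map_add, hx, hy]
    | tmul x y => simp [ψ, ε, i₁, i₂, MT]
  apply WithConv.ofConv_injective
  refine AlgHom.ext fun z => ?_
  induction z using TensorProduct.induction_on with
  | zero => simp
  | add x y hx hy => simp only [map_add, hx, hy]
  | tmul s c =>
    rw [show s ⊗ₜ[R] c = s • ((1 : Q) ⊗ₜ[R] c) by rw [TensorProduct.smul_tmul', smul_eq_mul, mul_one], map_smul, map_smul]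
    congr 1
    have hu' := DFunLike.congr_fun (congrArg WithConv.ofConv hu) c
    rw [FinHopf.postComp_apply, AlgHom.convMul_apply] at hu'
    rw [FinHopf.postComp_apply, hv'1, AlgHom.convMul_apply, TensorProduct.comul_tmul, CommSemiring.comul_apply]
    have hLHS : bar K (Bialgebra.comulAlgHom Q MT) (ρ (u.ofConv c)) = Θ (bar J (Bialgebra.comulAlgHom R B) (u.ofConv c)) := by
      obtain ⟨a, ha⟩ := Ideal.Quotient.mk_surjective (u.ofConv c)
      rw [← ha, bar_mk, hρ, bar_mk, hΘ, Bialgebra.comulAlgHom_apply, Bialgebra.comulAlgHom_apply, hψΔ]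
    rw [hLHS, hu']
    induction comul (R := R) c using TensorProduct.induction_on with
    | zero => simp
    | add x y hx hy => simp only [TensorProduct.tmul_add, map_add, hx, hy]
    | tmul x y =>
      simp only [TensorProduct.AlgebraTensorModule.tensorTensorTensorComm_tmul, TensorProduct.map_tmul,
        Algebra.TensorProduct.lift_tmul, map_mul, FinHopf.postComp_apply]
      show _ = bar K i₁ (v₀.ofConv ((1 : Q) ⊗ₜ[R] x)) * bar K i₂ (v₀.ofConv ((1 : Q) ⊗ₜ[R] y))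
      rw [hv'1, hv'1]
      obtain ⟨a, ha⟩ := Ideal.Quotient.mk_surjective (u.ofConv x)
      obtain ⟨b, hb⟩ := Ideal.Quotient.mk_surjective (u.ofConv y)
      rw [← ha, ← hb, bar_mk, bar_mk, hρ, hρ, bar_mk, bar_mk, hΘ, hΘ]
      simp [ψ, ε, i₁, i₂, ← Algebra.TensorProduct.one_def]

set_option maxHeartbeats 1000000 in
set_option synthInstance.maxHeartbeats 100000 in
/-- Reduction modulo `I` is bijective on homomorphisms out of an isotrivial group of multiplicative type. -/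
theorem hom_reduction_bijective [IsNoetherianRing R] (I : Ideal R) [IsAdicComplete I R] (hB : IsIsotrivial R B)
    (hfl : ∀ (q : Ideal C) [q.IsPrime], Ideal.map (algebraMap R C) I ≤ q → Module.Flat R (Localization.AtPrime q))
    (h0 : IsQuasiIsotrivial (R ⧸ I) ((R ⧸ I) ⊗[R] C)) :
    (∀ φ ψ : C →ₐc[R] B, (∀ c : C, (1 : R ⧸ I) ⊗ₜ[R] (φ c) = (1 : R ⧸ I) ⊗ₜ[R] (ψ c)) → φ = ψ) ∧
    (∀ φ₀ : ((R ⧸ I) ⊗[R] C) →ₐc[R ⧸ I] ((R ⧸ I) ⊗[R] B),
      ∃ φ : C →ₐc[R] B, ∀ c : C, φ₀ ((1 : R ⧸ I) ⊗ₜ[R] c) = (1 : R ⧸ I) ⊗ₜ[R] (φ c)) := by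
  classical
  let Q : ℕ → Type u := fun n => R ⧸ I ^ (n + 1)
  have hnil : ∀ n, IsNilpotent (I.map (algebraMap R (R ⧸ I ^ (n + 1)))) := fun n =>
    ⟨n + 1, by rw [← Ideal.map_pow, Ideal.Quotient.algebraMap_eq, Ideal.map_quotient_self]; rfl⟩
  have hnil' : ∀ n, ∀ x ∈ I.map (algebraMap R (R ⧸ I ^ (n + 1))), IsNilpotent x := fun n x hx => by
    obtain ⟨k, hk⟩ := hnil n
    have h1 := Ideal.pow_mem_pow hx k
    rw [hk] at h1
    exact ⟨k, (Submodule.mem_bot _).1 h1⟩
  -- membership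
  have hmem : ∀ (n : ℕ) (X : Type u) [CommRing X] [Algebra R X] (x : X),
      x ∈ (I ^ (n + 1)).map (algebraMap R X) ↔ (1 : R ⧸ I ^ (n + 1)) ⊗ₜ[R] x = 0 := fun n X _ _ x => by
    rw [← mem_smul_top_iff_tmul, Ideal.smul_top_eq_map]
    rfl
  have hmemI : ∀ (X : Type u) [CommRing X] [Algebra R X] (x : X),
      x ∈ I.map (algebraMap R X) ↔ (1 : R ⧸ I) ⊗ₜ[R] x = 0 := fun X _ _ x => by
    rw [← mem_smul_top_iff_tmul, Ideal.smul_top_eq_map]
    rfl
  have hlow : ∀ (n : ℕ) (x : B), x ∈ I.map (algebraMap R B) ↔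
      (1 : R ⧸ I ^ (n + 1)) ⊗ₜ[R] x ∈ I.map (algebraMap R ((R ⧸ I ^ (n + 1)) ⊗[R] B)) := fun n x => by
    refine ⟨fun hx => map_mem_of_linear (TensorProduct.mk R (R ⧸ I ^ (n + 1)) B 1) I hx, fun hx => ?_⟩
    let π : (R ⧸ I ^ (n + 1)) ⊗[R] B →ₐ[R] B ⧸ I.map (algebraMap R B) :=
      Algebra.TensorProduct.lift
        (Ideal.Quotient.liftₐ (I ^ (n + 1)) (Algebra.ofId R _) fun r hr => by
          rw [Algebra.ofId_apply, IsScalarTower.algebraMap_apply R B, Ideal.Quotient.algebraMap_eq,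
            Ideal.Quotient.eq_zero_iff_mem]
          exact Ideal.mem_map_of_mem _ (Ideal.pow_le_self (Nat.succ_ne_zero n) hr))
        (Ideal.Quotient.mkₐ R _) fun _ _ => Commute.all _ _
    have h1 := map_mem_of_linear π.toLinearMap I hx
    rw [IsScalarTower.algebraMap_eq R B (B ⧸ I.map (algebraMap R B)), ← Ideal.map_map, Ideal.Quotient.algebraMap_eq,
      Ideal.map_quotient_self, Ideal.mem_bot] at h1
    rw [← Ideal.Quotient.eq_zero_iff_mem]
    simpa [π] using h1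
  -- the groups modulo `I ^ (n + 1)` split
  have hC : ∀ n, IsMultType (R ⧸ I ^ (n + 1)) ((R ⧸ I ^ (n + 1)) ⊗[R] C) := fun n => by
    let T := R ⧸ I ^ (n + 1)
    let K := I.map (algebraMap R T)
    have := flat_quot_of_flat_at I hfl n
    let g : R ⧸ I →ₐ[R] T ⧸ K := Ideal.Quotient.liftₐ I (Algebra.ofId R _) fun r hr => by
      rw [Algebra.ofId_apply, IsScalarTower.algebraMap_apply R T, Ideal.Quotient.algebraMap_eq,
        Ideal.Quotient.eq_zero_iff_mem]
      exact Ideal.mem_map_of_mem _ hr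
    refine isMultType_of_isQuasiIsotrivial (isQuasiIsotrivial_of_liftsDiag (hnil' n) (liftsDiag_of_flat (hnil n)) ?_)
    have h1 := isQuasiIsotrivial_bc g h0
    exact isQuasiIsotrivial_congr (cancelBC R T (T ⧸ K) C).symm h1
  have hF : ∀ n, ∃ F : FamFF (R ⧸ I ^ (n + 1)), Splits ((R ⧸ I ^ (n + 1)) ⊗[R] B) F ∧ Splits ((R ⧸ I ^ (n + 1)) ⊗[R] C) F := fun n => by
    obtain ⟨F₁, h₁⟩ := exists_splits_of_isMultType (isMultType_of_isIsotrivial' hB)
    obtain ⟨F₂, h₂⟩ := exists_splits_of_isMultType (hC n)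
    exact ⟨(F₁.bc _).prod F₂, (h₁.bc _).prod_left F₂, h₂.prod_right _⟩
  choose F hFB hFC using hF
  -- congruent homomorphisms agree at every level
  have huniq : ∀ (n : ℕ) (φ ψ : (R ⧸ I ^ (n + 1)) ⊗[R] C →ₐc[R ⧸ I ^ (n + 1)] (R ⧸ I ^ (n + 1)) ⊗[R] B),
      (∀ c, φ ((1 : R ⧸ I ^ (n + 1)) ⊗ₜ[R] c) - ψ ((1 : R ⧸ I ^ (n + 1)) ⊗ₜ[R] c) ∈
        I.map (algebraMap R ((R ⧸ I ^ (n + 1)) ⊗[R] B))) → φ = ψ := fun n φ ψ h => by
    refine eq_of_congr_multType (hnil' n) (F n) (hFB n) (hFC n) φ ψ fun z => ?_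
    obtain ⟨c, rfl⟩ := exists_eq_one_tmul z
    rw [map_map_algebraMap]
    exact h c
  -- separatedness
  obtain ⟨R', _, _, -, hfin, hff, M, _, ⟨e⟩⟩ := id hB
  let E : R' ⊗[R] B ≃ₐ[R'] MonoidAlgebra R' M := e
  let eM : R' ⊗[R] B ≃ₗ[R] M →₀ R' :=
    (E.toLinearEquiv.restrictScalars R).trans ((MonoidAlgebra.coeffLinearEquiv R').restrictScalars R)
  have sepB : ∀ b : B, (∀ n : ℕ, b ∈ (I ^ (n + 1)).map (algebraMap R B)) → b = 0 :=
    fun b => eq_zero_of_forall_mem I (eM.toLinearMap ∘ₗ TensorProduct.mk R R' B 1)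
      (eM.injective.comp (Module.FaithfullyFlat.tensorProduct_mk_injective B)) b
  refine ⟨fun φ ψ h => DFunLike.ext _ _ fun c => sub_eq_zero.1 (sepB _ fun n => ?_), fun φ₀ => ?_⟩
  · have h1 := huniq n (Bialgebra.TensorProduct.map (BialgHom.id _ _) φ) (Bialgebra.TensorProduct.map (BialgHom.id _ _) ψ)
      fun c => by
        show (1 : R ⧸ I ^ (n + 1)) ⊗ₜ[R] φ c - (1 : R ⧸ I ^ (n + 1)) ⊗ₜ[R] ψ c ∈ _
        rw [← TensorProduct.tmul_sub, ← hlow, hmemI, TensorProduct.tmul_sub, h c, sub_self]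
    rw [hmem, TensorProduct.tmul_sub, sub_eq_zero]
    exact DFunLike.congr_fun h1 ((1 : R ⧸ I ^ (n + 1)) ⊗ₜ[R] c)
  -- the lifts at each level
  obtain ⟨u, hu, hu₀⟩ := exists_compatible_of_bialgHom I φ₀
  choose a ha using fun c => exists_eq_one_tmul (φ₀ ((1 : R ⧸ I) ⊗ₜ[R] c))
  have hlift : ∀ n, ∃ φ : (R ⧸ I ^ (n + 1)) ⊗[R] C →ₐc[R ⧸ I ^ (n + 1)] (R ⧸ I ^ (n + 1)) ⊗[R] B,
      ∀ c, φ ((1 : R ⧸ I ^ (n + 1)) ⊗ₜ[R] c) - (1 : R ⧸ I ^ (n + 1)) ⊗ₜ[R] a c ∈
        I.map (algebraMap R ((R ⧸ I ^ (n + 1)) ⊗[R] B)) := fun n => by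
    obtain ⟨u', hu', hu'₀⟩ := exists_compatible_bc (R ⧸ I ^ (n + 1)) I u hu
    obtain ⟨φ, hφ⟩ := exists_lift_hom_multType (hnil' n) (F n) (hFB n) (hFC n) u' hu'
    refine ⟨φ, fun c => ?_⟩
    rw [← map_map_algebraMap I (R ⧸ I ^ (n + 1)), ← Ideal.Quotient.eq]
    exact (hφ _).trans (hu'₀ c (a c) ((hu₀ c (a c)).2 (ha c)))
  choose φn hφn using hlift
  choose x hx using fun n c => exists_eq_one_tmul (φn n ((1 : R ⧸ I ^ (n + 1)) ⊗ₜ[R] c))
  obtain ⟨φ, hφ⟩ := exists_algebraize I hB x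
    (fun n c => by
      let red : R ⧸ I ^ (n + 1 + 1) →ₐ[R] R ⧸ I ^ (n + 1) := Ideal.Quotient.factorₐ R (Ideal.pow_le_pow_right (Nat.le_succ _))
      obtain ⟨P, hP⟩ := exists_bc red (φn (n + 1))
      have h1 : P = φn n := huniq n _ _ fun c => by
        rw [hP, hx (n + 1) c, Algebra.TensorProduct.map_tmul, map_one]
        have h2 := hφn (n + 1) c
        rw [hx (n + 1) c, ← TensorProduct.tmul_sub, ← hlow] at h2
        have h3 := (hlow n _).1 h2
        rw [TensorProduct.tmul_sub] at h3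
        have h4 := sub_mem h3 (hφn n c)
        rw [sub_sub_sub_cancel_right] at h4
        exact h4
      rw [hmem, TensorProduct.tmul_sub, ← hx n c, ← h1, hP, hx (n + 1) c, Algebra.TensorProduct.map_tmul, map_one]
      exact sub_self _)
    (fun n p q => by
      rw [hmem, TensorProduct.tmul_sub, TensorProduct.tmul_add, ← hx, ← hx, ← hx, TensorProduct.tmul_add, map_add, sub_self])
    (fun n p q => by
      rw [hmem, TensorProduct.tmul_sub, ← one_mul (1 : R ⧸ I ^ (n + 1)), ← Algebra.TensorProduct.tmul_mul_tmul, one_mul,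
        ← hx, ← hx, ← hx, ← map_mul, Algebra.TensorProduct.tmul_mul_tmul, one_mul, sub_self])
    (fun n r => by
      rw [hmem, TensorProduct.tmul_sub, ← hx]
      rw [show (1 : R ⧸ I ^ (n + 1)) ⊗ₜ[R] algebraMap R C r = algebraMap (R ⧸ I ^ (n + 1)) _ (algebraMap R _ r) by
          rw [← IsScalarTower.algebraMap_apply]
          exact ((includeRight : C →ₐ[R] (R ⧸ I ^ (n + 1)) ⊗[R] C).commutes r),
        show (1 : R ⧸ I ^ (n + 1)) ⊗ₜ[R] algebraMap R B r = algebraMap (R ⧸ I ^ (n + 1)) _ (algebraMap R _ r) by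
          rw [← IsScalarTower.algebraMap_apply]
          exact ((includeRight : B →ₐ[R] (R ⧸ I ^ (n + 1)) ⊗[R] B).commutes r)]
      exact sub_eq_zero.2 (AlgHomClass.commutes (φn n) _))
    (fun n c => by
      let T := R ⧸ I ^ (n + 1)
      let δB := TensorProduct.AlgebraTensorModule.distribBaseChange R T B B
      rw [hmem, TensorProduct.tmul_sub, TensorProduct.tmul_sum, sub_eq_zero]
      apply δB.injective
      have h1 : ∀ b, δB ((1 : T) ⊗ₜ[R] comul (R := R) b) = comul (R := T) ((1 : T) ⊗ₜ[R] b) := fun b => by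
        rw [TensorProduct.comul_tmul, CommSemiring.comul_apply]
        induction comul (R := R) b using TensorProduct.induction_on with
        | zero => simp only [TensorProduct.tmul_zero, LinearEquiv.map_zero, map_zero]
        | add p q hp hq => simp only [TensorProduct.tmul_add, LinearEquiv.map_add, map_add, hp, hq]
        | tmul p q => simp [δB]
      rw [h1, ← hx, map_sum,
        show comul (R := T) (φn n ((1 : T) ⊗ₜ[R] c)) = TensorProduct.map (φn n).toCoalgHom.toLinearMap (φn n).toCoalgHom.toLinearMap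
          (comul ((1 : T) ⊗ₜ[R] c)) from (LinearMap.congr_fun (φn n).toCoalgHom.map_comp_comul _).symm,
        TensorProduct.comul_tmul, CommSemiring.comul_apply, ← (ℛ R c).eq, TensorProduct.tmul_sum, map_sum, map_sum]
      refine Finset.sum_congr rfl fun i _ => ?_
      simp [δB, ← hx]
      rfl)
  refine ⟨φ, fun c => ?_⟩
  rw [ha c, ← sub_eq_zero, ← TensorProduct.tmul_sub, ← hmemI]
  have h1 := hφn 0 c
  rw [hx 0 c, ← TensorProduct.tmul_sub, ← hlow] at h1
  have h2 : φ c - x 0 c ∈ I.map (algebraMap R B) := Ideal.map_mono (Ideal.pow_le_self (Nat.succ_ne_zero 0)) (hφ 0 c)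
  rw [show a c - φ c = -((φ c - x 0 c) + (x 0 c - a c)) by ring]
  exact neg_mem (add_mem h2 h1)

end Groth.Agent.MultHopf
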