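import Groth.Agent.MultHopf.Torsion
import Groth.Agent.FpqcDescent.Amitsur
import Mathlib.RingTheory.Flat.FaithfullyFlat.Algebra
import Mathlib.RingTheory.Flat.Stability
import Mathlib.RingTheory.Flat.Localization
import Mathlib.RingTheory.Spectrum.Prime.Topology

/-!
# The normalized integral of a group of multiplicative type
-/

set_option autoImplicit false

universe u v

open scoped TensorProduct
open Coalgebra SGA3b

namespace Groth.Agent.MultHopf

variable {R : Type u} [CommRing R] {A : Type u} [CommRing A] [HopfAlgebra R A]

/-- A normalized two-sided invariant `T`-valued functional. -/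
structure IsIntegral {T : Type u} [CommRing T] [Algebra R T] (μ : A →ₗ[R] T) : Prop where
  one : μ 1 = 1
  left : ∀ a, μ.rTensor A (comul (R := R) a) = μ a ⊗ₜ[R] (1 : A)
  right : ∀ a, μ.lTensor A (comul (R := R) a) = (1 : A) ⊗ₜ[R] μ a

variable {T : Type u} [CommRing T] [Algebra R T]

theorem IsIntegral.comp {T' : Type u} [CommRing T'] [Algebra R T'] {μ : A →ₗ[R] T} (h : IsIntegral μ)
    (φ : T →ₐ[R] T') : IsIntegral (φ.toLinearMap ∘ₗ μ) where
  one := by simp [h.one]
  left a := by simp [LinearMap.rTensor_comp, h.left a]
  right a := by simp [LinearMap.lTensor_comp, h.right a]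

theorem IsIntegral.unique {μ ν : A →ₗ[R] T} (h : IsIntegral μ) (h' : IsIntegral ν) : μ = ν := by
  refine LinearMap.ext fun a => ?_
  let m : T ⊗[R] T →ₗ[R] T := LinearMap.mul' R T
  have h1 := congrArg (fun z => m (ν.lTensor T z)) (h.left a)
  have h2 := congrArg (fun z => m (μ.rTensor T z)) (h'.right a)
  simp only [LinearMap.lTensor_tmul, LinearMap.rTensor_tmul, m, LinearMap.mul'_apply, h'.one, h.one, mul_one, one_mul] at h1 h2
  rw [← h1, ← h2, ← LinearMap.comp_apply (ν.lTensor T), ← LinearMap.comp_apply (μ.rTensor T),
    LinearMap.lTensor_comp_rTensor, LinearMap.rTensor_comp_lTensor]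

theorem IsIntegral.map {B : Type u} [CommRing B] [HopfAlgebra R B] {μ : B →ₗ[R] T} (h : IsIntegral μ)
    (e : A ≃ₐc[R] B) : IsIntegral (μ ∘ₗ (e : A →ₗ[R] B)) := by
  have hc : ∀ a, comul (R := R) (e a) = TensorProduct.map (e : A →ₗ[R] B) (e : A →ₗ[R] B) (comul a) := fun a =>
    (LinearMap.congr_fun (e : A →ₐc[R] B).toCoalgHom.map_comp_comul a).symm
  refine ⟨by simp [h.one], fun a => ?_, fun a => ?_⟩
  · have h1 := congrArg ((e.symm : B →ₗ[R] A).lTensor T) (h.left (e a))
    rw [hc] at h1
    simp only [LinearMap.lTensor_tmul] at h1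
    refine Eq.trans ?_ (h1.trans (by simp))
    induction comul (R := R) a using TensorProduct.induction_on with
    | zero => simp
    | add u v hu hv => simp only [map_add, hu, hv]
    | tmul x y => simp
  · have h1 := congrArg ((e.symm : B →ₗ[R] A).rTensor T) (h.right (e a))
    rw [hc] at h1
    simp only [LinearMap.rTensor_tmul] at h1
    refine Eq.trans ?_ (h1.trans (by simp))
    induction comul (R := R) a using TensorProduct.induction_on with
    | zero => simp
    | add u v hu hv => simp only [map_add, hu, hv]
    | tmul x y => simp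

theorem IsIntegral.restrict (S : Type u) [CommRing S] [Algebra R S] [Algebra S T] [IsScalarTower R S T]
    {μ : S ⊗[R] A →ₗ[S] T} (h : IsIntegral μ) :
    IsIntegral (R := R) ((μ.restrictScalars R) ∘ₗ TensorProduct.mk R S A 1) := by
  refine ⟨by simpa [Algebra.TensorProduct.one_def] using h.one, fun a => ?_, fun a => ?_⟩
  · have h1 := congrArg (TensorProduct.AlgebraTensorModule.cancelBaseChange R S S T A) (h.left ((1 : S) ⊗ₜ[R] a))
    rw [TensorProduct.comul_tmul, CommSemiring.comul_apply, Algebra.TensorProduct.one_def,
      LinearMap.comp_apply, TensorProduct.mk_apply, LinearMap.restrictScalars_apply] at *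
    rw [TensorProduct.AlgebraTensorModule.cancelBaseChange_tmul, one_smul] at h1
    refine Eq.trans ?_ h1
    induction comul (R := R) a using TensorProduct.induction_on with
    | zero => simp
    | add u v hu hv => simp only [TensorProduct.tmul_add, map_add, hu, hv]
    | tmul x y => simp
  · have h1 := congrArg ((TensorProduct.comm S (S ⊗[R] A) T).trans
      ((TensorProduct.AlgebraTensorModule.cancelBaseChange R S S T A))) (h.right ((1 : S) ⊗ₜ[R] a))
    apply (TensorProduct.comm R A T).injective
    rw [TensorProduct.comul_tmul, CommSemiring.comul_apply, Algebra.TensorProduct.one_def, LinearEquiv.trans_apply,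
      LinearEquiv.trans_apply, TensorProduct.comm_tmul, TensorProduct.AlgebraTensorModule.cancelBaseChange_tmul,
      one_smul] at h1
    simp only [LinearMap.comp_apply, TensorProduct.mk_apply, LinearMap.restrictScalars_apply, TensorProduct.comm_tmul]
    refine Eq.trans ?_ h1
    induction comul (R := R) a using TensorProduct.induction_on with
    | zero => simp
    | add u v hu hv => simp only [TensorProduct.tmul_add, map_add, hu, hv]
    | tmul x y => simp

theorem isIntegral_coeff {M : Type u} [CommGroup M] :
    IsIntegral (R := R) (T := R) ((Finsupp.lapply (1 : M)) ∘ₗ (MonoidAlgebra.coeffLinearEquiv R).toLinearMap) := by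
  classical
  refine ⟨MonoidAlgebra.coeff_one_one, fun a => ?_, fun a => ?_⟩
  all_goals
    induction a using MonoidAlgebra.induction_linear with
    | zero => simp
    | add u v hu hv => simp only [map_add, TensorProduct.tmul_add, TensorProduct.add_tmul, hu, hv]
    | single m r =>
      rw [MonoidAlgebra.comul_single, CommSemiring.comul_apply, TensorProduct.map_tmul]
      by_cases hm : m = 1
      · subst hm
        have h1 : MonoidAlgebra.single (1 : M) r = r • (1 : MonoidAlgebra R M) := by simp [MonoidAlgebra.one_def]
        simp [MonoidAlgebra.coeff_single, MonoidAlgebra.one_def]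
        all_goals
          rw [show MonoidAlgebra.single (1 : M) (1 : R) = 1 from rfl, h1, ← TensorProduct.smul_tmul, smul_eq_mul, mul_one]
      · simp [MonoidAlgebra.coeff_single, hm]

/-- Descent of integrals along a faithfully flat extension. -/
theorem exists_integral_of_faithfullyFlat (S : Type u) [CommRing S] [Algebra R S] [Module.FaithfullyFlat R S]
    {μ : A →ₗ[R] S} (h : IsIntegral μ) : ∃ l : A →ₗ[R] R, IsIntegral l := by
  have hinj : Function.Injective (algebraMap R S) := FaithfulSMul.algebraMap_injective R S
  have heq : ∀ a, μ a ⊗ₜ[R] (1 : S) = (1 : S) ⊗ₜ[R] μ a := fun a =>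
    LinearMap.congr_fun ((h.comp (Algebra.TensorProduct.includeLeft : S →ₐ[R] S ⊗[R] S)).unique
      (h.comp (Algebra.TensorProduct.includeRight : S →ₐ[R] S ⊗[R] S))) a
  have hmem : ∀ a, μ a ∈ LinearMap.range (Algebra.linearMap R S) := fun a => by
    obtain ⟨r, hr⟩ := FpqcDescent.Amitsur.mem_range_mk R S R (μ a ⊗ₜ[R] (1 : R)) (by
      have := congrArg ((TensorProduct.rid R S).symm.toLinearMap.lTensor S) (heq a)
      simp only [LinearMap.lTensor_tmul, LinearEquiv.coe_coe, TensorProduct.rid_symm_apply] at this
      simpa using this.symm)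
    refine ⟨r, ?_⟩
    have := congrArg (TensorProduct.rid R S) hr
    simpa [Algebra.smul_def] using this
  let e := LinearEquiv.ofInjective (Algebra.linearMap R S) hinj
  let l : A →ₗ[R] R := e.symm.toLinearMap ∘ₗ μ.codRestrict _ hmem
  have hl : ∀ a, algebraMap R S (l a) = μ a := fun a => congrArg Subtype.val (e.apply_symm_apply ⟨μ a, hmem a⟩)
  have hμ : μ = Algebra.linearMap R S ∘ₗ l := LinearMap.ext fun a => (hl a).symm
  refine ⟨l, hinj (by rw [hl, h.one, map_one]), fun a => ?_, fun a => ?_⟩
  · apply (TensorProduct.lid R A).injective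
    apply Module.FaithfullyFlat.tensorProduct_mk_injective (A := R) (B := S) A
    have h1 := h.left a
    rw [hμ, LinearMap.rTensor_comp, LinearMap.comp_apply] at h1
    have key : ∀ z : R ⊗[R] A, TensorProduct.mk R S A 1 (TensorProduct.lid R A z) = (Algebra.linearMap R S).rTensor A z := fun z => by
      induction z using TensorProduct.induction_on with
      | zero => simp
      | add u v hu hv => simp only [map_add, hu, hv]
      | tmul x y => simp [Algebra.algebraMap_eq_smul_one, TensorProduct.tmul_smul, TensorProduct.smul_tmul']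
    rw [key, key, h1]
    simp
  · apply (TensorProduct.rid R A).injective
    apply Module.FaithfullyFlat.tensorProduct_mk_injective (A := R) (B := S) A
    apply (TensorProduct.comm R S A).injective
    have h1 := h.right a
    rw [hμ, LinearMap.lTensor_comp, LinearMap.comp_apply] at h1
    have key : ∀ z : A ⊗[R] R, TensorProduct.comm R S A (TensorProduct.mk R S A 1 (TensorProduct.rid R A z)) =
        (Algebra.linearMap R S).lTensor A z := fun z => by
      induction z using TensorProduct.induction_on with
      | zero => simp
      | add u v hu hv => simp only [map_add, hu, hv]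
      | tmul x y => simp [Algebra.algebraMap_eq_smul_one, TensorProduct.tmul_smul, TensorProduct.smul_tmul']
    rw [key, key, h1]
    simp

/-- Integrals with values in a finite product. -/
theorem isIntegral_pi {ι : Type u} [Fintype ι] (T : ι → Type u) [∀ i, CommRing (T i)] [∀ i, Algebra R (T i)]
    (μ : ∀ i, A →ₗ[R] T i) (h : ∀ i, IsIntegral (μ i)) : IsIntegral (LinearMap.pi μ) := by
  classical
  refine ⟨funext fun i => (h i).one, fun a => ?_, fun a => ?_⟩
  · apply ((TensorProduct.comm R _ A).trans (TensorProduct.piRight R R A T)).injective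
    ext i
    have h1 := congrArg (TensorProduct.comm R (T i) A) ((h i).left a)
    simp only [TensorProduct.comm_tmul, LinearEquiv.trans_apply, TensorProduct.piRight_apply, TensorProduct.piRightHom_tmul, LinearMap.pi_apply] at h1 ⊢
    rw [← h1]
    induction comul (R := R) a using TensorProduct.induction_on with
    | zero => simp
    | add u v hu hv => simp only [map_add, Pi.add_apply, hu, hv]
    | tmul x y => simp
  · apply (TensorProduct.piRight R R A T).injective
    ext i
    have h1 := (h i).right a
    simp only [TensorProduct.piRight_apply, TensorProduct.piRightHom_tmul, LinearMap.pi_apply] at h1 ⊢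
    rw [← h1]
    induction comul (R := R) a using TensorProduct.induction_on with
    | zero => simp
    | add u v hu hv => simp only [map_add, Pi.add_apply, hu, hv]
    | tmul x y => simp

/-- Groups of multiplicative type have normalized integrals. -/
theorem exists_integral (hH : IsMultType R A) : ∃ l : A →ₗ[R] R, IsIntegral l := by
  classical
  obtain ⟨s, hs, hs'⟩ := hH
  obtain ⟨t, hts, hspan⟩ := Submodule.mem_span_finite_of_mem_span (hs.symm ▸ Submodule.mem_top : (1 : R) ∈ Ideal.span s)
  have hloc : ∀ f : t, ∃ (R₁ : Type u) (_ : CommRing R₁) (_ : Algebra R R₁) (_ : Module.Flat R R₁) (μ : A →ₗ[R] R₁),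
      IsIntegral μ ∧ ∀ p : PrimeSpectrum R, (f : R) ∉ p.asIdeal → ∃ q : PrimeSpectrum R₁, PrimeSpectrum.comap (algebraMap R R₁) q = p := by
    intro f
    obtain ⟨R₁, _, _, hff, M, _, ⟨e⟩⟩ := hs' f.1 (hts f.2)
    let : Algebra R R₁ := ((algebraMap (Localization.Away f.1) R₁).comp (algebraMap R (Localization.Away f.1))).toAlgebra
    have : IsScalarTower R (Localization.Away f.1) R₁ := IsScalarTower.of_algebraMap_eq fun _ => rfl
    have hflat : Module.Flat R R₁ := Module.Flat.trans R (Localization.Away f.1) R₁
    refine ⟨R₁, inferInstance, inferInstance, hflat, _, ((isIntegral_coeff.map e).restrict R₁).restrict (Localization.Away f.1), fun p hp => ?_⟩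
    have h1 : p ∈ Set.range (PrimeSpectrum.comap (algebraMap R (Localization.Away f.1))) := by
      rw [PrimeSpectrum.localization_away_comap_range (Localization.Away f.1) f.1]
      exact hp
    obtain ⟨p₀, rfl⟩ := h1
    obtain ⟨q, rfl⟩ := PrimeSpectrum.comap_surjective_of_faithfullyFlat (A := Localization.Away f.1) (B := R₁) p₀
    exact ⟨q, rfl⟩
  choose R₁ _i1 _i2 hflat μ hμ hsurj using hloc
  let ι := ULift.{u} t
  let S := (i : {x // x ∈ t}) → R₁ i
  have : Module.Flat R S := Module.Flat.of_linearEquiv (DFinsupp.linearEquivFunOnFintype (R := R) (M := R₁)).symm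
  have : Module.FaithfullyFlat R S := Module.FaithfullyFlat.of_comap_surjective fun p => by
    obtain ⟨f, hf⟩ : ∃ f : t, (f : R) ∉ p.asIdeal := by
      by_contra hcon
      push Not at hcon
      exact p.isPrime.ne_top (top_le_iff.1 ((Ideal.eq_top_iff_one _).2 hspan ▸ Ideal.span_le.2 fun x hx => hcon ⟨x, hx⟩))
    obtain ⟨q, hq⟩ := hsurj f p hf
    exact ⟨PrimeSpectrum.comap (Pi.evalRingHom R₁ f) q, by rw [← hq]; rfl⟩
  exact exists_integral_of_faithfullyFlat S (isIntegral_pi R₁ μ hμ)

end Groth.Agent.MultHopf
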