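import Groth.Agent.MultHopf.Locally
import Groth.Agent.MultHopf.Integral

/-!
# The normalized integral of a group of multiplicative type over an affine scheme
-/

set_option autoImplicit false
set_option backward.isDefEq.respectTransparency.types false

universe u

open CategoryTheory CategoryTheory.Limits MonoidalCategory CartesianMonoidalCategory MonObj AlgebraicGeometry
open scoped TensorProduct

namespace Groth.Agent.MultHopf

/-- Affine models of groups of multiplicative type over affine bases have normalized integrals. -/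
theorem exists_integral_of_isMultTypeLoc {R : Type u} [CommRing R] (H : Over (Spec (CommRingCat.of R))) [GrpObj H]
    (hH : IsMultTypeLoc H) {A : Type u} [CommRing A] [HopfAlgebra R A] (eA : Grp.mk H ≅ Grp.mk (hspec R A)) :
    ∃ l : A →ₗ[R] R, IsIntegral l := by
  classical
  obtain ⟨S', f, hfl, hsurj, hcov, hloc⟩ := hH
  obtain ⟨W, hWc, hW⟩ := hcov ⊤ (isAffineOpen_top _)
  choose U hU M _ hiso using hloc
  have haff : ∀ x : S', ∃ V : S'.Opens, IsAffineOpen V ∧ x ∈ V ∧ V ≤ U x := fun x =>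
    exists_isAffineOpen_mem_and_subset (hU x)
  choose V hV hxV hVU using haff
  obtain ⟨t, ht⟩ := hWc.elim_finite_subcover (fun x => (V x : Set S')) (fun x => (V x).isOpen)
    (fun w _ => Set.mem_iUnion.2 ⟨w, hxV w⟩)
  have hpiece : ∀ x : S', ∃ (R₁ : Type u) (_ : CommRing R₁) (_ : Algebra R R₁) (_ : Module.Flat R R₁)
      (nu : A →ₗ[R] R₁), IsIntegral nu ∧
      ∀ y ∈ V x, ∃ q : PrimeSpectrum R₁, PrimeSpectrum.comap (algebraMap R R₁) q = f y := by
    intro x
    let R₁ : Type u := Γ(S', V x)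
    let p : Spec (CommRingCat.of R₁) ⟶ Spec (CommRingCat.of R) := (hV x).fromSpec ≫ f
    let : Algebra R R₁ := (Spec.preimage p).hom.toAlgebra
    let g : Spec (CommRingCat.of R₁) ⟶ Spec (CommRingCat.of R) := Spec.map (CommRingCat.ofHom (algebraMap R R₁))
    have hgp : g = p := Spec.map_preimage p
    have hflat : Module.Flat R R₁ := by
      have : Flat g := by
        rw [hgp]
        exact inferInstanceAs (Flat ((hV x).fromSpec ≫ f))
      exact RingHom.flat_algebraMap_iff.1 (Flat.SpecMap_iff.1 this)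
    have hr : Set.range (hV x).fromSpec ⊆ Set.range (U x).ι := by
      rw [(hV x).range_fromSpec, Scheme.Opens.range_ι]
      exact hVU x
    let g' : Spec (CommRingCat.of R₁) ⟶ (U x).toScheme := IsOpenImmersion.lift (U x).ι (hV x).fromSpec hr
    have hg : g = g' ≫ (U x).ι ≫ f := by
      rw [← Category.assoc g', IsOpenImmersion.lift_fac, hgp]
    obtain ⟨eU⟩ := hiso x
    let s := Limits.IsTerminal.from specULiftZIsTerminal (U x).toScheme
    let e : Grp.mk (hspec R₁ (R₁ ⊗[R] A)) ≅
        Grp.mk (hspec R₁ (MonoidAlgebra R₁ (ULift.{u} (Multiplicative (M x))))) :=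
      (bcSpec R R₁ A).symm ≪≫ (bcIso g eA).symm ≪≫ bcCongr hg H ≪≫ bcComp g' _ H ≪≫
        bcIso g' eU ≪≫ (bcComp g' s _).symm ≪≫ bcDiag _ _ _ (M x)
    obtain ⟨e'⟩ := nonempty_bialgEquiv_of_iso e
    refine ⟨R₁, inferInstance, inferInstance, hflat, _, (isIntegral_coeff.map e').restrict R₁, fun y hy => ?_⟩
    obtain ⟨q, hq⟩ : y ∈ Set.range (hV x).fromSpec := (hV x).range_fromSpec.symm ▸ hy
    refine ⟨q, ?_⟩
    show g q = f y
    rw [hgp, ← hq]
    rfl
  choose R₁ _i1 _i2 hflat nu hnu hsurj' using hpiece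
  let T := (i : {x // x ∈ t}) → R₁ i.1
  have : Module.Flat R T := Module.Flat.of_linearEquiv (DFinsupp.linearEquivFunOnFintype (R := R) (M := fun i : {x // x ∈ t} => R₁ i.1)).symm
  have : Module.FaithfullyFlat R T := Module.FaithfullyFlat.of_comap_surjective fun p => by
    obtain ⟨w, hw, hwp⟩ := (hW.symm ▸ (trivial : p ∈ (⊤ : (Spec (CommRingCat.of R)).Opens)) : p ∈ f.base '' (W : Set S'))
    obtain ⟨x, hx⟩ := Set.mem_iUnion.1 (ht hw)
    obtain ⟨hxt, hwx⟩ := Set.mem_iUnion.1 hx
    obtain ⟨q, hq⟩ := hsurj' x w hwx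
    exact ⟨PrimeSpectrum.comap (Pi.evalRingHom (fun i : {x // x ∈ t} => R₁ i.1) ⟨x, hxt⟩) q, by rw [← hwp, ← hq]; rfl⟩
  exact exists_integral_of_faithfullyFlat T (isIntegral_pi (fun i : {x // x ∈ t} => R₁ i.1) (fun i => nu i.1) fun i => hnu i.1)

end Groth.Agent.MultHopf
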