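import Groth.Agent.MultHopf.NearSplit
import Groth.Agent.GeomConn.Scheme

/-!
# Connected fibres
-/

set_option autoImplicit false
set_option backward.isDefEq.respectTransparency.types false

universe u

open scoped TensorProduct
open CategoryTheory AlgebraicGeometry CategoryTheory.Limits
open SGA3b
open IsLocalRing (maximalIdeal)
open Algebra.TensorProduct (includeLeft includeRight)

namespace Groth.Agent.MultHopf

/-- A connected algebra with a rational point stays connected under field extensions. -/
theorem connectedSpace_tensor_field {K L B : Type u} [Field K] [Field L] [Algebra K L] [CommRing B] [Algebra K B]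
    (x : B →ₐ[K] K) [h : ConnectedSpace (PrimeSpectrum B)] : ConnectedSpace (PrimeSpectrum (L ⊗[K] B)) := by
  let f := Spec.map (CommRingCat.ofHom (algebraMap K B))
  let g := Spec.map (CommRingCat.ofHom (algebraMap K L))
  have hx : Spec.map (CommRingCat.ofHom x.toRingHom) ≫ f = 𝟙 _ := by
    rw [← Spec.map_comp, ← Spec.map_id]
    congr 1
    ext r
    exact x.commutes r
  have : ConnectedSpace (Spec (.of B)) := h
  have : ConnectedSpace (Spec (.of L)) := (inferInstance : ConnectedSpace (PrimeSpectrum L))
  have := GeomConn.connectedSpace_pullback f g _ hx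
  have e1 : ConnectedSpace (Spec (.of (B ⊗[K] L))) :=
    (pullbackSpecIso K B L).hom.homeomorph.surjective.connectedSpace (pullbackSpecIso K B L).hom.homeomorph.continuous
  have e1' : ConnectedSpace (PrimeSpectrum (B ⊗[K] L)) := e1
  let e := PrimeSpectrum.homeomorphOfRingEquiv (Algebra.TensorProduct.comm K B L).toRingEquiv
  exact e.surjective.connectedSpace e.continuous

/-- An idempotent killed by a point is zero if all fibres over the base are connected. -/
theorem eq_zero_of_fibres_connected {T : Type u} [CommRing T] {D : Type u} [CommRing D] [Algebra T D] (ε : D →ₐ[T] T)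
    (hconn : ∀ (w : Ideal T) [w.IsPrime], ConnectedSpace (PrimeSpectrum (w.ResidueField ⊗[T] D)))
    {e : D} (he : IsIdempotentElem e) (hε : ε e = 0) : e = 0 := by
  have hnil : IsNilpotent e := by
    rw [nilpotent_iff_mem_prime]
    intro Q hQ
    let w := Q.comap (algebraMap T D)
    have := hconn w
    let F := w.ResidueField
    have hid : IsIdempotentElem ((includeRight : D →ₐ[T] F ⊗[T] D) e) := he.map _
    have h0 : (includeRight : D →ₐ[T] F ⊗[T] D) e = 0 := by
      refine (eq_zero_or_one_of_connected hid).resolve_right fun h1 => ?_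
      let εF : F ⊗[T] D →ₐ[T] F := Algebra.TensorProduct.lift (AlgHom.id T F) ((Algebra.ofId T F).comp ε)
        (fun _ _ => Commute.all _ _)
      have := congrArg εF h1
      simp [εF, hε] at this
    let g : F →ₐ[T] Q.ResidueField := Ideal.ResidueField.mapₐ w Q (Algebra.ofId T D) rfl
    have h2 := congrArg (Algebra.TensorProduct.lift g (IsScalarTower.toAlgHom T D Q.ResidueField)
      (fun _ _ => Commute.all _ _)) h0
    simp at h2
    exact h2
  obtain ⟨n, hn⟩ := hnil
  rcases n with _ | n
  · rw [pow_zero] at hn
    rw [← mul_one e, hn, mul_zero]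
  · rwa [he.pow_succ_eq n] at hn

/-- Connected fibres and a closed fibre of multiplicative type give multiplicative type. -/
theorem isMultType_of_near_connected {R : Type u} [CommRing R] [IsLocalRing R] {C : Type u} [CommRing C] [HopfAlgebra R C]
    [Algebra.FinitePresentation R C] (hfl : FlatNear R C (maximalIdeal R))
    (hs : IsMultType (IsLocalRing.ResidueField R) (IsLocalRing.ResidueField R ⊗[R] C))
    (hconn : ∀ (p : Ideal R) [p.IsPrime], ConnectedSpace (PrimeSpectrum (p.ResidueField ⊗[R] C))) :
    IsMultType R C := by
  obtain ⟨T, _, _, _, hff, N, _, -, φ, e, hφ, he, -, hker⟩ := exists_near_split hfl hs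
  let ε : T ⊗[R] C →ₐ[T] T := Bialgebra.counitAlgHom T (T ⊗[R] C)
  have hε : ε e = 0 := by
    show Coalgebra.counit (R := T) e = 0
    rw [← CoalgHomClass.counit_comp_apply φ e, (hker e).2 he.eq.symm, map_zero]
  have he0 : e = 0 := by
    refine eq_zero_of_fibres_connected ε (fun w hw => ?_) he hε
    let p := w.comap (algebraMap R T)
    let K := p.ResidueField
    let F := w.ResidueField
    let g : K →ₐ[R] F := Ideal.ResidueField.mapₐ p w (Algebra.ofId R T) rfl
    let : Algebra K F := g.toRingHom.toAlgebra
    have : IsScalarTower R K F := IsScalarTower.of_algebraMap_eq fun r => (g.commutes r).symm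
    have := hconn p
    have := connectedSpace_tensor_field (L := F) (Bialgebra.counitAlgHom K (K ⊗[R] C))
    let e' := PrimeSpectrum.homeomorphOfRingEquiv
      ((cancelBC R K F C).trans (cancelBC R T F C).symm).toAlgEquiv.toRingEquiv
    exact e'.surjective.connectedSpace e'.continuous
  have hbij : Function.Bijective φ := by
    refine ⟨fun x y h => ?_, hφ⟩
    have hz : φ (x - y) = 0 := by rw [map_sub, sub_eq_zero]; exact h
    have := (hker _).1 hz
    rwa [he0, mul_zero, sub_eq_zero] at this
  exact isMultType_of_split T ⟨N, inferInstance, ⟨BialgEquiv.ofBijective φ hbij⟩⟩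

end Groth.Agent.MultHopf
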