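import Groth.Agent.MultHopf.CharAlg

/-!
# Groups of multiplicative type and finite type are quasi-isotrivial
-/

set_option autoImplicit false
set_option backward.isDefEq.respectTransparency.types false

universe u

open scoped TensorProduct
open Algebra.TensorProduct (includeLeft includeRight)
open SGA3b

namespace Groth.Agent.MultHopf

variable {R : Type u} [CommRing R] {A : Type u} [CommRing A] [HopfAlgebra R A]
  {R' : Type u} [CommRing R'] [Algebra R R'] {M : Type u} [CommGroup M]

theorem GLT.exists_inv {T : Type u} [CommRing T] [Algebra R T] {z : T ⊗[R] A} (hz : GLT z) :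
    ∃ w, GLT w ∧ w * z = 1 := by
  obtain ⟨u, rfl⟩ := hz.isUnit
  refine ⟨(u⁻¹ : (T ⊗[R] A)ˣ), ⟨?_, ?_⟩, u.inv_mul⟩
  · have h := map_one (counitT R A T)
    rwa [← u.inv_mul, map_mul, hz.counit, mul_one] at h
  · have h1 := map_one (comulT R A T)
    rw [← u.inv_mul, map_mul, hz.comul] at h1
    have h2 : comulT R A T (↑u⁻¹ : T ⊗[R] A) * (leftT R A T u * rightT R A T u) =
        (leftT R A T (↑u⁻¹ : T ⊗[R] A) * rightT R A T (↑u⁻¹ : T ⊗[R] A)) * (leftT R A T u * rightT R A T u) := by
      rw [h1, mul_mul_mul_comm, ← map_mul, ← map_mul, u.inv_mul, map_one, map_one, mul_one]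
    exact ((u.isUnit.map (leftT R A T)).mul (u.isUnit.map (rightT R A T))).mul_left_injective h2

/-- The map from the group algebra along a change of coefficients. -/
noncomputable def liftAlong {E T : Type u} [CommRing E] [Algebra R E] [CommRing T] [Algebra R T] (γ : M →* E ⊗[R] A)
    (χ : E →ₐ[R] T) : MonoidAlgebra T M →ₐ[T] T ⊗[R] A :=
  MonoidAlgebra.lift T (T ⊗[R] A) M ((mapT A χ).toRingHom.toMonoidHom.comp γ)

theorem liftAlong_single {E T : Type u} [CommRing E] [Algebra R E] [CommRing T] [Algebra R T] (γ : M →* E ⊗[R] A)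
    (χ : E →ₐ[R] T) (n : M) (r : T) : liftAlong γ χ (MonoidAlgebra.single n r) = r • mapT A χ (γ n) := by
  simp [liftAlong]

theorem mapT_smul {T T' : Type u} [CommRing T] [Algebra R T] [CommRing T'] [Algebra R T'] (φ : T →ₐ[R] T') (r : T)
    (z : T ⊗[R] A) : mapT A φ (r • z) = φ r • mapT A φ z := by
  induction z using TensorProduct.induction_on with
  | zero => simp
  | tmul t x => simp [TensorProduct.smul_tmul']
  | add p q hp hq => simp only [smul_add, map_add, hp, hq]

theorem mapT_lift {E T : Type u} [CommRing E] [Algebra R E] [CommRing T] [Algebra R T] (γ : M →* E ⊗[R] A)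
    (χ : E →ₐ[R] T) (x : MonoidAlgebra E M) :
    mapT A χ (MonoidAlgebra.lift E (E ⊗[R] A) M γ x) = liftAlong γ χ (MonoidAlgebra.mapAlgHom M χ x) := by
  induction x using MonoidAlgebra.induction_linear with
  | zero => simp
  | add p q hp hq => simp only [map_add, hp, hq]
  | single n r =>
    rw [MonoidAlgebra.lift_single, mapT_smul, show MonoidAlgebra.mapAlgHom M χ (MonoidAlgebra.single n r) =
      MonoidAlgebra.single n (χ r) by simp, liftAlong_single]

theorem mapT_liftAlong {E T T' : Type u} [CommRing E] [Algebra R E] [CommRing T] [Algebra R T] [CommRing T'] [Algebra R T']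
    (γ : M →* E ⊗[R] A) (χ : E →ₐ[R] T) (φ : T →ₐ[R] T') (x : MonoidAlgebra T M) :
    mapT A φ (liftAlong γ χ x) = liftAlong γ (φ.comp χ) (MonoidAlgebra.mapAlgHom M φ x) := by
  induction x using MonoidAlgebra.induction_linear with
  | zero => simp
  | add p q hp hq => simp only [map_add, hp, hq]
  | single n r =>
    rw [liftAlong_single, mapT_smul, show MonoidAlgebra.mapAlgHom M φ (MonoidAlgebra.single n r) =
      MonoidAlgebra.single n (φ r) by simp, liftAlong_single, mapT_mapT]

theorem mapAlgHom_injective {T T' : Type u} [CommRing T] [Algebra R T] [CommRing T'] [Algebra R T'] {φ : T →ₐ[R] T'}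
    (h : Function.Injective φ) : Function.Injective (MonoidAlgebra.mapAlgHom M φ) := fun x x' hxx' => by
  refine MonoidAlgebra.coeff_injective (Finsupp.ext fun n => h ?_)
  have := congrArg (fun z => z.coeff n) hxx'
  simpa using this

theorem equalized_of_liftAlong {E : Type u} [CommRing E] [Algebra R E] (γ : M →* E ⊗[R] A) (z : E ⊗[R] A)
    (x : MonoidAlgebra (R' ⊗[R] E) M)
    (hx : liftAlong γ (includeRight : E →ₐ[R] R' ⊗[R] E) x = mapT A includeRight z)
    (hinj : Function.Injective (liftAlong γ ((includeRight : R' ⊗[R] E →ₐ[R] R' ⊗[R] (R' ⊗[R] E)).comp includeRight))) :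
    MonoidAlgebra.mapAlgHom M (includeRight : R' ⊗[R] E →ₐ[R] R' ⊗[R] (R' ⊗[R] E)) x =
      MonoidAlgebra.mapAlgHom M (Algebra.TensorProduct.map (AlgHom.id R R') (includeRight : E →ₐ[R] R' ⊗[R] E)) x := by
  have hf : (Algebra.TensorProduct.map (AlgHom.id R R') (includeRight : E →ₐ[R] R' ⊗[R] E)).comp includeRight =
      (includeRight : R' ⊗[R] E →ₐ[R] R' ⊗[R] (R' ⊗[R] E)).comp includeRight := AlgHom.ext fun _ => rfl
  refine hinj ?_
  conv_rhs => rw [← hf]
  rw [← mapT_liftAlong, ← mapT_liftAlong, hx, mapT_mapT, mapT_mapT, hf]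

theorem exists_desc_coeff [Module.FaithfullyFlat R R'] {E : Type u} [CommRing E] [Algebra R E]
    (x : MonoidAlgebra (R' ⊗[R] E) M)
    (h : MonoidAlgebra.mapAlgHom M (includeRight : R' ⊗[R] E →ₐ[R] R' ⊗[R] (R' ⊗[R] E)) x =
      MonoidAlgebra.mapAlgHom M (Algebra.TensorProduct.map (AlgHom.id R R') (includeRight : E →ₐ[R] R' ⊗[R] E)) x) :
    ∃ w : MonoidAlgebra E M, MonoidAlgebra.mapAlgHom M (includeRight : E →ₐ[R] R' ⊗[R] E) w = x := by
  have hmem : ∀ n, ∃ e : E, (includeRight : E →ₐ[R] R' ⊗[R] E) e = x.coeff n := fun n => by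
    refine FpqcDescent.Amitsur.mem_range_mk R R' E (x.coeff n) ?_
    have h1 := congrArg (fun z => z.coeff n) h
    simp only [MonoidAlgebra.coeff_mapAlgHom] at h1
    exact h1
  choose e he using hmem
  refine ⟨∑ n ∈ x.coeff.support, MonoidAlgebra.single n (e n), ?_⟩
  rw [map_sum]
  conv_rhs => rw [← MonoidAlgebra.sum_coeff_single x]
  exact Finset.sum_congr rfl fun n _ => by simp [← he n]

namespace SplitData

variable (D : SplitData R A R' M)

/-- The tuple `g` is, at the given field point, given by an automorphism. -/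
def GoodAt {E : Type u} [CommRing E] [Algebra R E] (t : Finset M) (g : M → E ⊗[R] A) {Q : Type u} [CommRing Q] [Algebra R Q]
    (χ : E →ₐ[R] Q) (b : R' →ₐ[R] Q) : Prop :=
  ∃ h : M ≃* M, ∀ i ∈ t, mapT A χ (g i) = D.zAt b (h i)

theorem zAt_injective {T : Type u} [CommRing T] [Algebra R T] [Nontrivial T] (b : R' →ₐ[R] T) :
    Function.Injective (D.zAt b) := fun n n' h => by
  have h1 := congrArg (D.θ b) h
  rw [θ_zAt, θ_zAt] at h1
  exact MonoidAlgebra.single_left_injective one_ne_zero h1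

theorem exists_transition {Q : Type u} [Field Q] [Algebra R Q] (a b : R' →ₐ[R] Q) :
    ∃ τ : M ≃* M, ∀ n, D.zAt a n = D.zAt b (τ n) := by
  choose τ hτ using fun n => D.existsUnique_index b (D.glt_zAt (a := a) n)
  choose τ' hτ' using fun n => D.existsUnique_index a (D.glt_zAt (a := b) n)
  exact ⟨{ toFun := τ
           invFun := τ'
           left_inv := fun n => D.zAt_injective a (by rw [← hτ', ← hτ])
           right_inv := fun n => D.zAt_injective b (by rw [← hτ, ← hτ'])
           map_mul' := fun x y => D.zAt_injective b (by rw [map_mul, ← hτ, ← hτ, ← hτ, map_mul]) }, hτ⟩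

theorem goodAt_indep [Module.Flat R A] {E : Type u} [CommRing E] [Algebra R E] (t : Finset M) (g : M → E ⊗[R] A)
    {Q Q' : Type u} [Field Q] [Algebra R Q] [Field Q'] [Algebra R Q'] (χ : E →ₐ[R] Q) (χ' : E →ₐ[R] Q')
    (hker : ∀ x, χ x = 0 ↔ χ' x = 0) (b : R' →ₐ[R] Q) (b' : R' →ₐ[R] Q') (h : D.GoodAt t g χ b) :
    D.GoodAt t g χ' b' := by
  obtain ⟨h, hh⟩ := h
  obtain ⟨T₂, _, _, _, l, r, hlr⟩ := exists_common_ext χ χ' hker
  obtain ⟨m, hm⟩ := Ideal.exists_maximal T₂
  let : Field (T₂ ⧸ m) := Ideal.Quotient.field m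
  let q : T₂ →ₐ[R] T₂ ⧸ m := Ideal.Quotient.mkₐ R m
  obtain ⟨τ, hτ⟩ := D.exists_transition ((q.comp l).comp b) ((q.comp r).comp b')
  refine ⟨h.trans τ, fun i hi => mapT_injective (A := A) (φ := q.comp r) (q.comp r).toRingHom.injective ?_⟩
  rw [mapT_mapT, mapT_zAt, AlgHom.comp_assoc, ← hlr, ← AlgHom.comp_assoc, ← mapT_mapT, hh i hi, mapT_zAt, hτ]
  rfl

/-- The index at a prime of `R' ⊗ E`. -/
theorem exists_basicOpen_good {E : Type u} [CommRing E] [Algebra R E] [Module.FaithfullyFlat R R'] (t : Finset M)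
    (g : M → E ⊗[R] A) (hg : ∀ i ∈ t, GLT (g i)) {K : Type u} [Field K] [Algebra R K] (φ : E →ₐ[R] K) (a : R' →ₐ[R] K)
    (h₀ : D.GoodAt t g φ a) :
    ∃ f : E, φ f ≠ 0 ∧ ∀ (Q : Type u) [Field Q] [Algebra R Q] (χ : E →ₐ[R] Q) (b : R' →ₐ[R] Q), χ f ≠ 0 → D.GoodAt t g χ b := by
  classical
  have := D.projective
  let T := R' ⊗[R] E
  let iE : E →ₐ[R] T := includeRight
  let iR : R' →ₐ[R] T := includeLeft
  let qw : ∀ w : PrimeSpectrum T, T →ₐ[R] w.asIdeal.ResidueField := fun w => IsScalarTower.toAlgHom R T _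
  have hqw : ∀ w t, qw w t = 0 ↔ t ∈ w.asIdeal := fun w t => Ideal.algebraMap_residueField_eq_zero
  have hidx : ∀ (w : PrimeSpectrum T) (i : M), ∃ n, i ∈ t → mapT A ((qw w).comp iE) (g i) = D.zAt ((qw w).comp iR) n := fun w i => by
    by_cases hi : i ∈ t
    · obtain ⟨n, hn⟩ := D.existsUnique_index ((qw w).comp iR) ((hg i hi).map ((qw w).comp iE))
      exact ⟨n, fun _ => hn⟩
    · exact ⟨1, fun h => absurd h hi⟩
  choose v hv using hidx
  let e : M → M → T := fun i n => D.coeff iR (mapT A iE (g i)) n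
  have he : ∀ w, ∀ i ∈ t, ∀ n, e i n ∉ w.asIdeal ↔ v w i = n := fun w i hi n => by
    have h1 : qw w (e i n) = if v w i = n then 1 else 0 := by
      show qw w (D.coeff iR (mapT A iE (g i)) n) = _
      rw [← coeff_mapT, mapT_mapT, hv w i hi, coeff, θ_zAt, MonoidAlgebra.coeff_single, Finsupp.single_apply]
    rw [← hqw w, h1]
    split_ifs with h <;> simp [h]
  let good : Set (PrimeSpectrum T) := {w | ∃ h : M ≃* M, ∀ i ∈ t, v w i = h i}
  have hgood : ∀ w, w ∈ good ↔ D.GoodAt t g ((qw w).comp iE) ((qw w).comp iR) := fun w => by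
    refine exists_congr fun h => forall_congr' fun i => imp_congr_right fun hi => ?_
    rw [hv w i hi]
    exact (D.zAt_injective _).eq_iff.symm
  have hloc : ∀ w, ∃ U : Set (PrimeSpectrum T), IsOpen U ∧ w ∈ U ∧ ∀ w' ∈ U, (w' ∈ good ↔ w ∈ good) := fun w => by
    refine ⟨⋂ i ∈ t, (PrimeSpectrum.basicOpen (e i (v w i)) : Set (PrimeSpectrum T)),
      isOpen_biInter_finset fun i _ => PrimeSpectrum.isOpen_basicOpen, Set.mem_iInter₂.2 fun i hi => (he w i hi _).2 rfl,
      fun w' hw' => ?_⟩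
    have hvv : ∀ i ∈ t, v w' i = v w i := fun i hi => (he w' i hi _).1 (Set.mem_iInter₂.1 hw' i hi)
    exact exists_congr fun h => forall_congr' fun i => imp_congr_right fun hi => by rw [hvv i hi]
  have hopen : IsOpen good := isOpen_iff_forall_mem_open.2 fun w hw => by
    obtain ⟨U, hU, hwU, hU'⟩ := hloc w
    exact ⟨U, fun w' hw' => (hU' w' hw').2 hw, hU, hwU⟩
  let π : PrimeSpectrum T → PrimeSpectrum E := PrimeSpectrum.comap iE.toRingHom
  let : Algebra E T := Algebra.TensorProduct.rightAlgebra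
  have : Module.Flat E T := Module.Flat.of_linearEquiv (M := E ⊗[R] R')
    (Algebra.TensorProduct.commRight R E R').symm.toLinearEquiv
  have hsurj : Function.Surjective π := fun y => by
    let Q := y.asIdeal.ResidueField
    have : Nontrivial (R' ⊗[R] Q) := Module.FaithfullyFlat.lTensor_nontrivial R R' Q
    obtain ⟨m, hm⟩ := Ideal.exists_maximal (R' ⊗[R] Q)
    let qQ : E →ₐ[R] Q := IsScalarTower.toAlgHom R E Q
    let j : T →ₐ[R] R' ⊗[R] Q := Algebra.TensorProduct.map (AlgHom.id R R') qQ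
    refine ⟨PrimeSpectrum.comap j.toRingHom ⟨m, hm.isPrime⟩, ?_⟩
    have hy : y = PrimeSpectrum.comap (algebraMap E Q) ⟨⊥, Ideal.isPrime_bot⟩ := PrimeSpectrum.ext (by
      show y.asIdeal = RingHom.ker (algebraMap E Q)
      rw [Ideal.ker_algebraMap_residueField])
    refine Eq.trans ?_ hy.symm
    refine PrimeSpectrum.ext (Ideal.ext fun x => ?_)
    show (1 : R') ⊗ₜ[R] algebraMap E Q x ∈ m ↔ algebraMap E Q x = 0
    refine ⟨fun hx => ?_, fun hx => by rw [hx, TensorProduct.tmul_zero]; exact zero_mem _⟩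
    by_contra hne
    exact hm.ne_top (Ideal.eq_top_of_isUnit_mem _ hx
      ((isUnit_iff_ne_zero.2 hne).map (includeRight : Q →ₐ[R] R' ⊗[R] Q)))
  have hquot : Topology.IsQuotientMap π := PrimeSpectrum.isQuotientMap_of_generalizingMap hsurj
    (RingHom.Flat.generalizingMap_comap (f := algebraMap E T) (RingHom.flat_algebraMap_iff.2 inferInstance))
  have hsat : π ⁻¹' (π '' good) = good := Set.Subset.antisymm (fun w ⟨w', hw', hπ⟩ => (hgood w).2 (D.goodAt_indep t g _ _
      (fun x => by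
        show qw w' (iE x) = 0 ↔ qw w (iE x) = 0
        rw [hqw, hqw]
        exact Ideal.ext_iff.1 (congrArg PrimeSpectrum.asIdeal hπ) x) _ _ ((hgood w').1 hw'))) (Set.subset_preimage_image _ _)
  have hopen' : IsOpen (π '' good) := hquot.isOpen_preimage.1 (by rw [hsat]; exact hopen)
  let w₀hom : T →ₐ[R] K := Algebra.TensorProduct.lift a φ fun _ _ => Commute.all _ _
  have hwφ : w₀hom.comp iE = φ := Algebra.TensorProduct.lift_comp_includeRight a φ (fun _ _ => Commute.all _ _)
  let w₀ : PrimeSpectrum T := ⟨RingHom.ker w₀hom, RingHom.ker_isPrime _⟩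
  have hw₀ : w₀ ∈ good := (hgood w₀).2 (D.goodAt_indep t g φ _ (fun x => by
    show φ x = 0 ↔ qw w₀ (iE x) = 0
    rw [hqw]
    show φ x = 0 ↔ (w₀hom.comp iE) x = 0
    rw [hwφ]) a _ h₀)
  obtain ⟨_, ⟨_, ⟨f, rfl⟩, rfl⟩, hf₀, hf⟩ :=
    PrimeSpectrum.isBasis_basic_opens.exists_subset_of_mem_open (Set.mem_image_of_mem π hw₀) hopen'
  refine ⟨f, fun h0 => hf₀ ?_, fun Q _ _ χ b hχ => ?_⟩
  · show (w₀hom.comp iE) f = 0
    rw [hwφ, h0]
  · let wh : T →ₐ[R] Q := Algebra.TensorProduct.lift b χ fun _ _ => Commute.all _ _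
    let w : PrimeSpectrum T := ⟨RingHom.ker wh, RingHom.ker_isPrime _⟩
    have hwχ : wh.comp iE = χ := Algebra.TensorProduct.lift_comp_includeRight b χ (fun _ _ => Commute.all _ _)
    have hπw : π w ∈ π '' good := hf (show ¬ (wh.comp iE) f = 0 by rw [hwχ]; exact hχ)
    have hwg : w ∈ good := hsat ▸ hπw
    refine D.goodAt_indep t g _ χ (fun x => ?_) _ b ((hgood w).1 hwg)
    show qw w (iE x) = 0 ↔ χ x = 0
    rw [hqw]
    show (wh.comp iE) x = 0 ↔ _
    rw [hwχ]

include D in
/-- Group-likes agreeing at all field points are equal. -/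
theorem eq_of_forall_field [Module.FaithfullyFlat R R'] [Module.Flat R A] {E : Type u} [CommRing E] [Algebra R E]
    {y z : E ⊗[R] A} (hy : GLT y) (hz : GLT z)
    (h : ∀ (Q : Type u) [Field Q] [Algebra R Q] (χ : E →ₐ[R] Q) (_ : R' →ₐ[R] Q), mapT A χ y = mapT A χ z) : y = z := by
  classical
  refine mapT_injective (φ := (includeRight : E →ₐ[R] R' ⊗[R] E)) (Module.FaithfullyFlat.tensorProduct_mk_injective E) ?_
  refine D.θ_injective (a := (includeLeft : R' →ₐ[R] R' ⊗[R] E))
    ((D.isGL (hy.map _)).eq_of_congr (K := nilradical (R' ⊗[R] E)) (fun x hx => mem_nilradical.1 hx) (D.isGL (hz.map _)) fun n => ?_)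
  rw [mem_nilradical, nilpotent_iff_mem_prime]
  intro w hw
  let q : R' ⊗[R] E →ₐ[R] w.ResidueField := IsScalarTower.toAlgHom R _ _
  refine Ideal.algebraMap_residueField_eq_zero.1 ?_
  show q (_ - _) = 0
  rw [map_sub, sub_eq_zero]
  have := congrArg (fun x => D.coeff (q.comp includeLeft) x n) (h _ (q.comp includeRight) (q.comp includeLeft))
  simp only [← mapT_mapT, coeff_mapT] at this
  exact this

/-- A family of group-likes which is, at every field point, a permuted basis gives an isomorphism. -/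
theorem bijective_lift {T : Type u} [CommRing T] [Algebra R T] {M₂ : Type u} [CommGroup M₂] (b : R' →ₐ[R] T) (γ : M₂ →* T ⊗[R] A) (hγ : ∀ n, GLT (γ n))
    (hgood : ∀ (Q : Type u) [Field Q] [Algebra R Q] (q : T →ₐ[R] Q), ∃ h : M₂ ≃* M, ∀ n, mapT A q (γ n) = D.zAt (q.comp b) (h n)) :
    Function.Bijective (MonoidAlgebra.lift T (T ⊗[R] A) M₂ γ) := by
  classical
  let ΦT : MonoidAlgebra T M₂ →ₐ[T] T ⊗[R] A := MonoidAlgebra.lift T (T ⊗[R] A) M₂ γ
  have hΦT : ∀ n : M₂, ΦT (MonoidAlgebra.single n 1) = γ n := fun n => by simp [ΦT]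
  let c : M₂ → M → T := fun k n => D.coeff b (γ k) n
  have hGL : ∀ k, IsGL (D.θ b (γ k)) := fun k => D.isGL (hγ k)
  have hat : ∀ (w : Ideal T) [w.IsPrime], ∃ h : M₂ ≃* M, ∀ k n, c k n ∉ w ↔ h k = n := fun w _ => by
    let q : T →ₐ[R] w.ResidueField := IsScalarTower.toAlgHom R T _
    obtain ⟨h, hh⟩ := hgood _ q
    refine ⟨h, fun k n => ?_⟩
    have h1 : q (c k n) = if h k = n then 1 else 0 := by
      show q (D.coeff b (γ k) n) = _
      rw [← coeff_mapT, hh k, coeff, θ_zAt, MonoidAlgebra.coeff_single, Finsupp.single_apply]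
    refine (not_congr (Ideal.algebraMap_residueField_eq_zero (R := T) (I := w) (x := c k n)).symm).trans ?_
    show ¬ q (c k n) = 0 ↔ _
    rw [h1]
    split_ifs with hkn <;> simp [hkn]
  have horth : ∀ k k' n, k ≠ k' → c k n * c k' n = 0 := fun k k' n hne => by
    refine (((hGL k).idem n).mul ((hGL k').idem n)).eq_zero_of_isNilpotent (nilpotent_iff_mem_prime.2 fun w hw => ?_)
    obtain ⟨h, hh⟩ := hat w
    by_cases h1 : c k n ∈ w
    · exact w.mul_mem_right _ h1
    · by_cases h2 : c k' n ∈ w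
      · exact w.mul_mem_left _ h2
      · exact absurd (h.injective (((hh k n).1 h1).trans ((hh k' n).1 h2).symm)) hne
  refine ⟨(injective_iff_map_eq_zero _).2 fun x hx => ?_, fun z => ?_⟩
  · refine MonoidAlgebra.coeff_injective (Finsupp.ext fun k => ?_)
    have hcoef : ∀ n, x.coeff k * c k n = 0 := fun n => by
      have h1 := congrArg (fun z => D.coeff b z n) (show ΦT x = 0 from hx)
      rw [← MonoidAlgebra.sum_coeff_single x, Finsupp.sum, map_sum] at h1
      simp only [coeff, map_sum, MonoidAlgebra.coeff_sum, Finset.sum_apply', map_zero, MonoidAlgebra.coeff_zero,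
        Finsupp.zero_apply] at h1
      have h2 : ∀ k', (D.θ b (ΦT (MonoidAlgebra.single k' (x.coeff k')))).coeff n = x.coeff k' * c k' n := fun k' => by
        rw [show MonoidAlgebra.single k' (x.coeff k') = x.coeff k' • MonoidAlgebra.single k' (1 : T) by simp,
          map_smul, map_smul, hΦT]
        simp [c, coeff]
      simp only [h2] at h1
      have h3 := congrArg (· * c k n) h1
      simp only [Finset.sum_mul, zero_mul] at h3
      rw [Finset.sum_eq_single k (fun k' _ hk' => by rw [mul_assoc, horth k' k n hk', mul_zero])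
        (fun hk => by rw [Finsupp.notMem_support_iff.1 hk, zero_mul, zero_mul])] at h3
      have hid : c k n * c k n = c k n := (hGL k).idem n
      rwa [mul_assoc, hid] at h3
    by_contra hne
    have hann : (Submodule.span T {x.coeff k}).annihilator ≠ ⊤ := fun htop => hne (by
      have h1 : (1 : T) ∈ (Submodule.span T {x.coeff k}).annihilator := htop ▸ Submodule.mem_top
      rw [Submodule.mem_annihilator_span_singleton, one_smul] at h1
      simpa using h1)
    obtain ⟨w, hw, hle⟩ := Ideal.exists_le_maximal _ hann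
    obtain ⟨h, hh⟩ := hat w
    refine (hh k (h k)).2 rfl (hle ?_)
    rw [Submodule.mem_annihilator_span_singleton, smul_eq_mul, mul_comm, hcoef]
  · suffices hmem : ∀ n, D.zAt b n ∈ LinearMap.range (ΦT).toLinearMap by
      rw [D.eq_sum (a := b) z]
      exact (sum_mem fun n _ => Submodule.smul_mem _ _ (hmem n) :
        ∑ n ∈ (D.θ b z).coeff.support, D.coeff b z n • D.zAt b n ∈ LinearMap.range (ΦT).toLinearMap)
    intro n
    let J : Ideal T := (LinearMap.range (ΦT).toLinearMap).comap (LinearMap.toSpanSingleton T _ (D.zAt b n))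
    suffices hJ : J = ⊤ by
      have h1 : (1 : T) ∈ J := hJ ▸ Submodule.mem_top
      simpa [J] using h1
    by_contra hne
    obtain ⟨w, hw, hle⟩ := Ideal.exists_le_maximal _ hne
    obtain ⟨h, hh⟩ := hat w
    refine (hh (h.symm n) n).2 (h.apply_symm_apply n) (hle ?_)
    show c (h.symm n) n • D.zAt b n ∈ LinearMap.range (ΦT).toLinearMap
    refine ⟨c (h.symm n) n • MonoidAlgebra.single (h.symm n) 1, ?_⟩
    show ΦT _ = _
    rw [map_smul, hΦT]
    refine D.ext (a := b) fun n' => ?_
    simp only [coeff, map_smul, θ_zAt, MonoidAlgebra.coeff_smul, Finsupp.smul_apply, MonoidAlgebra.coeff_single,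
      Finsupp.single_apply, smul_eq_mul]
    refine ((hGL _).orth n n').trans ?_
    split_ifs <;> simp [c, coeff]

include D in
/-- A family of group-likes over `E` which is, at every field point, a permuted basis splits `A`. -/
theorem isDiag_of_monoidHom [Module.FaithfullyFlat R R'] {E : Type u} [CommRing E] [Algebra R E]
    (γ : M →* E ⊗[R] A) (hγ : ∀ n, GLT (γ n))
    (hgood : ∀ (Q : Type u) [Field Q] [Algebra R Q] (χ : E →ₐ[R] Q) (b : R' →ₐ[R] Q), ∃ h : M ≃* M,
      ∀ n, mapT A χ (γ n) = D.zAt b (h n)) :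
    IsDiag E (E ⊗[R] A) := by
  classical
  have := D.projective
  obtain ⟨Φ, hΦ⟩ := exists_bialgHom_of_GLT γ hγ
  have hΦ' : ∀ x : MonoidAlgebra E M, Φ x = MonoidAlgebra.lift E (E ⊗[R] A) M γ x := fun x => by
    induction x using MonoidAlgebra.induction_linear with
    | zero => simp
    | add p q hp hq => simp only [map_add, hp, hq]
    | single n r =>
      rw [show MonoidAlgebra.single n r = r • MonoidAlgebra.single n (1 : E) by simp, map_smul, map_smul, hΦ]
      simp
  have hiE : Function.Injective (includeRight : E →ₐ[R] R' ⊗[R] E) :=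
    Module.FaithfullyFlat.tensorProduct_mk_injective E
  have hbij : ∀ (T : Type u) [CommRing T] [Algebra R T] (χ : E →ₐ[R] T) (_ : R' →ₐ[R] T),
      Function.Bijective (liftAlong γ χ) :=
    fun T _ _ χ b => D.bijective_lift b _ (fun n => (hγ n).map χ) fun Q _ _ q => by
      obtain ⟨h, hh⟩ := hgood Q (q.comp χ) (q.comp b)
      exact ⟨h, fun n => (mapT_mapT χ q (γ n)).trans (hh n)⟩
  have hb : Function.Bijective (liftAlong γ (includeRight : E →ₐ[R] R' ⊗[R] E)) :=
    hbij (R' ⊗[R] E) includeRight includeLeft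
  have hinj : Function.Injective Φ := fun x x' h => by
    have h1 := congrArg (mapT A (includeRight : E →ₐ[R] R' ⊗[R] E)) h
    rw [hΦ', hΦ', mapT_lift, mapT_lift] at h1
    exact mapAlgHom_injective hiE (hb.1 h1)
  have hsurj : Function.Surjective Φ := fun z => by
    obtain ⟨x, hx⟩ := hb.2 (mapT A (includeRight : E →ₐ[R] R' ⊗[R] E) z)
    have heq := equalized_of_liftAlong γ z x hx
      (hbij (R' ⊗[R] (R' ⊗[R] E)) (AlgHom.comp includeRight includeRight) includeLeft).1
    obtain ⟨w, hw⟩ := exists_desc_coeff x heq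
    refine ⟨w, mapT_injective hiE ?_⟩
    rw [hΦ', mapT_lift, hw, hx]
  exact ⟨M, inferInstance, ⟨(BialgEquiv.ofBijective Φ ⟨hinj, hsurj⟩).symm⟩⟩

/-- If the tuple is good at all field points, `A` is split over `E`. -/
theorem isDiag_of_good [Module.FaithfullyFlat R R'] {E : Type u} [CommRing E] [Algebra R E] (t : Finset M)
    (ht : Subgroup.closure (t : Set M) = ⊤) (g : M → E ⊗[R] A) (hg : ∀ i ∈ t, GLT (g i))
    (hgood : ∀ (Q : Type u) [Field Q] [Algebra R Q] (χ : E →ₐ[R] Q) (b : R' →ₐ[R] Q), D.GoodAt t g χ b) :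
    IsDiag E (E ⊗[R] A) := by
  classical
  have := D.projective
  let Spec' : M → E ⊗[R] A → Prop := fun n y => GLT y ∧ ∀ (Q : Type u) [Field Q] [Algebra R Q] (χ : E →ₐ[R] Q)
    (b : R' →ₐ[R] Q) (h : M ≃* M), (∀ i ∈ t, mapT A χ (g i) = D.zAt b (h i)) → mapT A χ y = D.zAt b (h n)
  have huniq : ∀ n y y', Spec' n y → Spec' n y' → y = y' := fun n y y' hy hy' => D.eq_of_forall_field hy.1 hy'.1
    fun Q _ _ χ b => by
      obtain ⟨h, hh⟩ := hgood Q χ b
      rw [hy.2 Q χ b h hh, hy'.2 Q χ b h hh]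
  have hex : ∀ n, ∃ y, Spec' n y := fun n => by
    have hn : n ∈ Subgroup.closure (t : Set M) := ht ▸ Subgroup.mem_top n
    induction hn using Subgroup.closure_induction with
    | mem i hi => exact ⟨g i, hg i hi, fun Q _ _ χ b h hh => hh i hi⟩
    | one => exact ⟨1, GLT.one, fun Q _ _ χ b h _ => by rw [map_one, map_one, map_one]⟩
    | mul x y _ _ hx hy =>
      obtain ⟨a, ha⟩ := hx
      obtain ⟨c, hc⟩ := hy
      exact ⟨a * c, ha.1.mul hc.1, fun Q _ _ χ b h hh => by rw [map_mul, ha.2 Q χ b h hh, hc.2 Q χ b h hh, map_mul, map_mul]⟩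
    | inv x _ hx =>
      obtain ⟨a, ha⟩ := hx
      obtain ⟨w, hw, hwa⟩ := ha.1.exists_inv
      refine ⟨w, hw, fun Q _ _ χ b h hh => ?_⟩
      have h1 := congrArg (mapT A χ) hwa
      rw [map_mul, ha.2 Q χ b h hh, map_one] at h1
      refine (D.glt_zAt (a := b) (h x)).isUnit.mul_left_injective ?_
      show _ * D.zAt b (h x) = D.zAt b (h x⁻¹) * D.zAt b (h x)
      rw [h1, ← map_mul, ← map_mul, inv_mul_cancel, map_one, map_one]
  choose y hy using hex
  let γ : M →* E ⊗[R] A :=
    { toFun := y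
      map_one' := huniq 1 _ _ (hy 1) ⟨GLT.one, fun Q _ _ χ b h _ => by rw [map_one, map_one, map_one]⟩
      map_mul' := fun a c => huniq _ _ _ (hy (a * c)) ⟨(hy a).1.mul (hy c).1, fun Q _ _ χ b h hh => by
        rw [map_mul, (hy a).2 Q χ b h hh, (hy c).2 Q χ b h hh, map_mul, map_mul]⟩ }
  refine D.isDiag_of_monoidHom γ (fun n => (hy n).1) fun Q _ _ χ b => ?_
  obtain ⟨h, hh⟩ := hgood Q χ b
  exact ⟨h, fun n => (hy n).2 Q χ b h hh⟩

include D in
/-- A group of multiplicative type and of finite type is split by étale neighbourhoods. -/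
theorem exists_etale_split [Module.FaithfullyFlat R R'] [Group.FG M] {K : Type u} [Field K] [Algebra R K]
    (a : R' →ₐ[R] K) :
    ∃ (E : Type u) (_ : CommRing E) (_ : Algebra R E), Algebra.Etale R E ∧ Nonempty (E →ₐ[R] K) ∧ IsDiag E (E ⊗[R] A) := by
  classical
  obtain ⟨t, ht⟩ := (Group.fg_iff.1 ‹Group.FG M›)
  obtain ⟨ht, htfin⟩ := ht
  have hcomb : ∀ s : Finset M, ∃ (E : Type u) (_ : CommRing E) (_ : Algebra R E) (φ : E →ₐ[R] K) (g : M → E ⊗[R] A),
      Algebra.Etale R E ∧ ∀ i ∈ s, GLT (g i) ∧ mapT A φ (g i) = D.zAt a i := by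
    intro s
    induction s using Finset.induction_on with
    | empty => exact ⟨R, inferInstance, inferInstance, Algebra.ofId R K, fun _ => 1, inferInstance, fun i hi => absurd hi (Finset.notMem_empty i)⟩
    | insert j s hj ih =>
      obtain ⟨E, _, _, φ, g, hE, hg⟩ := ih
      obtain ⟨E', _, _, φ', g', hE', hg', hg''⟩ := D.exists_etale_glt j a
      have : Algebra.Etale R E := hE
      have : Algebra.Etale R E' := hE'
      refine ⟨E ⊗[R] E', inferInstance, inferInstance, Algebra.TensorProduct.lift φ φ' fun _ _ => Commute.all _ _,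
        fun i => if i = j then mapT A includeRight g' else mapT A includeLeft (g i), Algebra.Etale.comp R E (E ⊗[R] E'),
        fun i hi => ?_⟩
      by_cases hij : i = j
      · subst hij
        simp only [if_pos]
        refine ⟨hg'.map _, ?_⟩
        rw [mapT_mapT, show (Algebra.TensorProduct.lift φ φ' fun _ _ => Commute.all _ _).comp includeRight = φ' from
          Algebra.TensorProduct.lift_comp_includeRight φ φ' (fun _ _ => Commute.all _ _), hg'']
      · simp only [if_neg hij]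
        obtain ⟨h1, h2⟩ := hg i ((Finset.mem_insert.1 hi).resolve_left hij)
        refine ⟨h1.map _, ?_⟩
        rw [mapT_mapT, show (Algebra.TensorProduct.lift φ φ' fun _ _ => Commute.all _ _).comp includeLeft = φ from
          AlgHom.ext fun e => (Algebra.TensorProduct.lift_tmul φ φ' (fun _ _ => Commute.all _ _) e 1).trans (by simp), h2]
  obtain ⟨E, _, _, φ, g, hE, hg⟩ := hcomb htfin.toFinset
  obtain ⟨f, hf, hgood⟩ := D.exists_basicOpen_good htfin.toFinset g (fun i hi => (hg i hi).1) φ a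
    ⟨MulEquiv.refl M, fun i hi => (hg i hi).2⟩
  let E₂ := Localization.Away f
  let i : E →ₐ[R] E₂ := IsScalarTower.toAlgHom R E E₂
  have : Algebra.Etale R E := hE
  have : Algebra.Etale E E₂ := Algebra.Etale.of_isLocalizationAway f
  have hu : ∀ p : Submonoid.powers f, IsUnit (φ p) := by
    rintro ⟨_, k, rfl⟩
    rw [map_pow]
    exact (isUnit_iff_ne_zero.2 hf).pow k
  refine ⟨E₂, inferInstance, inferInstance, Algebra.Etale.comp R E E₂, ⟨IsLocalization.liftAlgHom hu⟩,
    D.isDiag_of_good htfin.toFinset (by rw [Set.Finite.coe_toFinset, ht]) (fun m => mapT A i (g m))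
      (fun m hm => (hg m hm).1.map i) fun Q _ _ χ b => ?_⟩
  have hχf : (χ.comp i) f ≠ 0 := ((IsLocalization.Away.algebraMap_isUnit (S := E₂) f).map χ).ne_zero
  obtain ⟨h, hh⟩ := hgood Q (χ.comp i) b hχf
  exact ⟨h, fun m hm => by rw [mapT_mapT]; exact hh m hm⟩

end SplitData

/-- A group of multiplicative type and of finite type is quasi-isotrivial. -/
theorem isQuasiIsotrivial_of_finiteType [Algebra.FiniteType R A] (h : IsMultType R A) : IsQuasiIsotrivial R A := by
  classical
  obtain ⟨s, hs, hs'⟩ := h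
  have hpt : ∀ p : PrimeSpectrum R, ∃ f : R, f ∉ p.asIdeal ∧ IsQuasiIsotrivialConst (Localization.Away f) (Localization.Away f ⊗[R] A) := by
    intro p
    obtain ⟨c, hc, hcp⟩ : ∃ c ∈ s, c ∉ p.asIdeal := by
      by_contra hcon
      push Not at hcon
      exact p.isPrime.ne_top (top_le_iff.1 (hs ▸ Ideal.span_le.2 hcon))
    obtain ⟨R'', _, _, hff, N, _, ⟨e⟩⟩ := hs' c hc
    let R₀ := Localization.Away c
    obtain ⟨D⟩ := exists_splitData (R := R₀) (A := R₀ ⊗[R] A) e
    obtain ⟨q₀, hq₀⟩ : p ∈ Set.range (PrimeSpectrum.comap (algebraMap R R₀)) := by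
      rw [PrimeSpectrum.localization_away_comap_range R₀ c]
      exact hcp
    obtain ⟨q, hq⟩ := PrimeSpectrum.comap_surjective_of_faithfullyFlat (A := R₀) (B := R'') q₀
    let K := q.asIdeal.ResidueField
    have : Nontrivial R'' := ⟨⟨0, 1, fun h => q.isPrime.ne_top ((Ideal.eq_top_iff_one _).2 (h ▸ zero_mem _))⟩⟩
    have : Algebra.FiniteType R'' (MonoidAlgebra R'' N) :=
      Algebra.FiniteType.equiv (A := R'' ⊗[R₀] (R₀ ⊗[R] A)) inferInstance e.toAlgEquiv
    have : Group.FG N := Group.fg_iff_monoid_fg.2 (MonoidAlgebra.fg_of_finiteType (R := R''))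
    obtain ⟨E, _, _, hE, ⟨φ⟩, hdiag⟩ := D.exists_etale_split (IsScalarTower.toAlgHom R₀ R'' K)
    let : Algebra R E := ((algebraMap R₀ E).comp (algebraMap R R₀)).toAlgebra
    have : IsScalarTower R R₀ E := IsScalarTower.of_algebraMap_eq fun _ => rfl
    have : Algebra.Etale R₀ E := hE
    have : Algebra.Etale R R₀ := Algebra.Etale.of_isLocalizationAway c
    have : Algebra.Etale R E := Algebra.Etale.comp R R₀ E
    have hpE : p ∈ Set.range (PrimeSpectrum.comap (algebraMap R E)) := by
      refine ⟨⟨RingHom.ker φ, RingHom.ker_isPrime _⟩, ?_⟩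
      rw [IsScalarTower.algebraMap_eq R R₀ E, PrimeSpectrum.comap_comp_apply, ← hq₀]
      congr 1
      rw [← hq]
      refine PrimeSpectrum.ext (Ideal.ext fun x => ?_)
      show φ (algebraMap R₀ E x) = 0 ↔ algebraMap R₀ R'' x ∈ q.asIdeal
      rw [φ.commutes, IsScalarTower.algebraMap_apply R₀ R'' K, Ideal.algebraMap_residueField_eq_zero]
    obtain ⟨_, ⟨_, ⟨f, rfl⟩, rfl⟩, hfp, hfsub⟩ := PrimeSpectrum.isBasis_basic_opens.exists_subset_of_mem_open hpE
      (PrimeSpectrum.isOpenMap_comap_of_hasGoingDown_of_finitePresentation (R := R) (S := E)).isOpen_range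
    refine ⟨f, hfp, ?_⟩
    let L := Localization.Away f
    let S := L ⊗[R] E
    have hsurj : Function.Surjective (PrimeSpectrum.comap (algebraMap L S)) := fun P => by
      have hPD : PrimeSpectrum.comap (algebraMap R L) P ∈ PrimeSpectrum.basicOpen f := by
        show f ∉ _
        exact fun hmem => P.isPrime.ne_top (Ideal.eq_top_of_isUnit_mem _ hmem (IsLocalization.Away.algebraMap_isUnit f))
      obtain ⟨P', hP'⟩ := hfsub hPD
      obtain ⟨z, hz, -⟩ := AlgebraicGeometry.Scheme.Pullback.exists_preimage_pullback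
        (f := AlgebraicGeometry.Spec.map (CommRingCat.ofHom (algebraMap R L)))
        (g := AlgebraicGeometry.Spec.map (CommRingCat.ofHom (algebraMap R E))) P P' hP'.symm
      refine ⟨(AlgebraicGeometry.pullbackSpecIso R L E).hom z, Eq.trans ?_ hz⟩
      show (AlgebraicGeometry.Spec.map (CommRingCat.ofHom (algebraMap L S))) ((AlgebraicGeometry.pullbackSpecIso R L E).hom z) = _
      rw [← AlgebraicGeometry.Scheme.Hom.comp_apply, AlgebraicGeometry.pullbackSpecIso_hom_fst]
    obtain ⟨M', _, ⟨e'⟩⟩ := hdiag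
    refine ⟨S, inferInstance, inferInstance, inferInstance, Module.FaithfullyFlat.of_comap_surjective hsurj, ?_⟩
    obtain ⟨M'', _, ⟨e''⟩⟩ := isDiag_bc (S₂ := S) (includeRight : E →ₐ[R] S) ⟨M', inferInstance, ⟨(cancelBC R R₀ E A).symm.trans e'⟩⟩
    exact ⟨M'', inferInstance, ⟨(cancelBC R L S A).trans e''⟩⟩
  choose f hf hf' using hpt
  refine ⟨Set.range f, ?_, ?_⟩
  · by_contra hne
    obtain ⟨m, hm, hle⟩ := Ideal.exists_le_maximal _ hne
    exact hf ⟨m, hm.isPrime⟩ (hle (Ideal.subset_span ⟨_, rfl⟩))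
  · rintro _ ⟨p, rfl⟩
    exact hf' p

end Groth.Agent.MultHopf
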