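import Groth.Agent.MultHopf.FormalDiag
import Groth.Agent.MultHopf.IsoBasic

/-!
# The type of an isotrivial group which is a torus at one point
-/

set_option autoImplicit false
set_option backward.isDefEq.respectTransparency.types false

universe u

open scoped TensorProduct
open SGA3b

namespace Groth.Agent.MultHopf

variable {R : Type u} [CommRing R] {C : Type u} [CommRing C] [HopfAlgebra R C]

/-- Groups splitting a group over algebras with a common point are isomorphic. -/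
theorem nonempty_mulEquiv_of_point {T₁ T₂ : Type u} [CommRing T₁] [Algebra R T₁] [CommRing T₂] [Algebra R T₂]
    {M₁ M₂ : Type u} [CommGroup M₁] [CommGroup M₂]
    (e₁ : T₁ ⊗[R] C ≃ₐc[T₁] MonoidAlgebra T₁ M₁) (e₂ : T₂ ⊗[R] C ≃ₐc[T₂] MonoidAlgebra T₂ M₂)
    {Q₁ Q₂ : Type u} [CommRing Q₁] [IsDomain Q₁] [Algebra R Q₁] [CommRing Q₂] [IsDomain Q₂] [Algebra R Q₂]
    (a : T₁ →ₐ[R] Q₁) (b : T₂ →ₐ[R] Q₂) (h : RingHom.ker (algebraMap R Q₁) = RingHom.ker (algebraMap R Q₂)) :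
    Nonempty (M₁ ≃* M₂) := by
  obtain ⟨D₁⟩ := exists_splitData e₁
  obtain ⟨D₂⟩ := exists_splitData e₂
  obtain ⟨T, _, _, _, l, r, -⟩ := exists_common_ext (Algebra.ofId R Q₁) (Algebra.ofId R Q₂) (fun p => Ideal.ext_iff.1 h p)
  obtain ⟨m, hm⟩ := Ideal.exists_maximal T
  let : Field (T ⧸ m) := Ideal.Quotient.field m
  obtain ⟨τ, -⟩ := exists_transition₂ D₁ D₂ ((Ideal.Quotient.mkₐ R m).comp (l.comp a)) ((Ideal.Quotient.mkₐ R m).comp (r.comp b))
  exact ⟨τ⟩

/-- An isotrivial group which is a torus modulo an ideal in the radical is a torus. -/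
theorem isTorus_of_isIsotrivial (I : Ideal R) (hI : I ≤ Ideal.jacobson ⊥) (h : IsIsotrivial R C)
    (h0 : IsTorus (R ⧸ I) ((R ⧸ I) ⊗[R] C)) : IsTorus R C := by
  classical
  rcases subsingleton_or_nontrivial R with hR | hR
  · exact ⟨∅, Subsingleton.elim _ _, fun f hf => absurd hf (Set.notMem_empty f)⟩
  obtain ⟨S, _, _, -, -, hff, N, _, ⟨e⟩⟩ := h
  obtain ⟨m, hm⟩ := Ideal.exists_maximal R
  have hIm : I ≤ m := hI.trans (sInf_le ⟨bot_le, hm⟩)
  obtain ⟨P, hP⟩ := PrimeSpectrum.comap_surjective_of_faithfullyFlat (A := R) (B := S) ⟨m, hm.isPrime⟩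
  obtain ⟨s, hs, hs'⟩ := h0
  let mb : Ideal (R ⧸ I) := m.map (Ideal.Quotient.mk I)
  have hmb : mb.comap (Ideal.Quotient.mk I) = m := by
    rw [Ideal.comap_map_of_surjective _ Ideal.Quotient.mk_surjective, sup_eq_left]
    exact fun x hx => hIm (Ideal.Quotient.eq_zero_iff_mem.1 hx)
  have hmbp : mb.IsPrime := Ideal.map_isPrime_of_surjective Ideal.Quotient.mk_surjective (by rw [Ideal.mk_ker]; exact hIm)
  obtain ⟨c, hc, hcm⟩ : ∃ c ∈ s, c ∉ mb := by
    by_contra hcon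
    push Not at hcon
    exact hmbp.ne_top (top_le_iff.1 (hs ▸ Ideal.span_le.2 hcon))
  obtain ⟨R', _, _, hff', n, ⟨e'⟩⟩ := hs' c hc
  let L := Localization.Away c
  obtain ⟨q₀, hq₀⟩ : (⟨mb, hmbp⟩ : PrimeSpectrum (R ⧸ I)) ∈ Set.range (PrimeSpectrum.comap (algebraMap (R ⧸ I) L)) := by
    rw [PrimeSpectrum.localization_away_comap_range L c]
    exact hcm
  obtain ⟨q, hq⟩ := PrimeSpectrum.comap_surjective_of_faithfullyFlat (A := L) (B := R') q₀
  let : Algebra R R' := (((algebraMap L R').comp (algebraMap (R ⧸ I) L)).comp (algebraMap R (R ⧸ I))).toAlgebra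
  let : Algebra (R ⧸ I) R' := ((algebraMap L R').comp (algebraMap (R ⧸ I) L)).toAlgebra
  have : IsScalarTower R (R ⧸ I) R' := IsScalarTower.of_algebraMap_eq fun _ => rfl
  have : IsScalarTower (R ⧸ I) L R' := IsScalarTower.of_algebraMap_eq fun _ => rfl
  let e₂ : R' ⊗[R] C ≃ₐc[R'] MonoidAlgebra R' (Multiplicative (Fin n → ℤ)) :=
    ((cancelBC R (R ⧸ I) R' C).symm.trans (cancelBC (R ⧸ I) L R' ((R ⧸ I) ⊗[R] C)).symm).trans e'
  let e₃ : R' ⊗[R] C ≃ₐc[R'] MonoidAlgebra R' (ULift.{u} (Multiplicative (Fin n → ℤ))) :=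
    e₂.trans (MonoidAlgebra.domCongrBialgEquiv R' R' MulEquiv.ulift.symm)
  obtain ⟨τ⟩ := nonempty_mulEquiv_of_point e e₃ (IsScalarTower.toAlgHom R S P.asIdeal.ResidueField)
    (IsScalarTower.toAlgHom R R' q.asIdeal.ResidueField) (by
      ext x
      rw [RingHom.mem_ker, RingHom.mem_ker, IsScalarTower.algebraMap_apply R S P.asIdeal.ResidueField,
        IsScalarTower.algebraMap_apply R R' q.asIdeal.ResidueField, Ideal.algebraMap_residueField_eq_zero,
        Ideal.algebraMap_residueField_eq_zero]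
      have h1 : algebraMap R S x ∈ P.asIdeal ↔ x ∈ m := Ideal.ext_iff.1 (congrArg PrimeSpectrum.asIdeal hP) x
      have h2 : algebraMap L R' (algebraMap (R ⧸ I) L (Ideal.Quotient.mk I x)) ∈ q.asIdeal ↔ Ideal.Quotient.mk I x ∈ mb :=
        (Ideal.ext_iff.1 (congrArg PrimeSpectrum.asIdeal hq) _).trans (Ideal.ext_iff.1 (congrArg PrimeSpectrum.asIdeal hq₀) _)
      rw [h1, show algebraMap R R' x = algebraMap L R' (algebraMap (R ⧸ I) L (Ideal.Quotient.mk I x)) from rfl, h2,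
        ← Ideal.mem_comap, hmb])
  refine ⟨{1}, Ideal.span_singleton_one, ?_⟩
  rintro f hf
  obtain rfl : f = 1 := hf
  let L₁ := Localization.Away (1 : R)
  let S₁ := L₁ ⊗[R] S
  obtain ⟨e₄⟩ := nonempty_diag_bc (Algebra.TensorProduct.includeRight : S →ₐ[R] S₁) e
  exact ⟨S₁, inferInstance, inferInstance, inferInstance, n,
    ⟨((cancelBC R L₁ S₁ C).trans e₄).trans (MonoidAlgebra.domCongrBialgEquiv S₁ S₁ (τ.trans MulEquiv.ulift))⟩⟩

end Groth.Agent.MultHopf
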