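import Groth.Agent.MultHopf.SpreadDiag
import Groth.Agent.MultHopf.QuasiSplit
import Groth.Agent.MultHopf.QuasiIso
import Groth.Agent.MultHopf.TorusType
import Groth.Agent.MultHopf.NearConn
import Groth.Agent.LimSch.DescendObj
import Mathlib.RingTheory.Smooth.Flat
import Mathlib.RingTheory.Smooth.Locus
import Mathlib.RingTheory.Spectrum.Prime.Chevalley

/-!
# Multiplicative type is local for the stalks of the base
-/

set_option autoImplicit false
set_option backward.isDefEq.respectTransparency.types false
set_option maxHeartbeats 1000000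
set_option synthInstance.maxHeartbeats 100000

universe u

open scoped TensorProduct
open CategoryTheory SGA3b
open Algebra.TensorProduct (includeLeft includeRight)

namespace Groth.Agent.MultHopf

variable {R : Type u} [CommRing R] (S : Submonoid R)

/-- A finitely presented algebra over a localisation is a localisation of a finitely presented algebra. -/
theorem exists_fp_model {L : Type u} [CommRing L] [Algebra R L] [IsLocalization S L] (B : Type u) [CommRing B] [Algebra L B]
    [Algebra R B] [IsScalarTower R L B] [Algebra.FinitePresentation L B] :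
    ∃ (E : Type u) (_ : CommRing E) (_ : Algebra R E) (_ : Algebra E B) (_ : IsScalarTower R E B),
      Algebra.FinitePresentation R E ∧ IsLocalization (Algebra.algebraMapSubmonoid E S) B := by
  classical
  obtain ⟨n, π, hπ, s, hs⟩ := Algebra.FinitePresentation.out (R := L) (A := B)
  let : Algebra (MvPolynomial (Fin n) R) (MvPolynomial (Fin n) L) := MvPolynomial.algebraMvPolynomial
  have : IsLocalization (S.map (MvPolynomial.C (σ := Fin n))) (MvPolynomial (Fin n) L) := MvPolynomial.isLocalization (σ := Fin n) S L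
  choose qd hqd using fun z : s => IsLocalization.surj (S.map (MvPolynomial.C (σ := Fin n))) (z.1 : MvPolynomial (Fin n) L)
  let t : s → MvPolynomial (Fin n) R := fun z => (qd z).1
  have hker : RingHom.ker π.toRingHom = Ideal.span (Set.range fun k => MvPolynomial.map (algebraMap R L) (t k)) := by
    rw [← hs]
    have hu : ∀ z : s, ∃ w : MvPolynomial (Fin n) L, IsUnit w ∧ MvPolynomial.map (algebraMap R L) (t z) = w * z.1 := fun z =>
      ⟨_, IsLocalization.map_units (MvPolynomial (Fin n) L) (qd z).2, by rw [mul_comm]; exact (hqd z).symm⟩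
    refine le_antisymm (Ideal.span_le.2 fun z hz => ?_) (Ideal.span_le.2 ?_)
    · obtain ⟨w, hw, e⟩ := hu ⟨z, hz⟩
      obtain ⟨w, rfl⟩ := hw
      have : (↑w⁻¹ : MvPolynomial (Fin n) L) * MvPolynomial.map (algebraMap R L) (t ⟨z, hz⟩) = z := by
        rw [e, ← mul_assoc, Units.inv_mul, one_mul]
      rw [SetLike.mem_coe, ← this]
      exact Ideal.mul_mem_left _ _ (Ideal.subset_span ⟨_, rfl⟩)
    · rintro _ ⟨z, rfl⟩
      obtain ⟨w, -, e⟩ := hu z
      show MvPolynomial.map (algebraMap R L) (t z) ∈ _
      rw [e]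
      exact Ideal.mul_mem_left _ _ (Ideal.subset_span z.2)
  let E := MvPolynomial (Fin n) R ⧸ Ideal.span (Set.range t)
  obtain ⟨θ, hθ⟩ := LimSch.isPushout_model (CommRingCat.ofHom (algebraMap R L)) (CommRingCat.ofHom (algebraMap L B))
    π.toRingHom (RingHom.ext fun a => π.commutes a) hπ t hker
  let : Algebra E B := θ.hom.toAlgebra
  have : IsScalarTower R E B := IsScalarTower.of_algebraMap_eq (R := R) (S := E) (A := B) fun z => by
    refine (IsScalarTower.algebraMap_apply R L B z).trans ?_
    exact congr($(hθ.w) z)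
  have hpo : Algebra.IsPushout R E L B := by
    rw [← CommRingCat.isPushout_iff_isPushout]
    exact hθ.flip
  have hfp : Algebra.FinitePresentation R E :=
    Algebra.FinitePresentation.quotient ⟨Finset.univ.image t, by simp⟩
  exact ⟨E, inferInstance, inferInstance, inferInstance, inferInstance, hfp,
    (Algebra.isLocalization_iff_isPushout S L).2 hpo⟩

variable {A : Type u} [CommRing A] [HopfAlgebra R A]

/-- Splitting on a principal neighbourhood of a prime. -/
theorem exists_nhd_split [Algebra.FinitePresentation R A] (p : Ideal R) [p.IsPrime]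
    (h : IsMultType (Localization.AtPrime p) (Localization.AtPrime p ⊗[R] A)) :
    ∃ f ∉ p, ∃ (T : Type u) (_ : CommRing T) (_ : Algebra R T) (_ : Algebra (Localization.Away f) T)
      (_ : IsScalarTower R (Localization.Away f) T) (M : Type u) (_ : CommGroup M),
      Module.FaithfullyFlat (Localization.Away f) T ∧ Nonempty (T ⊗[R] A ≃ₐc[T] MonoidAlgebra T M) := by
  let Rp := Localization.AtPrime p
  obtain ⟨s, hs, hs'⟩ := isQuasiIsotrivial_of_finiteType h
  obtain ⟨c, hcs, hc⟩ : ∃ c ∈ s, IsUnit c := by
    by_contra hcon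
    push Not at hcon
    exact (IsLocalRing.maximalIdeal.isMaximal Rp).ne_top
      (top_le_iff.1 (hs ▸ Ideal.span_le.2 fun x hx => hcon x hx))
  obtain ⟨E, _, _, het, hff, M, _, ⟨e⟩⟩ := hs' c hcs
  let Lc := Localization.Away c
  let : Algebra Rp E := ((algebraMap Lc E).comp (algebraMap Rp Lc)).toAlgebra
  have : IsScalarTower Rp Lc E := ⟨fun a b x => by
    rw [show a • b = algebraMap Rp Lc a * b from Algebra.smul_def a b, Algebra.smul_def, map_mul, mul_assoc,
      Algebra.smul_def b x]
    rfl⟩
  let : Algebra R E := ((algebraMap Rp E).comp (algebraMap R Rp)).toAlgebra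
  have : IsScalarTower R Rp E := IsScalarTower.of_algebraMap_eq fun _ => rfl
  have := het
  have := hff
  have : Algebra.Etale Rp Lc := Algebra.Etale.of_isLocalizationAway c
  have : Algebra.Etale Rp E := Algebra.Etale.comp Rp Lc E
  have hbij : Function.Bijective (algebraMap Rp Lc) := by
    let ea : Rp ≃ₐ[Rp] Lc := IsLocalization.atUnits Rp (Submonoid.powers c) (by rintro _ ⟨n, rfl⟩; exact hc.pow n)
    rw [show ⇑(algebraMap Rp Lc) = ⇑ea from funext fun x => (ea.commutes x).symm]
    exact ea.bijective
  have : Module.FaithfullyFlat Rp Lc := Module.FaithfullyFlat.of_linearEquiv Rp Rp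
    (LinearEquiv.ofBijective (Algebra.linearMap Rp Lc) hbij).symm
  have hffE : Module.FaithfullyFlat Rp E := Module.FaithfullyFlat.trans Rp Lc E
  let e₁ : E ⊗[R] A ≃ₐc[E] MonoidAlgebra E M := ((cancelBC R Rp E A).symm.trans (cancelBC Rp Lc E (Rp ⊗[R] A)).symm).trans e
  have : Nontrivial E := (FaithfulSMul.algebraMap_injective Rp E).nontrivial
  have : Group.FG M := by
    have : Algebra.FiniteType E (MonoidAlgebra E M) := Algebra.FiniteType.equiv inferInstance e₁.toAlgEquiv
    exact Group.fg_iff_monoid_fg.2 (MonoidAlgebra.fg_of_finiteType (R := E))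
  obtain ⟨E₀, _, _, _, _, _, hloc⟩ := exists_fp_model p.primeCompl (L := Rp) E
  let U := Algebra.algebraMapSubmonoid E₀ p.primeCompl
  obtain ⟨u, ⟨r, hr, rfl⟩, M', _, ⟨e'⟩⟩ := SpreadDiag.exists_away_diag U (A := E₀ ⊗[R] A)
    ((cancelBC R E₀ E A).trans e₁)
  let E₁ := Localization.Away (algebraMap R E₀ r)
  have : Algebra.FinitePresentation E₀ E₁ := IsLocalization.Away.finitePresentation (algebraMap R E₀ r)
  have : Algebra.FinitePresentation R E₁ := Algebra.FinitePresentation.trans R E₀ E₁
  -- a smooth point over p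
  obtain ⟨Q, hQ⟩ := PrimeSpectrum.comap_surjective_of_faithfullyFlat (A := Rp) (B := E) (IsLocalRing.closedPoint Rp)
  let g : E₁ →ₐ[E₀] E := IsLocalization.Away.liftAlgHom (f := Algebra.ofId E₀ E) (x := algebraMap R E₀ r)
    (IsLocalization.map_units E (⟨_, r, hr, rfl⟩ : U))
  let : Algebra E₁ E := g.toRingHom.toAlgebra
  have : IsScalarTower E₀ E₁ E := IsScalarTower.of_algebraMap_eq fun x => (g.commutes x).symm
  have : IsScalarTower R E₁ E := IsScalarTower.of_algebraMap_eq fun x => by
    rw [IsScalarTower.algebraMap_apply R E₀ E₁, ← IsScalarTower.algebraMap_apply E₀ E₁ E,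
      ← IsScalarTower.algebraMap_apply]
  have : IsLocalization (U.map (algebraMap E₀ E₁)) E := IsLocalization.isLocalization_of_submonoid_le E₁ E
    (Submonoid.powers (algebraMap R E₀ r)) U (Submonoid.powers_le.2 ⟨r, hr, rfl⟩)
  let q : PrimeSpectrum E₁ := PrimeSpectrum.comap (algebraMap E₁ E) Q
  have hsm : q ∈ Algebra.smoothLocus R E₁ := by
    show Algebra.FormallySmooth R (Localization.AtPrime q.asIdeal)
    have : Algebra.FormallySmooth R Rp := Algebra.FormallySmooth.of_isLocalization p.primeCompl
    have : Algebra.FormallySmooth R E := Algebra.FormallySmooth.comp R Rp E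
    let EQ := Localization.AtPrime Q.asIdeal
    have : Algebra.FormallySmooth E EQ := Algebra.FormallySmooth.of_isLocalization Q.asIdeal.primeCompl
    have : Algebra.FormallySmooth R EQ := Algebra.FormallySmooth.comp R E EQ
    have : IsLocalization.AtPrime EQ q.asIdeal :=
      IsLocalization.isLocalization_isLocalization_atPrime_isLocalization (U.map (algebraMap E₀ E₁)) EQ Q.asIdeal
    exact Algebra.FormallySmooth.of_equiv
      ((IsLocalization.algEquiv q.asIdeal.primeCompl EQ (Localization.AtPrime q.asIdeal)).restrictScalars R)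
  obtain ⟨_, ⟨_, ⟨h₁, rfl⟩, rfl⟩, hqh, hh⟩ := PrimeSpectrum.isBasis_basic_opens.exists_subset_of_mem_open hsm Algebra.isOpen_smoothLocus
  let T₁ := Localization.Away h₁
  have : Algebra.Smooth R T₁ := Algebra.basicOpen_subset_smoothLocus_iff_smooth.1 hh
  have : Algebra.HasGoingDown R T₁ := Algebra.HasGoingDown.of_flat
  have hopen : IsOpen (Set.range (PrimeSpectrum.comap (algebraMap R T₁))) :=
    PrimeSpectrum.isOpenMap_comap_of_hasGoingDown_of_finitePresentation.isOpen_range
  have hp : (⟨p, inferInstance⟩ : PrimeSpectrum R) ∈ Set.range (PrimeSpectrum.comap (algebraMap R T₁)) := by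
    have : q ∈ Set.range (PrimeSpectrum.comap (algebraMap E₁ T₁)) := by
      rw [PrimeSpectrum.localization_away_comap_range T₁ h₁]
      exact hqh
    obtain ⟨q', hq'⟩ := this
    refine ⟨q', ?_⟩
    rw [IsScalarTower.algebraMap_eq R E₁ T₁, PrimeSpectrum.comap_comp_apply, hq', ← PrimeSpectrum.comap_comp_apply,
      ← IsScalarTower.algebraMap_eq, IsScalarTower.algebraMap_eq R Rp E, PrimeSpectrum.comap_comp_apply, hQ]
    exact PrimeSpectrum.ext (Localization.AtPrime.comap_maximalIdeal)
  obtain ⟨_, ⟨_, ⟨f, rfl⟩, rfl⟩, hpf, hf⟩ := PrimeSpectrum.isBasis_basic_opens.exists_subset_of_mem_open hp hopen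
  refine ⟨f, hpf, ?_⟩
  let Lf := Localization.Away f
  let T := Localization.Away (algebraMap R T₁ f)
  let iT : CommRing T := inferInstance
  let algT : Algebra R T := inferInstance
  have hu : IsUnit (algebraMap R T f) := by
    rw [IsScalarTower.algebraMap_apply R T₁ T]
    exact IsLocalization.Away.algebraMap_isUnit _
  let g' : Lf →ₐ[R] T := IsLocalization.Away.liftAlgHom (f := Algebra.ofId R T) (x := f) hu
  let : Algebra Lf T := g'.toRingHom.toAlgebra
  have : IsScalarTower R Lf T := IsScalarTower.of_algebraMap_eq fun x => (g'.commutes x).symm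
  have : Module.Flat R T := Module.Flat.trans R T₁ T
  have : Module.Flat Lf T := (Module.flat_iff_of_isLocalization Lf (Submonoid.powers f) (M := T)).2 inferInstance
  have hsurj : Function.Surjective (PrimeSpectrum.comap (algebraMap Lf T)) := fun z => by
    have hz : PrimeSpectrum.comap (algebraMap R Lf) z ∈ PrimeSpectrum.basicOpen f := by
      rw [← SetLike.mem_coe, ← PrimeSpectrum.localization_away_comap_range Lf f]
      exact ⟨z, rfl⟩
    obtain ⟨y, hy⟩ := hf hz
    have hyf : y ∈ Set.range (PrimeSpectrum.comap (algebraMap T₁ T)) := by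
      rw [PrimeSpectrum.localization_away_comap_range T (algebraMap R T₁ f)]
      show algebraMap R T₁ f ∉ y.asIdeal
      intro hmem
      have : f ∈ (PrimeSpectrum.comap (algebraMap R T₁) y).asIdeal := hmem
      rw [hy] at this
      exact hz this
    obtain ⟨w, rfl⟩ := hyf
    refine ⟨w, PrimeSpectrum.localization_comap_injective Lf (Submonoid.powers f) ?_⟩
    rw [← PrimeSpectrum.comap_comp_apply, ← IsScalarTower.algebraMap_eq, ← hy, ← PrimeSpectrum.comap_comp_apply,
      ← IsScalarTower.algebraMap_eq]
  have hffT : Module.FaithfullyFlat Lf T := @Module.FaithfullyFlat.of_comap_surjective Lf T _ _ _ _ hsurj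
  let a : E₁ →ₐ[R] T := IsScalarTower.toAlgHom R E₁ T
  obtain ⟨eT⟩ := nonempty_diag_bc a ((cancelBC R E₀ E₁ A).symm.trans e')
  exact ⟨T, inferInstance, inferInstance, inferInstance, inferInstance, M', inferInstance, hffT, ⟨eT⟩⟩

/-- Multiplicative type can be checked at the stalks. -/
theorem isMultType_of_atPrime [Algebra.FinitePresentation R A]
    (h : ∀ (p : Ideal R) [p.IsPrime], IsMultType (Localization.AtPrime p) (Localization.AtPrime p ⊗[R] A)) :
    IsMultType R A := by
  refine ⟨{f | IsMultTypeConst (Localization.Away f) (Localization.Away f ⊗[R] A)}, ?_, fun f hf => hf⟩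
  by_contra hne
  obtain ⟨m, hm, hle⟩ := Ideal.exists_le_maximal _ hne
  obtain ⟨f, hfm, T, _, _, _, _, M, _, hff, ⟨e⟩⟩ := exists_nhd_split m (h m)
  exact hfm (hle (Ideal.subset_span ⟨T, inferInstance, inferInstance, hff, M, inferInstance,
    ⟨(cancelBC R (Localization.Away f) T A).trans e⟩⟩))

/-- A group of multiplicative type at the stalks whose fibres are tori is a torus. -/
theorem isTorus_of_atPrime [Algebra.FinitePresentation R A]
    (h : ∀ (p : Ideal R) [p.IsPrime], IsMultType (Localization.AtPrime p) (Localization.AtPrime p ⊗[R] A))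
    (hfib : ∀ (p : Ideal R) [p.IsPrime], IsTorus p.ResidueField (p.ResidueField ⊗[R] A)) :
    IsTorus R A := by
  refine ⟨{f | IsTorusConst (Localization.Away f) (Localization.Away f ⊗[R] A)}, ?_, fun f hf => hf⟩
  by_contra hne
  obtain ⟨m, hm, hle⟩ := Ideal.exists_le_maximal _ hne
  obtain ⟨f, hfm, T, _, _, _, _, M, _, hff, ⟨e⟩⟩ := exists_nhd_split m (h m)
  let Lf := Localization.Away f
  obtain ⟨z, hz⟩ : (⟨m, inferInstance⟩ : PrimeSpectrum R) ∈ Set.range (PrimeSpectrum.comap (algebraMap R Lf)) := by
    rw [PrimeSpectrum.localization_away_comap_range Lf f]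
    exact hfm
  obtain ⟨P, hP⟩ := PrimeSpectrum.comap_surjective_of_faithfullyFlat (A := Lf) (B := T) z
  have hker₁ : RingHom.ker (algebraMap R P.asIdeal.ResidueField) = m := by
    ext x
    rw [RingHom.mem_ker, IsScalarTower.algebraMap_apply R T P.asIdeal.ResidueField, Ideal.algebraMap_residueField_eq_zero,
      ← Ideal.mem_comap, IsScalarTower.algebraMap_eq R Lf T, ← Ideal.comap_comap]
    exact Ideal.ext_iff.1 ((congrArg (fun y => (PrimeSpectrum.comap (algebraMap R Lf) y).asIdeal) hP).trans
      (congrArg PrimeSpectrum.asIdeal hz)) x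
  -- the torus at m
  let K := m.ResidueField
  obtain ⟨s, hs, hs'⟩ := hfib m
  obtain ⟨c, hc, hc0⟩ : ∃ c ∈ s, c ≠ 0 := by
    by_contra hcon
    push Not at hcon
    have : Ideal.span s ≤ ⊥ := Ideal.span_le.2 fun x hx => hcon x hx
    rw [hs] at this
    exact one_ne_zero ((Submodule.mem_bot K).1 (this Submodule.mem_top))
  obtain ⟨R'', _, _, hff', n, ⟨e'⟩⟩ := hs' c hc
  let Kc := Localization.Away c
  have : Nontrivial Kc := (IsLocalization.injective Kc (M := Submonoid.powers c)
    (Submonoid.powers_le.2 (mem_nonZeroDivisors_of_ne_zero hc0))).nontrivial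
  have : Nontrivial R'' := (FaithfulSMul.algebraMap_injective Kc R'').nontrivial
  obtain ⟨q, hq⟩ := Ideal.exists_maximal R''
  let : Algebra K R'' := ((algebraMap Kc R'').comp (algebraMap K Kc)).toAlgebra
  have : IsScalarTower K Kc R'' := IsScalarTower.of_algebraMap_eq fun _ => rfl
  let : Algebra R R'' := ((algebraMap K R'').comp (algebraMap R K)).toAlgebra
  have : IsScalarTower R K R'' := IsScalarTower.of_algebraMap_eq fun _ => rfl
  have hker₂ : RingHom.ker (algebraMap R q.ResidueField) = m := by
    ext x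
    rw [RingHom.mem_ker, IsScalarTower.algebraMap_apply R R'' q.ResidueField, IsScalarTower.algebraMap_apply R K R'',
      ← RingHom.comp_apply, map_eq_zero_iff _ ((algebraMap R'' q.ResidueField).comp (algebraMap K R'')).injective]
    exact Ideal.algebraMap_residueField_eq_zero
  let e₂ : R'' ⊗[R] A ≃ₐc[R''] MonoidAlgebra R'' (Multiplicative (Fin n → ℤ)) :=
    ((cancelBC R K R'' A).symm.trans (cancelBC K Kc R'' (K ⊗[R] A)).symm).trans e'
  let e₃ : R'' ⊗[R] A ≃ₐc[R''] MonoidAlgebra R'' (ULift.{u} (Multiplicative (Fin n → ℤ))) :=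
    e₂.trans (MonoidAlgebra.domCongrBialgEquiv R'' R'' MulEquiv.ulift.symm)
  obtain ⟨τ⟩ := nonempty_mulEquiv_of_point e e₃ (IsScalarTower.toAlgHom R T P.asIdeal.ResidueField)
    (IsScalarTower.toAlgHom R R'' q.ResidueField) (hker₁.trans hker₂.symm)
  exact hfm (hle (Ideal.subset_span ⟨T, inferInstance, inferInstance, hff, n,
    ⟨((cancelBC R Lf T A).trans e).trans (MonoidAlgebra.domCongrBialgEquiv T T (τ.trans MulEquiv.ulift))⟩⟩))

/-- Multiplicative type is invariant under isomorphisms. -/
theorem isMultType_congr {T : Type u} [CommRing T] {B B' : Type u} [CommRing B] [HopfAlgebra T B] [CommRing B']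
    [HopfAlgebra T B'] (e : B ≃ₐc[T] B') (h : IsMultType T B) : IsMultType T B' := by
  obtain ⟨s, hs, hs'⟩ := h
  refine ⟨s, hs, fun f hf => ?_⟩
  obtain ⟨R', _, _, hff, M, _, ⟨e'⟩⟩ := hs' f hf
  exact ⟨R', inferInstance, inferInstance, hff, M, inferInstance,
    ⟨(congrBC (congrBC e (Localization.Away f)) R').symm.trans e'⟩⟩

/-- The hypotheses of the local criterion at a prime, from the fibres. -/
theorem isMultType_atPrime_of_fibres [Module.Flat R A] [Algebra.FinitePresentation R A]
    (hfib : ∀ (p : Ideal R) [p.IsPrime], IsMultType p.ResidueField (p.ResidueField ⊗[R] A) ∧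
      ConnectedSpace (PrimeSpectrum (p.ResidueField ⊗[R] A)))
    (p : Ideal R) [p.IsPrime] : IsMultType (Localization.AtPrime p) (Localization.AtPrime p ⊗[R] A) := by
  let Rp := Localization.AtPrime p
  refine isMultType_of_near_connected (flatNear_of_flat_at fun q _ _ => inferInstance) ?_ fun w hw => ?_
  · exact isMultType_congr (cancelBC R Rp (IsLocalRing.ResidueField Rp) A).symm (hfib p).1
  · let v := w.comap (algebraMap R Rp)
    let K := v.ResidueField
    let F := w.ResidueField
    let g : K →ₐ[R] F := Ideal.ResidueField.mapₐ v w (Algebra.ofId R Rp) rfl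
    let : Algebra K F := g.toRingHom.toAlgebra
    have : IsScalarTower R K F := IsScalarTower.of_algebraMap_eq fun r => (g.commutes r).symm
    have := (hfib v).2
    have := connectedSpace_tensor_field (L := F) (Bialgebra.counitAlgHom K (K ⊗[R] A))
    let e' := PrimeSpectrum.homeomorphOfRingEquiv
      ((cancelBC R K F A).trans (cancelBC R Rp F A).symm).toAlgEquiv.toRingEquiv
    exact e'.surjective.connectedSpace e'.continuous

/-- A torus is of multiplicative type. -/
theorem isMultType_of_isTorus {T : Type u} [CommRing T] {B : Type u} [CommRing B] [HopfAlgebra T B] (h : IsTorus T B) :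
    IsMultType T B := by
  obtain ⟨s, hs, hs'⟩ := h
  refine ⟨s, hs, fun f hf => ?_⟩
  obtain ⟨R', _, _, hff, n, ⟨e⟩⟩ := hs' f hf
  exact ⟨R', inferInstance, inferInstance, hff, ULift.{u} (Multiplicative (Fin n → ℤ)), inferInstance,
    ⟨e.trans (MonoidAlgebra.domCongrBialgEquiv R' R' MulEquiv.ulift.symm)⟩⟩

/-- A torus over a field is connected. -/
theorem connectedSpace_of_isTorus {K : Type u} [Field K] {B : Type u} [CommRing B] [HopfAlgebra K B] (h : IsTorus K B) :
    ConnectedSpace (PrimeSpectrum B) := by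
  obtain ⟨s, hs, hs'⟩ := h
  obtain ⟨c, hc, hc0⟩ : ∃ c ∈ s, c ≠ 0 := by
    by_contra hcon
    push Not at hcon
    have : Ideal.span s ≤ ⊥ := Ideal.span_le.2 fun x hx => hcon x hx
    rw [hs] at this
    exact one_ne_zero ((Submodule.mem_bot K).1 (this Submodule.mem_top))
  obtain ⟨R'', _, _, hff', n, ⟨e'⟩⟩ := hs' c hc
  let Kc := Localization.Away c
  have : Nontrivial Kc := (IsLocalization.injective Kc (M := Submonoid.powers c)
    (Submonoid.powers_le.2 (mem_nonZeroDivisors_of_ne_zero hc0))).nontrivial
  have : Nontrivial R'' := (FaithfulSMul.algebraMap_injective Kc R'').nontrivial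
  obtain ⟨q, hq⟩ := Ideal.exists_maximal R''
  let : Algebra K R'' := ((algebraMap Kc R'').comp (algebraMap K Kc)).toAlgebra
  have : IsScalarTower K Kc R'' := IsScalarTower.of_algebraMap_eq fun _ => rfl
  let M := ULift.{u} (Multiplicative (Fin n → ℤ))
  let e₂ : R'' ⊗[K] B ≃ₐc[R''] MonoidAlgebra R'' M :=
    ((cancelBC K Kc R'' B).symm.trans e').trans (MonoidAlgebra.domCongrBialgEquiv R'' R'' MulEquiv.ulift.symm)
  let F := q.ResidueField
  obtain ⟨eF⟩ := nonempty_diag_bc (IsScalarTower.toAlgHom K R'' F) e₂
  let eF' : F ⊗[K] B ≃ₐ[F] MonoidAlgebra F (Multiplicative (Fin n → ℤ)) :=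
    eF.toAlgEquiv.trans (MonoidAlgebra.domCongr F F MulEquiv.ulift)
  have : IsDomain (MonoidAlgebra F (Multiplicative (Fin n → ℤ))) := NoZeroDivisors.to_isDomain _
  have : IsDomain (F ⊗[K] B) := eF'.toMulEquiv.isDomain _
  let i : B →ₐ[K] F ⊗[K] B := includeRight
  have hi : Function.Injective i := Algebra.TensorProduct.includeRight_injective (algebraMap K F).injective
  have : IsDomain B := hi.isDomain i
  infer_instance

/-- Flat groups with connected fibres of multiplicative type are of multiplicative type. -/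
theorem isMultType_of_fibres [Module.Flat R A] [Algebra.FinitePresentation R A]
    (hfib : ∀ (p : Ideal R) [p.IsPrime], IsMultType p.ResidueField (p.ResidueField ⊗[R] A) ∧
      ConnectedSpace (PrimeSpectrum (p.ResidueField ⊗[R] A))) : IsMultType R A :=
  isMultType_of_atPrime fun p _ => isMultType_atPrime_of_fibres hfib p

/-- Flat groups whose fibres are tori are tori. -/
theorem isTorus_of_fibres [Module.Flat R A] [Algebra.FinitePresentation R A]
    (hfib : ∀ (p : Ideal R) [p.IsPrime], IsTorus p.ResidueField (p.ResidueField ⊗[R] A)) : IsTorus R A :=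
  isTorus_of_atPrime
    (fun p _ => isMultType_atPrime_of_fibres (fun p _ => ⟨isMultType_of_isTorus (hfib p), connectedSpace_of_isTorus (hfib p)⟩) p)
    hfib

end Groth.Agent.MultHopf
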