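import Groth.Agent.MultHopf.FormalIso
import Groth.Agent.MultHopf.DiagLift

/-!
# Groups of multiplicative type over complete rings
-/

set_option autoImplicit false
set_option backward.isDefEq.respectTransparency.types false

universe u

open scoped TensorProduct
open SGA3b
open Algebra.TensorProduct (includeLeft includeRight)

namespace Groth.Agent.MultHopf

variable {R : Type u} [CommRing R]

theorem flat_of_isMultType {A : Type u} [CommRing A] [HopfAlgebra R A] (h : IsMultType R A) : Module.Flat R A := by
  obtain ⟨F, hF⟩ := exists_splits_of_isMultType h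
  rw [Module.Flat.iff_rTensor_injective']
  intro J
  refine (injective_iff_map_eq_zero _).2 fun z hz => F.eq_zero z fun k => ?_
  obtain ⟨M, _, ⟨e⟩⟩ := hF k
  have : Module.Flat (F.S k) (F.S k ⊗[R] A) := by
    have : Module.Flat (F.S k) (MonoidAlgebra (F.S k) M) := inferInstance
    exact Module.Flat.of_linearEquiv (M := MonoidAlgebra (F.S k) M) (e : F.S k ⊗[R] A ≃ₐc[F.S k] MonoidAlgebra (F.S k) M).toAlgEquiv.toLinearEquiv
  have : Module.Flat R (F.S k ⊗[R] A) := Module.Flat.trans R (F.S k) _
  let ξ := TensorProduct.leftComm R (F.S k) J A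
  have hinj := Module.Flat.rTensor_preserves_injective_linearMap (M := F.S k ⊗[R] A) (Submodule.subtype J) (Submodule.subtype_injective J)
  refine ξ.injective (hinj ?_)
  rw [map_zero, map_zero]
  have h1 : ∀ w : F.S k ⊗[R] (J ⊗[R] A), (Submodule.subtype J).rTensor (F.S k ⊗[R] A) (ξ w) =
      TensorProduct.leftComm R (F.S k) R A (((Submodule.subtype J).rTensor A).lTensor (F.S k) w) := fun w => by
    induction w using TensorProduct.induction_on with
    | zero => simp
    | add p q hp hq => simp only [map_add, hp, hq]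
    | tmul s y =>
      induction y using TensorProduct.induction_on with
      | zero => simp
      | add p q hp hq => simp only [TensorProduct.tmul_add, map_add, hp, hq]
      | tmul j a => simp [ξ]
  rw [h1, LinearMap.lTensor_tmul, hz, TensorProduct.tmul_zero, map_zero]

variable {A : Type u} [CommRing A] [HopfAlgebra R A] {M N : Type u} [CommGroup M] [CommGroup N]
  {T : Type u} [CommRing T] [Algebra R T]

theorem isGL_of_groupLike {X : Type u} [CommRing X] [DecidableEq N] {z : MonoidAlgebra X N}
    (h1 : Coalgebra.counit (R := X) z = 1) (h2 : Coalgebra.comul (R := X) z = z ⊗ₜ[X] z) : IsGL z := by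
  refine isGLMod_of_comul (fun n n' => ?_) ?_
  · rw [h2, coeff₂_tmul, sub_self]
    exact zero_mem _
  · rw [h1, sub_self]
    exact zero_mem _

/-- A homomorphism to a diagonalisable group at a field point. -/
theorem exists_hom_at_point (D : SplitData R A T M) (φ : A →ₐc[R] MonoidAlgebra R N) {K : Type u} [Field K] [Algebra R K]
    (a : T →ₐ[R] K) :
    ∃ (h : M →* N),
      (Function.Surjective ((φ : A →ₐ[R] MonoidAlgebra R N).toLinearMap.lTensor K) → Function.Surjective h) ∧
      (Function.Injective ((φ : A →ₐ[R] MonoidAlgebra R N).toLinearMap.lTensor K) ↔ Function.Injective h) := by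
  classical
  let ψ : K ⊗[R] A →ₐc[K] MonoidAlgebra K N :=
    ((baseChangeGroupAlgebra R K N).symm : _ →ₐc[K] _).comp (Bialgebra.TensorProduct.map (BialgHom.id K K) φ)
  let ψA : K ⊗[R] A →ₐ[K] MonoidAlgebra K N := ψ
  have hψ : ∀ z, ψ z = (baseChangeGroupAlgebra R K N).symm ((φ : A →ₐ[R] MonoidAlgebra R N).toLinearMap.lTensor K z) := fun z => by
    show (baseChangeGroupAlgebra R K N).symm (Bialgebra.TensorProduct.map (BialgHom.id K K) φ z) = _
    congr 1
  have hgl : ∀ m, IsGL (ψ (D.zAt a m)) := fun m => by
    have h1 := (D.glt_zAt (a := a) m).isGroupLikeElem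
    refine isGL_of_groupLike (by rw [CoalgHomClass.counit_comp_apply, h1.1]) ?_
    rw [show Coalgebra.comul (R := K) (ψ (D.zAt a m)) = TensorProduct.map ψ.toCoalgHom.toLinearMap ψ.toCoalgHom.toLinearMap
        (Coalgebra.comul (D.zAt a m)) from (LinearMap.congr_fun ψ.toCoalgHom.map_comp_comul _).symm, h1.2,
      TensorProduct.map_tmul]
    rfl
  choose h hh using fun m => exists_eq_single' (ψ (D.zAt a m)) (hgl m).orth (by
    have := (hgl m).counit_eq
    rwa [counit_eq_sum _ _ subset_rfl] at this)
  have hinj1 : ∀ n n' : N, MonoidAlgebra.single n (1 : K) = MonoidAlgebra.single n' 1 → n = n' :=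
    fun n n' e => MonoidAlgebra.single_left_injective one_ne_zero e
  let hm : M →* N :=
    { toFun := h
      map_one' := hinj1 _ _ (by rw [← hh, map_one, map_one, MonoidAlgebra.one_def])
      map_mul' := fun x y => hinj1 _ _ (by rw [← hh, map_mul, map_mul, hh, hh, MonoidAlgebra.single_mul_single, mul_one]) }
  have hmap : ∀ z, ψ z = MonoidAlgebra.mapDomain hm (D.θ a z) := fun z => by
    conv_lhs => rw [← D.lift_θ (a := a) z]
    induction D.θ a z using MonoidAlgebra.induction_linear with
    | zero => simp
    | add p q hp hq => rw [map_add, map_add, MonoidAlgebra.mapDomain_add, hp, hq]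
    | single m r =>
      rw [MonoidAlgebra.lift_single, MonoidAlgebra.mapDomain_single, show ψ (r • D.zAt a m) = r • ψ (D.zAt a m) from map_smul _ _ _,
        hh, show hm m = h m from rfl]
      simp
  have hbc : Function.Injective (baseChangeGroupAlgebra R K N).symm :=
    Function.LeftInverse.injective (baseChangeGroupAlgebra R K N).apply_symm_apply
  refine ⟨hm, fun hs n => ?_, fun hi x y hxy => ?_, fun hi x y hxy => ?_⟩
  · obtain ⟨z, hz⟩ := hs (baseChangeGroupAlgebra R K N (MonoidAlgebra.single n 1))
    by_contra hne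
    push Not at hne
    have h1 : ψ z = MonoidAlgebra.single n 1 := by rw [hψ, hz, BialgEquiv.symm_apply_apply]
    rw [hmap] at h1
    have h2 := congrArg (fun w => w.coeff n) h1
    simp only [MonoidAlgebra.coeff_single, Finsupp.single_eq_same] at h2
    refine one_ne_zero (h2.symm.trans ?_)
    exact Finsupp.mapDomain_notin_range (D.θ a z).coeff n (fun ⟨m, hm'⟩ => hne m hm')
  · refine D.zAt_injective a (hi (hbc ?_))
    rw [← hψ, ← hψ, hmap, hmap, D.θ_zAt, D.θ_zAt, MonoidAlgebra.mapDomain_single, MonoidAlgebra.mapDomain_single, hxy]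
  · refine D.θ_injective (a := a) (MonoidAlgebra.mapDomain_injective hi ?_)
    rw [← hmap, ← hmap, hψ, hψ, hxy]

/-- A surjective homomorphism from a group of multiplicative type onto a diagonalisable group, bijective at
the closed points, is bijective. -/
theorem bijective_of_multType {S : Type u} [CommRing S] [Algebra R S] [IsNoetherianRing S] [Algebra.FiniteType R A]
    (hA : IsMultType R A) (φ : S ⊗[R] A →ₐc[S] MonoidAlgebra S N) (hφ : Function.Surjective φ)
    (hclosed : ∀ (m : Ideal S) [m.IsMaximal],
      Function.Injective ((φ : S ⊗[R] A →ₐ[S] MonoidAlgebra S N).toLinearMap.lTensor m.ResidueField)) :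
    Function.Bijective φ := by
  classical
  have := flat_of_isMultType hA
  have : IsNoetherianRing (S ⊗[R] A) := Algebra.FiniteType.isNoetherianRing S _
  let φA : S ⊗[R] A →ₐ[S] MonoidAlgebra S N := φ
  refine bijective_of_fibres φA hφ fun y hy => ?_
  obtain ⟨m, hm, hym⟩ := y.exists_le_maximal hy.ne_top
  obtain ⟨s, hs, hs'⟩ := hA
  obtain ⟨c, hc, hcm⟩ : ∃ c ∈ s, algebraMap R S c ∉ m := by
    by_contra hcon
    push Not at hcon
    exact hm.ne_top ((Ideal.eq_top_iff_one _).2 (by
      rw [← map_one (algebraMap R S)]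
      exact (Ideal.span_le.2 (fun x hx => hcon x hx) : Ideal.span s ≤ m.comap (algebraMap R S)) (hs ▸ Submodule.mem_top)))
  obtain ⟨R'', _, _, hff, N'', _, ⟨e⟩⟩ := hs' c hc
  let L := Localization.Away c
  let : Algebra R R'' := ((algebraMap L R'').comp (algebraMap R L)).toAlgebra
  have : IsScalarTower R L R'' := IsScalarTower.of_algebraMap_eq fun _ => rfl
  let T := S ⊗[R] R''
  obtain ⟨eT⟩ := nonempty_diag_bc (includeRight : R'' →ₐ[R] T) ((cancelBC R L R'' A).symm.trans e)
  obtain ⟨D⟩ := exists_splitData (R := S) (A := S ⊗[R] A) ((cancelBC R S T A).trans eT)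
  have hpt : ∀ (z : Ideal S) [z.IsPrime], algebraMap R S c ∉ z → ∃ (K : Type u) (_ : Field K) (_ : Algebra S K)
      (_ : T →ₐ[S] K), RingHom.ker (algebraMap S K) = z := fun z _ hz => by
    obtain ⟨q₀, hq₀⟩ : PrimeSpectrum.comap (algebraMap R S) ⟨z, inferInstance⟩ ∈ Set.range (PrimeSpectrum.comap (algebraMap R L)) := by
      rw [PrimeSpectrum.localization_away_comap_range L c]
      exact hz
    obtain ⟨q, hq⟩ := PrimeSpectrum.comap_surjective_of_faithfullyFlat (A := L) (B := R'') q₀
    have hcomap : PrimeSpectrum.comap (algebraMap R S) ⟨z, inferInstance⟩ = PrimeSpectrum.comap (algebraMap R R'') q := by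
      rw [IsScalarTower.algebraMap_eq R L R'', PrimeSpectrum.comap_comp_apply, hq, hq₀]
    obtain ⟨w, hw, -⟩ := AlgebraicGeometry.Scheme.Pullback.exists_preimage_pullback
      (f := AlgebraicGeometry.Spec.map (CommRingCat.ofHom (algebraMap R S)))
      (g := AlgebraicGeometry.Spec.map (CommRingCat.ofHom (algebraMap R R''))) ⟨z, inferInstance⟩ q hcomap
    let P : PrimeSpectrum T := (AlgebraicGeometry.pullbackSpecIso R S R'').hom w
    have hP : PrimeSpectrum.comap (algebraMap S T) P = ⟨z, inferInstance⟩ := by
      refine Eq.trans ?_ hw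
      show (AlgebraicGeometry.Spec.map (CommRingCat.ofHom (algebraMap S T))) ((AlgebraicGeometry.pullbackSpecIso R S R'').hom w) = _
      rw [← AlgebraicGeometry.Scheme.Hom.comp_apply, AlgebraicGeometry.pullbackSpecIso_hom_fst]
    refine ⟨P.asIdeal.ResidueField, inferInstance, inferInstance, IsScalarTower.toAlgHom S T _, ?_⟩
    rw [IsScalarTower.algebraMap_eq S T P.asIdeal.ResidueField, ← RingHom.comap_ker, Ideal.ker_algebraMap_residueField]
    exact congrArg PrimeSpectrum.asIdeal hP
  have hcy : algebraMap R S c ∉ y := fun hcy => hcm (hym hcy)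
  obtain ⟨K, _, _, a, hK⟩ := hpt y hcy
  obtain ⟨K', _, _, a', hK'⟩ := hpt m hcm
  obtain ⟨h, hs1, hi1⟩ := exists_hom_at_point D φ a
  obtain ⟨h', hs2, hi2⟩ := exists_hom_at_point D φ a'
  have hsurjK : ∀ (Q : Type u) [AddCommGroup Q] [Module S Q], Function.Surjective (φA.toLinearMap.lTensor Q) :=
    fun Q _ _ => LinearMap.lTensor_surjective Q hφ
  have hflat : ∀ (Q : Type u) [Field Q] [Algebra S Q] (z : Ideal S) [z.IsPrime], RingHom.ker (algebraMap S Q) = z →
      (Function.Injective (φA.toLinearMap.lTensor z.ResidueField) ↔ Function.Injective (φA.toLinearMap.lTensor Q)) := by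
    intro Q _ _ z _ hz
    let g : z.ResidueField →ₐ[S] Q := Ideal.ResidueField.liftₐ z (Algebra.ofId S Q) (le_of_eq hz.symm)
      fun x hx => by
        show IsUnit (algebraMap S Q x)
        refine isUnit_iff_ne_zero.2 fun h0 => hx ?_
        rw [← hz]
        exact h0
    let : Algebra z.ResidueField Q := g.toRingHom.toAlgebra
    have : IsScalarTower S z.ResidueField Q := IsScalarTower.of_algebraMap_eq fun r => (g.commutes r).symm
    let ψ : z.ResidueField ⊗[S] (S ⊗[R] A) →ₗ[z.ResidueField] z.ResidueField ⊗[S] MonoidAlgebra S N :=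
      φA.toLinearMap.baseChange z.ResidueField
    have hψ : ⇑(ψ.lTensor Q) = (TensorProduct.AlgebraTensorModule.cancelBaseChange S z.ResidueField Q Q (MonoidAlgebra S N)).symm ∘
        φA.toLinearMap.lTensor Q ∘ (TensorProduct.AlgebraTensorModule.cancelBaseChange S z.ResidueField Q Q (S ⊗[R] A)) := by
      funext w
      induction w using TensorProduct.induction_on with
      | zero => simp
      | add p q hp hq => simp only [Function.comp_apply, map_add] at hp hq ⊢; rw [hp, hq]
      | tmul t y =>
        induction y using TensorProduct.induction_on with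
        | zero => simp
        | add p q hp hq => simp only [Function.comp_apply, TensorProduct.tmul_add, map_add] at hp hq ⊢; rw [hp, hq]
        | tmul k x =>
          simp [ψ, TensorProduct.smul_tmul', Algebra.smul_def]
          rw [show k ⊗ₜ[S] φA x = k • ((1 : z.ResidueField) ⊗ₜ[S] φA x) by rw [TensorProduct.smul_tmul', smul_eq_mul, mul_one],
            TensorProduct.tmul_smul, TensorProduct.smul_tmul', Algebra.smul_def]
    rw [← LinearMap.baseChange_eq_ltensor, ← Module.FaithfullyFlat.lTensor_injective_iff_injective z.ResidueField Q ψ, hψ,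
      EquivLike.comp_injective, EquivLike.injective_comp]
  rw [hflat K y hK, hi1]
  have hb' : Function.Bijective h' := ⟨hi2.1 ((hflat K' m hK').1 (hclosed m)), hs2 (hsurjK K')⟩
  have hs : Function.Surjective h := hs1 (hsurjK K)
  let τ := (MulEquiv.ofBijective h' hb').symm
  have : Nontrivial R'' := (a'.toRingHom.comp (includeRight : R'' →ₐ[R] T).toRingHom).domain_nontrivial
  have : Algebra.FiniteType R'' (MonoidAlgebra R'' N'') :=
    Algebra.FiniteType.equiv (A := R'' ⊗[L] (L ⊗[R] A)) inferInstance e.toAlgEquiv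
  have hfg : Group.FG N'' := Group.fg_iff_monoid_fg.2 (MonoidAlgebra.fg_of_finiteType (R := R''))
  have : Module.Finite ℤ (Additive N'') := Module.Finite.iff_addGroup_fg.2 (GroupFG.iff_add_fg.1 hfg)
  let E : Additive N'' →ₗ[ℤ] Additive N'' := (MonoidHom.toAdditive (τ.toMonoidHom.comp h)).toIntLinearMap
  have hE : Function.Injective E :=
    IsNoetherian.injective_of_surjective_endomorphism E (show Function.Surjective (τ ∘ h) from τ.surjective.comp hs)
  exact fun u v huv => hE (show τ (h u) = τ (h v) by rw [huv])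

/-- Injectivity after base change passes to quotients. -/
theorem lTensor_injective_of_surjective {S C P : Type u} [CommRing S] [CommRing C] [Algebra S C] [CommRing P] [Algebra S P]
    [Module.Flat S P] (φ : C →ₐ[S] P) (hφ : Function.Surjective φ) {Q Q' : Type u} [AddCommGroup Q] [Module S Q]
    [AddCommGroup Q'] [Module S Q'] (π : Q →ₗ[S] Q') (hπ : Function.Surjective π)
    (h : Function.Injective (φ.toLinearMap.lTensor Q)) : Function.Injective (φ.toLinearMap.lTensor Q') := by
  obtain ⟨hinj, hrange⟩ := mem_ker_lTensor φ hφ Q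
  obtain ⟨-, hrange'⟩ := mem_ker_lTensor φ hφ Q'
  rw [← LinearMap.ker_eq_bot, hrange', LinearMap.range_eq_bot]
  have hzero : ∀ z, ((RingHom.ker φ).restrictScalars S).subtype.lTensor Q z = 0 := fun z => h (by
    have : ((RingHom.ker φ).restrictScalars S).subtype.lTensor Q z ∈ LinearMap.ker (φ.toLinearMap.lTensor Q) := hrange ▸ ⟨z, rfl⟩
    rw [map_zero]; exact this)
  refine LinearMap.ext fun z => ?_
  obtain ⟨w, rfl⟩ := LinearMap.rTensor_surjective _ hπ z
  rw [← LinearMap.comp_apply, LinearMap.lTensor_comp_rTensor, ← LinearMap.rTensor_comp_lTensor, LinearMap.comp_apply, hzero,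
    map_zero, LinearMap.zero_apply]

/-- Isotriviality lifts to complete rings, for groups of multiplicative type. -/
theorem isIsotrivial_of_adicComplete [IsNoetherianRing R] (I : Ideal R) [IsAdicComplete I R] [Algebra.FiniteType R A]
    (hA : IsMultType R A) (h0 : IsIsotrivial (R ⧸ I) ((R ⧸ I) ⊗[R] A)) : IsIsotrivial R A := by
  have := flat_of_isMultType hA
  obtain ⟨S, _, _, hfin, _, het, hff, hJ, N, _, φ, hφ, hinj, -⟩ := exists_formal_split I h0
  refine ⟨S, inferInstance, inferInstance, het, hfin, hff, N, inferInstance,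
    ⟨BialgEquiv.ofBijective φ (bijective_of_multType hA φ hφ fun m _ => ?_)⟩⟩
  let J' := I.map (algebraMap R S) ^ (0 + 1)
  let g : S ⧸ J' →ₐ[S] m.ResidueField := Ideal.Quotient.liftₐ J' (Algebra.ofId S m.ResidueField) fun r hr => by
    rw [Algebra.ofId_apply, Ideal.algebraMap_residueField_eq_zero]
    exact ((Ideal.pow_le_self (Nat.succ_ne_zero 0)).trans (hJ.trans (sInf_le ⟨bot_le, inferInstanceAs m.IsMaximal⟩))) hr
  refine lTensor_injective_of_surjective (φ : S ⊗[R] A →ₐ[S] MonoidAlgebra S N) hφ g.toLinearMap (fun x => ?_) hinj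
  obtain ⟨a, rfl⟩ := (Ideal.bijective_algebraMap_quotient_residueField m).2 x
  obtain ⟨a, rfl⟩ := Ideal.Quotient.mk_surjective a
  exact ⟨Ideal.Quotient.mk J' a, rfl⟩

end Groth.Agent.MultHopf
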