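import Groth.Agent.MultHopf.Torsion
import Mathlib.RingTheory.HopfAlgebra.Quotient

/-!
# Finite groups of multiplicative type
-/

set_option autoImplicit false

universe u

open scoped TensorProduct
open SGA3b

namespace Groth.Agent.MultHopf

variable {R : Type u} [CommRing R] {A : Type u} [CommRing A] [HopfAlgebra R A]

theorem group_fg {R₁ : Type u} [CommRing R₁] [Nontrivial R₁] {M : Type u} [CommGroup M]
    (h : Algebra.FiniteType R₁ (MonoidAlgebra R₁ M)) : Group.FG M :=
  Group.fg_iff_monoid_fg.2 (MonoidAlgebra.finiteType_iff_fg.1 h)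

theorem finite_of_pow_eq_one {M : Type u} [CommGroup M] [Group.FG M] {n : ℕ} (hn : 0 < n)
    (h : ∀ m : M, m ^ n = 1) : Finite M :=
  CommGroup.finite_of_fg_isMulTorsion M fun m => isOfFinOrder_iff_pow_eq_one.2 ⟨n, hn, h m⟩

/-- A killed group of multiplicative type and finite type is finite. -/
theorem finite_of_isKilled [Algebra.FiniteType R A] (h : IsMultType R A) {n : ℕ} (hn : 0 < n)
    (hk : IsKilled R A n) : Module.Finite R A := by
  obtain ⟨s, hs, hs'⟩ := h
  refine Module.Finite.of_localizationSpan' (Rₚ := fun g : s => Localization.Away g.1) (Mₚ := fun g : s => Localization.Away g.1 ⊗[R] A) s hs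
    (fun g => TensorProduct.mk R (Localization.Away g.1) A 1) fun g => ?_
  obtain ⟨R₁, _, _, hff, M, _, ⟨e⟩⟩ := hs' g.1 g.2
  have : Module.Finite R₁ (R₁ ⊗[Localization.Away g.1] (Localization.Away g.1 ⊗[R] A)) := by
    rcases subsingleton_or_nontrivial R₁ with hsub | hnt
    · have := Module.subsingleton R₁ (R₁ ⊗[Localization.Away g.1] (Localization.Away g.1 ⊗[R] A))
      infer_instance
    have hft : Algebra.FiniteType R₁ (MonoidAlgebra R₁ M) :=
      Algebra.FiniteType.equiv (inferInstance : Algebra.FiniteType R₁ (R₁ ⊗[Localization.Away g.1] (Localization.Away g.1 ⊗[R] A)))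
        (e : R₁ ⊗[Localization.Away g.1] (Localization.Away g.1 ⊗[R] A) ≃ₐ[R₁] MonoidAlgebra R₁ M)
    have := group_fg hft
    have hm := isKilled_monoidAlgebra.1 ((isKilled_congr e).1 ((hk.baseChange (Localization.Away g.1)).baseChange R₁))
    have := finite_of_pow_eq_one hn hm
    exact Module.Finite.equiv ((e : R₁ ⊗[Localization.Away g.1] (Localization.Away g.1 ⊗[R] A) ≃ₐ[R₁] MonoidAlgebra R₁ M).toLinearEquiv.symm)
  exact Module.Finite.of_finite_tensorProduct_of_faithfullyFlat R₁

/-- A finite group of multiplicative type is killed by a positive integer. -/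
theorem exists_isKilled_of_finite [Module.Finite R A] (h : IsMultType R A) :
    ∃ n : ℕ, 0 < n ∧ IsKilled R A n := by
  classical
  obtain ⟨s, hs, hs'⟩ := h
  obtain ⟨s', hs's, hspan⟩ := Submodule.mem_span_finite_of_mem_span (hs.symm ▸ Submodule.mem_top : (1 : R) ∈ Ideal.span s)
  have hloc : ∀ f ∈ s', ∃ d : ℕ, 0 < d ∧ IsKilled (Localization.Away f) (Localization.Away f ⊗[R] A) d := fun f hf => by
    obtain ⟨R₁, _, _, hff, M, _, ⟨e⟩⟩ := hs' f (hs's hf)
    rcases subsingleton_or_nontrivial R₁ with hsub | hnt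
    · refine ⟨1, one_pos, IsKilled.descend R₁ fun a => ?_⟩
      have := Module.subsingleton R₁ (R₁ ⊗[Localization.Away f] (Localization.Away f ⊗[R] A))
      exact Subsingleton.elim _ _
    have : Module.Finite R₁ (MonoidAlgebra R₁ M) :=
      Module.Finite.equiv (e : R₁ ⊗[Localization.Away f] (Localization.Away f ⊗[R] A) ≃ₐ[R₁] MonoidAlgebra R₁ M).toLinearEquiv
    have : Finite M := Module.Finite.finite_basis (MonoidAlgebra.basis M R₁)
    exact ⟨Nat.card M, Nat.card_pos, IsKilled.descend R₁ ((isKilled_congr e).2 (isKilled_monoidAlgebra.2 fun _ => pow_card_eq_one'))⟩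
  choose! d hd hk using hloc
  refine ⟨∏ f ∈ s', d f, Finset.prod_pos hd, fun a => ?_⟩
  rw [← sub_eq_zero]
  refine eq_zero_of_cover (s' : Set R) ((Ideal.eq_top_iff_one _).2 hspan) _ fun f hf => ?_
  obtain ⟨k, hk'⟩ := Finset.dvd_prod_of_mem d (Finset.mem_coe.1 hf)
  rw [hk']
  have : IsKilled (Localization.Away f) (Localization.Away f ⊗[R] A) (d f * k) := (hk f hf).dvd (dvd_mul_right _ _)
  rw [TensorProduct.tmul_sub, ← powConv_tmul, this, sub_eq_zero]
  simp [Algebra.algebraMap_eq_smul_one, Algebra.TensorProduct.one_def, TensorProduct.tmul_smul, TensorProduct.smul_tmul']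

/-- The kernel of the `n`-th power map is of multiplicative type. -/
theorem torsion_isMultType (h : IsMultType R A) (n : ℕ) (J : Ideal A) [J.IsHopfIdeal R]
    (hJ : J = torsionIdeal R A n) : IsMultType R (A ⧸ J) := by
  obtain ⟨s, hs, hs'⟩ := h
  refine ⟨s, hs, fun f hf => ?_⟩
  obtain ⟨R₁, _, _, hff, M, _, ⟨e⟩⟩ := hs' f hf
  refine ⟨R₁, inferInstance, inferInstance, hff, M ⧸ powRange M n, inferInstance, ?_⟩
  let π : A →ₐc[R] A ⧸ J := Bialgebra.Quotient.mkBialgHom J
  let π₀ := Bialgebra.TensorProduct.map (BialgHom.id (Localization.Away f) (Localization.Away f)) π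
  let π₁ := Bialgebra.TensorProduct.map (BialgHom.id R₁ R₁) π₀
  have hπ : Function.Surjective π := Ideal.Quotient.mk_surjective
  have hπ₀ : Function.Surjective π₀ := LinearMap.lTensor_surjective (Localization.Away f) (g := (π : A →ₗ[R] A ⧸ J)) hπ
  have hπ₁ : Function.Surjective π₁ := LinearMap.lTensor_surjective R₁
    (g := (π₀ : Localization.Away f ⊗[R] A →ₗ[Localization.Away f] Localization.Away f ⊗[R] (A ⧸ J))) hπ₀
  have hk₀ : RingHom.ker π₀ = torsionIdeal (Localization.Away f) (Localization.Away f ⊗[R] A) n := by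
    rw [← torsionIdeal_baseChange, ← hJ]
    refine (Algebra.TensorProduct.lTensor_ker (Ideal.Quotient.mkₐ R J) Ideal.Quotient.mk_surjective).trans ?_
    exact congrArg _ (Ideal.Quotient.mkₐ_ker R J)
  have hk₁ : RingHom.ker π₁ = torsionIdeal R₁ (R₁ ⊗[Localization.Away f] (Localization.Away f ⊗[R] A)) n := by
    rw [← torsionIdeal_baseChange, ← hk₀]
    exact Algebra.TensorProduct.lTensor_ker (π₀ : Localization.Away f ⊗[R] A →ₐ[Localization.Away f] Localization.Away f ⊗[R] (A ⧸ J)) hπ₀
  refine nonempty_bialgEquiv_of_ker_eq π₁ ((powQuot R₁ M n).comp (e : R₁ ⊗[Localization.Away f] (Localization.Away f ⊗[R] A) →ₐc[R₁] MonoidAlgebra R₁ M))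
    hπ₁ ((powQuot_surjective M n).comp (EquivLike.surjective e)) ?_
  rw [hk₁]
  exact (ker_comp_equiv e _ n (torsionIdeal_monoidAlgebra M n).symm).symm

/-- Quotients by the torsion ideal are killed. -/
theorem isKilled_quotient (n : ℕ) (J : Ideal A) [J.IsHopfIdeal R] (hJ : J = torsionIdeal R A n) :
    IsKilled R (A ⧸ J) n := fun b => by
  obtain ⟨a, rfl⟩ := Ideal.Quotient.mk_surjective b
  have h1 := powConv_map (Bialgebra.Quotient.mkBialgHom (R := R) J) n a
  simp only [Bialgebra.Quotient.mkBialgHom_apply] at h1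
  rw [← h1]
  have h2 : powConv R A n a - algebraMap R A (Coalgebra.counit a) ∈ J := by
    have h3 := Ideal.mem_map_of_mem (powConv R A n)
      (show a - algebraMap R A (Coalgebra.counit a) ∈ RingHom.ker (Bialgebra.counitAlgHom R A) by simp [RingHom.mem_ker])
    rw [map_sub, AlgHom.commutes] at h3
    rw [hJ]; exact h3
  exact (Ideal.Quotient.eq.2 h2).trans rfl

end Groth.Agent.MultHopf
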