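import Groth.Agent.MultHopf.QuasiLift
import Groth.Agent.MultHopf.BcHom
import Groth.Agent.MultHopf.LocalToGlobal
import Groth.Agent.MultHopf.MultIso
import Groth.Agent.MultHopf.Locally
import Groth.Agent.MultHopf.Pieces
import Groth.Agent.MultHopf.TorsionFinite
import Groth.Agent.MultHopf.FormalHom
import Groth.Agent.MultHopf.QuasiSplit
import Groth.Agent.MultHopf.LocIntegral
import Groth.Agent.NilLift.Thickening

/-!
# Subgroups of multiplicative type lift along nilpotent ideals
-/

set_option autoImplicit false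
set_option backward.isDefEq.respectTransparency.types false
set_option maxHeartbeats 1000000
set_option synthInstance.maxHeartbeats 100000

universe u

open CategoryTheory CategoryTheory.Limits MonoidalCategory CartesianMonoidalCategory MonObj AlgebraicGeometry
open scoped TensorProduct

namespace Groth.Agent.MultHopf

variable {R : Type u} [CommRing R]

/-- The ideal of definition of a split algebra of finite type is finitely generated after base change. -/
theorem fg_map_ker {S : Type u} [CommRing S] [Algebra R S] {A : Type u} [CommRing A] [HopfAlgebra R A]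
    [Algebra.FiniteType R A] {M : Type u} [CommGroup M] (e : S ⊗[R] A ≃ₐc[S] MonoidAlgebra S M)
    {P : Type u} [CommRing P] [Algebra R P] [Algebra.FinitePresentation R P] (π : P →ₐ[R] A) (hπ : Function.Surjective π) :
    ((RingHom.ker π).map (Algebra.TensorProduct.includeRight : P →ₐ[R] S ⊗[R] P)).FG := by
  have : Algebra.FinitePresentation S (S ⊗[R] A) := by
    rcases subsingleton_or_nontrivial S with hsub | hnt
    · have : Subsingleton (S ⊗[R] A) := Module.subsingleton S _
      exact Algebra.FinitePresentation.of_surjective (f := Algebra.ofId S (S ⊗[R] A))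
        (fun x => ⟨0, Subsingleton.elim _ _⟩) (by
          rw [show RingHom.ker (Algebra.ofId S (S ⊗[R] A)).toRingHom = ⊥ from
            le_bot_iff.1 fun x _ => Subsingleton.elim x 0]
          exact Submodule.fg_bot)
    · have hft : Algebra.FiniteType S (MonoidAlgebra S M) :=
        Algebra.FiniteType.equiv (inferInstance : Algebra.FiniteType S (S ⊗[R] A))
          (e : S ⊗[R] A ≃ₐ[S] MonoidAlgebra S M)
      have := group_fg hft
      have : Monoid.FG M := Group.fg_iff_monoid_fg.1 inferInstance
      have : Algebra.FiniteType ℤ (MonoidAlgebra ℤ M) := inferInstance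
      have : Algebra.FinitePresentation ℤ (MonoidAlgebra ℤ M) := Algebra.FinitePresentation.of_finiteType.1 this
      have : Algebra.FinitePresentation S (MonoidAlgebra S M) :=
        Algebra.FinitePresentation.equiv (R := S) (MonoidAlgebra.scalarTensorEquiv ℤ S (M := M))
      exact Algebra.FinitePresentation.equiv (R := S) (e : S ⊗[R] A ≃ₐ[S] MonoidAlgebra S M).symm
  let πS : S ⊗[R] P →ₐ[S] S ⊗[R] A := Algebra.TensorProduct.map (AlgHom.id S S) π
  have hπS : Function.Surjective πS := fun w => by
    induction w using TensorProduct.induction_on with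
    | zero => exact ⟨0, map_zero _⟩
    | add a b ha hb =>
      obtain ⟨x, rfl⟩ := ha
      obtain ⟨y, rfl⟩ := hb
      exact ⟨x + y, map_add _ _ _⟩
    | tmul c a =>
      obtain ⟨x, rfl⟩ := hπ a
      exact ⟨c ⊗ₜ[R] x, Algebra.TensorProduct.map_tmul _ _ _ _⟩
  have h1 := Algebra.FinitePresentation.ker_fG_of_surjective πS hπS
  rwa [show RingHom.ker πS.toRingHom = (RingHom.ker π).map (Algebra.TensorProduct.includeRight : P →ₐ[R] S ⊗[R] P) from
    Algebra.TensorProduct.lTensor_ker π hπ] at h1

/-- Split algebras of finite type are of finite presentation. -/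
theorem finitePresentation_of_splits {A : Type u} [CommRing A] [HopfAlgebra R A] [Algebra.FiniteType R A] {F : FamFF R}
    (hF : Splits A F) : Algebra.FinitePresentation R A := by
  classical
  obtain ⟨n, π, hπ⟩ := Algebra.FiniteType.iff_quotient_mvPolynomial''.1 (inferInstance : Algebra.FiniteType R A)
  let P := MvPolynomial (Fin n) R
  let I : Ideal P := RingHom.ker π
  let inc : ∀ k, P →ₐ[R] F.S k ⊗[R] P := fun k => Algebra.TensorProduct.includeRight
  have hfg : ∀ k, (I.map (inc k)).FG := fun k => by
    obtain ⟨M, _, ⟨e⟩⟩ := hF k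
    exact fg_map_ker e π hπ
  have hsub : ∀ k, ∃ T : Finset P, (T : Set P) ⊆ I ∧ (Ideal.span (T : Set P)).map (inc k) = I.map (inc k) := fun k => by
    obtain ⟨s, hs, hs'⟩ := (Submodule.fg_span_iff_fg_span_finset_subset _).1 (show (Ideal.span (inc k '' I)).FG from hfg k)
    obtain ⟨T, hT, rfl⟩ := Finset.subset_set_image_iff.1 hs
    refine ⟨T, hT, ?_⟩
    rw [Ideal.map_span, ← Finset.coe_image]
    exact hs'.symm
  choose T hT hTmap using hsub
  let T' := Finset.univ.biUnion T
  have hle : Ideal.span (T' : Set P) ≤ I := Ideal.span_le.2 fun x hx => by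
    obtain ⟨k, -, hk⟩ := Finset.mem_biUnion.1 hx
    exact hT k hk
  have heq : Ideal.span (T' : Set P) = I := by
    refine le_antisymm hle fun x hx => ?_
    let q := Ideal.Quotient.mkₐ R (Ideal.span (T' : Set P))
    suffices q x = 0 from Ideal.Quotient.eq_zero_iff_mem.1 this
    refine F.eq_zero _ fun k => ?_
    have h1 : inc k x ∈ (Ideal.span (T' : Set P)).map (inc k) := by
      refine Ideal.map_mono (Ideal.span_mono ?_) ((hTmap k).ge (Ideal.mem_map_of_mem _ hx))
      exact fun y hy => Finset.mem_biUnion.2 ⟨k, Finset.mem_univ k, hy⟩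
    have h2 : (Ideal.span (T' : Set P)).map (inc k) ≤
        RingHom.ker (Algebra.TensorProduct.map (AlgHom.id (F.S k) (F.S k)) q).toRingHom := by
      rw [Ideal.map_le_iff_le_comap]
      intro y hy
      show (1 : F.S k) ⊗ₜ[R] q y = 0
      rw [show q y = 0 from Ideal.Quotient.eq_zero_iff_mem.2 hy, TensorProduct.tmul_zero]
    exact h2 h1
  exact Algebra.FinitePresentation.of_surjective (f := π) hπ (show I.FG from heq ▸ (⟨T', rfl⟩ : (Ideal.span (T' : Set P)).FG))

variable {A : Type u} [CommRing A] [HopfAlgebra R A] (H : Over (Spec (CommRingCat.of R))) [GrpObj H]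

/-- Groups of multiplicative type and finite type over an affine base. -/
theorem isMultType_of_loc (hH : IsMultTypeLoc H) (eA : Grp.mk H ≅ Grp.mk (hspec R A)) [Algebra.FiniteType R A] :
    SGA3b.IsMultType R A := by
  obtain ⟨F, hF⟩ := exists_splits H hH eA
  have := finitePresentation_of_splits hF
  refine isMultType_of_atPrime fun p _ => ?_
  let g : Spec (CommRingCat.of (Localization.AtPrime p)) ⟶ Spec (CommRingCat.of R) :=
    Spec.map (CommRingCat.ofHom (algebraMap R (Localization.AtPrime p)))
  exact isMultType_of_isMultTypeLoc H hH g (bcIso g eA ≪≫ bcSpec R (Localization.AtPrime p) A)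

/-- Finite type of an affine group locally of finite type. -/
theorem finiteType_of_lft [LocallyOfFiniteType H.hom] (eA : Grp.mk H ≅ Grp.mk (hspec R A)) : Algebra.FiniteType R A := by
  let g : hspec R A ⟶ H := eA.inv.hom.hom
  have : IsIso g := ⟨eA.hom.hom.hom, congrArg (fun z => z.hom.hom) eA.inv_hom_id, congrArg (fun z => z.hom.hom) eA.hom_inv_id⟩
  have : IsIso g.left := inferInstanceAs (IsIso ((Over.forget _).map g))
  have h1 : LocallyOfFiniteType (Spec.map (CommRingCat.ofHom (algebraMap R A))) := by
    rw [show Spec.map (CommRingCat.ofHom (algebraMap R A)) = g.left ≫ H.hom from (Over.w g).symm]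
    exact (MorphismProperty.cancel_left_of_respectsIso (P := @LocallyOfFiniteType) g.left H.hom).2 inferInstance
  exact RingHom.finiteType_algebraMap.1 ((HasRingHomProperty.Spec_iff (P := @LocallyOfFiniteType)).1 h1)

/-- Subgroups of multiplicative type of a smooth group lift along nilpotent ideals. -/
theorem exists_lift_subgroup (J : Ideal R) (hJ : IsNilpotent J)
    (G : Over (Spec (CommRingCat.of R))) [GrpObj G] (hG : Smooth G.hom)
    (H₀ : Over (Spec (CommRingCat.of (R ⧸ J)))) [GrpObj H₀] (hH₀ : IsMultTypeLoc H₀)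
    (j₀ : H₀ ⟶ Red.bc (jcl J) G) [IsMonHom j₀] [IsImmersion j₀.left] :
    ∃ (H : Over (Spec (CommRingCat.of R))) (_ : GrpObj H) (j : H ⟶ G), IsMonHom j ∧ IsImmersion j.left ∧ Flat H.hom ∧
      ∃ φ : Red.bc (jcl J) H ≅ H₀, φ.hom ≫ j₀ = (Over.pullback (jcl J)).map j := by
  have : IsAffineHom H₀.hom := isAffineHom_of_isMultTypeLoc H₀ hH₀
  have : LocallyOfFiniteType (Red.bc (jcl J) G).hom :=
    MorphismProperty.pullback_snd (P := @LocallyOfFiniteType) _ _ inferInstance
  have : LocallyOfFiniteType H₀.hom := by rw [← Over.w j₀]; infer_instance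
  obtain ⟨A₀, _, _, ⟨eA⟩⟩ := exists_hopf (R ⧸ J) H₀
  have := finiteType_of_lft H₀ eA
  have hA₀ := isMultType_of_loc H₀ hH₀ eA
  obtain ⟨A, _, _, hA, ⟨σ⟩⟩ := exists_lift_quasiIsotrivial J (fun x hx => isNilpotent_of_mem hJ hx) A₀
    (isQuasiIsotrivial_of_finiteType hA₀)
  have hAm := isMultType_of_isQuasiIsotrivial hA
  have := flat_of_isMultType hAm
  obtain ⟨l, hl⟩ := exists_integral hAm
  let ψ : Grp.mk (Red.bc (jcl J) (hspec R A)) ≅ Grp.mk H₀ := bcSpec R (R ⧸ J) A ≪≫ hspecIso σ ≪≫ eA.symm
  let φ : Red.bc (jcl J) (hspec R A) ≅ H₀ := (Grp.forget _).mapIso ψ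
  have : IsMonHom φ.hom := ψ.hom.hom.isMonHom_hom
  let f₀ := φ.hom ≫ j₀
  obtain ⟨f, hf, hfr⟩ := exists_lift_hom hl hG hJ f₀
  have hfl : Flat (hspec R A).hom := by
    show Flat (Spec.map (CommRingCat.ofHom (algebraMap R A)))
    rw [HasRingHomProperty.Spec_iff (P := @Flat)]
    exact RingHom.flat_algebraMap_iff.2 inferInstance
  refine ⟨hspec R A, inferInstance, f, hf, ?_, hfl, φ, hfr.symm⟩
  have : IsIso φ.hom.left := inferInstanceAs (IsIso ((Over.forget _).map φ.hom))
  have hf₀ : IsImmersion ((Over.pullback (jcl J)).map f).left := by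
    rw [hfr]
    exact MorphismProperty.comp_mem _ φ.hom.left j₀.left inferInstance inferInstance
  let v : pullback (f.left ≫ G.hom) (NilLift.quotι J) ⟶ pullback G.hom (NilLift.quotι J) :=
    (pullback.congrHom (Over.w f) rfl).hom ≫ ((Over.pullback (jcl J)).map f).left
  have hv : v ≫ pullback.fst G.hom (NilLift.quotι J) = pullback.fst (f.left ≫ G.hom) (NilLift.quotι J) ≫ f.left := by
    simp only [v, Category.assoc]
    rw [show ((Over.pullback (jcl J)).map f).left ≫ pullback.fst G.hom (jcl J) = pullback.fst (hspec R A).hom (jcl J) ≫ f.left from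
      pullback.lift_fst _ _ _, ← Category.assoc, pullback.congrHom_hom, pullback.lift_fst, Category.comp_id]
  exact (NilLift.isImmersion_of_nil J hJ f.left G.hom v hv).1 (MorphismProperty.comp_mem _ _ _ inferInstance hf₀)

end Groth.Agent.MultHopf
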