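import Groth.Agent.MultHopf.TransporterLifts
import Groth.Agent.MultHopf.SubgroupLift
import Groth.Agent.GrpSch.AgreeFP
import Groth.Agent.GrpSch.Cat
import Groth.Agent.MultTypeMono.Basic

/-!
# Transporters, centralizers and normalizers of groups of multiplicative type
-/

set_option autoImplicit false
set_option backward.isDefEq.respectTransparency.types false

universe u

open CategoryTheory CategoryTheory.Limits MonoidalCategory CartesianMonoidalCategory MonObj GrpObj AlgebraicGeometry

namespace Groth.Agent.MultHopf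

open GrpSch.WeilClosed

variable {S : Scheme.{u}} {G : Over S} [GrpObj G]

/-- The unit section of a separated group is a closed immersion. -/
theorem isClosedImmersion_one [IsSeparated G.hom] : IsClosedImmersion η[G].left := by
  have : IsClosedImmersion (η[G].left ≫ G.hom) := by
    rw [Over.w η[G]]
    exact inferInstanceAs (IsClosedImmersion (𝟙 S))
  exact IsClosedImmersion.of_comp η[G].left G.hom

theorem lfp_one [LocallyOfFiniteType G.hom] : LocallyOfFinitePresentation η[G].left := by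
  have : LocallyOfFinitePresentation (η[G].left ≫ G.hom) := by
    rw [Over.w η[G]]
    exact inferInstanceAs (LocallyOfFinitePresentation (𝟙 S))
  exact AlgSpc.lfp_of_comp η[G].left G.hom

theorem lfp_left {Y : Over S} (y : Y ⟶ G) [LocallyOfFinitePresentation Y.hom] [LocallyOfFiniteType G.hom] :
    LocallyOfFinitePresentation y.left := by
  have : LocallyOfFinitePresentation (y.left ≫ G.hom) := by rw [Over.w y]; infer_instance
  exact AlgSpc.lfp_of_comp y.left G.hom

theorem quasiCompact_of_loc {H : Over S} [GrpObj H] (hH : IsMultTypeLoc H) : QuasiCompact H.hom := by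
  have := isAffineHom_of_isMultTypeLoc H hH
  infer_instance

/-- Groups of multiplicative type and finite type are of finite presentation. -/
theorem lfp_of_isMultTypeFT {H : Over S} [GrpObj H] (hH : SGA3x.IsMultTypeFT H) : LocallyOfFinitePresentation H.hom := by
  have := MultTypeMono.locallyOfFiniteType_of_isMultTypeFT H hH
  rw [IsZariskiLocalAtTarget.iff_of_openCover (P := @LocallyOfFinitePresentation) S.affineCover]
  intro i
  let j : Spec (CommRingCat.of (S.affineOpenCover.X i)) ⟶ S := S.affineCover.f i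
  show LocallyOfFinitePresentation (Red.bc j H).hom
  have hK := isMultTypeLoc_bc j H (isMultTypeLoc_of_ft hH)
  have := isAffineHom_of_isMultTypeLoc _ hK
  obtain ⟨A, _, _, ⟨eA⟩⟩ := exists_hopf _ (Red.bc j H)
  have : LocallyOfFiniteType (Red.bc j H).hom := MorphismProperty.pullback_snd (P := @LocallyOfFiniteType) _ _ ‹_›
  have := finiteType_of_lft (Red.bc j H) eA
  obtain ⟨F, hF⟩ := exists_splits (Red.bc j H) hK eA
  have hfp := finitePresentation_of_splits hF
  let g : Red.bc j H ⟶ hspec _ A := eA.hom.hom.hom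
  have : IsIso g := ⟨eA.inv.hom.hom, congrArg (fun z => z.hom.hom) eA.hom_inv_id, congrArg (fun z => z.hom.hom) eA.inv_hom_id⟩
  have : IsIso g.left := inferInstanceAs (IsIso ((Over.forget _).map g))
  rw [show (Red.bc j H).hom = g.left ≫ Spec.map (CommRingCat.ofHom (algebraMap _ A)) from (Over.w g).symm,
    MorphismProperty.cancel_left_of_respectsIso (P := @LocallyOfFinitePresentation)]
  exact (HasRingHomProperty.Spec_iff (P := @LocallyOfFinitePresentation)).2 (RingHom.finitePresentation_algebraMap.2 hfp)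

/-- Points conjugating one morphism into another form a closed subscheme of finite presentation. -/
theorem exists_conjugates_closed {H : Over S} (hX : ProjChart H.hom) [QuasiCompact H.hom]
    [IsClosedImmersion η[G].left] [LocallyOfFiniteType G.hom] (u₁ u₂ : H ⟶ G) :
    ∃ (T : Over S) (t : T ⟶ G), IsClosedImmersion t.left ∧ LocallyOfFinitePresentation t.left ∧
      ∀ (X : Over S) (g : X ⟶ G), (∃ z, z ≫ t = g) ↔ Conjugates u₁ u₂ X g := by
  have := lfp_one (G := G)
  obtain ⟨T, t, h₁, h₂, hT⟩ := exists_factor_locus_fp H G G (𝟙_ (Over S)) hX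
    (snd H G * (fst H G ≫ u₁) * (snd H G)⁻¹ * (fst H G ≫ u₂)⁻¹) η[G]
  refine ⟨T, t, h₁, h₂, fun X g => (hT X g).trans ?_⟩
  simp only [MonObj.comp_mul, GrpObj.comp_inv, lift_snd, lift_fst_assoc]
  refine forall_congr' fun X' => forall_congr' fun x => forall_congr' fun h => ⟨fun ⟨x', hx'⟩ => ?_, fun he => ⟨toUnit X', ?_⟩⟩
  · rw [← mul_inv_eq_one, hx', Subsingleton.elim x' (toUnit X')]
    rfl
  · rw [mul_inv_eq_one.2 he]
    rfl

/-- Points conjugating a morphism into a closed subscheme form a closed subscheme of finite presentation. -/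
theorem exists_transports_closed {H K : Over S} (hX : ProjChart H.hom) [QuasiCompact H.hom] (u : H ⟶ G)
    (k : K ⟶ G) [IsClosedImmersion k.left] [LocallyOfFinitePresentation k.left] :
    ∃ (T : Over S) (t : T ⟶ G), IsClosedImmersion t.left ∧ LocallyOfFinitePresentation t.left ∧
      ∀ (X : Over S) (g : X ⟶ G), (∃ z, z ≫ t = g) ↔ Transports u k X g := by
  obtain ⟨T, t, h₁, h₂, hT⟩ := exists_factor_locus_fp H G G K hX (snd H G * (fst H G ≫ u) * (snd H G)⁻¹) k
  refine ⟨T, t, h₁, h₂, fun X g => (hT X g).trans ?_⟩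
  simp only [MonObj.comp_mul, GrpObj.comp_inv, lift_snd, lift_fst_assoc]
  rfl

/-- The intersection of two closed loci, with finite presentation. -/
theorem exists_inter_fp {T Z₁ Z₂ : Over S} (i₁ : Z₁ ⟶ T) (i₂ : Z₂ ⟶ T) [IsClosedImmersion i₁.left]
    [IsClosedImmersion i₂.left] [LocallyOfFinitePresentation i₁.left] [LocallyOfFinitePresentation i₂.left] :
    ∃ (Z : Over S) (i : Z ⟶ T), IsClosedImmersion i.left ∧ LocallyOfFinitePresentation i.left ∧
      ∀ (T' : Over S) (f : T' ⟶ T), (∃ z, z ≫ i = f) ↔ (∃ z, z ≫ i₁ = f) ∧ (∃ z, z ≫ i₂ = f) := by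
  have h : IsPullback (pullback.fst i₁ i₂).left (pullback.snd i₁ i₂).left i₁.left i₂.left :=
    (IsPullback.of_hasPullback i₁ i₂).map (Over.forget S)
  haveI : IsClosedImmersion (pullback.fst i₁ i₂).left :=
    MorphismProperty.of_isPullback (P := @IsClosedImmersion) h.flip inferInstance
  haveI : LocallyOfFinitePresentation (pullback.fst i₁ i₂).left :=
    MorphismProperty.of_isPullback (P := @LocallyOfFinitePresentation) h.flip inferInstance
  refine ⟨_, pullback.fst i₁ i₂ ≫ i₁, by rw [Over.comp_left]; infer_instance,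
    by rw [Over.comp_left]; infer_instance, fun T' f => ⟨?_, ?_⟩⟩
  · rintro ⟨z, rfl⟩
    exact ⟨⟨z ≫ pullback.fst i₁ i₂, Category.assoc _ _ _⟩,
      ⟨z ≫ pullback.snd i₁ i₂, by rw [Category.assoc, pullback.condition]⟩⟩
  · rintro ⟨⟨z₁, h₁⟩, ⟨z₂, h₂⟩⟩
    exact ⟨pullback.lift z₁ z₂ (h₁.trans h₂.symm), by rw [pullback.lift_fst_assoc, h₁]⟩

/-- The strict transporter is a closed subscheme of finite presentation. -/
theorem exists_strictTransports_closed {H K : Over S} (hX : ProjChart H.hom) (hY : ProjChart K.hom)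
    [QuasiCompact H.hom] [QuasiCompact K.hom] (u : H ⟶ G) (k : K ⟶ G) [IsClosedImmersion u.left]
    [LocallyOfFinitePresentation u.left] [IsClosedImmersion k.left] [LocallyOfFinitePresentation k.left] :
    ∃ (T : Over S) (t : T ⟶ G), IsClosedImmersion t.left ∧ LocallyOfFinitePresentation t.left ∧
      ∀ (X : Over S) (g : X ⟶ G), (∃ z, z ≫ t = g) ↔ StrictTransports u k X g := by
  obtain ⟨T₁, t₁, _, _, hT₁⟩ := exists_transports_closed hX u k
  obtain ⟨T₂, t₂, _, _, hT₂⟩ := exists_factor_locus_fp K G G H hY ((snd K G)⁻¹ * (fst K G ≫ k) * snd K G) u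
  obtain ⟨T, t, h₁, h₂, hT⟩ := exists_inter_fp t₁ t₂
  refine ⟨T, t, h₁, h₂, fun X g => ?_⟩
  rw [hT, hT₁, hT₂]
  simp only [MonObj.comp_mul, GrpObj.comp_inv, lift_snd, lift_fst_assoc]
  exact ⟨fun ⟨p, q⟩ X' x => ⟨p X' x, q X' x⟩, fun h => ⟨fun X' x => (h X' x).1, fun X' x => (h X' x).2⟩⟩

/-- A subobject whose points form subgroups is a subgroup. -/
theorem exists_grpObj_of_subgroup {Z : Over S} (t : Z ⟶ G) [Mono t] (P : ∀ X : Over S, (X ⟶ G) → Prop)
    (hZ : ∀ (X : Over S) (g : X ⟶ G), (∃ z, z ≫ t = g) ↔ P X g) (h1 : ∀ X : Over S, P X 1)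
    (hmul : ∀ (X : Over S) (a b : X ⟶ G), P X a → P X b → P X (a * b))
    (hinv : ∀ (X : Over S) (a : X ⟶ G), P X a → P X a⁻¹) : ∃ _ : GrpObj Z, IsMonHom t := by
  refine GrpSch.exists_grpObj_of_mono t ((hZ _ _).2 ?_) (fun T a b => (hZ _ _).2 ?_) (fun T a => (hZ _ _).2 ?_)
  · rw [show η[G] = (1 : 𝟙_ (Over S) ⟶ G) from MonObj.one_eq_one G]
    exact h1 _
  · exact hmul T _ _ ((hZ _ _).1 ⟨a, rfl⟩) ((hZ _ _).1 ⟨b, rfl⟩)
  · exact hinv T _ ((hZ _ _).1 ⟨a, rfl⟩)

/-- The centralizer of a homomorphism of a group of multiplicative type. -/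
theorem exists_centralizer {H : Over S} [GrpObj H] (hH : IsMultTypeLoc H) (hG : Smooth G.hom)
    [IsClosedImmersion η[G].left] (u : H ⟶ G) [IsMonHom u] :
    ∃ (Z : Over S) (_ : GrpObj Z) (j : Z ⟶ G), Red.IsCentralizerOf u j ∧ IsClosedImmersion j.left ∧ Smooth Z.hom := by
  have := quasiCompact_of_loc hH
  obtain ⟨Z, j, h₁, h₂, hZ⟩ := exists_conjugates_closed (projChart_of_isMultTypeLoc H hH) u u
  have hmono : Mono j := Over.mono_of_mono_left j
  have hsm := smooth_of_lifts j hG (Conjugates u u) hZ (lifts_conjugates hH hG u u)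
  have hmul : ∀ (X : Over S) (a b : X ⟶ G), Conjugates u u X a → Conjugates u u X b → Conjugates u u X (a * b) := by
    intro X a b ha hb X' x h
    have e1 := mul_inv_eq_iff_eq_mul.1 (ha X' x h)
    have e2 := mul_inv_eq_iff_eq_mul.1 (hb X' x h)
    rw [MonObj.comp_mul, mul_inv_eq_iff_eq_mul, _root_.mul_assoc, e2, ← _root_.mul_assoc, e1, _root_.mul_assoc]
  have hinv : ∀ (X : Over S) (a : X ⟶ G), Conjugates u u X a → Conjugates u u X a⁻¹ := by
    intro X a ha X' x h
    have e1 := mul_inv_eq_iff_eq_mul.1 (ha X' x h)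
    rw [GrpObj.comp_inv, _root_.inv_inv, _root_.mul_assoc, ← e1, inv_mul_cancel_left]
  obtain ⟨iZ, hj⟩ := exists_grpObj_of_subgroup j (Conjugates u u) hZ
    (fun X X' x h => by simp [MonObj.comp_one]) hmul hinv
  refine ⟨Z, iZ, j, ⟨hj, hmono, fun X g => (hZ X g).trans ?_⟩, h₁, hsm⟩
  exact forall_congr' fun X' => forall_congr' fun x => forall_congr' fun h => mul_inv_eq_iff_eq_mul

/-- The normalizer of a subgroup of multiplicative type. -/
theorem exists_normalizer {H : Over S} [GrpObj H] (hH : SGA3x.IsMultTypeFT H) (hG : Smooth G.hom)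
    (i : H ⟶ G) [IsMonHom i] [IsClosedImmersion i.left] :
    ∃ (N : Over S) (_ : GrpObj N) (j : N ⟶ G), Red.IsNormalizerOf i j ∧ IsClosedImmersion j.left ∧ Smooth N.hom := by
  have hH' := isMultTypeLoc_of_ft hH
  have := quasiCompact_of_loc hH'
  have := lfp_of_isMultTypeFT hH
  have := lfp_left i
  have hX := projChart_of_isMultTypeLoc H hH'
  obtain ⟨N, j, h₁, h₂, hN⟩ := exists_strictTransports_closed hX hX i i
  have hmono : Mono j := Over.mono_of_mono_left j
  have hsm := smooth_of_lifts j hG (StrictTransports i i) hN (lifts_strictTransports hH' hH' hG i i)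
  have hmul : ∀ (X : Over S) (a b : X ⟶ G), StrictTransports i i X a → StrictTransports i i X b →
      StrictTransports i i X (a * b) := by
    intro X a b ha hb X' x
    constructor
    · intro h
      obtain ⟨k, hk⟩ := (hb X' x).1 h
      obtain ⟨l, hl⟩ := (ha X' x).1 k
      exact ⟨l, by rw [← hl, ← hk, MonObj.comp_mul]; group⟩
    · intro h
      obtain ⟨k, hk⟩ := (ha X' x).2 h
      obtain ⟨l, hl⟩ := (hb X' x).2 k
      exact ⟨l, by rw [← hl, ← hk, MonObj.comp_mul]; group⟩
  have hinv : ∀ (X : Over S) (a : X ⟶ G), StrictTransports i i X a → StrictTransports i i X a⁻¹ := by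
    intro X a ha X' x
    constructor
    · intro h
      obtain ⟨k, hk⟩ := (ha X' x).2 h
      exact ⟨k, by rw [← hk, GrpObj.comp_inv, _root_.inv_inv]⟩
    · intro h
      obtain ⟨k, hk⟩ := (ha X' x).1 h
      exact ⟨k, by rw [← hk, GrpObj.comp_inv, _root_.inv_inv]⟩
  obtain ⟨iN, hj⟩ := exists_grpObj_of_subgroup j (StrictTransports i i) hN
    (fun X X' x => ⟨fun h => ⟨h, by simp [MonObj.comp_one]⟩, fun h => ⟨h, by simp [MonObj.comp_one]⟩⟩) hmul hinv
  refine ⟨N, iN, j, ⟨hj, hmono, fun X g => (hN X g).trans ?_⟩, h₁, hsm⟩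
  exact ⟨fun h X' x a => ⟨(h X' x).1 a, (h X' x).2 a⟩,
    fun h X' x => ⟨fun a => (h X' x a).1, fun a => (h X' x a).2⟩⟩

end Groth.Agent.MultHopf
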