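import Groth.Agent.MultHopf.FixedSmooth
import Groth.Agent.MultHopf.TransporterRep

/-!
# Fixed points of groups of multiplicative type
-/

set_option autoImplicit false
set_option backward.isDefEq.respectTransparency.types false

universe u

open CategoryTheory CategoryTheory.Limits MonoidalCategory CartesianMonoidalCategory MonObj AlgebraicGeometry

namespace Groth.Agent.MultHopf

open GrpSch GrpSch.WeilClosed

variable {S : Scheme.{u}}

/-- The fixed points form a closed subscheme of finite presentation. -/
theorem exists_fixed_closed (G X : Over S) [GrpObj G] (hG : IsMultTypeLoc G) [IsSeparated X.hom]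
    [LocallyOfFiniteType X.hom] (a : AlgGrp.Action G X) :
    ∃ (Z : Over S) (i : Z ⟶ X), IsClosedImmersion i.left ∧ LocallyOfFinitePresentation i.left ∧
      ∀ (T : Over S) (x : T ⟶ X), (∃ z, z ≫ i = x) ↔
        ∀ (T' : Over S) (t : T' ⟶ T) (g : T' ⟶ G), lift g (t ≫ x) ≫ a.act = t ≫ x := by
  have := quasiCompact_of_loc hG
  let d : X ⟶ X ⊗ X := lift (𝟙 X) (𝟙 X)
  have e : d.left ≫ (fst X X).left = 𝟙 X.left := by
    rw [← Over.comp_left, lift_fst]
    rfl
  have hsep : IsSeparated (fst X X).left :=
    MorphismProperty.of_isPullback (P := @IsSeparated) (isPullback_fst_snd X X).flip inferInstance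
  have hlft : LocallyOfFiniteType (fst X X).left :=
    MorphismProperty.of_isPullback (P := @LocallyOfFiniteType) (isPullback_fst_snd X X).flip inferInstance
  have h1 : IsClosedImmersion (d.left ≫ (fst X X).left) := by rw [e]; infer_instance
  have h2 : LocallyOfFinitePresentation (d.left ≫ (fst X X).left) := by rw [e]; infer_instance
  have : IsClosedImmersion d.left := IsClosedImmersion.of_comp d.left (fst X X).left
  have : LocallyOfFinitePresentation d.left := AlgSpc.lfp_of_comp d.left (fst X X).left
  obtain ⟨Z, i, hi, hf, hZ⟩ := exists_factor_locus_fp G X (X ⊗ X) X (projChart_of_isMultTypeLoc G hG)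
    (lift a.act (snd G X)) d
  refine ⟨Z, i, hi, hf, fun T x => (hZ T x).trans ?_⟩
  refine forall_congr' fun T' => forall_congr' fun t => forall_congr' fun g => ?_
  simp only [comp_lift, lift_snd, d, Category.comp_id]
  refine ⟨fun ⟨w, hw⟩ => ?_, fun h => ⟨t ≫ x, by rw [h]⟩⟩
  have a1 := congrArg (fun q => q ≫ fst X X) hw
  have a2 := congrArg (fun q => q ≫ snd X X) hw
  simp only [lift_fst, lift_snd] at a1 a2
  rw [a1, a2]

/-- A closed subscheme representing the fixed points is smooth. -/
theorem smooth_of_represents_fixed (G : Over S) [GrpObj G] (hG : IsMultTypeLoc G) (X : Over S) [Smooth X.hom]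
    [IsSeparated X.hom] (a : AlgGrp.Action G X) (F : Scheme.{u}) (f : F ⟶ X.left) [IsClosedImmersion f]
    (hF : ∀ (T : Over S) (x : T ⟶ X), (∃ y : T.left ⟶ F, y ≫ f = x.left) ↔
        ∀ (T' : Over S) (t : T' ⟶ T) (g : T' ⟶ G), lift g (t ≫ x) ≫ a.act = t ≫ x) :
    Smooth (f ≫ X.hom) := by
  obtain ⟨Z, i, hi, hfp, hZ⟩ := exists_fixed_closed G X hG a
  let Fo : Over S := Over.mk (f ≫ X.hom)
  let fo : Fo ⟶ X := Over.homMk f
  obtain ⟨p, hp⟩ := (hF Z i).2 ((hZ Z i).1 ⟨𝟙 _, Category.id_comp _⟩)
  obtain ⟨q, hq⟩ := (hZ Fo fo).2 ((hF Fo fo).1 ⟨𝟙 _, Category.id_comp _⟩)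
  have hq' : q.left ≫ i.left = f := congrArg (fun z => z.left) hq
  have : IsIso q.left := ⟨p, by
    rw [← cancel_mono f, Category.assoc, hp]
    exact hq'.trans (Category.id_comp _).symm, by
    rw [← cancel_mono i.left, Category.assoc]
    exact ((congrArg (fun z => p ≫ z) hq').trans hp).trans (Category.id_comp _).symm⟩
  have : LocallyOfFinitePresentation f := by
    rw [← hq']
    exact (MorphismProperty.cancel_left_of_respectsIso (P := @LocallyOfFinitePresentation) q.left i.left).2 hfp
  exact smooth_fixedPoints G hG X a F f hF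

end Groth.Agent.MultHopf
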