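import Groth.Agent.MultHopf.PointConj
import Groth.Agent.MultHopf.LocIntegral

/-!
# Infinitesimal conjugacy of homomorphisms out of groups of multiplicative type
-/

set_option autoImplicit false
set_option backward.isDefEq.respectTransparency.types false

universe u

open CategoryTheory CategoryTheory.Limits MonoidalCategory CartesianMonoidalCategory MonObj AlgebraicGeometry
open scoped TensorProduct
open WithConv

namespace Groth.Agent.MultHopf

variable {R : Type u} [CommRing R]

/-- The base as a point. -/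
noncomputable def base (R : Type u) [CommRing R] : 𝟙_ (Over (Spec (CommRingCat.of R))) ⟶ pt (R := R) R :=
  Over.homMk (𝟙 _) ((Category.id_comp _).trans (Spec.map_id (CommRingCat.of R)))

theorem toBase_ext {X : Over (Spec (CommRingCat.of R))} (a b : X ⟶ pt (R := R) R) : a = b := by
  have hh : (pt (R := R) R).hom = 𝟙 _ := Spec.map_id (CommRingCat.of R)
  apply Over.OverMorphism.ext
  exact (Category.comp_id _).symm.trans ((congrArg (a.left ≫ ·) hh.symm).trans ((Over.w a).trans
    ((Over.w b).symm.trans ((congrArg (b.left ≫ ·) hh).trans (Category.comp_id _)))))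

/-- The closed subscheme of an ideal of the base, as a point. -/
noncomputable abbrev cl (J : Ideal R) : Over (Spec (CommRingCat.of R)) :=
  Over.mk (Spec.map (CommRingCat.ofHom (Ideal.Quotient.mk J)))

theorem map_algebraMap_self (J : Ideal R) : J.map (algebraMap R R) = J := by
  rw [Algebra.algebraMap_self, Ideal.map_id]

/-- The closed subscheme maps to the reduction of the base. -/
noncomputable def clTo (J : Ideal R) : cl J ⟶ pt (R := R) (Bar J R) :=
  Over.homMk (Spec.map (CommRingCat.ofHom (Ideal.Quotient.factor (map_algebraMap_self J).le))) (by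
    show Spec.map _ ≫ Spec.map _ = Spec.map _
    rw [← Spec.map_comp]
    rfl)

/-- Algebras killed by the ideal map to the closed subscheme. -/
noncomputable def toCl (J : Ideal R) (T : Type u) [CommRing T] [Algebra R T] : pt (R := R) (Bar J T) ⟶ cl J :=
  Over.homMk (Spec.map (CommRingCat.ofHom (Ideal.Quotient.lift J (algebraMap R (Bar J T)) fun x hx => by
    rw [IsScalarTower.algebraMap_apply R T (Bar J T)]
    exact Ideal.Quotient.eq_zero_iff_mem.2 (Ideal.mem_map_of_mem _ hx)))) (by
    show Spec.map _ ≫ Spec.map _ = Spec.map _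
    rw [← Spec.map_comp]
    rfl)

variable {H G : Over (Spec (CommRingCat.of R))} [GrpObj H] [GrpObj G]

/-- The affine model of a group of multiplicative type. -/
theorem exists_model (hH : IsMultTypeLoc H) :
    ∃ (A : Type u) (_ : CommRing A) (_ : HopfAlgebra R A) (e : hspec R A ≅ H) (_ : IsMonHom e.hom) (l : A →ₗ[R] R),
      IsIntegral l := by
  have := isAffineHom_of_isMultTypeLoc H hH
  obtain ⟨A, _, _, ⟨eA⟩⟩ := exists_hopf R H
  obtain ⟨l, hl⟩ := exists_integral_of_isMultTypeLoc H hH eA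
  exact ⟨A, inferInstance, inferInstance, (Grp.forget _).mapIso eA.symm, eA.inv.hom.isMonHom_hom, l, hl⟩

theorem homs_conj_of_eq_mod (J : Ideal R) (hJ : J ^ 2 = ⊥) (hH : IsMultTypeLoc H) (u v : H ⟶ G) [IsMonHom u] [IsMonHom v]
    (h0 : ∀ (X : Over (Spec (CommRingCat.of R))) (_ : X ⟶ cl J) (h : X ⟶ H), h ≫ u = h ≫ v) :
    ∃ g : 𝟙_ (Over (Spec (CommRingCat.of R))) ⟶ G, toUnit (cl J) ≫ g = 1 ∧
      v = (toUnit H ≫ g) * u * (toUnit H ≫ g)⁻¹ := by
  obtain ⟨A, _, _, e, _, l, hl⟩ := exists_model hH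
  obtain ⟨g, hg, hg'⟩ := exists_conj_sqZero hl J hJ (e.hom ≫ u) (e.hom ≫ v) (isHomPt_of_isMonHom _) (isHomPt_of_isMonHom _)
    (by rw [← Category.assoc, ← Category.assoc]; exact h0 _ (toCl J A) _)
  refine ⟨base R ≫ g, ?_, ?_⟩
  · rw [← Category.assoc, toBase_ext (toUnit (cl J) ≫ base R) (clTo J ≫ ptMap (Ideal.Quotient.mkₐ R _)),
      Category.assoc, hg, MonObj.comp_one]
  · rw [← cancel_epi e.hom, hg']
    simp only [MonObj.comp_mul, GrpObj.comp_inv, ← Category.assoc]
    rw [toBase_ext ((e.hom ≫ toUnit H) ≫ base R) (ptMap (Algebra.ofId R A))]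
    rfl

theorem conj_lifts_mod_nilpotent (J : Ideal R) (hJ : IsNilpotent J) (hH : IsMultTypeLoc H) (hG : Smooth G.hom)
    (u v : H ⟶ G) [IsMonHom u] [IsMonHom v] (g₀ : cl J ⟶ G)
    (h0 : ∀ (X : Over (Spec (CommRingCat.of R))) (p : X ⟶ cl J) (h : X ⟶ H), h ≫ v = (p ≫ g₀) * (h ≫ u) * (p ≫ g₀)⁻¹) :
    ∃ g : 𝟙_ (Over (Spec (CommRingCat.of R))) ⟶ G, toUnit (cl J) ≫ g = g₀ ∧
      v = (toUnit H ≫ g) * u * (toUnit H ≫ g)⁻¹ := by
  obtain ⟨A, _, _, e, _, l, hl⟩ := exists_model hH
  obtain ⟨m, hm⟩ := exists_lift_pt hG (Ideal.Quotient.mkₐ R (J.map (algebraMap R R))) Ideal.Quotient.mk_surjective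
    (by rw [show RingHom.ker (Ideal.Quotient.mkₐ R (J.map (algebraMap R R))) = J.map (algebraMap R R) from Ideal.mk_ker,
      map_algebraMap_self]; exact hJ) (toCl J R ≫ g₀)
  have hcl : clTo J ≫ toCl J R = 𝟙 (cl J) := by
    apply Over.OverMorphism.ext
    show Spec.map _ ≫ Spec.map _ = 𝟙 _
    rw [← Spec.map_comp, ← CommRingCat.ofHom_comp]
    convert! Spec.map_id (CommRingCat.of (R ⧸ J)) using 2
    ext x
    rfl
  obtain ⟨g, hg, hg'⟩ := exists_conj_nilpotent hl hG J hJ (e.hom ≫ u) (e.hom ≫ v) (isHomPt_of_isMonHom _) (isHomPt_of_isMonHom _) m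
    (by
      rw [← Category.assoc, h0 _ (toCl J A), ptMap_conjC]
      simp only [conjC, Category.assoc]
      have hp : toCl J A ≫ g₀ = ptMap (Algebra.ofId R (Bar J A)) ≫ m := by
        rw [show toCl J A = ptMap (bar J (Algebra.ofId R A)) ≫ toCl J R from Over.OverMorphism.ext (by
            show Spec.map _ = Spec.map _ ≫ Spec.map _
            rw [← Spec.map_comp, ← CommRingCat.ofHom_comp]
            refine congrArg (fun k => Spec.map (CommRingCat.ofHom k)) (Ideal.Quotient.ringHom_ext (RingHom.ext fun r => ?_))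
            rfl),
          Category.assoc, ← hm, ← Category.assoc, ← ptMap_comp,
          Subsingleton.elim ((bar J (Algebra.ofId R A)).comp (Ideal.Quotient.mkₐ R (J.map (algebraMap R R)))) (Algebra.ofId R (Bar J A))]
      rw [hp])
  refine ⟨base R ≫ g, ?_, ?_⟩
  · rw [← Category.assoc, toBase_ext (toUnit (cl J) ≫ base R) (clTo J ≫ ptMap (Ideal.Quotient.mkₐ R _)),
      Category.assoc, hg, hm, ← Category.assoc, hcl, Category.id_comp]
  · rw [← cancel_epi e.hom, hg']
    simp only [conjC, MonObj.comp_mul, GrpObj.comp_inv, ← Category.assoc]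
    rw [toBase_ext ((e.hom ≫ toUnit H) ≫ base R) (ptMap (Algebra.ofId R A))]

end Groth.Agent.MultHopf
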