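import Groth.Agent.SmoothLift.Main
import Groth.Agent.MultHopf.KerIdeal
import Groth.Agent.MultHopf.PointApply

/-!
# Smoothness of a closed subscheme of a smooth group given by a condition on points
-/

set_option autoImplicit false
set_option backward.isDefEq.respectTransparency.types false

universe u

open CategoryTheory CategoryTheory.Limits MonoidalCategory CartesianMonoidalCategory MonObj AlgebraicGeometry

namespace Groth.Agent.MultHopf

variable {S : Scheme.{u}}

/-- A point over an affine `b`, seen over the affine base. -/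
theorem exists_overIso {U : Scheme.{u}} (b : U ⟶ S) {X₀ : Over U} {X' : Over S} (x : X' ⟶ (Over.map b).obj X₀) :
    ∃ (X : Over U) (p : X ⟶ X₀) (e : (Over.map b).obj X ≅ X'), e.hom ≫ x = (Over.map b).map p := by
  refine ⟨Over.mk (x.left ≫ X₀.hom), Over.homMk x.left rfl,
    Over.isoMk (Iso.refl _) ((Category.id_comp _).trans ?_), Over.OverMorphism.ext (Category.id_comp _)⟩
  exact ((Category.assoc _ _ _).trans (Over.w x)).symm

theorem adjMulEquiv_map {U : Scheme.{u}} (b : U ⟶ S) {Z Z' : Over U} (f : Z' ⟶ Z) {X : Over S} [GrpObj X]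
    (a : (Over.map b).obj Z ⟶ X) : adjMulEquiv b Z' X ((Over.map b).map f ≫ a) = f ≫ adjMulEquiv b Z X a :=
  (Over.mapPullbackAdj b).homEquiv_naturality_left f a

theorem adjMulEquiv_symm_map {U : Scheme.{u}} (b : U ⟶ S) {Z Z' : Over U} (f : Z' ⟶ Z) {X : Over S} [GrpObj X]
    (a : Z ⟶ Red.bc b X) :
    (adjMulEquiv b Z' X).symm (f ≫ a) = (Over.map b).map f ≫ (adjMulEquiv b Z X).symm a := by
  rw [MulEquiv.symm_apply_eq, adjMulEquiv_map, MulEquiv.apply_symm_apply]

/-- A closed subscheme of finite presentation of a smooth group, whose points lift along nilpotent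
thickenings, is smooth. -/
theorem smooth_of_lifts {G Z : Over S} [GrpObj G] (i : Z ⟶ G) [IsClosedImmersion i.left]
    [LocallyOfFinitePresentation i.left] (hG : Smooth G.hom) (P : ∀ T : Over S, (T ⟶ G) → Prop)
    (hZ : ∀ (T : Over S) (g : T ⟶ G), (∃ z, z ≫ i = g) ↔ P T g)
    (hlift : ∀ (R : Type u) [CommRing R] (b : Spec (CommRingCat.of R) ⟶ S) (J : Ideal R), IsNilpotent J →
      ∀ g₀ : cl J ⟶ Red.bc b G, P _ ((adjMulEquiv b (cl J) G).symm g₀) →
        ∃ g : 𝟙_ (Over (Spec (CommRingCat.of R))) ⟶ Red.bc b G, toUnit (cl J) ≫ g = g₀ ∧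
          P _ ((adjMulEquiv b (𝟙_ (Over (Spec (CommRingCat.of R)))) G).symm g)) :
    Smooth Z.hom := by
  rw [SmoothLift.smooth_iff]
  refine ⟨?_, fun A _ I hI a b hab => ?_⟩
  · rw [show Z.hom = i.left ≫ G.hom from (Over.w i).symm]
    infer_instance
  let z₀ : (Over.map b).obj (cl I) ⟶ Z := Over.homMk a hab.symm
  obtain ⟨g, hg, hP⟩ := hlift A b I ⟨2, hI⟩ (adjMulEquiv b (cl I) G (z₀ ≫ i)) (by
    rw [MulEquiv.symm_apply_apply]
    exact (hZ _ _).1 ⟨z₀, rfl⟩)
  obtain ⟨z, hz⟩ := (hZ _ _).2 hP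
  refine ⟨z.left, ?_, (Over.w z).trans (Category.id_comp _)⟩
  have h1 : (Over.map b).map (toUnit (cl I)) ≫ z = z₀ := by
    have : Mono i := Over.mono_of_mono_left i
    rw [← cancel_mono i, Category.assoc, hz, ← adjMulEquiv_symm_map, hg, MulEquiv.symm_apply_apply]
  exact congrArg (·.left) h1

end Groth.Agent.MultHopf
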