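import Groth.Agent.MultHopf.ActRigid
import Groth.Agent.MultHopf.SmoothSub
import Groth.Agent.MultHopf.ProjChart
import Groth.Agent.MultHopf.LocIntegral
import Groth.Agent.MultHopf.KerAlg
import Groth.Agent.GrpSch.AgreeLocus
import Groth.Agent.SmoothLift.Main

/-!
# Fixed points of groups of multiplicative type lift along square zero thickenings
-/

set_option autoImplicit false
set_option backward.isDefEq.respectTransparency.types false

universe u

open CategoryTheory CategoryTheory.Limits MonoidalCategory CartesianMonoidalCategory MonObj AlgebraicGeometry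
open scoped TensorProduct
open WithConv

namespace Groth.Agent.MultHopf

variable {S : Scheme.{u}}

/-- Maps to a separated scheme are detected by injective ring maps. -/
theorem hom_ext_of_injective {C D : Type u} [CommRing C] [CommRing D] (φ : C →+* D) (hφ : Function.Injective φ)
    {X : Scheme.{u}} (h : X ⟶ S) [IsSeparated h] (z w : Spec (CommRingCat.of C) ⟶ X) (hzw : z ≫ h = w ≫ h)
    (he : Spec.map (CommRingCat.ofHom φ) ≫ z = Spec.map (CommRingCat.ofHom φ) ≫ w) : z = w := by
  obtain ⟨E, e, _, hE⟩ := GrpSch.WeilClosed.exists_closed_equalizer h z w hzw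
  obtain ⟨l, hl⟩ := (hE _ _).2 he
  obtain ⟨I, iso, hiso⟩ := IsClosedImmersion.Spec_iff.mp (inferInstance : IsClosedImmersion e)
  obtain ⟨ψ, hψ⟩ := Spec.map_surjective (l ≫ iso.hom)
  have hI : I = ⊥ := by
    refine eq_bot_iff.2 fun x hx => hφ ?_
    have h2 : Spec.map ψ ≫ Spec.map (CommRingCat.ofHom (Ideal.Quotient.mk I)) = Spec.map (CommRingCat.ofHom φ) := by
      rw [hψ, Category.assoc, ← hiso, hl]
    rw [← Spec.map_comp] at h2
    have h3 := CategoryTheory.congr_fun (Spec.map_injective h2) x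
    rw [map_zero]
    refine h3.symm.trans ?_
    show ψ.hom (Ideal.Quotient.mk I x) = 0
    rw [Ideal.Quotient.eq_zero_iff_mem.2 hx, map_zero]
  subst hI
  have : IsIso (Spec.map (CommRingCat.ofHom (Ideal.Quotient.mk (⊥ : Ideal C)))) := by
    have : IsIso (CommRingCat.ofHom (Ideal.Quotient.mk (⊥ : Ideal C))) :=
      (RingEquiv.quotientBot C).symm.toCommRingCatIso.isIso_hom
    infer_instance
  have : IsIso e := by rw [hiso]; infer_instance
  have h1 := (hE _ e).1 ⟨𝟙 _, Category.id_comp _⟩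
  exact (cancel_epi e).1 h1

section alg

variable {R A : Type u} [CommRing R] [CommRing A] [HopfAlgebra R A] (N : Ideal A)

/-- Constants plus an ideal. -/
def constPlus : Subalgebra R A where
  carrier := {e | ∃ r : R, e - algebraMap R A r ∈ N}
  mul_mem' := by
    rintro e e' ⟨r, hr⟩ ⟨r', hr'⟩
    refine ⟨r * r', ?_⟩
    have h : e * e' - algebraMap R A (r * r') =
        (e - algebraMap R A r) * e' + algebraMap R A r * (e' - algebraMap R A r') := by
      rw [map_mul]
      ring
    rw [h]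
    exact add_mem (N.mul_mem_right _ hr) (N.mul_mem_left _ hr')
  add_mem' := by
    rintro e e' ⟨r, hr⟩ ⟨r', hr'⟩
    refine ⟨r + r', ?_⟩
    rw [map_add, add_sub_add_comm]
    exact add_mem hr hr'
  algebraMap_mem' r := ⟨r, by simp⟩

end alg

variable {R : Type u} [CommRing R]

/-- A fixed point of a group of multiplicative type acting on a separated scheme lifts along square zero
thickenings, as soon as it lifts as a point of an affine open. -/
theorem exists_fixed_lift (j : Spec (CommRingCat.of R) ⟶ S) {G X : Over S} [GrpObj G] [IsSeparated X.hom]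
    (hG : IsMultTypeLoc G) (a : AlgGrp.Action G X) (I : Ideal R) (hI : I ^ 2 = ⊥)
    (x₀ : ptS j (R ⧸ I) ⟶ X)
    (hx₀ : ∀ (T : Over S) (t : T ⟶ ptS j (R ⧸ I)) (g : T ⟶ G), lift g (t ≫ x₀) ≫ a.act = t ≫ x₀)
    (x : ptS j R ⟶ X) (hx : pSMap j (Ideal.Quotient.mkₐ R I) ≫ x = x₀)
    {V : X.left.Opens} (hV : IsAffineOpen V) (hxV : ∀ p : PrimeSpectrum R, x.left p ∈ V)
    {W : S.Opens} (hW : IsAffineOpen W) (hVW : V ≤ X.hom ⁻¹ᵁ W) :
    ∃ x' : ptS j R ⟶ X, pSMap j (Ideal.Quotient.mkₐ R I) ≫ x' = x₀ ∧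
      ∀ (T : Over S) (t : T ⟶ ptS j R) (g : T ⟶ G), lift g (t ≫ x') ≫ a.act = t ≫ x' := by
  classical
  have hK := isMultTypeLoc_bc j G hG
  have := isAffineHom_of_isMultTypeLoc _ hK
  obtain ⟨A, _, _, ⟨eA⟩⟩ := exists_hopf R (Red.bc j G)
  obtain ⟨l, hl⟩ := exists_integral_of_isMultTypeLoc (Red.bc j G) hK eA
  obtain ⟨F, hF⟩ := exists_splits (Red.bc j G) hK eA
  have := projective_of_splits hF
  let N : Ideal A := I.map (algebraMap R A)
  let gA : ptS j A ⟶ G := (ptEquiv j eA A).symm (toConv (AlgHom.id R A))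
  let π : ptS j A ⟶ ptS j R := pSMap j (Algebra.ofId R A)
  let α : ptS j A ⟶ X := lift gA (π ≫ x) ≫ a.act
  let mkN : A →ₐ[R] A ⧸ N := Ideal.Quotient.mkₐ R N
  have hIN : ∀ r ∈ I, algebraMap R (A ⧸ N) r = 0 := fun r hr => by
    rw [IsScalarTower.algebraMap_apply R A (A ⧸ N)]
    exact Ideal.Quotient.eq_zero_iff_mem.2 (Ideal.mem_map_of_mem _ hr)
  -- the translate agrees with the point modulo `N`
  have hαN : pSMap j mkN ≫ α = pSMap j mkN ≫ π ≫ x := by
    let q : R ⧸ I →ₐ[R] A ⧸ N := Ideal.Quotient.liftₐ I (Algebra.ofId R (A ⧸ N)) hIN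
    have hq : pSMap j mkN ≫ π ≫ x = pSMap j q ≫ x₀ := by
      rw [← hx, ← Category.assoc, ← Category.assoc, ← pSMap_comp, ← pSMap_comp]
      congr 2
    show pSMap j mkN ≫ lift gA (π ≫ x) ≫ a.act = _
    rw [← Category.assoc, comp_lift, hq]
    exact hx₀ _ _ _
  have hsurjN : Function.Surjective (PrimeSpectrum.comap (Ideal.Quotient.mk N)) := by
    intro p
    have hp : N ≤ p.asIdeal := by
      refine Ideal.map_le_iff_le_comap.2 fun r hr => p.isPrime.mem_of_pow_mem 2 ?_
      have h0 : r ^ 2 = 0 := by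
        rw [← Ideal.mem_bot, ← hI]
        exact Ideal.pow_mem_pow hr 2
      rw [← map_pow, h0, map_zero]
      exact zero_mem _
    rw [← Set.mem_range, range_comap_of_surjective _ _ Ideal.Quotient.mk_surjective]
    intro y hy
    rw [SetLike.mem_coe, RingHom.mem_ker, Ideal.Quotient.eq_zero_iff_mem] at hy
    exact hp hy
  have hαV : Set.range α.left ⊆ Set.range hV.fromSpec := by
    rw [hV.range_fromSpec]
    rintro _ ⟨p, rfl⟩
    obtain ⟨p₀, rfl⟩ := hsurjN p
    have h := congrArg (fun z => z.left p₀) hαN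
    show α.left (Spec.map (CommRingCat.ofHom mkN.toRingHom) p₀) ∈ V
    have h' : α.left (Spec.map (CommRingCat.ofHom mkN.toRingHom) p₀) =
        x.left (π.left (Spec.map (CommRingCat.ofHom mkN.toRingHom) p₀)) := h
    rw [h']
    exact hxV _
  obtain ⟨β, hβ⟩ := Spec.map_surjective (IsOpenImmersion.lift hV.fromSpec α.left hαV)
  have hβ' : Spec.map β ≫ hV.fromSpec = α.left := by rw [hβ, IsOpenImmersion.lift_fac]
  have hxr : Set.range x.left ⊆ Set.range hV.fromSpec := by
    rw [hV.range_fromSpec]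
    rintro _ ⟨p, rfl⟩
    exact hxV p
  obtain ⟨ξ, hξ⟩ := Spec.map_surjective (IsOpenImmersion.lift hV.fromSpec x.left hxr)
  have hξ' : Spec.map ξ ≫ hV.fromSpec = x.left := by rw [hξ, IsOpenImmersion.lift_fac]
  have hβξ : ∀ c, β.hom c - algebraMap R A (ξ.hom c) ∈ N := by
    have h1 : Spec.map (CommRingCat.ofHom mkN.toRingHom) ≫ Spec.map β =
        Spec.map (CommRingCat.ofHom mkN.toRingHom) ≫ Spec.map (CommRingCat.ofHom (algebraMap R A)) ≫ Spec.map ξ := by
      rw [← cancel_mono hV.fromSpec]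
      simp only [Category.assoc, hβ', hξ']
      exact congrArg (fun z => z.left) hαN
    rw [← Spec.map_comp, ← Spec.map_comp, ← Spec.map_comp] at h1
    intro c
    have h2 := CategoryTheory.congr_fun (Spec.map_injective h1) c
    exact Ideal.Quotient.eq.1 h2
  let E : Subalgebra R A := constPlus N
  let βE : Γ(X.left, V) →+* E := β.hom.codRestrict E.toSubring fun c => ⟨ξ.hom c, hβξ c⟩
  have hNE : ∀ m ∈ N, m ∈ E := fun m hm => ⟨0, by simpa using hm⟩
  -- the structure map
  let δ := X.hom.appLE W V hVW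
  have hδ : Spec.map δ ≫ hW.fromSpec = hV.fromSpec ≫ X.hom := hW.SpecMap_appLE_fromSpec X.hom hV hVW
  have hj : j = Spec.map ξ ≫ Spec.map δ ≫ hW.fromSpec := by
    rw [hδ, ← Category.assoc, hξ']
    refine Eq.trans ?_ (Over.w x).symm
    show j = Spec.map (CommRingCat.ofHom (algebraMap R R)) ≫ j
    rw [Algebra.algebraMap_self, CommRingCat.ofHom_id, Spec.map_id, Category.id_comp]
  have hβδ : ∀ w, β.hom (δ.hom w) = algebraMap R A (ξ.hom (δ.hom w)) := by
    have h1 : Spec.map β ≫ Spec.map δ =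
        Spec.map (CommRingCat.ofHom (algebraMap R A)) ≫ Spec.map ξ ≫ Spec.map δ := by
      rw [← cancel_mono hW.fromSpec]
      simp only [Category.assoc]
      rw [← hj, hδ, ← Category.assoc, hβ']
      exact Over.w α
    rw [← Spec.map_comp, ← Spec.map_comp, ← Spec.map_comp] at h1
    exact fun w => CategoryTheory.congr_fun (Spec.map_injective h1) w
  let y : ptS j E ⟶ X := Over.homMk (Spec.map (CommRingCat.ofHom βE) ≫ hV.fromSpec) (by
    show (Spec.map (CommRingCat.ofHom βE) ≫ hV.fromSpec) ≫ X.hom =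
      Spec.map (CommRingCat.ofHom (algebraMap R E)) ≫ j
    rw [Category.assoc, ← hδ, hj, ← Spec.map_comp_assoc, ← Spec.map_comp_assoc, ← Spec.map_comp_assoc]
    congr 2
    ext w
    exact hβδ w)
  have hy : pSMap j E.val ≫ y = α := by
    apply Over.OverMorphism.ext
    show Spec.map (CommRingCat.ofHom E.val.toRingHom) ≫ Spec.map (CommRingCat.ofHom βE) ≫ hV.fromSpec = α.left
    rw [← Spec.map_comp_assoc, ← hβ']
    rfl
  -- the integral restricted to `E`
  have hN0 : ∀ m ∈ N, ∀ m' ∈ N, m * m' = 0 := fun m hm m' hm' => by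
    have h : N ^ 2 = ⊥ := by rw [← Ideal.map_pow, hI, Ideal.map_bot]
    rw [← Ideal.mem_bot, ← h, pow_two]
    exact Ideal.mul_mem_mul hm hm'
  have hI0 : ∀ m ∈ I, ∀ m' ∈ I, m * m' = 0 := fun m hm m' hm' => by
    rw [← Ideal.mem_bot, ← hI, pow_two]
    exact Ideal.mul_mem_mul hm hm'
  have hlN : ∀ m ∈ N, l m ∈ I := by
    intro m hm
    have hm' : m ∈ I • (⊤ : Submodule R A) := by rw [Ideal.smul_top_eq_map]; exact hm
    refine Submodule.smul_induction_on hm' (fun r hr n _ => ?_) (fun p q hp hq => ?_)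
    · rw [map_smul, smul_eq_mul]
      exact I.mul_mem_right _ hr
    · rw [map_add]
      exact add_mem hp hq
  have hlc : ∀ r, l (algebraMap R A r) = r := fun r => by
    rw [Algebra.algebraMap_eq_smul_one, map_smul, hl.one, smul_eq_mul, _root_.mul_one]
  let lE : E →ₐ[R] R :=
    { toFun := fun e => l e.1
      map_one' := hl.one
      map_mul' := by
        rintro ⟨e, r, hr⟩ ⟨e', r', hr'⟩
        show l (e * e') = l e * l e'
        obtain ⟨m, hm, rfl⟩ : ∃ m ∈ N, e = algebraMap R A r + m := ⟨_, hr, by ring⟩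
        obtain ⟨m', hm', rfl⟩ : ∃ m' ∈ N, e' = algebraMap R A r' + m' := ⟨_, hr', by ring⟩
        have hmul : (algebraMap R A r + m) * (algebraMap R A r' + m') =
            algebraMap R A (r * r') + r • m' + r' • m + m * m' := by
          rw [map_mul, Algebra.smul_def, Algebra.smul_def]
          ring
        rw [hmul, hN0 m hm m' hm', add_zero, map_add, map_add, map_add, map_add, map_smul, map_smul, hlc, hlc, hlc,
          smul_eq_mul, smul_eq_mul]
        linear_combination (-1 : R) * hI0 _ (hlN m hm) _ (hlN m' hm')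
      map_zero' := map_zero l
      map_add' := fun e e' => map_add l e.1 e'.1
      commutes' := hlc }
  -- comultiplication restricted to `E`
  let jE : A ⊗[R] E →ₐ[R] A ⊗[R] A := Algebra.TensorProduct.map (AlgHom.id R A) E.val
  have hι : Function.Injective jE :=
    Module.Flat.lTensor_preserves_injective_linearMap (M := A) E.val.toLinearMap Subtype.val_injective
  have hΔE : ∀ e : E, Bialgebra.comulAlgHom R A e.1 ∈ jE.range := by
    rintro ⟨e, r, hr⟩
    show Bialgebra.comulAlgHom R A e ∈ jE.range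
    obtain ⟨m, hm, rfl⟩ : ∃ m ∈ N, e = algebraMap R A r + m := ⟨_, hr, by ring⟩
    rw [map_add, AlgHom.commutes]
    refine add_mem (Subalgebra.algebraMap_mem _ r) ?_
    have hm' : m ∈ I • (⊤ : Submodule R A) := by rw [Ideal.smul_top_eq_map]; exact hm
    refine Submodule.smul_induction_on hm' (fun i hi n _ => ?_) (fun p q hp hq => ?_)
    · rw [map_smul]
      generalize Bialgebra.comulAlgHom R A n = z
      induction z using TensorProduct.induction_on with
      | zero => rw [smul_zero]; exact zero_mem _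
      | add p q hp hq => rw [smul_add]; exact add_mem hp hq
      | tmul p q =>
        refine ⟨p ⊗ₜ ⟨i • q, hNE _ ?_⟩, ?_⟩
        · rw [Algebra.smul_def]
          exact N.mul_mem_right _ (Ideal.mem_map_of_mem _ hi)
        · show p ⊗ₜ (i • q) = i • (p ⊗ₜ q)
          rw [TensorProduct.tmul_smul]
    · rw [map_add]
      exact add_mem hp hq
  let ΔE : E →ₐ[R] A ⊗[R] E := (AlgEquiv.ofInjective jE hι).symm.toAlgHom.comp
    (((Bialgebra.comulAlgHom R A).comp E.val).codRestrict jE.range hΔE)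
  have hιΔ : jE.comp ΔE = (Bialgebra.comulAlgHom R A).comp E.val := by
    refine AlgHom.ext fun e => ?_
    show jE ((AlgEquiv.ofInjective jE hι).symm _) = _
    exact congrArg Subtype.val ((AlgEquiv.ofInjective jE hι).apply_symm_apply
      ⟨_, hΔE e⟩)
  -- cocycle identity
  let qg : ptS j (A ⊗[R] E) ⟶ ptS j A := pSMap j Algebra.TensorProduct.includeLeft
  let qy : ptS j (A ⊗[R] E) ⟶ ptS j E := pSMap j Algebra.TensorProduct.includeRight
  have hcocycle : lift (qg ≫ gA) (qy ≫ y) ≫ a.act = pSMap j ΔE ≫ y := by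
    apply Over.OverMorphism.ext
    refine hom_ext_of_injective jE.toRingHom hι X.hom _ _ ((Over.w _).trans (Over.w _).symm) ?_
    refine congrArg (fun z => z.left) (?_ : pSMap j jE ≫ lift (qg ≫ gA) (qy ≫ y) ≫ a.act = pSMap j jE ≫ pSMap j ΔE ≫ y)
    let i₁ : ptS j (A ⊗[R] A) ⟶ ptS j A := pSMap j Algebra.TensorProduct.includeLeft
    let i₂ : ptS j (A ⊗[R] A) ⟶ ptS j A := pSMap j Algebra.TensorProduct.includeRight
    have e1 : pSMap j jE ≫ qg = i₁ := by
      rw [← pSMap_comp]
      congr 1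
    have e2 : pSMap j jE ≫ qy ≫ y = i₂ ≫ α := by
      rw [← hy, ← Category.assoc, ← Category.assoc, ← pSMap_comp, ← pSMap_comp]
      congr 2
    have e3 : pSMap j jE ≫ pSMap j ΔE ≫ y = pSMap j (Bialgebra.comulAlgHom R A) ≫ α := by
      rw [← hy, ← Category.assoc, ← Category.assoc, ← pSMap_comp, ← pSMap_comp, hιΔ]
    have e4 : (i₁ ≫ gA) * (i₂ ≫ gA) = pSMap j (Bialgebra.comulAlgHom R A) ≫ gA := by
      apply (ptEquiv j eA _).injective
      rw [ptEquiv_mul, ptEquiv_pSMap, ptEquiv_pSMap, ptEquiv_pSMap, Equiv.apply_symm_apply]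
      exact comul_eq_incl_mul.symm
    rw [e3, ← Category.assoc, comp_lift, ← Category.assoc, e1, e2]
    show lift (i₁ ≫ gA) (i₂ ≫ lift gA (π ≫ x) ≫ a.act) ≫ a.act = pSMap j _ ≫ lift gA (π ≫ x) ≫ a.act
    rw [← Category.assoc i₂, comp_lift, ← act_mul' a, e4]
    conv_rhs => rw [← Category.assoc, comp_lift]
    congr 2
    simp only [π, i₂, ← Category.assoc, ← pSMap_comp]
    congr 2
    exact AlgHom.ext fun r => by simp [Algebra.TensorProduct.algebraMap_apply]
  let x' : ptS j R ⟶ X := pSMap j lE ≫ y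
  -- the universal translate of the new point
  have huniv : lift gA (π ≫ x') ≫ a.act = π ≫ x' := by
    let p : A ⊗[R] E →ₐ[R] A :=
      Algebra.TensorProduct.lift (AlgHom.id R A) ((Algebra.ofId R A).comp lE) fun _ _ => Commute.all _ _
    have hlin : ∀ z : A ⊗[R] E, p z = TensorProduct.rid R A (l.lTensor A (jE z)) := by
      intro z
      induction z using TensorProduct.induction_on with
      | zero => simp
      | add u v hu hv => simp only [map_add, hu, hv]
      | tmul u e =>
        show u * algebraMap R A (l e.1) = TensorProduct.rid R A (u ⊗ₜ l e.1)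
        rw [TensorProduct.rid_tmul, Algebra.smul_def, _root_.mul_comm]
    have p1 : pSMap j p ≫ qg = 𝟙 _ := by
      rw [← pSMap_comp]
      apply Over.OverMorphism.ext
      rw [pSMap_left, show p.comp Algebra.TensorProduct.includeLeft = AlgHom.id R A from
        Algebra.TensorProduct.lift_comp_includeLeft ..]
      exact Spec.map_id _
    have p2 : pSMap j p ≫ qy ≫ y = π ≫ x' := by
      simp only [x', π, qy, ← Category.assoc, ← pSMap_comp]
      congr 2
      exact Algebra.TensorProduct.lift_comp_includeRight (AlgHom.id R A) ((Algebra.ofId R A).comp lE)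
        fun _ _ => Commute.all _ _
    have p3 : pSMap j p ≫ pSMap j ΔE ≫ y = π ≫ x' := by
      simp only [x', π, ← Category.assoc, ← pSMap_comp]
      congr 2
      refine AlgHom.ext fun e => ?_
      show p (ΔE e) = algebraMap R A (l e.1)
      rw [hlin, show jE (ΔE e) = Coalgebra.comul (R := R) e.1 from DFunLike.congr_fun hιΔ e, hl.right]
      simp [Algebra.algebraMap_eq_smul_one]
    have h := congrArg (fun z => pSMap j p ≫ z) hcocycle
    rwa [← Category.assoc, comp_lift, ← Category.assoc, p1, Category.id_comp, p2, p3] at h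
  refine ⟨x', ?_, fun T t g => ?_⟩
  · rw [← hx]
    apply Over.OverMorphism.ext
    show Spec.map (CommRingCat.ofHom (Ideal.Quotient.mk I)) ≫ Spec.map (CommRingCat.ofHom lE.toRingHom) ≫
      Spec.map (CommRingCat.ofHom βE) ≫ hV.fromSpec = Spec.map (CommRingCat.ofHom (Ideal.Quotient.mk I)) ≫ x.left
    rw [← hξ', ← Spec.map_comp_assoc, ← Spec.map_comp_assoc, ← Spec.map_comp_assoc]
    congr 2
    ext c
    show Ideal.Quotient.mk I (l (β.hom c)) = Ideal.Quotient.mk I (ξ.hom c)
    rw [Ideal.Quotient.eq]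
    have := hlN _ (hβξ c)
    rwa [map_sub, hlc] at this
  · let T₀ : Over (Spec (CommRingCat.of R)) := Over.mk t.left
    let e : (Over.map j).obj T₀ ≅ T := Over.isoMk (Iso.refl _) (by
      show 𝟙 _ ≫ T.hom = t.left ≫ j
      rw [Category.id_comp, ← Over.w t]
      show _ ≫ Spec.map (CommRingCat.ofHom (algebraMap R R)) ≫ j = _
      rw [Algebra.algebraMap_self, CommRingCat.ofHom_id, Spec.map_id, Category.id_comp]
      rfl)
    let w : T₀ ⟶ pt (R := R) A := adjMulEquiv j T₀ G (e.hom ≫ g) ≫ eA.hom.hom.hom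
    have hw : (Over.map j).map w ≫ gA = e.hom ≫ g := by
      apply (adjMulEquiv j T₀ G).injective
      rw [adjMulEquiv_map]
      show w ≫ adjMulEquiv j _ G ((adjMulEquiv j _ G).symm (Spec.mapMulEquiv (toConv (AlgHom.id R A)) ≫ eA.inv.hom.hom)) = _
      rw [MulEquiv.apply_symm_apply, show Spec.mapMulEquiv (toConv (AlgHom.id R A)) = 𝟙 _ from
        Over.OverMorphism.ext (Spec.map_id _), Category.id_comp]
      show (_ ≫ eA.hom.hom.hom) ≫ eA.inv.hom.hom = _
      rw [Category.assoc, show eA.hom.hom.hom ≫ eA.inv.hom.hom = 𝟙 _ from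
        congrArg (fun z => z.hom.hom) eA.hom_inv_id, Category.comp_id]
    have ht : e.hom ≫ t = (Over.map j).map w ≫ π := by
      apply Over.OverMorphism.ext
      show 𝟙 _ ≫ t.left = w.left ≫ Spec.map (CommRingCat.ofHom (algebraMap R A))
      rw [Category.id_comp]
      exact (Over.w w).symm
    rw [← cancel_epi e.hom, ← Category.assoc, comp_lift, ← hw, ← Category.assoc, ← Category.assoc, ht,
      Category.assoc, Category.assoc, ← comp_lift, Category.assoc, huniv]

/-- A closed subscheme representing the fixed points is smooth. -/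
theorem smooth_fixedPoints (G : Over S) [GrpObj G] (hG : IsMultTypeLoc G) (X : Over S) [Smooth X.hom]
    [IsSeparated X.hom] (a : AlgGrp.Action G X) (F : Scheme.{u}) (f : F ⟶ X.left) [IsClosedImmersion f]
    [LocallyOfFinitePresentation f]
    (hF : ∀ (T : Over S) (x : T ⟶ X), (∃ y : T.left ⟶ F, y ≫ f = x.left) ↔
        ∀ (T' : Over S) (t : T' ⟶ T) (g : T' ⟶ G), lift g (t ≫ x) ≫ a.act = t ≫ x) :
    Smooth (f ≫ X.hom) := by
  rw [SmoothLift.smooth_iff]
  refine ⟨inferInstance, SmoothLift.isFormallySmoothHom_of_locally _ fun p => ?_⟩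
  obtain ⟨W, hW, hpW, -⟩ := exists_isAffineOpen_mem_and_subset (x := X.hom (f p)) (U := (⊤ : S.Opens)) trivial
  obtain ⟨V, hV, hpV, hVW⟩ := exists_isAffineOpen_mem_and_subset (show f p ∈ X.hom ⁻¹ᵁ W from hpW)
  have hVW' : V ≤ X.hom ⁻¹ᵁ W := hVW
  let U : F.Opens := f ⁻¹ᵁ V
  refine ⟨U, hpV, fun R _ I hI a₀ b hab => ?_⟩
  have halg : ∀ (D : Type u) [CommRing D] [Algebra R D] (z : Spec (CommRingCat.of D) ⟶ X.left),
      z ≫ X.hom = Spec.map (CommRingCat.ofHom (algebraMap R D)) ≫ b → ∃ x : ptS b D ⟶ X, x.left = z :=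
    fun D _ _ z hz => ⟨Over.homMk z hz, rfl⟩
  have hmk : algebraMap R (R ⧸ I) = Ideal.Quotient.mk I := Ideal.Quotient.algebraMap_eq I
  obtain ⟨x₀, hx₀⟩ := halg (R ⧸ I) (a₀ ≫ U.ι ≫ f) (by
    rw [hmk, hab]
    simp only [Category.assoc])
  obtain ⟨z, hz, hzb⟩ := (SmoothLift.isFormallySmoothHom_of_smooth X.hom) R I hI (a₀ ≫ U.ι ≫ f) b (by
    rw [hab]; simp only [Category.assoc])
  obtain ⟨x, hx⟩ := halg R z (by
    rw [hzb, Algebra.algebraMap_self, CommRingCat.ofHom_id, Spec.map_id, Category.id_comp])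
  have hsurj : Function.Surjective (Spec.map (CommRingCat.ofHom (Ideal.Quotient.mk I))) := by
    intro q
    have hq : I ≤ q.asIdeal := fun r hr => q.isPrime.mem_of_pow_mem 2 (by
      have : r ^ 2 ∈ (⊥ : Ideal R) := hI ▸ Ideal.pow_mem_pow hr 2
      rw [Ideal.mem_bot] at this
      rw [this]
      exact zero_mem _)
    obtain ⟨q₀, hq₀⟩ : q ∈ Set.range (PrimeSpectrum.comap (Ideal.Quotient.mk I)) := by
      rw [range_comap_of_surjective _ _ Ideal.Quotient.mk_surjective]
      intro y hy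
      rw [SetLike.mem_coe, RingHom.mem_ker, Ideal.Quotient.eq_zero_iff_mem] at hy
      exact hq hy
    exact ⟨q₀, hq₀⟩
  have hxV : ∀ q : PrimeSpectrum R, x.left q ∈ V := by
    intro q
    obtain ⟨q₀, rfl⟩ := hsurj q
    rw [hx]
    show (Spec.map (CommRingCat.ofHom (Ideal.Quotient.mk I)) ≫ z) q₀ ∈ V
    rw [hz]
    exact (a₀ q₀).2
  obtain ⟨x', hx', hfix⟩ := exists_fixed_lift b hG a I hI x₀
    ((hF _ x₀).1 ⟨a₀ ≫ U.ι, (Category.assoc _ _ _).trans hx₀.symm⟩) x
    (Over.OverMorphism.ext (by rw [Over.comp_left, pSMap_left, hx, hx₀]; exact hz)) hV hxV hW hVW'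
  obtain ⟨y, hy⟩ := (hF _ x').2 hfix
  have hy0 : Spec.map (CommRingCat.ofHom (Ideal.Quotient.mk I)) ≫ y = a₀ ≫ U.ι := by
    rw [← cancel_mono f, Category.assoc]
    refine (congrArg (fun q => Spec.map (CommRingCat.ofHom (Ideal.Quotient.mk I)) ≫ q) hy).trans ?_
    exact (congrArg (fun q => q.left) hx').trans (hx₀.trans (Category.assoc _ _ _).symm)
  have hr : Set.range y ⊆ Set.range U.ι := by
    rw [Scheme.Opens.range_ι]
    rintro _ ⟨q, rfl⟩
    obtain ⟨q₀, rfl⟩ := hsurj q
    show (Spec.map (CommRingCat.ofHom (Ideal.Quotient.mk I)) ≫ y) q₀ ∈ U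
    rw [hy0]
    exact (a₀ q₀).2
  refine ⟨IsOpenImmersion.lift U.ι y hr, ?_, ?_⟩
  · rw [← cancel_mono U.ι, Category.assoc, IsOpenImmersion.lift_fac, hy0]
  · rw [← Category.assoc, IsOpenImmersion.lift_fac, ← Category.assoc]
    refine (congrArg (fun q => q ≫ X.hom) hy).trans ((Over.w x').trans ?_)
    show Spec.map (CommRingCat.ofHom (algebraMap R R)) ≫ b = b
    rw [Algebra.algebraMap_self, CommRingCat.ofHom_id, Spec.map_id, Category.id_comp]

end Groth.Agent.MultHopf

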