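import Groth.Agent.MultHopf.DiagLift
import Mathlib.RingTheory.Flat.Equalizer
import Mathlib.RingTheory.Coalgebra.Convolution
import Mathlib.RingTheory.Adjoin.Basic
import Mathlib.LinearAlgebra.TensorProduct.Quotient
import Mathlib.LinearAlgebra.DirectSum.Finsupp

/-!
# Flat Hopf algebras diagonalisable modulo a nilpotent ideal are diagonalisable
-/

set_option autoImplicit false

universe u

open scoped TensorProduct
open WithConv Coalgebra SGA3b

namespace Groth.Agent.MultHopf

section Nakayama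

variable {T : Type u} [CommRing T] {P : Type u} [AddCommGroup P] [Module T P] {K : Ideal T}

theorem eq_top_of_sup_smul (hK : IsNilpotent K) (N : Submodule T P) (h : N ⊔ K • (⊤ : Submodule T P) = ⊤) : N = ⊤ := by
  obtain ⟨n, hn⟩ := hK
  have key : ∀ k : ℕ, N ⊔ K ^ k • (⊤ : Submodule T P) = ⊤ := fun k => by
    induction k with
    | zero => simp
    | succ k ih =>
      refine top_le_iff.1 ?_
      calc (⊤ : Submodule T P) = N ⊔ K ^ k • (⊤ : Submodule T P) := ih.symm
        _ ≤ N ⊔ K ^ k • (N ⊔ K • (⊤ : Submodule T P)) := by rw [h]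
        _ ≤ N ⊔ K ^ (k + 1) • (⊤ : Submodule T P) := by
          refine sup_le le_sup_left ?_
          rw [Submodule.smul_sup, pow_succ, Submodule.mul_smul]
          exact sup_le (Submodule.smul_le_right.trans le_sup_left) le_sup_right
  have := key n
  rwa [hn, Submodule.zero_eq_bot, Submodule.bot_smul, sup_bot_eq] at this

theorem eq_zero_of_top_le_smul (hK : IsNilpotent K) (h : (⊤ : Submodule T P) ≤ K • ⊤) (x : P) : x = 0 := by
  have := eq_top_of_sup_smul hK (⊥ : Submodule T P) (by rw [bot_sup_eq]; exact top_le_iff.1 h)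
  exact (Submodule.mem_bot T).1 (this.symm ▸ Submodule.mem_top)

theorem mem_smul_top_iff_tmul (x : P) :
    x ∈ K • (⊤ : Submodule T P) ↔ (1 : T ⧸ K) ⊗ₜ[T] x = 0 := by
  rw [← (TensorProduct.quotTensorEquivQuotSMul P K).map_eq_zero_iff, ← map_one (Ideal.Quotient.mk K),
    TensorProduct.quotTensorEquivQuotSMul_mk_tmul, one_smul, Submodule.Quotient.mk_eq_zero]

theorem exists_eq_one_tmul (z : (T ⧸ K) ⊗[T] P) : ∃ x : P, z = (1 : T ⧸ K) ⊗ₜ[T] x := by
  induction z using TensorProduct.induction_on with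
  | zero => exact ⟨0, (TensorProduct.tmul_zero _ _).symm⟩
  | add u v hu hv =>
    obtain ⟨a, rfl⟩ := hu; obtain ⟨b, rfl⟩ := hv
    exact ⟨a + b, (TensorProduct.tmul_add _ _ _).symm⟩
  | tmul r x =>
    obtain ⟨r, rfl⟩ := Ideal.Quotient.mk_surjective r
    exact ⟨r • x, by rw [← TensorProduct.smul_tmul, Algebra.smul_def, Ideal.Quotient.algebraMap_eq, mul_one]⟩

/-- A map to a flat module bijective modulo a nilpotent ideal is bijective. -/
theorem bijective_of_lTensor {F : Type u} [AddCommGroup F] [Module T F] [Module.Flat T P] (hK : IsNilpotent K)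
    (f : F →ₗ[T] P) (hf : Function.Bijective (f.lTensor (T ⧸ K))) : Function.Bijective f := by
  have hs : Function.Surjective f := by
    rw [← LinearMap.range_eq_top]
    refine eq_top_of_sup_smul hK _ (top_le_iff.1 fun p _ => ?_)
    obtain ⟨z, hz⟩ := hf.2 ((1 : T ⧸ K) ⊗ₜ[T] p)
    obtain ⟨x, rfl⟩ := exists_eq_one_tmul z
    rw [LinearMap.lTensor_tmul] at hz
    refine Submodule.mem_sup.2 ⟨f x, LinearMap.mem_range_self f x, p - f x, ?_, add_sub_cancel _ _⟩
    rw [mem_smul_top_iff_tmul, TensorProduct.tmul_sub, hz, sub_self]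
  refine ⟨(injective_iff_map_eq_zero f).2 fun x hx => ?_, hs⟩
  have hinj := LinearMap.lTensor_injective_of_exact_of_flat f hs (LinearMap.ker f).subtype
    (LinearMap.ker f).subtype_injective (LinearMap.exact_subtype_ker_map f) (T ⧸ K)
  have h0 : (⊤ : Submodule T (LinearMap.ker f)) ≤ K • ⊤ := fun y _ => by
    rw [mem_smul_top_iff_tmul]
    apply hinj
    apply hf.1
    rw [map_zero, map_zero, LinearMap.lTensor_tmul, LinearMap.lTensor_tmul, Submodule.subtype_apply,
      LinearMap.mem_ker.1 y.2, TensorProduct.tmul_zero]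
  exact congrArg Subtype.val (eq_zero_of_top_le_smul hK h0 ⟨x, LinearMap.mem_ker.2 hx⟩)

end Nakayama

variable {T : Type u} [CommRing T] {A : Type u} [CommRing A] [HopfAlgebra T A] {K : Ideal T}

/-- A functional with values in an ideal. -/
def Val (K : Ideal T) (f : WithConv (A →ₗ[T] T)) : Prop := ∀ a, f.ofConv a ∈ K

theorem Val.mul_left {f : WithConv (A →ₗ[T] T)} (hf : Val K f) (g : WithConv (A →ₗ[T] T)) : Val K (g * f) := fun a => by
  rw [LinearMap.convMul_apply]
  induction comul (R := T) a using TensorProduct.induction_on with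
  | zero => simp
  | add u v hu hv => simp only [map_add]; exact add_mem hu hv
  | tmul x y => simpa using K.mul_mem_left _ (hf y)

theorem Val.mul {L : Ideal T} {f g : WithConv (A →ₗ[T] T)} (hf : Val K f) (hg : Val L g) : Val (K * L) (f * g) := fun a => by
  rw [LinearMap.convMul_apply]
  induction comul (R := T) a using TensorProduct.induction_on with
  | zero => simp
  | add u v hu hv => simp only [map_add]; exact add_mem hu hv
  | tmul x y => simpa using Ideal.mul_mem_mul (hf x) (hg y)

theorem isNilpotent_of_val (hK : IsNilpotent K) {d : WithConv (A →ₗ[T] T)} (hd : Val K d) : IsNilpotent d := by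
  obtain ⟨n, hn⟩ := hK
  have h : ∀ k : ℕ, Val (K ^ (k + 1)) (d ^ (k + 1)) := fun k => by
    induction k with
    | zero => simpa using hd
    | succ k ih => rw [pow_succ (a := K), pow_succ (a := d)]; exact ih.mul hd
  refine ⟨n + 1, WithConv.ofConv_injective (LinearMap.ext fun a => ?_)⟩
  have := h n a
  rw [pow_succ (a := K), hn, zero_mul, Submodule.zero_eq_bot, Ideal.mem_bot] at this
  exact this

/-- Idempotent functionals lift. -/
theorem exists_idem_functional (hK : IsNilpotent K) (f : WithConv (A →ₗ[T] T)) (hf : Val K (f * f - f)) :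
    ∃ e : WithConv (A →ₗ[T] T), e * e = e ∧ Val K (e - f) := by
  let W := WithConv (A →ₗ[T] T)
  let U : Subalgebra T W := Algebra.adjoin T {f}
  let : CommRing U := Algebra.adjoinCommRingOfComm T (by rintro a rfl b rfl; rfl)
  let x : U := ⟨f, Algebra.subset_adjoin rfl⟩
  have hnil : IsNilpotent (x * x - x) := by
    obtain ⟨n, hn⟩ := isNilpotent_of_val hK hf
    exact ⟨n, Subtype.ext hn⟩
  obtain ⟨e, he, hec⟩ := exists_idem_lift (K := Ideal.span {x * x - x}) (fun y hy => by
    obtain ⟨c, rfl⟩ := Ideal.mem_span_singleton'.1 hy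
    exact (Commute.all c _).isNilpotent_mul_left hnil) x (Ideal.subset_span rfl)
  obtain ⟨c, hc⟩ := Ideal.mem_span_singleton'.1 hec
  refine ⟨(e : W), congrArg Subtype.val he, ?_⟩
  rw [show (e : W) - f = (c : W) * (f * f - f) from (congrArg Subtype.val hc).symm]
  exact hf.mul_left _

/-- The operator of a functional. -/
noncomputable def opF (f : WithConv (A →ₗ[T] T)) : A →ₗ[T] A :=
  (TensorProduct.rid T A).toLinearMap ∘ₗ f.ofConv.lTensor A ∘ₗ comul

theorem opF_apply (f : WithConv (A →ₗ[T] T)) (a : A) : opF f a = TensorProduct.rid T A (f.ofConv.lTensor A (comul a)) := rfl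

theorem comul_opF (f : WithConv (A →ₗ[T] T)) (a : A) : comul (R := T) (opF f a) = (opF f).lTensor A (comul a) := by
  have h1 : ∀ z : A ⊗[T] A, comul (R := T) (TensorProduct.rid T A (f.ofConv.lTensor A z)) =
      ((TensorProduct.rid T A).toLinearMap ∘ₗ f.ofConv.lTensor A).lTensor A
        (TensorProduct.assoc T A A A ((comul (R := T)).rTensor A z)) := fun z => by
    induction z using TensorProduct.induction_on with
    | zero => simp
    | add u v hu hv => simp only [map_add, hu, hv]
    | tmul x y =>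
      simp only [LinearMap.lTensor_tmul, LinearMap.rTensor_tmul, TensorProduct.rid_tmul, map_smul]
      induction comul (R := T) x using TensorProduct.induction_on with
      | zero => simp
      | add u v hu hv => simp only [TensorProduct.add_tmul, map_add, smul_add, hu, hv]
      | tmul p q => simp [TensorProduct.smul_tmul', TensorProduct.tmul_smul]
  rw [opF_apply, h1, Coalgebra.coassoc_apply, ← LinearMap.lTensor_comp_apply]
  rfl

theorem comp_opF (f g : WithConv (A →ₗ[T] T)) (a : A) : g.ofConv (opF f a) = (g * f).ofConv a := by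
  rw [LinearMap.convMul_apply, opF_apply]
  induction comul (R := T) a using TensorProduct.induction_on with
  | zero => simp
  | add u v hu hv => simp only [map_add, hu, hv]
  | tmul x y => simp [mul_comm]

theorem opF_mul (f g : WithConv (A →ₗ[T] T)) (a : A) : opF g (opF f a) = opF (g * f) a := by
  rw [opF_apply g, comul_opF, ← LinearMap.lTensor_comp_apply, opF_apply (g * f)]
  rw [show g.ofConv ∘ₗ opF f = (g * f).ofConv from LinearMap.ext (comp_opF f g)]

theorem opF_grouplike (f : WithConv (A →ₗ[T] T)) {g : A} (hg : comul (R := T) g = g ⊗ₜ[T] g) :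
    opF f g = f.ofConv g • g := by
  rw [opF_apply, hg, LinearMap.lTensor_tmul, TensorProduct.rid_tmul]

theorem apply_mem_of_smul_top (f : A →ₗ[T] T) {x : A} (hx : x ∈ K • (⊤ : Submodule T A)) : f x ∈ K := by
  refine Submodule.smul_induction_on hx (fun r hr n _ => ?_) (fun x y hx hy => ?_)
  · rw [map_smul, smul_eq_mul]; exact K.mul_mem_right _ hr
  · rw [map_add]; exact add_mem hx hy

theorem sub_mem_smul_top_of_tmul {x y : A} (h : (1 : T ⧸ K) ⊗ₜ[T] x = (1 : T ⧸ K) ⊗ₜ[T] y) :
    x - y ∈ K • (⊤ : Submodule T A) := by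
  rw [mem_smul_top_iff_tmul, TensorProduct.tmul_sub, h, sub_self]

theorem opF_mem_of_val {f : WithConv (A →ₗ[T] T)} (hf : Val K f) (x : A) : opF f x ∈ K • (⊤ : Submodule T A) := by
  rw [opF_apply]
  induction comul (R := T) x using TensorProduct.induction_on with
  | zero => simp
  | add u v hu hv => simp only [map_add]; exact add_mem hu hv
  | tmul u v => simpa using Submodule.smul_mem_smul (hf v) (Submodule.mem_top (x := u))

theorem isUnit_of_mk_eq_one (hK : IsNilpotent K) {t : T} (h : Ideal.Quotient.mk K t = 1) : IsUnit t := by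
  have hnil : IsNilpotent (t - 1) := isNilpotent_of_mem hK (Ideal.Quotient.eq.1 (h.trans (map_one _).symm))
  simpa using hnil.isUnit_add_one

set_option maxHeartbeats 1000000 in
/-- The unique group-like lift of a group-like element. -/
theorem exists_grouplike_lift (hK : IsNilpotent K) (c : WithConv (A →ₗ[T] T)) (a : A) (hc : Val K (c * c - c))
    (hP : ∀ x, (1 : T ⧸ K) ⊗ₜ[T] opF c x = (1 : T ⧸ K) ⊗ₜ[T] (c.ofConv x • a))
    (hca : Ideal.Quotient.mk K (c.ofConv a) = 1) (hεa : Ideal.Quotient.mk K (counit (R := T) a) = 1) :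
    ∃ g : A, comul (R := T) g = g ⊗ₜ[T] g ∧ counit (R := T) g = 1 ∧ (1 : T ⧸ K) ⊗ₜ[T] g = (1 : T ⧸ K) ⊗ₜ[T] a ∧
      ∀ g' : A, comul (R := T) g' = g' ⊗ₜ[T] g' → counit (R := T) g' = 1 →
        (1 : T ⧸ K) ⊗ₜ[T] g' = (1 : T ⧸ K) ⊗ₜ[T] a → g' = g := by
  obtain ⟨E, hE, hEc⟩ := exists_idem_functional hK c hc
  let P := opF E
  have hP2 : ∀ x, P (P x) = P x := fun x => by rw [opF_mul, hE]
  have hPmod : ∀ x, (1 : T ⧸ K) ⊗ₜ[T] P x = (1 : T ⧸ K) ⊗ₜ[T] (c.ofConv x • a) := fun x => by
    rw [← hP, ← sub_eq_zero, ← TensorProduct.tmul_sub, ← mem_smul_top_iff_tmul]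
    have h := opF_mem_of_val hEc x
    convert h using 1
    simp [P, opF, map_sub]
  set g₀ := P a with hg₀def
  have hgen : ∀ x, ∃ t : T, P x = t • g₀ := by
    have htop : Submodule.comap (LinearMap.range P).subtype (Submodule.span T {g₀}) = ⊤ := by
      refine eq_top_of_sup_smul hK _ (top_le_iff.1 ?_)
      rintro ⟨_, x, rfl⟩ -
      have hg₀ : g₀ ∈ LinearMap.range P := LinearMap.mem_range_self P _
      refine Submodule.mem_sup.2 ⟨c.ofConv x • ⟨g₀, hg₀⟩, ?_, ⟨P x, x, rfl⟩ - c.ofConv x • ⟨g₀, hg₀⟩, ?_, add_sub_cancel _ _⟩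
      · rw [Submodule.mem_comap, map_smul, Submodule.subtype_apply]
        exact Submodule.smul_mem _ _ (Submodule.subset_span rfl)
      · have hd2 := Submodule.mem_map_of_mem (f := P.rangeRestrict) (sub_mem_smul_top_of_tmul (hPmod x))
        rw [Submodule.map_smul''] at hd2
        refine Submodule.smul_mono le_rfl (le_top : Submodule.map P.rangeRestrict ⊤ ≤ ⊤) ?_
        convert hd2 using 1
        refine Subtype.ext ?_
        show P x - c.ofConv x • g₀ = P (P x - c.ofConv x • a)
        rw [map_sub, map_smul, hP2]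
    intro x
    have : (⟨P x, x, rfl⟩ : LinearMap.range P) ∈ Submodule.comap (LinearMap.range P).subtype (Submodule.span T {g₀}) :=
      htop.symm ▸ Submodule.mem_top
    obtain ⟨t, ht⟩ := Submodule.mem_span_singleton.1 this
    exact ⟨t, ht.symm⟩
  have hg₀m : (1 : T ⧸ K) ⊗ₜ[T] g₀ = (1 : T ⧸ K) ⊗ₜ[T] a := by
    rw [hPmod, TensorProduct.tmul_smul, ← IsScalarTower.algebraMap_smul (T ⧸ K) (c.ofConv a) ((1 : T ⧸ K) ⊗ₜ[T] a),
      Ideal.Quotient.algebraMap_eq, hca, one_smul]
  have hεg : Ideal.Quotient.mk K (counit (R := T) g₀) = 1 := by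
    rw [← hεa]
    refine Ideal.Quotient.eq.2 ?_
    rw [← map_sub]
    exact apply_mem_of_smul_top _ (sub_mem_smul_top_of_tmul hg₀m)
  obtain ⟨u, hu⟩ := (isUnit_of_mk_eq_one hK hεg).exists_left_inv
  have hform : ∀ z : A ⊗[T] A, ∃ y : A, P.lTensor A z = y ⊗ₜ[T] g₀ := fun z => by
    induction z using TensorProduct.induction_on with
    | zero => exact ⟨0, by simp⟩
    | add v w hv hw =>
      obtain ⟨y, hy⟩ := hv; obtain ⟨y', hy'⟩ := hw
      exact ⟨y + y', by rw [map_add, hy, hy', TensorProduct.add_tmul]⟩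
    | tmul v w =>
      obtain ⟨t, ht⟩ := hgen w
      exact ⟨t • v, by rw [LinearMap.lTensor_tmul, ht, TensorProduct.smul_tmul]⟩
  obtain ⟨y, hy⟩ := hform (comul a)
  rw [← comul_opF, show opF E a = g₀ from rfl] at hy
  have hy1 : y = u • g₀ := by
    have h1 := congrArg (fun z => TensorProduct.rid T A ((counit (R := T)).lTensor A z)) hy
    simp only [LinearMap.lTensor_tmul, TensorProduct.rid_tmul] at h1
    rw [Coalgebra.lTensor_counit_comul, TensorProduct.rid_tmul, one_smul] at h1
    calc y = (u * counit (R := T) g₀) • y := by rw [hu, one_smul]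
      _ = u • g₀ := by rw [mul_smul, ← h1]
  have hu1 : Ideal.Quotient.mk K u = 1 := by
    have h1 := congrArg (Ideal.Quotient.mk K) hu
    rwa [map_mul, map_one, hεg, mul_one] at h1
  refine ⟨u • g₀, ?_, by rw [map_smul, smul_eq_mul, hu], ?_, fun g' hg' hε' hm' => ?_⟩
  · rw [map_smul, hy, hy1]
    rw [← TensorProduct.smul_tmul', TensorProduct.tmul_smul, smul_smul]
    simp [TensorProduct.smul_tmul', TensorProduct.tmul_smul, smul_smul]
  · rw [TensorProduct.tmul_smul, hg₀m, ← IsScalarTower.algebraMap_smul (T ⧸ K) u ((1 : T ⧸ K) ⊗ₜ[T] a),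
      Ideal.Quotient.algebraMap_eq, hu1, one_smul]
  · have h1 : P g' = E.ofConv g' • g' := opF_grouplike _ hg'
    have h3 : Ideal.Quotient.mk K (E.ofConv g') = 1 := by
      have h4 : Ideal.Quotient.mk K (E.ofConv g') = Ideal.Quotient.mk K (c.ofConv g') := Ideal.Quotient.eq.2 (hEc g')
      rw [h4, ← hca]
      refine Ideal.Quotient.eq.2 ?_
      rw [← map_sub]
      exact apply_mem_of_smul_top _ (sub_mem_smul_top_of_tmul hm')
    obtain ⟨v, hv⟩ := (isUnit_of_mk_eq_one hK h3).exists_left_inv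
    obtain ⟨t, ht⟩ := hgen g'
    have h6 : g' = (v * t) • g₀ := by rw [mul_smul, ← ht, h1, smul_smul, hv, one_smul]
    have h7 : (v * t) * counit (R := T) g₀ = 1 := by rw [← smul_eq_mul, ← map_smul, ← h6, hε']
    have h8 : v * t = u := by
      calc v * t = (v * t) * (u * counit (R := T) g₀) := by rw [hu, mul_one]
        _ = u := by rw [mul_left_comm, h7, mul_one]
    rw [h6, h8]

variable [Module.Flat T A]

set_option synthInstance.maxHeartbeats 80000 in
set_option maxHeartbeats 1000000 in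
/-- A flat Hopf algebra diagonalisable modulo a nilpotent ideal is diagonalisable. -/
theorem isDiag_of_flat (hK : IsNilpotent K) (h0 : IsDiag (T ⧸ K) ((T ⧸ K) ⊗[T] A)) : IsDiag T A := by
  classical
  obtain ⟨M, _, ⟨e⟩⟩ := h0
  choose a ha using fun m : M => exists_eq_one_tmul (e.symm (MonoidAlgebra.single m 1))
  have hea : ∀ m, e ((1 : T ⧸ K) ⊗ₜ[T] a m) = MonoidAlgebra.single m 1 := fun m => by
    rw [← ha, BialgEquiv.apply_symm_apply]
  let φ : (M →₀ T) →ₗ[T] A := Finsupp.linearCombination T a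
  have hφ : Function.Bijective φ := by
    refine bijective_of_lTensor hK φ ?_
    let e' : (T ⧸ K) ⊗[T] A ≃ₗ[T] MonoidAlgebra (T ⧸ K) M := (e : (T ⧸ K) ⊗[T] A ≃ₗ[T ⧸ K] MonoidAlgebra (T ⧸ K) M).restrictScalars T
    let sc : (T ⧸ K) ⊗[T] (M →₀ T) ≃ₗ[T] MonoidAlgebra (T ⧸ K) M :=
      (TensorProduct.finsuppScalarRight T T (T ⧸ K) M).trans ((MonoidAlgebra.coeffLinearEquiv (T ⧸ K)).symm.restrictScalars T)
    have h : e'.toLinearMap ∘ₗ φ.lTensor (T ⧸ K) = sc.toLinearMap := by
      refine TensorProduct.ext' fun r y => ?_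
      induction y using Finsupp.induction_linear with
      | zero => simp
      | add u v hu hv => rw [TensorProduct.tmul_add, map_add, map_add, hu, hv]
      | single m c =>
        obtain ⟨r, rfl⟩ := Ideal.Quotient.mk_surjective r
        have hr : Ideal.Quotient.mk K r ⊗ₜ[T] Finsupp.single m c = (r * c) • ((1 : T ⧸ K) ⊗ₜ[T] Finsupp.single m (1 : T)) := by
          rw [show Finsupp.single m c = c • Finsupp.single m (1 : T) by simp, ← TensorProduct.tmul_smul,
            ← TensorProduct.smul_tmul, ← TensorProduct.smul_tmul, Algebra.smul_def, Algebra.smul_def, mul_one,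
            Ideal.Quotient.algebraMap_eq, ← map_mul, mul_comm]
        rw [hr, map_smul, map_smul]
        congr 1
        show e ((1 : T ⧸ K) ⊗ₜ[T] φ (Finsupp.single m 1)) = _
        rw [show φ (Finsupp.single m 1) = a m by simp [φ], hea]
        simp [sc, TensorProduct.finsuppScalarRight_apply_tmul]
    have : φ.lTensor (T ⧸ K) = (sc.trans e'.symm).toLinearMap := by
      refine LinearMap.ext fun z => e'.injective ?_
      simp only [LinearEquiv.coe_coe, LinearEquiv.trans_apply, LinearEquiv.apply_symm_apply]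
      exact LinearMap.congr_fun h z
    rw [this]
    exact (sc.trans e'.symm).bijective
  let b : Module.Basis M T A := (Module.Basis.ofRepr (LinearEquiv.ofBijective φ hφ).symm)
  have hb : ∀ m, b m = a m := fun m => by simp [b, φ]
  let c : M → WithConv (A →ₗ[T] T) := fun m => toConv (b.coord m)
  have hca : ∀ m n, (c m).ofConv (a n) = if n = m then 1 else 0 := fun m n => by
    rw [← hb]; simp [c, Finsupp.single_apply]
  -- the coalgebra structure modulo `K`
  let q := Ideal.Quotient.mk K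
  have hF : ∀ (f g : WithConv (A →ₗ[T] T)) (n : M), q ((f * g).ofConv (a n)) = q (f.ofConv (a n)) * q (g.ofConv (a n)) := by
    intro f g n
    let bc : WithConv (A →ₗ[T] T) → ((T ⧸ K) ⊗[T] A →ₗ[T ⧸ K] T ⧸ K) := fun h =>
      (TensorProduct.AlgebraTensorModule.rid T (T ⧸ K) (T ⧸ K)).toLinearMap ∘ₗ h.ofConv.baseChange (T ⧸ K)
    let F := LinearMap.mul' (T ⧸ K) (T ⧸ K) ∘ₗ TensorProduct.map (bc f) (bc g)
    have h1 : F (comul (R := T ⧸ K) ((1 : T ⧸ K) ⊗ₜ[T] a n)) = q ((f * g).ofConv (a n)) := by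
      rw [TensorProduct.comul_tmul, CommSemiring.comul_apply, LinearMap.convMul_apply]
      induction comul (R := T) (a n) using TensorProduct.induction_on with
      | zero => simp
      | add u v hu hv => simp only [TensorProduct.tmul_add, map_add, hu, hv]
      | tmul x y =>
        rw [TensorProduct.AlgebraTensorModule.tensorTensorTensorComm_tmul]
        simp [F, bc, q, Algebra.smul_def]
    rw [← h1, ← ha n, show comul (R := T ⧸ K) (e.symm (MonoidAlgebra.single n 1)) =
        TensorProduct.map (e.symm : MonoidAlgebra (T ⧸ K) M →ₗ[T ⧸ K] _) (e.symm : MonoidAlgebra (T ⧸ K) M →ₗ[T ⧸ K] _)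
          (comul (MonoidAlgebra.single n 1)) from
      (LinearMap.congr_fun (e.symm : MonoidAlgebra (T ⧸ K) M →ₐc[T ⧸ K] (T ⧸ K) ⊗[T] A).toCoalgHom.map_comp_comul _).symm,
      MonoidAlgebra.comul_single, CommSemiring.comul_apply]
    simp [F, bc, q, ha, Algebra.smul_def]
  have hval : ∀ f : WithConv (A →ₗ[T] T), (∀ n, f.ofConv (a n) ∈ K) → Val K f := fun f hf x => by
    rw [← b.linearCombination_repr x, Finsupp.linearCombination_apply, map_finsuppSum]
    refine sum_mem fun n _ => ?_
    show f.ofConv (_ • b n) ∈ K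
    rw [map_smul, hb]
    exact Submodule.smul_mem _ _ (hf n)
  have hc2 : ∀ m n, Val K (c m * c n - if m = n then c m else 0) := fun m n => hval _ fun k => by
    rw [← Ideal.Quotient.eq_zero_iff_mem]
    show q ((c m * c n).ofConv (a k) - (if m = n then c m else 0).ofConv (a k)) = 0
    rw [map_sub, hF, hca, hca]
    split_ifs <;> simp_all
  have hcoord : ∀ x y : A, (∀ m, q ((c m).ofConv x) = q ((c m).ofConv y)) →
      (1 : T ⧸ K) ⊗ₜ[T] x = (1 : T ⧸ K) ⊗ₜ[T] y := fun x y h => by
    rw [← sub_eq_zero, ← TensorProduct.tmul_sub, ← mem_smul_top_iff_tmul, ← b.linearCombination_repr (x - y),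
      Finsupp.linearCombination_apply]
    refine sum_mem fun m _ => Submodule.smul_mem_smul ?_ Submodule.mem_top
    have h1 := Ideal.Quotient.eq.1 (h m)
    rw [← map_sub] at h1
    exact h1
  have hεa : ∀ m, q (counit (R := T) (a m)) = 1 := fun m => by
    have h1 : counit (R := T ⧸ K) (e ((1 : T ⧸ K) ⊗ₜ[T] a m)) = counit (R := T ⧸ K) ((1 : T ⧸ K) ⊗ₜ[T] a m) :=
      CoalgHomClass.counit_comp_apply e _
    rw [hea, MonoidAlgebra.counit_single] at h1
    simpa [TensorProduct.counit_tmul, Algebra.smul_def, q] using h1.symm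
  have hP : ∀ m x, (1 : T ⧸ K) ⊗ₜ[T] opF (c m) x = (1 : T ⧸ K) ⊗ₜ[T] ((c m).ofConv x • a m) := fun m x =>
    hcoord _ _ fun k => by
      rw [comp_opF, map_smul, smul_eq_mul, map_mul]
      have h3 : q ((c k * c m).ofConv x) = q ((if k = m then c k else 0).ofConv x) := Ideal.Quotient.eq.2 (hc2 k m x)
      rw [h3, hca]
      by_cases hkm : k = m
      · subst hkm; simp
      · simp [hkm, Ne.symm hkm]
  have hgl := fun m => exists_grouplike_lift hK (c m) (a m) (by simpa using hc2 m m) (hP m)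
    (by rw [hca, if_pos rfl, map_one]) (hεa m)
  choose G hGΔ hGε hGm hGu using hgl
  have hmulmod : ∀ m n, (1 : T ⧸ K) ⊗ₜ[T] (G m * G n) = (1 : T ⧸ K) ⊗ₜ[T] a (m * n) := fun m n => by
    refine (Function.LeftInverse.injective e.symm_apply_apply) ?_
    rw [hea, show (1 : T ⧸ K) ⊗ₜ[T] (G m * G n) = ((1 : T ⧸ K) ⊗ₜ[T] G m) * ((1 : T ⧸ K) ⊗ₜ[T] G n) by simp,
      map_mul, hGm, hGm, hea, hea, MonoidAlgebra.single_mul_single, mul_one]
  let θ : M →* A :=
    { toFun := G
      map_one' := (hGu 1 1 (by rw [Bialgebra.comul_one, Algebra.TensorProduct.one_def]) Bialgebra.counit_one (by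
        refine (Function.LeftInverse.injective e.symm_apply_apply) ?_
        rw [hea, ← Algebra.TensorProduct.one_def, map_one, MonoidAlgebra.one_def])).symm
      map_mul' := fun m n => (hGu _ _ (by rw [Bialgebra.comul_mul, hGΔ, hGΔ, Algebra.TensorProduct.tmul_mul_tmul])
        (by rw [Bialgebra.counit_mul, hGε, hGε, mul_one]) (hmulmod m n)).symm }
  let Φ : MonoidAlgebra T M →ₐ[T] A := MonoidAlgebra.lift T A M θ
  have hΦ : ∀ m, Φ (MonoidAlgebra.single m 1) = G m := fun m => by simp [Φ, θ]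
  let Ψ : MonoidAlgebra T M →ₐc[T] A := BialgHom.ofAlgHom Φ (by ext m; simp [hΦ, hGε])
    (by ext m; simp [hΦ, hGΔ, CommSemiring.comul_apply])
  refine ⟨M, inferInstance, ⟨(BialgEquiv.ofBijective Ψ ?_).symm⟩⟩
  refine bijective_of_lTensor hK (Ψ : MonoidAlgebra T M →ₗ[T] A) ?_
  let sc : (T ⧸ K) ⊗[T] MonoidAlgebra T M ≃ₗ[T] MonoidAlgebra (T ⧸ K) M :=
    ((MonoidAlgebra.scalarTensorEquiv T (T ⧸ K) (M := M)).toLinearEquiv).restrictScalars T
  let e' : (T ⧸ K) ⊗[T] A ≃ₗ[T] MonoidAlgebra (T ⧸ K) M := (e : (T ⧸ K) ⊗[T] A ≃ₗ[T ⧸ K] MonoidAlgebra (T ⧸ K) M).restrictScalars T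
  have h : (Ψ : MonoidAlgebra T M →ₗ[T] A).lTensor (T ⧸ K) = (sc.trans e'.symm).toLinearMap := by
    refine TensorProduct.ext' fun r y => e'.injective ?_
    simp only [LinearEquiv.coe_coe, LinearEquiv.trans_apply, LinearEquiv.apply_symm_apply]
    induction y using MonoidAlgebra.induction_linear with
    | zero => simp
    | add v w hv hw => rw [TensorProduct.tmul_add, map_add, map_add, hv, hw, map_add]
    | single m s =>
      rw [show MonoidAlgebra.single m s = s • MonoidAlgebra.single m (1 : T) by simp, ← TensorProduct.smul_tmul]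
      obtain ⟨r, rfl⟩ := Ideal.Quotient.mk_surjective r
      have hr : (s • Ideal.Quotient.mk K r) ⊗ₜ[T] MonoidAlgebra.single m (1 : T) =
          (s * r) • ((1 : T ⧸ K) ⊗ₜ[T] MonoidAlgebra.single m (1 : T)) := by
        rw [TensorProduct.smul_tmul', Algebra.smul_def, Algebra.smul_def, mul_one, Ideal.Quotient.algebraMap_eq, ← map_mul]
      rw [hr, map_smul, map_smul, map_smul]
      congr 1
      show e ((1 : T ⧸ K) ⊗ₜ[T] Φ (MonoidAlgebra.single m 1)) = _
      rw [hΦ, hGm, hea]
      simp [sc, MonoidAlgebra.scalarTensorEquiv_tmul]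
  rw [h]
  exact (sc.trans e'.symm).bijective

end Groth.Agent.MultHopf
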