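import Groth.Agent.MultHopf.HopfModel
import Groth.Agent.GenFlat.Limit
import Groth.Agent.FlatLocus.Model
import Mathlib.RingTheory.Flat.Localization
import Mathlib.RingTheory.LocalRing.ResidueField.Basic

/-!
# Flatness near the closed fibre, and its descent to Noetherian local models
-/

set_option autoImplicit false
set_option backward.isDefEq.respectTransparency.types false

universe u

open scoped TensorProduct
open Algebra.TensorProduct (includeLeft includeRight)

namespace Groth.Agent.MultHopf

/-- `C` is flat over `R` on basic opens covering `V(I C)`. -/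
def FlatNear (R C : Type u) [CommRing R] [CommRing C] [Algebra R C] (I : Ideal R) : Prop :=
  ∃ t : Finset C, Ideal.span (t : Set C) ⊔ I.map (algebraMap R C) = ⊤ ∧ ∀ g ∈ t, Module.Flat R (Localization.Away g)

variable {R : Type u} [CommRing R] {C : Type u} [CommRing C] [Algebra R C] {I : Ideal R}

/-- Flatness near `V(I C)` gives flatness at the primes over `I`. -/
theorem FlatNear.flat_at (h : FlatNear R C I) (q : Ideal C) [q.IsPrime] (hq : I.map (algebraMap R C) ≤ q) :
    Module.Flat R (Localization.AtPrime q) := by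
  obtain ⟨t, ht, hfl⟩ := h
  obtain ⟨g, hg, hgq⟩ : ∃ g ∈ t, g ∉ q := by
    by_contra hcon
    push Not at hcon
    exact Ideal.IsPrime.ne_top ‹_› (top_le_iff.1 (ht ▸ sup_le (Ideal.span_le.2 hcon) hq))
  have := hfl g hg
  let L := Localization.Away g
  let Q := Localization.AtPrime q
  let : Algebra L Q := (IsLocalization.Away.lift (S := L) g
    (g := algebraMap C Q) (IsLocalization.map_units Q (⟨g, hgq⟩ : q.primeCompl))).toAlgebra
  have : IsScalarTower C L Q := IsScalarTower.of_algebraMap_eq fun c => (IsLocalization.Away.lift_eq g _ c).symm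
  have : IsLocalization (q.primeCompl.map (algebraMap C L)) Q :=
    IsLocalization.isLocalization_of_submonoid_le L Q (Submonoid.powers g) q.primeCompl
      (Submonoid.powers_le.2 hgq)
  have : Module.Flat L Q := IsLocalization.flat Q (q.primeCompl.map (algebraMap C L))
  have : IsScalarTower R L Q := IsScalarTower.of_algebraMap_eq fun r => by
    rw [IsScalarTower.algebraMap_apply R C L, ← IsScalarTower.algebraMap_apply C L Q, ← IsScalarTower.algebraMap_apply]
  exact Module.Flat.trans R L Q

/-- Flatness near the closed fibre is stable under base change. -/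
theorem FlatNear.baseChange (h : FlatNear R C I) (R' : Type u) [CommRing R'] [Algebra R R'] (I' : Ideal R')
    (hI : I.map (algebraMap R R') ≤ I') : FlatNear R' (R' ⊗[R] C) I' := by
  classical
  obtain ⟨t, ht, hfl⟩ := h
  refine ⟨t.image fun g => (1 : R') ⊗ₜ[R] g, ?_, fun g' hg' => ?_⟩
  · rw [Ideal.eq_top_iff_one, Finset.coe_image]
    have h1 := Ideal.mem_map_of_mem (includeRight : C →ₐ[R] R' ⊗[R] C) ((Ideal.eq_top_iff_one _).1 ht)
    rw [map_one, Ideal.map_sup, Ideal.map_span] at h1
    refine (sup_le_sup le_rfl ?_ : _ ≤ Ideal.span _ ⊔ Ideal.map (algebraMap R' (R' ⊗[R] C)) I') h1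
    rw [Ideal.map_le_iff_le_comap]
    refine Ideal.map_le_iff_le_comap.2 fun r hr => ?_
    rw [Ideal.mem_comap, Ideal.mem_comap]
    rw [show (includeRight : C →ₐ[R] R' ⊗[R] C) (algebraMap R C r) = algebraMap R' (R' ⊗[R] C) (algebraMap R R' r) by
      rw [← IsScalarTower.algebraMap_apply]; exact (includeRight : C →ₐ[R] R' ⊗[R] C).commutes r]
    exact Ideal.mem_map_of_mem _ (hI (Ideal.mem_map_of_mem _ hr))
  · obtain ⟨g, hg, rfl⟩ := Finset.mem_image.1 hg'
    have := hfl g hg
    exact Module.Flat.of_linearEquiv (IsLocalization.Away.tensorProductEquivTMulRight R R' g (Localization.Away g)).symm.toLinearEquiv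

/-- A finitely presented algebra flat along `V(I C)` is flat near it. -/
theorem flatNear_of_flat_at [Algebra.FinitePresentation R C]
    (hfl : ∀ (q : Ideal C) [q.IsPrime], I.map (algebraMap R C) ≤ q → Module.Flat R (Localization.AtPrime q)) :
    FlatNear R C I := by
  classical
  have eqv : ∀ (q : Ideal C) [q.IsPrime], LocalizedModule q.primeCompl C ≃ₗ[R] Localization.AtPrime q := fun q _ =>
    (IsLocalizedModule.linearEquiv q.primeCompl (LocalizedModule.mkLinearMap q.primeCompl C)
      (Algebra.linearMap C (Localization.AtPrime q))).restrictScalars R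
  let U : Set (PrimeSpectrum C) := {q | Module.Flat R (LocalizedModule q.asIdeal.primeCompl C)}
  have hU : IsOpen U := FlatLocus.isOpen_flatLocus (B := R) (S := C) (M := C)
  let T : Set C := {g | (PrimeSpectrum.basicOpen g : Set (PrimeSpectrum C)) ⊆ U}
  have hsup : Ideal.span T ⊔ I.map (algebraMap R C) = ⊤ := by
    by_contra hne
    obtain ⟨m, hm, hle⟩ := Ideal.exists_le_maximal _ hne
    have hmU : (⟨m, hm.isPrime⟩ : PrimeSpectrum C) ∈ U := by
      have := hfl m (le_sup_right.trans hle)
      exact Module.Flat.of_linearEquiv (eqv m)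
    obtain ⟨_, ⟨_, ⟨g, rfl⟩, rfl⟩, hgm, hgU⟩ := PrimeSpectrum.isBasis_basic_opens.exists_subset_of_mem_open hmU hU
    exact hgm (hle (Ideal.mem_sup_left (Ideal.subset_span hgU)))
  obtain ⟨x, hx, y, hy, hxy⟩ := Submodule.mem_sup.1 ((Ideal.eq_top_iff_one _).1 hsup)
  obtain ⟨t, hts, hxt⟩ := Submodule.mem_span_finite_of_mem_span hx
  refine ⟨t, ?_, fun g hg => ?_⟩
  · rw [Ideal.eq_top_iff_one, ← hxy]
    exact Submodule.add_mem_sup hxt hy
  let L := Localization.Away g
  refine Module.flat_of_isLocalized_maximal (R := R) L L (fun P _ => Localization.AtPrime P) (fun P _ => Algebra.linearMap _ _) fun P _ => ?_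
  let q := P.comap (algebraMap C L)
  have hqU : (⟨q, inferInstance⟩ : PrimeSpectrum C) ∈ U := hts hg fun hmem =>
    Ideal.IsPrime.ne_top (inferInstanceAs P.IsPrime)
      (Ideal.eq_top_of_isUnit_mem P (show algebraMap C L g ∈ P from hmem) (IsLocalization.Away.algebraMap_isUnit (S := L) g))
  have : Module.Flat R (LocalizedModule q.primeCompl C) := hqU
  have : Module.Flat R (Localization.AtPrime q) := Module.Flat.of_linearEquiv (eqv q).symm
  have : IsLocalization.AtPrime (Localization.AtPrime P) q :=
    IsLocalization.isLocalization_atPrime_localization_atPrime (M := Submonoid.powers g) P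
  exact Module.Flat.of_linearEquiv
    ((IsLocalization.algEquiv q.primeCompl (Localization.AtPrime P) (Localization.AtPrime q)).toLinearEquiv.restrictScalars R)

end Groth.Agent.MultHopf
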