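import Groth.Agent.MultHopf.FormalClopen
import Mathlib.RingTheory.HopfAlgebra.Convolution
import Mathlib.LinearAlgebra.FreeModule.PID
import Mathlib.GroupTheory.Finiteness

/-!
# Commutative groups over complete rings with finite torsion
-/

set_option autoImplicit false
set_option backward.isDefEq.respectTransparency.types false

universe u

open scoped TensorProduct
open SGA3b Coalgebra WithConv
open Algebra.TensorProduct (includeLeft includeRight)

namespace Groth.Agent.MultHopf

open Groth.Agent.FinHopf (postComp)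

/-- In the character group of a finitely generated group, a power of every element is an `m`-th power. -/
theorem exists_root_char {N : Type u} [CommGroup N] (hN : Group.FG N) (K : Type u) [Field K] [IsAlgClosed K] (z : N →* K)
    {m : ℕ} (hm : 0 < m) : ∃ k : ℕ, 0 < k ∧ ∃ y : N →* K, ∀ t, y t ^ (m * k) = z t ^ k := by
  classical
  have : Module.Finite ℤ (Additive N) := Module.Finite.iff_addGroup_fg.2 (GroupFG.iff_add_fg.1 hN)
  let T := Submodule.torsion ℤ (Additive N)
  have hTfin : Finite T := by
    have : Module.Finite ℤ T := Module.Finite.of_fg (IsNoetherian.noetherian T)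
    exact Module.finite_of_fg_torsion T (Submodule.torsion_isTorsion)
  have : Fintype T := Fintype.ofFinite T
  have : Module.IsTorsionFree ℤ (Additive N ⧸ T) := Submodule.QuotientTorsion.instIsTorsionFree
  let b := Module.Free.chooseBasis ℤ (Additive N ⧸ T)
  refine ⟨Fintype.card T, Fintype.card_pos (α := T), ?_⟩
  let zu : Additive N →+ Additive Kˣ := (z.toHomUnits).toAdditive
  have hzT : ∀ t : T, Fintype.card T • zu t = 0 := fun t => by
    rw [← map_nsmul, show Fintype.card T • (t : Additive N) = ((Fintype.card T • t : T) : Additive N) from rfl,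
      card_nsmul_eq_zero]
    exact map_zero zu
  let w : Additive N ⧸ T →ₗ[ℤ] Additive Kˣ := T.liftQ (Fintype.card T • zu).toIntLinearMap fun t ht => hzT ⟨t, ht⟩
  have hroot : ∀ i, ∃ r : Additive Kˣ, (m * Fintype.card T) • r = w (b i) := fun i => by
    obtain ⟨r, hr⟩ := IsAlgClosed.exists_pow_nat_eq ((w (b i)).toMul : Kˣ).1 (Nat.mul_pos hm (Fintype.card_pos (α := T)))
    have hr0 : r ≠ 0 := fun h => by
      rw [h, zero_pow (Nat.mul_pos hm (Fintype.card_pos (α := T))).ne'] at hr
      exact (w (b i)).toMul.ne_zero hr.symm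
    exact ⟨Additive.ofMul (Units.mk0 r hr0), Additive.toMul.injective (Units.ext hr)⟩
  choose r hr using hroot
  let v : Additive N ⧸ T →ₗ[ℤ] Additive Kˣ := b.constr ℤ r
  have hv : ∀ x, (m * Fintype.card T) • v x = w x := fun x =>
    LinearMap.congr_fun (b.ext fun i => by simp [v, hr] : ((m * Fintype.card T) • v) = w) x
  let y : N →* K :=
    { toFun := fun t => ((v (Submodule.Quotient.mk (Additive.ofMul t))).toMul : Kˣ).1
      map_one' := by simp
      map_mul' := fun a c => by simp }
  refine ⟨y, fun t => ?_⟩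
  have h1 := congrArg (fun x : Additive Kˣ => (x.toMul : Kˣ).1) (hv (Submodule.Quotient.mk (Additive.ofMul t)))
  simpa [w, zu, y] using h1

variable {R : Type u} [CommRing R] {C : Type u} [CommRing C] [HopfAlgebra R C]

/-- A function vanishing modulo the torsion vanishes at the torsion points. -/
theorem apply_eq_zero_of_torsion {K : Type u} [CommRing K] [Algebra R K] {n : ℕ} (t : WithConv (C →ₐ[R] K)) (ht : t ^ n = 1)
    {x : C} (hx : x ∈ torsionIdeal R C n) : t.ofConv x = 0 := by
  have h1 : torsionIdeal R C n ≤ RingHom.ker t.ofConv := by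
    refine Ideal.map_le_iff_le_comap.2 fun c hc => ?_
    show t.ofConv (powConv R C n c) = 0
    have h2 : postComp (C := C) t.ofConv (toConv (AlgHom.id R C) ^ n) = 1 := by
      rw [map_pow]
      exact ht
    have h3 := DFunLike.congr_fun (congrArg WithConv.ofConv h2) c
    rw [FinHopf.postComp_apply, AlgHom.convOne_apply, show counit (R := R) c = 0 from hc, map_zero] at h3
    exact h3
  exact h1 hx

/-- An idempotent in `I C` lies in every torsion ideal of finite index. -/
theorem idem_mem_torsionIdeal [IsNoetherianRing R] (I : Ideal R) [IsAdicComplete I R] {e : C} (he : IsIdempotentElem e)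
    (heI : e ∈ Ideal.map (algebraMap R C) I) (n : ℕ) [Module.Finite R (C ⧸ torsionIdeal R C n)] :
    e ∈ torsionIdeal R C n := by
  let Q := C ⧸ torsionIdeal R C n
  have : IsHausdorff I Q := IsHausdorff.of_le_jacobson _ _ (IsAdicComplete.le_jacobson_bot I)
  rw [← Ideal.Quotient.eq_zero_iff_mem]
  refine IsHausdorff.haus this _ fun k => ?_
  rw [SModEq.zero, Ideal.smul_top_eq_map]
  show Ideal.Quotient.mk _ e ∈ (I ^ k).map (algebraMap R Q)
  cases k with
  | zero => rw [pow_zero, Ideal.one_eq_top, Ideal.map_top]; exact Submodule.mem_top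
  | succ k =>
    rw [Ideal.map_pow, ← (he.map (Ideal.Quotient.mk (torsionIdeal R C n))).pow_succ_eq k]
    refine Ideal.pow_mem_pow ?_ _
    rw [IsScalarTower.algebraMap_eq R C Q, ← Ideal.map_map]
    exact Ideal.mem_map_of_mem _ heI

/-- The value at a product of points of a translate. -/
theorem lift_comul_apply {K : Type u} [CommRing K] [Algebra R K] (x y : WithConv (C →ₐ[R] K)) (c : C) :
    Algebra.TensorProduct.lift (AlgHom.id R K) y.ofConv (fun _ _ => Commute.all _ _)
      (Algebra.TensorProduct.map x.ofConv (AlgHom.id R C) (comul (R := R) c)) = (x * y).ofConv c := by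
  rw [AlgHom.convMul_apply]
  induction comul (R := R) c using TensorProduct.induction_on with
  | zero => simp
  | add a b ha hb => simp only [map_add, ha, hb]
  | tmul a b => simp

section Points

variable [Algebra.FiniteType R C] [Coalgebra.IsCocomm R C] {K : Type u} [Field K] [Algebra R K]

/-- Some positive power of every point lies in the clopen subgroup. -/
theorem exists_pow_mem {e : C} (he : IsIdempotentElem e) (hone : counit (R := R) e = 0) (x : WithConv (C →ₐ[R] K)) :
    ∃ n : ℕ, 0 < n ∧ (x ^ n).ofConv e = 0 := by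
  classical
  let P := WithConv (C →ₐ[R] K)
  have hinv : ∃ x' : P, x' * x = 1 := ⟨toConv (x.ofConv.comp (HopfAlgebra.antipodeAlgHom R C)), by
    have h := congrArg (postComp (C := C) x.ofConv) (AlgHom.antipode_id_cancel (R := R) (A := C))
    rwa [map_mul, map_one] at h⟩
  obtain ⟨x', hx'⟩ := hinv
  have : IsNoetherianRing (K ⊗[R] C) := Algebra.FiniteType.isNoetherianRing K _
  let u : ℕ → K ⊗[R] C := fun i => Algebra.TensorProduct.map (x' ^ i).ofConv (AlgHom.id R C) (comul (R := R) (1 - e))
  let E : P → (K ⊗[R] C →ₐ[R] K) := fun y => Algebra.TensorProduct.lift (AlgHom.id R K) y.ofConv (fun _ _ => Commute.all _ _)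
  have hE : ∀ y i, E y (u i) = 1 - ((x' ^ i) * y).ofConv e := fun y i => by
    show Algebra.TensorProduct.lift (AlgHom.id R K) y.ofConv (fun _ _ => Commute.all _ _) _ = _
    rw [lift_comul_apply, map_sub, map_one]
  have hpow : ∀ i k, x' ^ i * x ^ (i + k) = x ^ k := fun i k => by
    rw [pow_add, ← mul_assoc, ← mul_pow, hx', one_pow, one_mul]
  -- finitely many translates suffice
  obtain ⟨t, hts, hspan⟩ := (Submodule.fg_span_iff_fg_span_finset_subset (Set.range u)).1
    (IsNoetherian.noetherian (Ideal.span (Set.range u)))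
  choose idx hidx using fun (a : t) => hts a.2
  let n₀ := (Finset.univ.image idx).sup id + 1
  have hmem : u n₀ ∈ Ideal.span (t : Set (K ⊗[R] C)) := by
    rw [Ideal.span, ← hspan]
    exact Submodule.subset_span ⟨n₀, rfl⟩
  by_contra hcon
  push Not at hcon
  have h1 : ∀ k, 0 < k → (x ^ k).ofConv e = 1 := fun k hk => by
    rcases IsIdempotentElem.iff_eq_zero_or_one.1 (he.map (x ^ k).ofConv) with h | h
    · exact absurd h (hcon k hk)
    · exact h
  have h2 : Ideal.span (t : Set (K ⊗[R] C)) ≤ RingHom.ker (E (x ^ n₀)) := Ideal.span_le.2 fun a ha => by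
    obtain ⟨k, hk⟩ : ∃ k, n₀ = idx ⟨a, ha⟩ + k ∧ 0 < k := by
      have : idx ⟨a, ha⟩ ≤ (Finset.univ.image idx).sup id :=
        Finset.le_sup (f := id) (Finset.mem_image_of_mem idx (Finset.mem_univ _))
      exact ⟨n₀ - idx ⟨a, ha⟩, by omega, by omega⟩
    rw [SetLike.mem_coe, RingHom.mem_ker, ← show u (idx ⟨a, ha⟩) = a from hidx ⟨a, ha⟩, hE, hk.1, hpow, h1 k hk.2, sub_self]
  have h3 : E (x ^ n₀) (u n₀) = 0 := h2 hmem
  rw [hE, show x' ^ n₀ * x ^ n₀ = 1 by rw [← mul_pow, hx', one_pow], AlgHom.convOne_apply, hone, map_zero, sub_zero] at h3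
  exact one_ne_zero h3

end Points

/-- A commutative flat group over a complete ring, isotrivial modulo `I`, with finite torsion is isotrivial. -/
theorem isIsotrivial_of_torsion_finite [IsNoetherianRing R] (I : Ideal R) [IsAdicComplete I R] [Algebra.FiniteType R C]
    [Coalgebra.IsCocomm R C] [Module.Flat R C]
    (h0 : IsIsotrivial (R ⧸ I) ((R ⧸ I) ⊗[R] C)) (hfin : ∀ n : ℕ, 0 < n → Module.Finite R (C ⧸ torsionIdeal R C n)) :
    IsIsotrivial R C := by
  classical
  obtain ⟨e, hid, heI, S, _, _, hSfin, het, hff, N, _, φ, hφ, he⟩ :=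
    exists_clopen_formal (C := C) I (fun q _ _ => inferInstance) h0
  let φA : S ⊗[R] C →ₐ[S] MonoidAlgebra S N := φ
  have hφe : φ ((1 : S) ⊗ₜ[R] e) = 0 := (he _).2 (by rw [Algebra.TensorProduct.tmul_mul_tmul, one_mul, hid.eq])
  have hone : counit (R := R) e = 0 := by
    apply FaithfulSMul.algebraMap_injective R S
    have h := CoalgHomClass.counit_comp_apply (R := S) φ ((1 : S) ⊗ₜ[R] e)
    rw [hφe, map_zero] at h
    rw [map_zero]
    refine Eq.trans ?_ h.symm
    simp [Algebra.algebraMap_eq_smul_one]
  suffices hzero : ∀ q : PrimeSpectrum (S ⊗[R] C), (1 : S) ⊗ₜ[R] e ∈ q.asIdeal by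
    have h1 : (1 : S) ⊗ₜ[R] e = 0 := (hid.map (includeRight : C →ₐ[R] S ⊗[R] C)).eq_zero_of_isNilpotent
      (nilpotent_iff_mem_prime.2 fun J hJ => hzero ⟨J, hJ⟩)
    refine ⟨S, inferInstance, inferInstance, het, inferInstance, hff, N, inferInstance,
      ⟨BialgEquiv.ofBijective φ ⟨(injective_iff_map_eq_zero φA).2 fun z hz => ?_, hφ⟩⟩⟩
    rw [(he z).1 hz, h1, mul_zero]
  intro q
  let K := AlgebraicClosure q.asIdeal.ResidueField
  let G : S ⊗[R] C →ₐ[S] K := IsScalarTower.toAlgHom S _ K
  have hGq : G ((1 : S) ⊗ₜ[R] e) = 0 → (1 : S) ⊗ₜ[R] e ∈ q.asIdeal := fun h => by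
    rw [← Ideal.algebraMap_residueField_eq_zero]
    refine (map_eq_zero_iff _ (algebraMap q.asIdeal.ResidueField K).injective).1 ?_
    rw [← IsScalarTower.algebraMap_apply]
    exact h
  refine hGq ?_
  have : Nontrivial S := (IsScalarTower.toAlgHom S S K : S →ₐ[S] K).toRingHom.domain_nontrivial
  have hNfg : Group.FG N := by
    have : Algebra.FiniteType S (MonoidAlgebra S N) := Algebra.FiniteType.of_surjective φA hφ
    exact Group.fg_iff_monoid_fg.2 (MonoidAlgebra.fg_of_finiteType (R := S))
  let x : WithConv (C →ₐ[R] K) := toConv ((G.restrictScalars R).comp includeRight)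
  show x.ofConv e = 0
  -- points of the subgroup
  let pt : (N →* K) → WithConv (C →ₐ[R] K) := fun h =>
    toConv (((MonoidAlgebra.lift S K N h).comp φA).restrictScalars R |>.comp includeRight)
  have hpt0 : ∀ h, (pt h).ofConv e = 0 := fun h => by
    show MonoidAlgebra.lift S K N h (φ ((1 : S) ⊗ₜ[R] e)) = 0
    rw [hφe, map_zero]
  have hptmul : ∀ h h', pt (h * h') = pt h * pt h' := fun h h' => by
    apply WithConv.ofConv_injective
    refine AlgHom.ext fun c => ?_
    rw [AlgHom.convMul_apply]
    let L := Algebra.TensorProduct.lift (MonoidAlgebra.lift S K N h) (MonoidAlgebra.lift S K N h') fun _ _ => Commute.all _ _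
    have hL : ∀ w, L (comul (R := S) w) = MonoidAlgebra.lift S K N (h * h') w := fun w => by
      induction w using MonoidAlgebra.induction_linear with
      | zero => simp
      | add a b ha hb => simp only [map_add, ha, hb]
      | single n r =>
        rw [MonoidAlgebra.comul_single, CommSemiring.comul_apply, TensorProduct.map_tmul]
        simp [L, Algebra.smul_def]
        ring
    show MonoidAlgebra.lift S K N (h * h') (φ ((1 : S) ⊗ₜ[R] c)) = _
    rw [← hL, ← CoalgHomClass.map_comp_comul_apply φ ((1 : S) ⊗ₜ[R] c), TensorProduct.comul_tmul, CommSemiring.comul_apply]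
    induction comul (R := R) c using TensorProduct.induction_on with
    | zero => simp
    | add a b ha hb => simp only [TensorProduct.tmul_add, map_add, ha, hb]
    | tmul a b => simp [L, pt, φA]
  have hpt1 : pt 1 = 1 := by
    apply WithConv.ofConv_injective
    refine AlgHom.ext fun c => ?_
    rw [AlgHom.convOne_apply]
    have hL : ∀ w, MonoidAlgebra.lift S K N 1 w = algebraMap S K (counit (R := S) w) := fun w => by
      induction w using MonoidAlgebra.induction_linear with
      | zero => simp
      | add a b ha hb => simp only [map_add, ha, hb]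
      | single n r => simp [Algebra.smul_def]
    show MonoidAlgebra.lift S K N 1 (φ ((1 : S) ⊗ₜ[R] c)) = _
    rw [hL, CoalgHomClass.counit_comp_apply, TensorProduct.counit_tmul]
    simp [Algebra.smul_def, IsScalarTower.algebraMap_apply R S K]
  let ptM : (N →* K) →* WithConv (C →ₐ[R] K) := { toFun := pt, map_one' := hpt1, map_mul' := hptmul }
  have hsurj : ∀ z : WithConv (C →ₐ[R] K), z.ofConv e = 0 → ∃ h, z = pt h := fun z hz => by
    let zS : S ⊗[R] C →ₐ[S] K := Algebra.TensorProduct.lift (Algebra.ofId S K) z.ofConv fun _ _ => Commute.all _ _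
    let L : MonoidAlgebra S N →ₐ[S] K := AlgHom.liftOfSurjective φA hφ zS fun w hw => by
      show zS w = 0
      rw [(he w).1 hw, map_mul, show zS ((1 : S) ⊗ₜ[R] e) = 0 by simp [zS, hz], mul_zero]
    refine ⟨(L : MonoidAlgebra S N →* K).comp (MonoidAlgebra.of S N), ?_⟩
    apply WithConv.ofConv_injective
    refine AlgHom.ext fun c => ?_
    show z.ofConv c = MonoidAlgebra.lift S K N _ (φA ((1 : S) ⊗ₜ[R] c))
    rw [show MonoidAlgebra.lift S K N ((L : MonoidAlgebra S N →* K).comp (MonoidAlgebra.of S N)) = L from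
      (MonoidAlgebra.lift S K N).apply_symm_apply L, AlgHom.liftOfSurjective_apply]
    simp [zS]
  obtain ⟨n, hn, hxn⟩ := exists_pow_mem hid hone x
  obtain ⟨h, hh⟩ := hsurj _ hxn
  obtain ⟨k, hk, y, hy⟩ := exists_root_char hNfg K h hn
  let Y := ptM y
  have hY : Y ^ (n * k) = x ^ (n * k) := by
    rw [pow_mul x, hh, show pt h = ptM h from rfl, ← map_pow, ← map_pow]
    congr 1
    exact MonoidHom.ext fun t => by simpa using hy t
  have hYu : ∀ t, y t ≠ 0 := fun t => ((Group.isUnit t).map y).ne_zero
  let y' : N →* K := { toFun := fun t => (y t)⁻¹, map_one' := by simp, map_mul' := fun a b => by rw [map_mul, mul_inv] }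
  have hYY : Y * ptM y' = 1 := by
    rw [← map_mul, ← map_one ptM]
    congr 1
    exact MonoidHom.ext fun t => mul_inv_cancel₀ (hYu t)
  let t := x * ptM y'
  have ht : t ^ (n * k) = 1 := by
    rw [mul_pow, ← hY, ← mul_pow, hYY, one_pow]
  have hte : t.ofConv e = 0 := by
    have := hfin (n * k) (Nat.mul_pos hn hk)
    exact apply_eq_zero_of_torsion t ht (idem_mem_torsionIdeal I hid heI _)
  have hxY : x = Y * t := by
    rw [show Y * t = x * (Y * ptM y') by rw [← mul_assoc, mul_comm Y, mul_assoc], hYY, mul_one]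
  have h4 := congrArg (Algebra.TensorProduct.lift Y.ofConv t.ofConv fun _ _ => Commute.all _ _) (comul_idem_mul φ hφ hid he)
  rw [map_mul, map_zero, Algebra.TensorProduct.lift_tmul, map_sub, map_sub, map_one, map_one,
    show Y.ofConv e = 0 from hpt0 y, hte, sub_zero, mul_one, mul_one] at h4
  rw [hxY, AlgHom.convMul_apply]
  exact h4

end Groth.Agent.MultHopf
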