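import Groth.Agent.MultHopf.FibreIso
import Groth.Agent.MultHopf.QuasiSplit
import Groth.Agent.MultHopf.Algebraize

/-!
# Groups which are formally diagonalisable
-/

set_option autoImplicit false
set_option backward.isDefEq.respectTransparency.types false

universe u

open scoped TensorProduct
open SGA3b WithConv Coalgebra
open Algebra.TensorProduct (includeLeft includeRight)

namespace Groth.Agent.MultHopf

variable {R : Type u} [CommRing R] {C : Type u} [CommRing C] [HopfAlgebra R C]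
  {T : Type u} [CommRing T] [Algebra R T] {M M' : Type u} [CommGroup M] [CommGroup M']

/-- Two splittings are compared by a group isomorphism at each field point. -/
theorem exists_transition₂ {T₁ T₂ : Type u} [CommRing T₁] [Algebra R T₁] [CommRing T₂] [Algebra R T₂]
    (D : SplitData R C T₁ M) (D' : SplitData R C T₂ M') {Q : Type u} [Field Q] [Algebra R Q] (a : T₁ →ₐ[R] Q)
    (b : T₂ →ₐ[R] Q) : ∃ τ : M ≃* M', ∀ n, D.zAt a n = D'.zAt b (τ n) := by
  choose τ hτ using fun n => D'.existsUnique_index b (D.glt_zAt (a := a) n)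
  choose τ' hτ' using fun n => D.existsUnique_index a (D'.glt_zAt (a := b) n)
  exact ⟨{ toFun := τ
           invFun := τ'
           left_inv := fun n => D.zAt_injective a (by rw [← hτ', ← hτ])
           right_inv := fun n => D'.zAt_injective b (by rw [← hτ, ← hτ'])
           map_mul' := fun x y => D'.zAt_injective b (by rw [map_mul, ← hτ, ← hτ, ← hτ, map_mul]) }, hτ⟩

/-- A splitting from a basis of group-likes. -/
theorem exists_splitData_of_bijective (γ : M →* T ⊗[R] C) (hγ : ∀ n, GLT (γ n))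
    (hb : Function.Bijective (MonoidAlgebra.lift T (T ⊗[R] C) M γ)) : ∃ D : SplitData R C T M, D.ζ = γ := by
  let e := AlgEquiv.ofBijective (MonoidAlgebra.lift T (T ⊗[R] C) M γ) hb
  refine ⟨{ f := (e.symm.toAlgHom.restrictScalars R).comp includeRight, ζ := γ, gl := hγ, f_ζ := fun n => ?_,
            ζ_f := fun x => ?_ }, rfl⟩
  · have h : Algebra.TensorProduct.lift (Algebra.ofId T (MonoidAlgebra T M)) ((e.symm.toAlgHom.restrictScalars R).comp includeRight)
        (fun _ _ => Commute.all _ _) = e.symm.toAlgHom := Algebra.TensorProduct.ext_ring (AlgHom.ext fun x => by simp)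
    rw [h]
    show e.symm (γ n) = _
    rw [AlgEquiv.symm_apply_eq]
    simp [e]
  · exact e.apply_symm_apply _

/-- The coefficients of the comultiplication in a splitting. -/
theorem SplitData.coeff_comul [DecidableEq M] (D : SplitData R C T M) (c : C) (m m' : M) :
    (if m = m' then (D.f c).coeff m else 0) =
      TensorProduct.lift ((LinearMap.mul R T).compl₁₂
        (((Finsupp.lapply m ∘ₗ (MonoidAlgebra.coeffLinearEquiv T).toLinearMap).restrictScalars R) ∘ₗ D.f.toLinearMap)
        (((Finsupp.lapply m' ∘ₗ (MonoidAlgebra.coeffLinearEquiv T).toLinearMap).restrictScalars R) ∘ₗ D.f.toLinearMap))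
        (comul (R := R) c) := by
  obtain ⟨Φ, hΦ⟩ := exists_bialgHom_of_GLT D.ζ D.gl
  have hθ : ∀ z, D.θ (AlgHom.id R T) z = Algebra.TensorProduct.lift (Algebra.ofId T (MonoidAlgebra T M)) D.f (fun _ _ => Commute.all _ _) z := fun z => by
    induction z using TensorProduct.induction_on with
    | zero => simp
    | add p q hp hq => simp only [map_add, hp, hq]
    | tmul t x => simp [θ_tmul, Algebra.smul_def, Algebra.ofId_apply]
  have hζ : D.zAt (AlgHom.id R T) = D.ζ := MonoidHom.ext fun n => by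
    show mapT C (AlgHom.id R T) (D.ζ n) = D.ζ n
    simp [mapT]
  have hΦ' : ∀ w, Φ w = MonoidAlgebra.lift T (T ⊗[R] C) M D.ζ w := fun w => by
    induction w using MonoidAlgebra.induction_linear with
    | zero => simp
    | add p q hp hq => simp only [map_add, hp, hq]
    | single n r =>
      rw [show MonoidAlgebra.single n r = r • MonoidAlgebra.single n (1 : T) by simp, map_smul, map_smul, hΦ]
      simp
  have h1 : Φ (D.f c) = (1 : T) ⊗ₜ[R] c := by rw [hΦ', D.ζ_f]
  have hinv : ∀ z, Φ (D.θ (AlgHom.id R T) z) = z := fun z => by rw [hΦ', ← hζ, D.lift_θ]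
  have hinv' : ∀ w, D.θ (AlgHom.id R T) (Φ w) = w := fun w => by rw [hΦ', ← hζ, D.θ_lift]
  have hcomul : comul (R := T) (D.f c) = TensorProduct.map (D.θ (AlgHom.id R T)).toLinearMap (D.θ (AlgHom.id R T)).toLinearMap
      (comul (R := T) ((1 : T) ⊗ₜ[R] c)) := by
    rw [← h1, show comul (R := T) (Φ (D.f c)) = TensorProduct.map Φ.toCoalgHom.toLinearMap Φ.toCoalgHom.toLinearMap (comul (D.f c)) from
      (LinearMap.congr_fun Φ.toCoalgHom.map_comp_comul _).symm, ← LinearMap.comp_apply, ← TensorProduct.map_comp]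
    rw [show (D.θ (AlgHom.id R T)).toLinearMap ∘ₗ Φ.toCoalgHom.toLinearMap = LinearMap.id from LinearMap.ext hinv',
      TensorProduct.map_id, LinearMap.id_apply]
  have h2 := congrArg (coeff₂ m m') hcomul
  rw [coeff₂_comul] at h2
  rw [h2, TensorProduct.comul_tmul, CommSemiring.comul_apply]
  induction comul (R := R) c using TensorProduct.induction_on with
  | zero => simp
  | add p q hp hq => simp only [TensorProduct.tmul_add, map_add, hp, hq]
  | tmul p q => simp [coeff₂, hθ]

/-- Membership in an extended ideal is detected by coordinates. -/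
theorem mem_map_of_coeff₂ [DecidableEq M] (J : Ideal R) (z : MonoidAlgebra R M ⊗[R] MonoidAlgebra R M)
    (h : ∀ m m', coeff₂ m m' z ∈ J) : z ∈ J.map (algebraMap R (MonoidAlgebra R M ⊗[R] MonoidAlgebra R M)) := by
  let e : MonoidAlgebra R M ⊗[R] MonoidAlgebra R M ≃ₗ[R] (M × M) →₀ R :=
    (TensorProduct.congr (MonoidAlgebra.coeffLinearEquiv R) (MonoidAlgebra.coeffLinearEquiv R)).trans
      (finsuppTensorFinsupp' R M M)
  have he : ∀ y m m', e y (m, m') = coeff₂ m m' y := fun y m m' => by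
    induction y using TensorProduct.induction_on with
    | zero => simp
    | add p q hp hq => simp only [map_add, Finsupp.add_apply, hp, hq]
    | tmul p q => simp [e, coeff₂_tmul]
  rw [← e.symm_apply_apply z, ← Finsupp.sum_single (e z), map_finsuppSum]
  refine Submodule.sum_mem _ fun p _ => ?_
  show e.symm (Finsupp.single p (e z p)) ∈ _
  rw [show Finsupp.single p (e z p) = (e z p) • Finsupp.single p (1 : R) by simp, map_smul,
    show (e z p) • e.symm (Finsupp.single p (1 : R)) = algebraMap R _ (e z p) * e.symm (Finsupp.single p (1 : R)) by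
      rw [← smul_eq_mul, algebraMap_smul]]
  refine Ideal.mul_mem_right _ _ (Ideal.mem_map_of_mem _ ?_)
  rw [he z p.1 p.2]
  exact h _ _

/-- A group, flat modulo the powers of `I` and diagonalisable modulo `I`, over an `I`-adically complete Noetherian ring, contains a
diagonalisable closed subgroup lifting it, open near the unit section. -/
theorem exists_formal_hom' [IsNoetherianRing R] (I : Ideal R) [IsAdicComplete I R] [Algebra.FiniteType R C]
    (hflat : ∀ n : ℕ, Module.Flat (R ⧸ I ^ (n + 1)) ((R ⧸ I ^ (n + 1)) ⊗[R] C))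
    (e₀ : (R ⧸ I) ⊗[R] C ≃ₐc[R ⧸ I] MonoidAlgebra (R ⧸ I) M) :
    ∃ φ : C →ₐc[R] MonoidAlgebra R M, Function.Surjective φ ∧
      Function.Injective ((φ : C →ₐ[R] MonoidAlgebra R M).toLinearMap.lTensor (R ⧸ I ^ (0 + 1))) ∧
      ∃ s : C, counit (R := R) s = 1 ∧ ∀ x, φ x = 0 → s * x = 0 := by
  classical
  obtain ⟨D₀⟩ := exists_splitData e₀
  let Tn : ℕ → Type u := fun n => R ⧸ I ^ (n + 1)
  let π : ∀ n, R ⧸ I ^ (n + 1) →ₐ[R] R ⧸ I := fun n => Ideal.Quotient.factorₐ R (Ideal.pow_le_self (Nat.succ_ne_zero n) : I ^ (n + 1) ≤ I)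
  have hπs : ∀ n, Function.Surjective (π n) := fun n => Ideal.Quotient.factor_surjective (Ideal.pow_le_self (Nat.succ_ne_zero n) : I ^ (n + 1) ≤ I)
  have hπnil : ∀ n x, π n x = 0 → IsNilpotent x := fun n x hx => by
    obtain ⟨x, rfl⟩ := Ideal.Quotient.mk_surjective x
    refine ⟨n + 1, ?_⟩
    rw [← map_pow, Ideal.Quotient.eq_zero_iff_mem]
    exact Ideal.pow_mem_pow (Ideal.Quotient.eq_zero_iff_mem.1 hx) _
  have hsplit : ∀ n, ∃ (N : Type u) (_ : CommGroup N), Nonempty (SplitData R C (R ⧸ I ^ (n + 1)) N) := fun n => by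
    let K : Ideal (R ⧸ I ^ (n + 1)) := I.map (Ideal.Quotient.mk (I ^ (n + 1)))
    have hK : IsNilpotent K := ⟨n + 1, by rw [← Ideal.map_pow, Ideal.map_quotient_self]; rfl⟩
    let g : R ⧸ I →ₐ[R] (R ⧸ I ^ (n + 1)) ⧸ K := Ideal.Quotient.liftₐ I ((Ideal.Quotient.mkₐ R K).comp (Ideal.Quotient.mkₐ R _))
      fun r hr => Ideal.Quotient.eq_zero_iff_mem.2 (Ideal.mem_map_of_mem _ hr)
    obtain ⟨N, _, ⟨e⟩⟩ := isDiag_bc g (A := C) ⟨M, inferInstance, ⟨e₀⟩⟩
    have := hflat n
    obtain ⟨N', _, ⟨e'⟩⟩ := isDiag_of_flat (T := R ⧸ I ^ (n + 1)) (A := (R ⧸ I ^ (n + 1)) ⊗[R] C) hK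
      ⟨N, inferInstance, ⟨(cancelBC R (R ⧸ I ^ (n + 1)) ((R ⧸ I ^ (n + 1)) ⧸ K) C).trans e⟩⟩
    obtain ⟨D⟩ := exists_splitData e'
    exact ⟨N', inferInstance, ⟨D⟩⟩
  choose N _iN hDn using hsplit
  let D' : ∀ n, SplitData R C (R ⧸ I ^ (n + 1)) (N n) := fun n => (hDn n).some
  let idT : ∀ n, R ⧸ I ^ (n + 1) →ₐ[R] R ⧸ I ^ (n + 1) := fun n => AlgHom.id R _
  have hlift : ∀ n m, ∃ z : (R ⧸ I ^ (n + 1)) ⊗[R] C, GLT z ∧ mapT C (π n) z = D₀.ζ m := fun n m =>
    (D' n).exists_glt_lift (idT n) (π n) (hπs n) (hπnil n) (D₀.gl m)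
  choose g hg hgπ using hlift
  have huniq : ∀ n m z, GLT z → mapT C (π n) z = D₀.ζ m → z = g n m := fun n m z hz h =>
    (D' n).eq_of_mapT_eq (idT n) (π n) (hπnil n) hz (hg n m) (h.trans (hgπ n m).symm)
  let γ : ∀ n, M →* (R ⧸ I ^ (n + 1)) ⊗[R] C := fun n =>
    { toFun := g n
      map_one' := (huniq n 1 1 GLT.one (by rw [map_one, map_one])).symm
      map_mul' := fun a b => (huniq n (a * b) _ ((hg n a).mul (hg n b)) (by rw [map_mul, hgπ, hgπ, map_mul])).symm }
  have hbij : ∀ n, Function.Bijective (MonoidAlgebra.lift (R ⧸ I ^ (n + 1)) ((R ⧸ I ^ (n + 1)) ⊗[R] C) M (γ n)) := fun n => by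
    -- compare with a splitting at each field point
    obtain ⟨Dg⟩ := hDn n
    let γ' : M →* (R ⧸ I ^ (n + 1)) ⊗[R] C := γ n
    refine SplitData.bijective_lift Dg (AlgHom.id R _) γ' (hg n) fun Q _ _ q => ?_
    have hI : ∀ r ∈ I, q (algebraMap R (R ⧸ I ^ (n + 1)) r) = 0 := fun r hr =>
      ((hπnil n _ (by rw [AlgHom.commutes]; exact Ideal.Quotient.eq_zero_iff_mem.2 hr)).map q).eq_zero
    let q₀ : R ⧸ I →ₐ[R] Q := Ideal.Quotient.liftₐ I (Algebra.ofId R Q) fun r hr => by
      rw [← hI r hr, AlgHom.commutes]; rfl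
    have hq : q = q₀.comp (π n) := AlgHom.ext fun x => by
      obtain ⟨x, rfl⟩ := Ideal.Quotient.mk_surjective x
      exact q.commutes x
    obtain ⟨τ, hτ⟩ := exists_transition₂ D₀ Dg q₀ q
    refine ⟨τ, fun m => ?_⟩
    rw [show q.comp (AlgHom.id R _) = q from AlgHom.comp_id q, ← hτ m, hq, ← mapT_mapT,
      show mapT C (π n) (γ' m) = D₀.ζ m from hgπ n m]
    rfl
  choose D hD using fun n => exists_splitData_of_bijective (γ n) (hg n) (hbij n)
  -- the approximations
  have hmk : ∀ n, Function.Surjective (MonoidAlgebra.mapAlgHom M (Ideal.Quotient.mkₐ R (I ^ (n + 1)))) := fun n z => by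
    induction z using MonoidAlgebra.induction_linear with
    | zero => exact ⟨0, map_zero _⟩
    | add p q hp hq =>
      obtain ⟨p, rfl⟩ := hp
      obtain ⟨q, rfl⟩ := hq
      exact ⟨p + q, map_add _ _ _⟩
    | single m r =>
      obtain ⟨r, rfl⟩ := Ideal.Quotient.mk_surjective r
      exact ⟨MonoidAlgebra.single m r, by simp⟩
  let P : ∀ n, MonoidAlgebra R M →ₐ[R] MonoidAlgebra (R ⧸ I ^ (n + 1)) M := fun n =>
    MonoidAlgebra.mapAlgHom M (Ideal.Quotient.mkₐ R (I ^ (n + 1)))
  choose x hx using fun n c => hmk n ((D n).f c)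
  have hxP : ∀ n c, P n (x n c) = (D n).f c := hx
  have hPmem : ∀ n u v, P n u = P n v → u - v ∈ (I ^ (n + 1)).map (algebraMap R (MonoidAlgebra R M)) := fun n u v huv => by
    refine mem_map_of_coeff _ _ fun m => ?_
    rw [Algebra.algebraMap_self, Ideal.map_id, MonoidAlgebra.coeff_sub, Finsupp.sub_apply, ← Ideal.Quotient.eq]
    have := congrArg (fun z => z.coeff m) huv
    simpa [P] using this
  have hcoeff : ∀ n c m, Ideal.Quotient.mk (I ^ (n + 1)) ((x n c).coeff m) = ((D n).f c).coeff m := fun n c m => by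
    rw [← hxP n c]
    simp [P]
  have hcons : ∀ n c, x (n + 1) c - x n c ∈ (I ^ (n + 1)).map (algebraMap R (MonoidAlgebra R M)) := fun n c => by
    refine hPmem n _ _ ?_
    rw [hxP]
    let red : R ⧸ I ^ (n + 1 + 1) →ₐ[R] R ⧸ I ^ (n + 1) := Ideal.Quotient.factorₐ R (Ideal.pow_le_pow_right (Nat.le_succ _))
    have h1 : P n (x (n + 1) c) = MonoidAlgebra.mapAlgHom M red (P (n + 1) (x (n + 1) c)) := by
      induction x (n + 1) c using MonoidAlgebra.induction_linear with
      | zero => simp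
      | add p q hp hq => simp only [map_add, hp, hq]
      | single m r => simp [P, red]
    have hz : (D (n + 1)).zAt red = (D n).zAt (idT n) := MonoidHom.ext fun m => by
      show mapT C red ((D (n + 1)).ζ m) = mapT C (idT n) ((D n).ζ m)
      rw [hD, hD, show mapT C (idT n) (γ n m) = γ n m by simp [idT, mapT]]
      refine huniq n m _ ((hg (n + 1) m).map red) ?_
      rw [mapT_mapT, show (π n).comp red = π (n + 1) from AlgHom.ext fun r => by
        obtain ⟨r, rfl⟩ := Ideal.Quotient.mk_surjective r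
        rfl]
      exact hgπ (n + 1) m
    have hθ : ∀ z, (D (n + 1)).θ red z = (D n).θ (idT n) z := fun z => by
      conv_lhs => rw [← (D n).lift_θ (a := idT n) z, ← hz]
      rw [(D (n + 1)).θ_lift]
    have h2 : ∀ (k : ℕ), (D k).f c = (D k).θ (idT k) ((1 : R ⧸ I ^ (k + 1)) ⊗ₜ[R] c) := fun k => by
      simp [SplitData.θ_tmul, idT]
    rw [h1, hxP, h2, h2, ← SplitData.θ_mapT, show red.comp (idT (n + 1)) = red from AlgHom.comp_id red, mapT_tmul, map_one, hθ]
  obtain ⟨φ, hφ⟩ := exists_algebraize (B := MonoidAlgebra R M) (C := C) I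
    ⟨R, inferInstance, inferInstance, inferInstance, inferInstance, inferInstance, M, inferInstance,
      ⟨(baseChangeGroupAlgebra R R M).symm⟩⟩ x hcons
    (fun n a b => hPmem n _ _ (by rw [map_add, hxP, hxP, hxP, map_add]))
    (fun n a b => hPmem n _ _ (by rw [map_mul, hxP, hxP, hxP, map_mul]))
    (fun n r => hPmem n _ _ (by rw [hxP, AlgHom.commutes, AlgHom.commutes]))
    (fun n c => by
      refine mem_map_of_coeff₂ _ _ fun m m' => ?_
      rw [map_sub, ← Ideal.Quotient.eq, coeff₂_comul, map_sum, map_sum]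
      simp only [coeff₂_tmul, map_mul, hcoeff]
      rw [apply_ite (Ideal.Quotient.mk (I ^ (n + 1))), hcoeff, map_zero, (D n).coeff_comul, ← (ℛ R c).eq, map_sum]
      exact Finset.sum_congr rfl fun i _ => by simp)
  have hPφ : ∀ n c, P n (φ c) = (D n).f c := fun n c => by
    rw [← hxP n c]
    refine MonoidAlgebra.coeff_injective (Finsupp.ext fun m => ?_)
    have h1 := map_mem_of_linear (Finsupp.lapply m ∘ₗ (MonoidAlgebra.coeffLinearEquiv R).toLinearMap) _ (hφ n c)
    rw [Algebra.algebraMap_self, Ideal.map_id, map_sub, ← Ideal.Quotient.eq] at h1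
    simpa [P] using h1
  have hIjac : I ≤ Ideal.jacobson ⊥ := IsAdicComplete.le_jacobson_bot I
  have hsurj : Function.Surjective φ := by
    refine surjective_of_mod_jacobson I hIjac φ fun m => ?_
    obtain ⟨c, hc⟩ := exists_eq_one_tmul ((D 0).ζ m)
    refine ⟨c, fun m' => ?_⟩
    have hI1 : I ^ (0 + 1) = I := by simp
    rw [← hI1, ← Ideal.Quotient.eq]
    have h1 := congrArg (fun z => z.coeff m') (hPφ 0 c)
    have h2 : (D 0).f c = MonoidAlgebra.single m 1 := by
      rw [← (D 0).f_ζ m, hc]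
      simp [← MonoidAlgebra.one_def]
    rw [h2] at h1
    have h3 : Ideal.Quotient.mk (I ^ (0 + 1)) ((φ c).coeff m') = (MonoidAlgebra.single m (1 : R ⧸ I ^ (0 + 1))).coeff m' := by
      simpa [P] using h1
    rw [h3]
    simp [MonoidAlgebra.coeff_single, Finsupp.single_apply, apply_ite (Ideal.Quotient.mk (I ^ (0 + 1)))]
  refine ⟨φ, hsurj, ?_⟩
  have hinj : Function.Injective ((φ : C →ₐ[R] MonoidAlgebra R M).toLinearMap.lTensor (R ⧸ I ^ (0 + 1))) := by
    let Λ : (R ⧸ I ^ (0 + 1)) ⊗[R] MonoidAlgebra R M →ₗ[R] MonoidAlgebra (R ⧸ I ^ (0 + 1)) M :=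
      TensorProduct.lift (LinearMap.mk₂ R (fun t u => t • P 0 u) (fun t t' u => add_smul t t' _)
        (fun r t u => smul_assoc r t _) (fun t u u' => by rw [map_add, smul_add]) (fun r t u => by rw [map_smul, smul_comm]))
    have hΛ : ∀ z, Λ ((φ : C →ₐ[R] MonoidAlgebra R M).toLinearMap.lTensor _ z) = (D 0).θ (idT 0) z := fun z => by
      induction z using TensorProduct.induction_on with
      | zero => simp
      | add p q hp hq => simp only [map_add, hp, hq]
      | tmul t c =>
        show t • P 0 (φ c) = _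
        rw [hPφ, SplitData.θ_tmul]
        simp [idT]
    intro z w hzw
    exact (D 0).θ_injective (a := idT 0) (by rw [← hΛ, ← hΛ, hzw])
  refine ⟨hinj, ?_⟩
  have : IsNoetherianRing C := Algebra.FiniteType.isNoetherianRing R C
  exact exists_counit_one (φ : C →ₐ[R] MonoidAlgebra R M) hsurj (I ^ (0 + 1)) (by simpa using hIjac) hinj

/-- The flat case. -/
theorem exists_formal_hom [IsNoetherianRing R] (I : Ideal R) [IsAdicComplete I R] [Algebra.FiniteType R C] [Module.Flat R C]
    (e₀ : (R ⧸ I) ⊗[R] C ≃ₐc[R ⧸ I] MonoidAlgebra (R ⧸ I) M) :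
    ∃ φ : C →ₐc[R] MonoidAlgebra R M, Function.Surjective φ ∧
      Function.Injective ((φ : C →ₐ[R] MonoidAlgebra R M).toLinearMap.lTensor (R ⧸ I ^ (0 + 1))) ∧
      ∃ s : C, counit (R := R) s = 1 ∧ ∀ x, φ x = 0 → s * x = 0 :=
  exists_formal_hom' I (fun _ => inferInstance) e₀

end Groth.Agent.MultHopf
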