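import Groth.Agent.MultHopf.FormalDiag
import Groth.Agent.MultHopf.IsoBasic
import Groth.Agent.Hensel.FiniteEtaleLift
import Groth.Agent.CplFin.Basic
import Mathlib.RingTheory.AdicCompletion.Completeness

/-!
# Isotriviality over complete rings
-/

set_option autoImplicit false
set_option backward.isDefEq.respectTransparency.types false

universe u

open scoped TensorProduct
open SGA3b Coalgebra
open Algebra.TensorProduct (includeLeft includeRight)

namespace Groth.Agent.MultHopf

variable {R : Type u} [CommRing R] {C : Type u} [CommRing C] [HopfAlgebra R C] {M : Type u} [CommGroup M]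

/-- Residue fields of a finite algebra are finite over those of the base. -/
theorem exists_algClosed_over {S : Type u} [CommRing S] [Algebra R S] [Module.Finite R S] (y : Ideal S) [y.IsPrime] :
    ∃ (K : Type u) (_ : Field K) (_ : IsAlgClosed K) (_ : Algebra S K) (_ : Algebra R K) (_ : IsScalarTower R S K)
      (_ : Algebra (y.comap (algebraMap R S)).ResidueField K) (_ : IsScalarTower R (y.comap (algebraMap R S)).ResidueField K),
      Algebra.IsAlgebraic (y.comap (algebraMap R S)).ResidueField K ∧ RingHom.ker (algebraMap S K) = y := by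
  classical
  let y₀ := y.comap (algebraMap R S)
  let k₀ := y₀.ResidueField
  let k := y.ResidueField
  let g : k₀ →ₐ[R] k := Ideal.ResidueField.mapₐ y₀ y (Algebra.ofId R S) rfl
  let : Algebra k₀ k := g.toRingHom.toAlgebra
  have : IsScalarTower R k₀ k := IsScalarTower.of_algebraMap_eq fun r => (g.commutes r).symm
  let f : k₀ ⊗[R] S →ₐ[k₀] k :=
    Algebra.TensorProduct.lift (Algebra.ofId k₀ k) (IsScalarTower.toAlgHom R S k) fun _ _ => Commute.all _ _
  have hfS : ∀ s, algebraMap S k s ∈ f.range := fun s => ⟨1 ⊗ₜ[R] s, by simp [f]⟩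
  have : Module.Finite k₀ f.range := Module.Finite.of_surjective f.rangeRestrict.toLinearMap f.rangeRestrict_surjective
  have hfield : IsField f.range := isField_of_isIntegral_of_isField' (Semifield.toIsField k₀)
  have htop : ∀ x : k, x ∈ f.range := fun x => by
    obtain ⟨⟨a, ha⟩, ⟨b, hb⟩, hab⟩ : ∃ a b : f.range, (a : k) = x * b ∧ (b : k) ≠ 0 := by
      obtain ⟨a, b, hb, hab⟩ := IsFractionRing.div_surjective (S ⧸ y) (K := k) x
      obtain ⟨a, rfl⟩ := Ideal.Quotient.mk_surjective a
      obtain ⟨b, rfl⟩ := Ideal.Quotient.mk_surjective b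
      refine ⟨⟨_, hfS a⟩, ⟨_, hfS b⟩, ?_, ?_⟩
      · show algebraMap S k a = x * algebraMap S k b
        rw [← hab]
        exact (div_mul_cancel₀ _ (fun h => nonZeroDivisors.ne_zero hb ((map_eq_zero_iff _ (IsFractionRing.injective (S ⧸ y) k)).1 h))).symm
      · show algebraMap S k b ≠ 0
        exact fun h => nonZeroDivisors.ne_zero hb ((map_eq_zero_iff _ (IsFractionRing.injective (S ⧸ y) k)).1 h)
    obtain ⟨c, hc⟩ := hfield.mul_inv_cancel (a := (⟨b, hb⟩ : f.range)) (fun h => hab.2 (congrArg Subtype.val h))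
    have hc' : b * (c : k) = 1 := congrArg Subtype.val hc
    have hab1 : a = x * b := hab.1
    have : x = a * (c : k) := by rw [hab1, mul_assoc, hc', mul_one]
    rw [this]
    exact mul_mem ha c.2
  have : Module.Finite k₀ k := Module.Finite.of_surjective f.range.val.toLinearMap fun x => ⟨⟨x, htop x⟩, rfl⟩
  let K := AlgebraicClosure k
  have : IsScalarTower k₀ k K := inferInstance
  have : IsScalarTower R S K := inferInstance
  have : IsScalarTower R k₀ K := IsScalarTower.of_algebraMap_eq fun r => by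
    rw [IsScalarTower.algebraMap_apply k₀ k K, IsScalarTower.algebraMap_apply R k K, ← IsScalarTower.algebraMap_apply R k₀ k]
  refine ⟨K, inferInstance, inferInstance, inferInstance, inferInstance, inferInstance, inferInstance, inferInstance,
    Algebra.IsAlgebraic.trans k₀ k K, ?_⟩
  rw [IsScalarTower.algebraMap_eq S k K]
  rw [RingHom.ker_comp_of_injective _ (algebraMap k K).injective, Ideal.ker_algebraMap_residueField]

/-- A homomorphism from a group with connected fibres, onto a diagonalisable group, open at the unit, is an isomorphism. -/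
theorem bijective_of_connected {S : Type u} [CommRing S] [Algebra R S] [Module.Finite R S] [IsNoetherianRing S]
    [Algebra.FiniteType R C] [Module.Flat R C]
    (φ : S ⊗[R] C →ₐc[S] MonoidAlgebra S M) (hφ : Function.Surjective φ) {s : S ⊗[R] C}
    (hs : counit (R := S) s = 1) (hsφ : ∀ x, φ x = 0 → s * x = 0)
    (hconn : ∀ (p : Ideal R) [p.IsPrime], ConnectedSpace (PrimeSpectrum (p.ResidueField ⊗[R] C))) :
    Function.Bijective φ := by
  classical
  have : IsNoetherianRing (S ⊗[R] C) := Algebra.FiniteType.isNoetherianRing S _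
  let φA : S ⊗[R] C →ₐ[S] MonoidAlgebra S M := φ
  refine bijective_of_fibres φA hφ fun y _ => ?_
  obtain ⟨K, _, _, _, _, _, _, _, hKalg, hker⟩ := exists_algClosed_over (R := R) y
  let k₀ := (y.comap (algebraMap R S)).ResidueField
  have := hconn (y.comap (algebraMap R S))
  have hc₁ : ConnectedSpace (PrimeSpectrum (K ⊗[k₀] (k₀ ⊗[R] C))) := connectedSpace_bc K
  let e₁ : K ⊗[S] (S ⊗[R] C) ≃+* K ⊗[k₀] (k₀ ⊗[R] C) :=
    (Algebra.TensorProduct.cancelBaseChange R S K K C).toRingEquiv.trans
      (Algebra.TensorProduct.cancelBaseChange R k₀ K K C).symm.toRingEquiv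
  have : ConnectedSpace (PrimeSpectrum (K ⊗[S] (S ⊗[R] C))) :=
    (PrimeSpectrum.homeomorphOfRingEquiv e₁).symm.surjective.connectedSpace (PrimeSpectrum.homeomorphOfRingEquiv e₁).symm.continuous
  let ψ : K ⊗[S] (S ⊗[R] C) →ₐc[K] MonoidAlgebra K M :=
    ((baseChangeGroupAlgebra S K M).symm : _ →ₐc[K] _).comp (Bialgebra.TensorProduct.map (BialgHom.id K K) φ)
  have hψ : ∀ z, ψ z = (baseChangeGroupAlgebra S K M).symm (φA.toLinearMap.lTensor K z) := fun z => by
    show (baseChangeGroupAlgebra S K M).symm (Bialgebra.TensorProduct.map (BialgHom.id K K) φ z) = _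
    congr 1
  have hψs : Function.Surjective ψ := fun w => by
    obtain ⟨z, hz⟩ := LinearMap.lTensor_surjective K (g := φA.toLinearMap) hφ (baseChangeGroupAlgebra S K M w)
    exact ⟨z, by rw [hψ, hz, BialgEquiv.symm_apply_apply]⟩
  have hkill : ∀ z, ψ z = 0 → ((1 : K) ⊗ₜ[S] s) * z = 0 := fun z hz => by
    rw [hψ] at hz
    have hz' : φA.toLinearMap.lTensor K z = 0 :=
      Function.LeftInverse.injective (baseChangeGroupAlgebra S K M).apply_symm_apply (hz.trans (map_zero _).symm)
    obtain ⟨w, rfl⟩ : z ∈ LinearMap.range (((RingHom.ker φA).restrictScalars S).subtype.lTensor K) := by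
      rw [← (mem_ker_lTensor φA hφ K).2]; exact hz'
    clear hz hz'
    induction w using TensorProduct.induction_on with
    | zero => simp
    | add a b ha hb => rw [map_add, mul_add, ha, hb, add_zero]
    | tmul a x =>
      rw [LinearMap.lTensor_tmul, Algebra.TensorProduct.tmul_mul_tmul]
      show (1 * a) ⊗ₜ[S] (s * x.1) = 0
      rw [hsφ x.1 x.2, TensorProduct.tmul_zero]
  have hinj : Function.Injective ψ := by
    refine injective_of_algClosed ψ hψs (s := (1 : K) ⊗ₜ[S] s) ?_ hkill
    simp [hs, Algebra.smul_def]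
  let g : y.ResidueField →ₐ[S] K := Ideal.ResidueField.liftₐ y (Algebra.ofId S K) (le_of_eq hker.symm)
    fun x hx => by
      show IsUnit (algebraMap S K x)
      refine isUnit_iff_ne_zero.2 fun h0 => hx ?_
      rw [← hker]
      exact h0
  intro a b hab
  refine Module.Flat.rTensor_preserves_injective_linearMap (R := S) (M := S ⊗[R] C) g.toLinearMap g.toRingHom.injective
    (hinj ?_)
  rw [hψ, hψ]
  congr 1
  rw [← LinearMap.comp_apply, ← LinearMap.comp_apply, LinearMap.lTensor_comp_rTensor, ← LinearMap.rTensor_comp_lTensor,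
    LinearMap.comp_apply, LinearMap.comp_apply, hab]

/-- The finite étale cover over which a group isotrivial modulo `I` is formally diagonalisable. -/
theorem exists_formal_split' [IsNoetherianRing R] (I : Ideal R) [IsAdicComplete I R] [Algebra.FiniteType R C]
    (hflat : ∀ n : ℕ, Module.Flat (R ⧸ I ^ (n + 1)) ((R ⧸ I ^ (n + 1)) ⊗[R] C))
    (h0 : IsIsotrivial (R ⧸ I) ((R ⧸ I) ⊗[R] C)) :
    ∃ (S : Type u) (_ : CommRing S) (_ : Algebra R S) (_ : Module.Finite R S) (_ : IsNoetherianRing S),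
      Algebra.Etale R S ∧ Module.FaithfullyFlat R S ∧ I.map (algebraMap R S) ≤ Ideal.jacobson ⊥ ∧
      ∃ (N : Type u) (_ : CommGroup N) (φ : S ⊗[R] C →ₐc[S] MonoidAlgebra S N), Function.Surjective φ ∧
        Function.Injective ((φ : S ⊗[R] C →ₐ[S] MonoidAlgebra S N).toLinearMap.lTensor (S ⧸ (I.map (algebraMap R S)) ^ (0 + 1))) ∧
        ∃ s : S ⊗[R] C, counit (R := S) s = 1 ∧ ∀ x, φ x = 0 → s * x = 0 := by
  classical
  obtain ⟨R₁, _, _, het, hfin, hff, hD⟩ := h0
  have := het
  have := hfin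
  have hH : HenselianRing R I := inferInstance
  obtain ⟨S, _, _, hSfin, hSet, ⟨σ⟩⟩ := Hensel.exists_finite_etale_lift I R₁
  have := hSet
  have : IsNoetherianRing S := IsNoetherianRing.of_finite R S
  let J := I.map (algebraMap R S)
  have : IsAdicComplete J S :=
    (IsAdicComplete.map_algebraMap_iff _ _).2 (CplFin.isAdicComplete_of_finite R I S)
  have hJ : J ≤ Ideal.jacobson ⊥ := IsAdicComplete.le_jacobson_bot J
  let q : R₁ ≃+* S ⧸ J :=
    σ.symm.toRingEquiv.trans (Algebra.TensorProduct.quotIdealMapEquivQuotTensor (A := R) S I).symm.toRingEquiv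
  let : Algebra R R₁ := ((algebraMap (R ⧸ I) R₁).comp (algebraMap R (R ⧸ I))).toAlgebra
  have : IsScalarTower R (R ⧸ I) R₁ := IsScalarTower.of_algebraMap_eq fun _ => rfl
  let qA : R₁ →ₐ[R] S ⧸ J := ((Algebra.TensorProduct.quotIdealMapEquivQuotTensor (A := R) S I).symm.toAlgHom.restrictScalars R).comp
    (σ.symm.toAlgHom.restrictScalars R)
  have : Module.FaithfullyFlat R S := Module.FaithfullyFlat.of_comap_surjective fun p => by
    obtain ⟨m, hm, hpm⟩ := p.asIdeal.exists_le_maximal p.isPrime.ne_top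
    have hIm : I ≤ m := (IsAdicComplete.le_jacobson_bot I).trans (sInf_le ⟨bot_le, hm⟩)
    obtain ⟨m₀, hm₀⟩ : (⟨m, hm.isPrime⟩ : PrimeSpectrum R) ∈ Set.range (PrimeSpectrum.comap (Ideal.Quotient.mk I)) := by
      rw [range_comap_of_surjective _ _ Ideal.Quotient.mk_surjective, Ideal.mk_ker]
      exact hIm
    obtain ⟨w, hw⟩ := PrimeSpectrum.comap_surjective_of_faithfullyFlat (A := R ⧸ I) (B := R₁) m₀
    let g : S →ₐ[R] R₁ := (σ.toAlgHom.restrictScalars R).comp Algebra.TensorProduct.includeRight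
    let P := PrimeSpectrum.comap g.toRingHom w
    have hP : P.asIdeal.comap (algebraMap R S) = m := by
      rw [show m = (PrimeSpectrum.comap (algebraMap R R₁) w).asIdeal from by
        rw [IsScalarTower.algebraMap_eq R (R ⧸ I) R₁, PrimeSpectrum.comap_comp_apply, hw]
        exact congrArg PrimeSpectrum.asIdeal hm₀.symm]
      exact congrArg (fun k => (PrimeSpectrum.comap k w).asIdeal) g.comp_algebraMap
    have : P.asIdeal.LiesOver m := ⟨hP.symm⟩
    obtain ⟨Q, hQle, hQprime, hQ⟩ := Ideal.exists_ideal_le_liesOver_of_le (p := p.asIdeal) (q := m) P.asIdeal hpm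
    exact ⟨⟨Q, hQprime⟩, PrimeSpectrum.ext hQ.over.symm⟩
  obtain ⟨N, _, ⟨e⟩⟩ := hD
  obtain ⟨N', _, ⟨e'⟩⟩ := isDiag_bc (A := C) qA ⟨N, inferInstance, ⟨(cancelBC R (R ⧸ I) R₁ C).symm.trans e⟩⟩
  have hflatS : ∀ n : ℕ, Module.Flat (S ⧸ J ^ (n + 1)) ((S ⧸ J ^ (n + 1)) ⊗[S] (S ⊗[R] C)) := fun n => by
    let T := S ⧸ J ^ (n + 1)
    let Q := R ⧸ I ^ (n + 1)
    let : Algebra Q T := (Ideal.Quotient.lift (I ^ (n + 1)) (algebraMap R T) fun r hr => by
      rw [IsScalarTower.algebraMap_apply R S T, Ideal.Quotient.algebraMap_eq, Ideal.Quotient.eq_zero_iff_mem,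
        ← Ideal.map_pow]
      exact Ideal.mem_map_of_mem _ hr).toAlgebra
    have : IsScalarTower R Q T := IsScalarTower.of_algebraMap_eq fun r => rfl
    have := hflat n
    exact Module.Flat.of_linearEquiv (M := T ⊗[Q] (Q ⊗[R] C))
      ((cancelBC R S T C).trans (cancelBC R Q T C).symm).toAlgEquiv.toLinearEquiv
  obtain ⟨φ, hφ, hinj, s, hs, hsφ⟩ := exists_formal_hom' (R := S) (C := S ⊗[R] C) J hflatS ((cancelBC R S (S ⧸ J) C).trans e')
  exact ⟨S, inferInstance, inferInstance, hSfin, inferInstance, hSet, inferInstance, hJ, N', inferInstance, φ, hφ, hinj, s, hs, hsφ⟩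

/-- The flat case. -/
theorem exists_formal_split [IsNoetherianRing R] (I : Ideal R) [IsAdicComplete I R] [Algebra.FiniteType R C] [Module.Flat R C]
    (h0 : IsIsotrivial (R ⧸ I) ((R ⧸ I) ⊗[R] C)) :
    ∃ (S : Type u) (_ : CommRing S) (_ : Algebra R S) (_ : Module.Finite R S) (_ : IsNoetherianRing S),
      Algebra.Etale R S ∧ Module.FaithfullyFlat R S ∧ I.map (algebraMap R S) ≤ Ideal.jacobson ⊥ ∧
      ∃ (N : Type u) (_ : CommGroup N) (φ : S ⊗[R] C →ₐc[S] MonoidAlgebra S N), Function.Surjective φ ∧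
        Function.Injective ((φ : S ⊗[R] C →ₐ[S] MonoidAlgebra S N).toLinearMap.lTensor (S ⧸ (I.map (algebraMap R S)) ^ (0 + 1))) ∧
        ∃ s : S ⊗[R] C, counit (R := S) s = 1 ∧ ∀ x, φ x = 0 → s * x = 0 :=
  exists_formal_split' I (fun _ => inferInstance) h0

theorem isIsotrivial_of_formal_connected [IsNoetherianRing R] (I : Ideal R) [IsAdicComplete I R] [Algebra.FiniteType R C]
    [Module.Flat R C] (hconn : ∀ (p : Ideal R) [p.IsPrime], ConnectedSpace (PrimeSpectrum (p.ResidueField ⊗[R] C)))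
    (h0 : IsIsotrivial (R ⧸ I) ((R ⧸ I) ⊗[R] C)) : IsIsotrivial R C := by
  obtain ⟨S, _, _, hfin, _, het, hff, -, N, _, φ, hφ, -, s, hs, hsφ⟩ := exists_formal_split I h0
  exact ⟨S, inferInstance, inferInstance, het, hfin, hff, N, inferInstance,
    ⟨BialgEquiv.ofBijective φ (bijective_of_connected φ hφ hs hsφ hconn)⟩⟩

end Groth.Agent.MultHopf
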