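import Groth.Agent.MultHopf.HopfDescent
import Mathlib.RingTheory.Idempotents

/-!
# Gluing Hopf algebras along a finite decomposition of the base
-/

set_option autoImplicit false
set_option backward.isDefEq.respectTransparency.types false
set_option maxHeartbeats 1000000
set_option synthInstance.maxHeartbeats 100000

universe u

open scoped TensorProduct
open Coalgebra
open Algebra.TensorProduct (includeLeft includeRight)

namespace Groth.Agent.MultHopf.Glue

variable {R : Type u} [CommRing R] {ι : Type u} [Fintype ι] [DecidableEq ι] (Rc : ι → Type u) [∀ c, CommRing (Rc c)]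
  [∀ c, Algebra R (Rc c)]

/-- A finite decomposition of a ring. -/
structure Decomp where
  ε : ι → R
  sum : ∑ c, ε c = 1
  surj : ∀ c, Function.Surjective (algebraMap R (Rc c))
  apply : ∀ c d, algebraMap R (Rc d) (ε c) = if c = d then 1 else 0
  ker : ∀ c r, algebraMap R (Rc c) r = 0 → ε c * r = 0

variable {Rc} (D : Decomp (R := R) Rc)

include D

/-- The decomposition by quotients. -/
theorem exists_one_tmul {N : Type u} [AddCommGroup N] [Module R N] (c : ι) (z : Rc c ⊗[R] N) :
    ∃ n : N, (1 : Rc c) ⊗ₜ[R] n = z := by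
  induction z using TensorProduct.induction_on with
  | zero => exact ⟨0, TensorProduct.tmul_zero _ _⟩
  | add a b ha hb =>
    obtain ⟨x, hx⟩ := ha
    obtain ⟨y, hy⟩ := hb
    exact ⟨x + y, by rw [TensorProduct.tmul_add, hx, hy]⟩
  | tmul r n =>
    obtain ⟨r', rfl⟩ := D.surj c r
    exact ⟨r' • n, by rw [TensorProduct.tmul_smul, TensorProduct.smul_tmul', Algebra.smul_def, mul_one]⟩

theorem smul_eq_zero {N : Type u} [AddCommGroup N] [Module R N] (c : ι) (x : N) (h : (1 : Rc c) ⊗ₜ[R] x = 0) :
    D.ε c • x = 0 := by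
  choose s hs using D.surj c
  let l : Rc c →ₗ[R] R :=
    { toFun := fun r => D.ε c * s r
      map_add' := fun a b => by
        rw [← mul_add]
        refine sub_eq_zero.1 ?_
        rw [← mul_sub]
        exact D.ker c _ (by simp [hs])
      map_smul' := fun r a => by
        rw [RingHom.id_apply, smul_eq_mul, mul_left_comm]
        refine sub_eq_zero.1 ?_
        rw [← mul_sub]
        exact D.ker c _ (by simp [hs, Algebra.smul_def]) }
  have h1 := congrArg (fun z => TensorProduct.lid R N (l.rTensor N z)) h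
  simp only [LinearMap.rTensor_tmul, TensorProduct.lid_tmul, map_zero] at h1
  have h2 : l 1 = D.ε c := by
    show D.ε c * s 1 = D.ε c
    rw [← sub_eq_zero, ← mul_sub_one]
    exact D.ker c _ (by simp [hs])
  rwa [h2] at h1

theorem eq_of_pieces {N : Type u} [AddCommGroup N] [Module R N] {x y : N}
    (h : ∀ c, (1 : Rc c) ⊗ₜ[R] x = (1 : Rc c) ⊗ₜ[R] y) : x = y := by
  rw [← sub_eq_zero, ← one_smul R (x - y), ← D.sum, Finset.sum_smul]
  exact Finset.sum_eq_zero fun c _ => smul_eq_zero D c _ (by rw [TensorProduct.tmul_sub, h, sub_self])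

theorem exists_glue_algHom {E N : Type u} [CommRing E] [Algebra R E] [CommRing N] [Algebra R N]
    (F : ∀ c, E →ₐ[R] Rc c ⊗[R] N) : ∃ G : E →ₐ[R] N, ∀ c x, (1 : Rc c) ⊗ₜ[R] G x = F c x := by
  have hmem : ∀ x, ∃ n : N, ∀ d, (1 : Rc d) ⊗ₜ[R] n = F d x := fun x => by
    choose g hg using fun c => exists_one_tmul D c (F c x)
    refine ⟨∑ c, D.ε c • g c, fun d => ?_⟩
    rw [TensorProduct.tmul_sum, Finset.sum_eq_single d]
    · rw [TensorProduct.tmul_smul, TensorProduct.smul_tmul', Algebra.smul_def, mul_one, D.apply, if_pos rfl, hg]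
    · intro c _ hc
      rw [TensorProduct.tmul_smul, TensorProduct.smul_tmul', Algebra.smul_def, mul_one, D.apply, if_neg hc, TensorProduct.zero_tmul]
    · exact fun h => absurd (Finset.mem_univ d) h
  choose g hg using hmem
  refine ⟨{ toFun := g, map_one' := ?_, map_mul' := fun a b => ?_, map_zero' := ?_, map_add' := fun a b => ?_,
            commutes' := fun r => ?_ }, fun c x => hg x c⟩
  · exact eq_of_pieces D fun c => by rw [hg, map_one, Algebra.TensorProduct.one_def]
  · exact eq_of_pieces D fun c => by rw [hg, map_mul, ← hg, ← hg, Algebra.TensorProduct.tmul_mul_tmul, one_mul]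
  · exact eq_of_pieces D fun c => by rw [hg, map_zero, TensorProduct.tmul_zero]
  · exact eq_of_pieces D fun c => by rw [hg, map_add, TensorProduct.tmul_add, hg, hg]
  · exact eq_of_pieces D fun c => by
      rw [hg, AlgHom.commutes]
      exact ((includeRight : N →ₐ[R] Rc c ⊗[R] N).commutes r).symm

/-- Bialgebras isomorphic over the pieces are isomorphic. -/
theorem nonempty_equiv_of_pieces {A B : Type u} [CommRing A] [HopfAlgebra R A] [CommRing B] [HopfAlgebra R B]
    (ψ : ∀ c, Rc c ⊗[R] A ≃ₐc[Rc c] Rc c ⊗[R] B) : Nonempty (A ≃ₐc[R] B) := by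
  obtain ⟨G, hG⟩ := exists_glue_algHom D fun c =>
    ((ψ c : Rc c ⊗[R] A →ₐ[Rc c] Rc c ⊗[R] B).restrictScalars R).comp (includeRight : A →ₐ[R] Rc c ⊗[R] A)
  have hG' : ∀ c x, (1 : Rc c) ⊗ₜ[R] G x = ψ c ((1 : Rc c) ⊗ₜ[R] x) := hG
  have hbij : Function.Bijective G := by
    refine ⟨fun a b h => eq_of_pieces D fun c => (EquivLike.injective (ψ c)) (by rw [← hG', ← hG', h]), fun b => ?_⟩
    obtain ⟨G', hG₂⟩ := exists_glue_algHom D fun c =>
      (((ψ c).symm : Rc c ⊗[R] B →ₐ[Rc c] Rc c ⊗[R] A).restrictScalars R).comp (includeRight : B →ₐ[R] Rc c ⊗[R] B)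
    refine ⟨G' b, eq_of_pieces D fun c => ?_⟩
    rw [hG', hG₂]
    exact (ψ c).apply_symm_apply _
  refine ⟨BialgEquiv.ofBijective (BialgHom.ofAlgHom G ?_ ?_) hbij⟩
  · refine AlgHom.ext fun x => eq_of_pieces D fun c => ?_
    show (1 : Rc c) ⊗ₜ[R] counit (R := R) (G x) = (1 : Rc c) ⊗ₜ[R] counit (R := R) x
    apply (Algebra.TensorProduct.rid R (Rc c) (Rc c)).injective
    simp only [Algebra.TensorProduct.rid_tmul]
    have h1 : counit (R := Rc c) ((1 : Rc c) ⊗ₜ[R] G x) = counit (R := R) (G x) • (1 : Rc c) := by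
      rw [TensorProduct.counit_tmul]; simp
    have h2 : counit (R := Rc c) (ψ c ((1 : Rc c) ⊗ₜ[R] x)) = counit (R := R) x • (1 : Rc c) := by
      rw [CoalgHomClass.counit_comp_apply (ψ c), TensorProduct.counit_tmul]; simp
    rw [← h1, ← h2, hG']
  · refine AlgHom.ext fun x => eq_of_pieces D fun c => ?_
    show (1 : Rc c) ⊗ₜ[R] Algebra.TensorProduct.map G G (comul (R := R) x) = (1 : Rc c) ⊗ₜ[R] comul (R := R) (G x)
    let E := TensorProduct.AlgebraTensorModule.distribBaseChange R (Rc c) B B
    apply E.injective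
    have h3 : ∀ w : B ⊗[R] B, E ((1 : Rc c) ⊗ₜ[R] w) =
        Model.e₂ (R := Rc c) (includeRight : B →ₐ[R] Rc c ⊗[R] B) w := fun w => by
      induction w using TensorProduct.induction_on with
      | zero => simp
      | add a b ha hb => simp only [TensorProduct.tmul_add, map_add, ha, hb]
      | tmul a b => simp [E, Model.e₂_tmul]
    rw [h3, h3]
    have h4 : ∀ (A' : Type u) [CommRing A'] [HopfAlgebra R A'] (a : A'), comul (R := Rc c) ((1 : Rc c) ⊗ₜ[R] a) =
        Model.e₂ (R := Rc c) (includeRight : A' →ₐ[R] Rc c ⊗[R] A') (comul (R := R) a) := fun A' _ _ a => by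
      rw [TensorProduct.comul_tmul, CommSemiring.comul_apply]
      induction comul (R := R) a using TensorProduct.induction_on with
      | zero => simp
      | add a b ha hb => simp only [TensorProduct.tmul_add, map_add, ha, hb]
      | tmul a b => simp [Model.e₂_tmul]
    rw [← h4, hG', ← CoalgHomClass.map_comp_comul_apply (ψ c), h4]
    induction comul (R := R) x using TensorProduct.induction_on with
    | zero => simp
    | add a b ha hb => simp only [map_add, ha, hb]
    | tmul a b => simp [Model.e₂_tmul, hG']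

/-- Hopf algebras over the pieces glue. -/
theorem exists_glue_hopf (A : ι → Type u) [∀ c, CommRing (A c)] [∀ c, HopfAlgebra (Rc c) (A c)] :
    ∃ (X : Type u) (_ : CommRing X) (_ : HopfAlgebra R X), ∀ c, Nonempty (Rc c ⊗[R] X ≃ₐc[Rc c] A c) := by
  let : ∀ c, Algebra R (A c) := fun c => ((algebraMap (Rc c) (A c)).comp (algebraMap R (Rc c))).toAlgebra
  have : ∀ c, IsScalarTower R (Rc c) (A c) := fun c => IsScalarTower.of_algebraMap_eq fun _ => rfl
  let P : Type u := (c : ι) → A c
  let f : ∀ c, P →ₐ[R] A c := fun c => Pi.evalAlgHom R A c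
  let Φ : ∀ c, Rc c ⊗[R] P →ₐ[Rc c] A c := fun c =>
    Algebra.TensorProduct.lift (Algebra.ofId _ _) (f c) fun _ _ => Commute.all _ _
  have hΦ : ∀ c p, Φ c ((1 : Rc c) ⊗ₜ[R] p) = p c := fun c p => by simp [Φ, f]; rfl
  have hb : ∀ c, Function.Bijective (Φ c) := fun c => by
    refine ⟨(injective_iff_map_eq_zero _).2 fun z hz => ?_, fun a => ⟨(1 : Rc c) ⊗ₜ[R] Pi.single c a, by rw [hΦ, Pi.single_eq_same]⟩⟩
    obtain ⟨p, rfl⟩ := exists_one_tmul D c z
    rw [hΦ] at hz
    have hp : D.ε c • p = 0 := funext fun d => by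
      rw [Pi.smul_apply, Pi.zero_apply, Algebra.smul_def, IsScalarTower.algebraMap_apply R (Rc d) (A d), D.apply]
      by_cases h : c = d
      · subst h; rw [hz, mul_zero]
      · rw [if_neg h, map_zero, zero_mul]
    calc (1 : Rc c) ⊗ₜ[R] p = algebraMap R (Rc c) (D.ε c) ⊗ₜ[R] p := by rw [D.apply, if_pos rfl]
      _ = (1 : Rc c) ⊗ₜ[R] (D.ε c • p) := by rw [Algebra.algebraMap_eq_smul_one, TensorProduct.smul_tmul]
      _ = 0 := by rw [hp, TensorProduct.tmul_zero]
  have hb2 := fun c => Model.bijective_e₂ (R := Rc c) (C := A c) (f := f c) (hb c)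
  obtain ⟨Δ, hΔ⟩ := exists_glue_algHom D fun c =>
    ((AlgEquiv.ofBijective _ (hb2 c)).symm.toAlgHom.restrictScalars R).comp
      (((Bialgebra.comulAlgHom (Rc c) (A c)).restrictScalars R).comp (f c))
  obtain ⟨ε, hε⟩ := exists_glue_algHom D fun c =>
    ((includeLeft : Rc c →ₐ[R] Rc c ⊗[R] R)).comp (((Bialgebra.counitAlgHom (Rc c) (A c)).restrictScalars R).comp (f c))
  let σ : P →ₐ[R] P := Pi.algHom R A fun c => ((HopfAlgebra.antipodeAlgHom (Rc c) (A c)).restrictScalars R).comp (f c)
  let H : ∀ c, Model.Data R P (Rc c) (A c) := fun c =>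
    { Δ := Δ
      ε := ε
      σ := σ
      f := f c
      bij := hb c
      comul_f := fun m => by
        have := congrArg (AlgEquiv.ofBijective _ (hb2 c)) (hΔ c m)
        simp only [AlgHom.comp_apply, AlgHom.restrictScalars_apply, AlgEquiv.coe_toAlgHom, AlgEquiv.apply_symm_apply] at this
        rw [← Bialgebra.comulAlgHom_apply, ← this]
        simp [← Algebra.TensorProduct.one_def]
      counit_f := fun m => by
        have := congrArg (Algebra.TensorProduct.rid R (Rc c) (Rc c)) (hε c m)
        simp [Algebra.smul_def] at this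
        exact this.symm
      antipode_f := fun m => rfl }
  have hax : Model.Axioms R Δ ε σ := by
    have h := fun c => (H c).axioms
    exact ⟨fun m => congrArg _ (eq_of_pieces D fun c => (h c).coassoc m),
      fun m => congrArg _ (eq_of_pieces D fun c => (h c).counit_left m),
      fun m => congrArg _ (eq_of_pieces D fun c => (h c).counit_right m),
      fun m => congrArg _ (eq_of_pieces D fun c => (h c).antipode_left m),
      fun m => congrArg _ (eq_of_pieces D fun c => (h c).antipode_right m)⟩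
  refine ⟨R ⊗[R] P, inferInstance, Model.hopfBC hax, fun c => ?_⟩
  obtain ⟨e, -⟩ := (H c).exists_equiv (S' := R) hax
  exact ⟨e⟩

end Groth.Agent.MultHopf.Glue
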