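import Groth.Agent.MultHopf.KerIdeal
import Mathlib.RingTheory.Nakayama
import Mathlib.AlgebraicGeometry.AffineScheme

/-!
# Rigidity of the trivial homomorphism out of a group of multiplicative type
-/

set_option autoImplicit false
set_option backward.isDefEq.respectTransparency.types false

universe u

open CategoryTheory CategoryTheory.Limits MonoidalCategory CartesianMonoidalCategory MonObj AlgebraicGeometry
open scoped TensorProduct
open WithConv

namespace Groth.Agent.MultHopf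

variable {R : Type u} [CommRing R] (G : Over (Spec (CommRingCat.of R)))

/-- The affine scheme of an algebra. -/
noncomputable abbrev pt (C : Type u) [CommRing C] [Algebra R C] : Over (Spec (CommRingCat.of R)) :=
  (Spec (CommRingCat.of C)).asOver (Spec (CommRingCat.of R))

/-- The map of affine schemes of an algebra map. -/
noncomputable def ptMap {C C' : Type u} [CommRing C] [Algebra R C] [CommRing C'] [Algebra R C']
    (f : C →ₐ[R] C') : pt (R := R) C' ⟶ pt C :=
  (Spec.map (CommRingCat.ofHom f.toRingHom)).asOver (Spec (CommRingCat.of R))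

theorem ptMap_left {C C' : Type u} [CommRing C] [Algebra R C] [CommRing C'] [Algebra R C'] (f : C →ₐ[R] C') :
    (ptMap f).left = Spec.map (CommRingCat.ofHom f.toRingHom) := rfl

variable [GrpObj G]

theorem ptMap_comp_mapMulEquiv {A : Type u} [CommRing A] [Bialgebra R A] {C C' : Type u} [CommRing C] [Algebra R C]
    [CommRing C'] [Algebra R C'] (f : C →ₐ[R] C') (φ : WithConv (A →ₐ[R] C)) :
    ptMap f ≫ Spec.mapMulEquiv φ = Spec.mapMulEquiv (toConv (f.comp φ.ofConv)) := by
  apply Over.OverMorphism.ext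
  show Spec.map (CommRingCat.ofHom f.toRingHom) ≫ Spec.map (CommRingCat.ofHom φ.ofConv.toRingHom) = _
  rw [← Spec.map_comp]
  rfl

variable {G}

/-- An affine open neighbourhood of the unit section, as an algebra with augmentation. -/
structure UnitNhd (G : Over (Spec (CommRingCat.of R))) [GrpObj G] where
  B : Type u
  [commRing : CommRing B]
  [algebra : Algebra R B]
  inc : pt (R := R) B ⟶ G
  [isOpen : IsOpenImmersion inc.left]
  e : B →ₐ[R] R
  inc_e : ∀ (C : Type u) [CommRing C] [Algebra R C], ptMap ((Algebra.ofId R C).comp e) ≫ inc = (1 : pt (R := R) C ⟶ G)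

attribute [instance] UnitNhd.commRing UnitNhd.algebra UnitNhd.isOpen

theorem exists_unitNhd [IsLocalRing R] : Nonempty (UnitNhd G) := by
  let o : Spec (CommRingCat.of R) ⟶ G.left :=
    ((1 : pt (R := R) R ⟶ G)).left
  let c : Spec (CommRingCat.of R) := IsLocalRing.closedPoint R
  obtain ⟨W, hW, hcW, -⟩ := exists_isAffineOpen_mem_and_subset (x := o c) (U := ⊤) trivial
  have htop : o ⁻¹ᵁ W = ⊤ := (IsLocalRing.closedPoint_mem_iff (o ⁻¹ᵁ W)).1 hcW
  let p : Spec Γ(G.left, W) ⟶ Spec (CommRingCat.of R) := hW.fromSpec ≫ G.hom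
  let : Algebra R Γ(G.left, W) := (Spec.preimage p).hom.toAlgebra
  have hp : Spec.map (CommRingCat.ofHom (algebraMap R Γ(G.left, W))) = p := Spec.map_preimage p
  let inc : pt (R := R) Γ(G.left, W) ⟶ G := Over.homMk hW.fromSpec hp.symm
  have : IsOpenImmersion inc.left := inferInstanceAs (IsOpenImmersion hW.fromSpec)
  have hr : Set.range o ⊆ Set.range hW.fromSpec := by
    rw [hW.range_fromSpec]
    rintro _ ⟨x, rfl⟩
    exact (htop ▸ trivial : x ∈ o ⁻¹ᵁ W)
  let l : Spec (CommRingCat.of R) ⟶ Spec Γ(G.left, W) := IsOpenImmersion.lift hW.fromSpec o hr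
  have hl : l ≫ hW.fromSpec = o := IsOpenImmersion.lift_fac _ _ _
  have hlR : l ≫ p = Spec.map (CommRingCat.ofHom (algebraMap R R)) := by
    show l ≫ hW.fromSpec ≫ G.hom = _
    rw [← Category.assoc, hl]
    exact Over.w (1 : pt (R := R) R ⟶ G)
  have he : (Spec.preimage p) ≫ (Spec.preimage l) = CommRingCat.ofHom (algebraMap R R) := by
    apply Spec.map_injective
    rw [Spec.map_comp, Spec.map_preimage, Spec.map_preimage, hlR]
  let e : Γ(G.left, W) →ₐ[R] R :=
    { (Spec.preimage l).hom with commutes' := fun r => CategoryTheory.congr_fun he r }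
  refine ⟨{ B := Γ(G.left, W), inc := inc, e := e, inc_e := fun C _ _ => ?_ }⟩
  have h1 : ptMap e ≫ inc = (1 : pt (R := R) R ⟶ G) := by
    apply Over.OverMorphism.ext
    show Spec.map (Spec.preimage l) ≫ hW.fromSpec = _
    rw [Spec.map_preimage, hl]
  have h2 : ptMap ((Algebra.ofId R C).comp e) = ptMap (Algebra.ofId R C) ≫ ptMap e := by
    apply Over.OverMorphism.ext
    show Spec.map _ = Spec.map _ ≫ Spec.map _
    rw [← Spec.map_comp]
    rfl
  rw [h2, Category.assoc, h1, MonObj.comp_one]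

theorem UnitNhd.mono_inc (W : UnitNhd G) :
    Mono (C := Scheme) (X := Spec (CommRingCat.of W.B)) (Y := G.left) W.inc.left :=
  @IsOpenImmersion.mono _ _ _ W.isOpen

/-- A point which is the unit modulo a nilpotent kernel lies in the neighbourhood. -/
theorem UnitNhd.exists_lift (W : UnitNhd G) {C C₀ : Type u} [CommRing C] [Algebra R C] [CommRing C₀] [Algebra R C₀]
    (π : C →ₐ[R] C₀) (hπ : ∀ q : PrimeSpectrum C, RingHom.ker π ≤ q.asIdeal) (hsurj : Function.Surjective π)
    (x : pt (R := R) C ⟶ G) (hx : ptMap π ≫ x = 1) :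
    ∃ ξ : W.B →ₐ[R] C, x = ptMap ξ ≫ W.inc ∧ π.comp ξ = (Algebra.ofId R C₀).comp W.e := by
  have hr : Set.range x.left ⊆ Set.range W.inc.left := by
    rintro _ ⟨q, rfl⟩
    obtain ⟨q₀, hq₀⟩ : q ∈ Set.range (PrimeSpectrum.comap π.toRingHom) := by
      rw [range_comap_of_surjective _ _ hsurj]
      exact hπ q
    refine ⟨(ptMap ((Algebra.ofId R C₀).comp W.e)).left q₀, ?_⟩
    have h := congrArg (fun z : pt (R := R) C₀ ⟶ G => z.left q₀) ((W.inc_e C₀).trans hx.symm)
    change W.inc.left ((ptMap ((Algebra.ofId R C₀).comp W.e)).left q₀) = x.left ((ptMap π).left q₀) at h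
    rw [h]
    congr 1
  let incL : Spec (CommRingCat.of W.B) ⟶ G.left := W.inc.left
  have : IsOpenImmersion incL := W.isOpen
  let xL : Spec (CommRingCat.of C) ⟶ G.left := x.left
  let l : Spec (CommRingCat.of C) ⟶ Spec (CommRingCat.of W.B) := IsOpenImmersion.lift incL xL hr
  have hl : l ≫ W.inc.left = x.left := IsOpenImmersion.lift_fac incL xL hr
  have he : CommRingCat.ofHom (algebraMap R W.B) ≫ (Spec.preimage l) = CommRingCat.ofHom (algebraMap R C) := by
    apply Spec.map_injective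
    rw [Spec.map_comp, Spec.map_preimage]
    have h1 : W.inc.left ≫ G.hom = Spec.map (CommRingCat.ofHom (algebraMap R W.B)) := Over.w W.inc
    have h2 : x.left ≫ G.hom = Spec.map (CommRingCat.ofHom (algebraMap R C)) := Over.w x
    exact ((congrArg (l ≫ ·) h1.symm).trans ((Category.assoc _ _ _).symm.trans ((congrArg (· ≫ G.hom) hl).trans h2)))
  let ξ : W.B →ₐ[R] C := { (Spec.preimage l).hom with commutes' := fun r => CategoryTheory.congr_fun he r }
  have hξ : x = ptMap ξ ≫ W.inc := by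
    apply Over.OverMorphism.ext
    show x.left = Spec.map (Spec.preimage l) ≫ W.inc.left
    rw [Spec.map_preimage, hl]
  refine ⟨ξ, hξ, ?_⟩
  have h : ptMap (π.comp ξ) ≫ W.inc = ptMap ((Algebra.ofId R C₀).comp W.e) ≫ W.inc := by
    rw [W.inc_e, ← hx, hξ, ← Category.assoc]
    congr 1
    apply Over.OverMorphism.ext
    show Spec.map _ = Spec.map _ ≫ Spec.map _
    rw [← Spec.map_comp]
    rfl
  have h' : Spec.map (CommRingCat.ofHom (π.comp ξ).toRingHom) ≫ W.inc.left =
      Spec.map (CommRingCat.ofHom ((Algebra.ofId R C₀).comp W.e).toRingHom) ≫ W.inc.left :=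
    congrArg (fun z : pt (R := R) C₀ ⟶ G => z.left) h
  replace h' := (@cancel_mono _ _ _ _ _ _ W.mono_inc _ _).1 h'
  exact AlgHom.coe_ringHom_injective (congrArg CommRingCat.Hom.hom (Spec.map_injective h'))

section square

variable {C : Type u} [CommRing C] [Algebra R C] (N : Ideal C)

/-- Pairs of infinitesimal deformations of a scalar. -/
noncomputable def dbl (hN : ∀ x ∈ N, ∀ y ∈ N, x * y = 0) : Subalgebra R (C × C × R) where
  carrier := {x | x.1 - algebraMap R C x.2.2 ∈ N ∧ x.2.1 - algebraMap R C x.2.2 ∈ N}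
  mul_mem' := by
    intro a b ha hb
    constructor
    · show a.1 * b.1 - algebraMap R C (a.2.2 * b.2.2) ∈ N
      rw [map_mul]
      exact N.mul_sub_mul_mem ha.1 hb.1
    · show a.2.1 * b.2.1 - algebraMap R C (a.2.2 * b.2.2) ∈ N
      rw [map_mul]
      exact N.mul_sub_mul_mem ha.2 hb.2
  add_mem' := by
    intro a b ha hb
    constructor
    · show a.1 + b.1 - algebraMap R C (a.2.2 + b.2.2) ∈ N
      rw [map_add, add_sub_add_comm]
      exact add_mem ha.1 hb.1
    · show a.2.1 + b.2.1 - algebraMap R C (a.2.2 + b.2.2) ∈ N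
      rw [map_add, add_sub_add_comm]
      exact add_mem ha.2 hb.2
  algebraMap_mem' r := by constructor <;> simp

/-- The product of two infinitesimal points is given by the sum of their derivations. -/
theorem UnitNhd.mul_eq (W : UnitNhd G) (hN : ∀ x ∈ N, ∀ y ∈ N, x * y = 0) (ξ₁ ξ₂ : W.B →ₐ[R] C)
    (h₁ : ∀ b, ξ₁ b - algebraMap R C (W.e b) ∈ N) (h₂ : ∀ b, ξ₂ b - algebraMap R C (W.e b) ∈ N) :
    ∃ ξ : W.B →ₐ[R] C, (∀ b, ξ b = ξ₁ b + ξ₂ b - algebraMap R C (W.e b)) ∧
      (ptMap ξ₁ ≫ W.inc) * (ptMap ξ₂ ≫ W.inc) = ptMap ξ ≫ W.inc := by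
  let E := dbl (R := R) N hN
  let p₀ : E →ₐ[R] R := ((AlgHom.snd R C R).comp (AlgHom.snd R C (C × R))).comp E.val
  let p₁ : E →ₐ[R] C := (AlgHom.fst R C (C × R)).comp E.val
  let p₂ : E →ₐ[R] C := ((AlgHom.fst R C R).comp (AlgHom.snd R C (C × R))).comp E.val
  let σ : E →ₐ[R] C := AlgHom.ofLinearMap
    (p₁.toLinearMap + p₂.toLinearMap - (Algebra.linearMap R C).comp p₀.toLinearMap)
    (by simp [p₀, p₁, p₂])
    (fun a b => by
      obtain ⟨⟨a1, a2, a0⟩, ha1, ha2⟩ := a
      obtain ⟨⟨b1, b2, b0⟩, hb1, hb2⟩ := b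
      simp only [LinearMap.sub_apply, LinearMap.add_apply, AlgHom.toLinearMap_apply, LinearMap.comp_apply,
        Algebra.linearMap_apply]
      show a1 * b1 + a2 * b2 - algebraMap R C (a0 * b0) =
        (a1 + a2 - algebraMap R C a0) * (b1 + b2 - algebraMap R C b0)
      have e1 := hN _ ha1 _ hb2
      have e2 := hN _ ha2 _ hb1
      simp only at e1 e2
      rw [map_mul]
      linear_combination -e1 - e2)
  let c₀ : W.B →ₐ[R] C := (Algebra.ofId R C).comp W.e
  let t₁ : W.B →ₐ[R] E := (ξ₁.prod (c₀.prod W.e)).codRestrict E fun b => ⟨h₁ b, by simp [c₀]⟩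
  let t₂ : W.B →ₐ[R] E := (c₀.prod (ξ₂.prod W.e)).codRestrict E fun b => ⟨by simp [c₀], h₂ b⟩
  have hcomp : ∀ {D D' : Type u} [CommRing D] [Algebra R D] [CommRing D'] [Algebra R D'] (f : D →ₐ[R] D')
      (g : W.B →ₐ[R] D), ptMap f ≫ ptMap g ≫ W.inc = ptMap (f.comp g) ≫ W.inc := by
    intro D D' _ _ _ _ f g
    rw [← Category.assoc]
    congr 1
    apply Over.OverMorphism.ext
    show Spec.map _ ≫ Spec.map _ = Spec.map _
    rw [← Spec.map_comp]
    rfl
  let g₁ := ptMap t₁ ≫ W.inc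
  let g₂ := ptMap t₂ ≫ W.inc
  have hsurj : Function.Surjective p₀ := fun r => ⟨⟨(algebraMap R C r, algebraMap R C r, r), by simp [E, dbl]⟩, rfl⟩
  have hker : ∀ q : PrimeSpectrum E, RingHom.ker p₀ ≤ q.asIdeal := by
    intro q a ha
    refine q.isPrime.mem_of_pow_mem 2 ?_
    convert q.asIdeal.zero_mem
    obtain ⟨⟨a1, a2, a0⟩, ha1, ha2⟩ := a
    have h0 : a0 = 0 := ha
    subst h0
    simp only [map_zero, sub_zero] at ha1 ha2
    apply Subtype.ext
    show ((a1, a2, 0) : C × C × R) ^ 2 = 0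
    simp [pow_two, hN _ ha1 _ ha1, hN _ ha2 _ ha2]
  have h0 : ptMap p₀ ≫ (g₁ * g₂) = 1 := by
    rw [MonObj.comp_mul, hcomp, hcomp, show p₀.comp t₁ = (Algebra.ofId R R).comp W.e from rfl,
      show p₀.comp t₂ = (Algebra.ofId R R).comp W.e from rfl, W.inc_e, _root_.one_mul]
  obtain ⟨ζ, hζ, hζ0⟩ := W.exists_lift p₀ hker hsurj (g₁ * g₂) h0
  have key : ∀ (p : E →ₐ[R] C), ptMap (p.comp ζ) ≫ W.inc =
      (ptMap (p.comp t₁) ≫ W.inc) * (ptMap (p.comp t₂) ≫ W.inc) := fun p => by
    rw [← hcomp p t₁, ← hcomp p t₂, ← MonObj.comp_mul, hζ, hcomp]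
  have hinj : ∀ a b : W.B →ₐ[R] C, ptMap a ≫ W.inc = ptMap b ≫ W.inc → a = b := fun a b h => by
    have h' : Spec.map (CommRingCat.ofHom a.toRingHom) ≫ W.inc.left =
        Spec.map (CommRingCat.ofHom b.toRingHom) ≫ W.inc.left := congrArg (fun z : pt (R := R) C ⟶ G => z.left) h
    replace h' := (@cancel_mono _ _ _ _ _ _ W.mono_inc _ _).1 h'
    exact AlgHom.coe_ringHom_injective (congrArg CommRingCat.Hom.hom (Spec.map_injective h'))
  have k1 : p₁.comp ζ = ξ₁ := hinj _ _ (by
    rw [key, show p₁.comp t₁ = ξ₁ from rfl, show p₁.comp t₂ = c₀ from rfl, W.inc_e, _root_.mul_one])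
  have k2 : p₂.comp ζ = ξ₂ := hinj _ _ (by
    rw [key, show p₂.comp t₁ = c₀ from rfl, show p₂.comp t₂ = ξ₂ from rfl, W.inc_e, _root_.one_mul])
  refine ⟨σ.comp ζ, fun b => ?_, ?_⟩
  · show p₁ (ζ b) + p₂ (ζ b) - algebraMap R C (p₀ (ζ b)) = _
    rw [show p₁ (ζ b) = ξ₁ b from DFunLike.congr_fun k1 b, show p₂ (ζ b) = ξ₂ b from DFunLike.congr_fun k2 b,
      show p₀ (ζ b) = W.e b from DFunLike.congr_fun hζ0 b]
  · rw [key]
    have s1 : σ.comp t₁ = ξ₁ := AlgHom.ext fun b => by
      show ξ₁ b + c₀ b - algebraMap R C (W.e b) = ξ₁ b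
      simp [c₀]
    have s2 : σ.comp t₂ = ξ₂ := AlgHom.ext fun b => by
      show c₀ b + ξ₂ b - algebraMap R C (W.e b) = ξ₂ b
      simp [c₀]
    rw [s1, s2]

end square

theorem mem_map_of_forall_coeff {T : Type u} [CommRing T] {M : Type u} [CommGroup M] (K : Ideal T)
    (z : MonoidAlgebra T M) (h : ∀ m, z.coeff m ∈ K) : z ∈ K.map (algebraMap T (MonoidAlgebra T M)) := by
  rw [← MonoidAlgebra.sum_coeff_single z]
  refine sum_mem fun m _ => ?_
  rw [show MonoidAlgebra.single m (z.coeff m) =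
    algebraMap T (MonoidAlgebra T M) (z.coeff m) * MonoidAlgebra.single m 1 by simp]
  exact Ideal.mul_mem_right _ _ (Ideal.mem_map_of_mem _ (h m))

theorem eq_zero_of_primitive {T : Type u} [CommRing T] {M : Type u} [CommGroup M] (z : MonoidAlgebra T M)
    (h : Coalgebra.comul (R := T) z = z ⊗ₜ[T] 1 + 1 ⊗ₜ[T] z) : z = 0 := by
  classical
  let co : M → MonoidAlgebra T M →ₗ[T] T := fun m =>
    Finsupp.lapply m ∘ₗ (MonoidAlgebra.coeffLinearEquiv T).toLinearMap
  have hco : ∀ m y, co m y = y.coeff m := fun _ _ => rfl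
  let L : M → MonoidAlgebra T M ⊗[T] MonoidAlgebra T M →ₗ[T] T := fun m =>
    LinearMap.mul' T T ∘ₗ TensorProduct.map (co m) (co m)
  have hL : ∀ m y, L m (Coalgebra.comul (R := T) y) = y.coeff m := fun m y => by
    induction y using MonoidAlgebra.induction_linear with
    | zero => simp
    | add a b ha hb => rw [map_add, map_add, ha, hb, MonoidAlgebra.coeff_add, Finsupp.add_apply]
    | single k r =>
      rw [MonoidAlgebra.comul_single, CommSemiring.comul_apply, TensorProduct.map_tmul]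
      by_cases hk : k = m
      · subst hk; simp [L, hco, MonoidAlgebra.coeff_single]
      · simp [L, hco, MonoidAlgebra.coeff_single, hk]
  apply MonoidAlgebra.coeff_injective
  ext m
  have h1 := hL m z
  rw [h, map_add] at h1
  by_cases hm : (1 : M) = m
  · subst hm
    simp [L, hco, MonoidAlgebra.one_def, MonoidAlgebra.coeff_single] at h1
    simpa using h1
  · simp [L, hco, MonoidAlgebra.one_def, MonoidAlgebra.coeff_single, hm] at h1
    simpa using h1.symm

/-- A homomorphism out of a group of multiplicative type with trivial closed fibre is trivial, if its kernel is of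
finite presentation. -/
theorem ker_eq_bot_of_local [IsLocalRing R] {A : Type u} [CommRing A] [HopfAlgebra R A]
    (hH : SGA3b.IsMultType R A) (v : hspec R A ⟶ G) [IsMonHom v] (J : Ideal A) (hJfg : J.FG)
    (hiff : ∀ (C : Type u) [CommRing C] [Algebra R C] (φ : WithConv (A →ₐ[R] C)),
      Spec.mapMulEquiv φ ≫ v = 1 ↔ ∀ a ∈ J, φ.ofConv a = 0)
    (hs : J ≤ (IsLocalRing.maximalIdeal R).map (algebraMap R A)) : J = ⊥ := by
  classical
  obtain ⟨ch⟩ := exists_chart hH ⟨IsLocalRing.maximalIdeal R, inferInstance⟩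
  obtain ⟨t, ht⟩ := hJfg
  let S := t.biUnion fun a => (ch.θ a).coeff.support.image (ch.θ a).coeff
  let 𝔞 : Ideal ch.R' := Ideal.span S
  have hcoeff : ∀ a ∈ J, ∀ m, (ch.θ a).coeff m ∈ 𝔞 := by
    intro a ha
    rw [← ht] at ha
    suffices ch.θ a ∈ 𝔞.map (algebraMap ch.R' (MonoidAlgebra ch.R' ch.M)) from
      fun m => coeff_mem_of_mem_map 𝔞 this m
    suffices Ideal.map ch.θ (Submodule.span A (t : Set A)) ≤ 𝔞.map (algebraMap ch.R' (MonoidAlgebra ch.R' ch.M)) from
      this (Ideal.mem_map_of_mem _ ha)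
    rw [Ideal.submodule_span_eq, Ideal.map_span, Ideal.span_le]
    rintro _ ⟨b, hb, rfl⟩
    show ch.θ b ∈ _
    rw [← MonoidAlgebra.sum_coeff_single (ch.θ b)]
    refine sum_mem fun m hm => ?_
    rw [show MonoidAlgebra.single m ((ch.θ b).coeff m) =
      algebraMap ch.R' (MonoidAlgebra ch.R' ch.M) ((ch.θ b).coeff m) * MonoidAlgebra.single m 1 by simp]
    exact Ideal.mul_mem_right _ _ (Ideal.mem_map_of_mem _ (Ideal.subset_span
      (Finset.mem_biUnion.2 ⟨b, Finset.mem_coe.1 hb, Finset.mem_image_of_mem _ hm⟩)))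
  have hmax : 𝔞 ≤ IsLocalRing.maximalIdeal ch.R' := by
    rw [Ideal.span_le]
    intro c hc
    obtain ⟨b, hb, hc⟩ := Finset.mem_biUnion.1 (Finset.mem_coe.1 hc)
    obtain ⟨m, -, rfl⟩ := Finset.mem_image.1 hc
    have h1 := Ideal.mem_map_of_mem ch.θ (hs (ht.le (Ideal.subset_span hb)))
    change ch.θ b ∈ Ideal.map (ch.θ : A →+* MonoidAlgebra ch.R' ch.M) _ at h1
    rw [Ideal.map_map, AlgHom.comp_algebraMap, IsScalarTower.algebraMap_eq R ch.R' (MonoidAlgebra ch.R' ch.M),
      ← Ideal.map_map] at h1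
    have h2 := coeff_mem_of_mem_map _ h1 m
    refine Ideal.map_le_iff_le_comap.2 ?_ h2
    rw [ch.over]
  -- work modulo the square
  let T := ch.R' ⧸ 𝔞 ^ 2
  let MT : Type u := MonoidAlgebra T ch.M
  let : CommRing MT := MonoidAlgebra.commRing
  let red : MonoidAlgebra ch.R' ch.M →ₐ[R] MT :=
    { MonoidAlgebra.mapRingHom ch.M (algebraMap ch.R' T) with
      commutes' := fun r => by
        show MonoidAlgebra.mapRingHom ch.M (algebraMap ch.R' T) (algebraMap R (MonoidAlgebra ch.R' ch.M) r) = _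
        rw [IsScalarTower.algebraMap_apply R ch.R' (MonoidAlgebra ch.R' ch.M),
          IsScalarTower.algebraMap_apply R T MT, IsScalarTower.algebraMap_apply R ch.R' T]
        simp [MT] }
  let φ : A →ₐ[R] MT := red.comp ch.θ
  let C := MT ⊗[T] MT
  let K : Ideal T := 𝔞.map (algebraMap ch.R' T)
  have hK : ∀ (D : Type u) [CommRing D] [Algebra T D], ∀ x ∈ K.map (algebraMap T D), ∀ y ∈ K.map (algebraMap T D),
      x * y = 0 := by
    intro D _ _ x hx y hy
    have h := Ideal.mul_mem_mul hx hy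
    rw [← Ideal.map_mul, ← Ideal.map_mul, ← pow_two,
      show (𝔞 ^ 2).map (algebraMap ch.R' T) = ⊥ from Ideal.map_quotient_self _, Ideal.map_bot] at h
    exact h
  let π : MT →ₐ[R] MT ⧸ K.map (algebraMap T MT) := Ideal.Quotient.mkₐ R _
  obtain ⟨W⟩ := exists_unitNhd (G := G)
  let x := Spec.mapMulEquiv (toConv φ) ≫ v
  have hx : ptMap π ≫ x = 1 := by
    rw [← Category.assoc, ptMap_comp_mapMulEquiv, hiff]
    intro a ha
    show π (φ a) = 0
    refine Ideal.Quotient.eq_zero_iff_mem.2 ?_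
    refine mem_map_of_forall_coeff K _ fun m => ?_
    show (MonoidAlgebra.mapRingHom ch.M (algebraMap ch.R' T) (ch.θ a)).coeff m ∈ K
    rw [MonoidAlgebra.coeff_mapRingHom]
    exact Ideal.mem_map_of_mem _ (hcoeff a ha m)
  have hπker : ∀ q : PrimeSpectrum MT, RingHom.ker π ≤ q.asIdeal := fun q a ha => by
    have h := hK MT a (Ideal.Quotient.eq_zero_iff_mem.1 ha) a (Ideal.Quotient.eq_zero_iff_mem.1 ha)
    exact (q.isPrime.mem_or_mem (x := a) (y := a) (by rw [h]; exact zero_mem _)).elim id id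
  obtain ⟨ξ, hξ, hξ0⟩ := W.exists_lift π hπker Ideal.Quotient.mk_surjective x hx
  have hξK : ∀ b, ξ b - algebraMap R MT (W.e b) ∈ K.map (algebraMap T MT) := fun b => by
    rw [← Ideal.Quotient.eq_zero_iff_mem, map_sub, sub_eq_zero]
    exact DFunLike.congr_fun hξ0 b
  let iL : MT →ₐ[R] C := (Algebra.TensorProduct.includeLeft : MT →ₐ[T] C).restrictScalars R
  let iR : MT →ₐ[R] C := (Algebra.TensorProduct.includeRight : MT →ₐ[T] C).restrictScalars R
  let δ : MT →ₐ[R] C := (Bialgebra.comulAlgHom T MT).restrictScalars R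
  have hmem : ∀ (f : MT →ₐ[T] C) (b : W.B),
      f (ξ b) - algebraMap R C (W.e b) ∈ K.map (algebraMap T C) := fun f b => by
    have h := Ideal.mem_map_of_mem f (hξK b)
    change f _ ∈ Ideal.map (f : MT →+* C) (Ideal.map (algebraMap T MT) K) at h
    rw [Ideal.map_map, AlgHom.comp_algebraMap, map_sub, IsScalarTower.algebraMap_apply R T MT, AlgHom.commutes,
      ← IsScalarTower.algebraMap_apply R T C] at h
    exact h
  have hδ : toConv (δ.comp φ) = toConv (iL.comp φ) * toConv (iR.comp φ) := by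
    apply WithConv.ofConv_injective
    ext a
    rw [AlgHom.convMul_apply]
    show Coalgebra.comul (R := T) (MonoidAlgebra.mapRingHom ch.M (algebraMap ch.R' T) (ch.θ a)) = _
    refine (RingHom.congr_fun (MonoidAlgebra.comulAlgHom_comp_mapRingHom (M := ch.M) (algebraMap ch.R' T))
      (ch.θ a)).trans ?_
    show Algebra.TensorProduct.mapRingHom (algebraMap ch.R' T) (MonoidAlgebra.mapRingHom ch.M (algebraMap ch.R' T))
      (MonoidAlgebra.mapRingHom ch.M (algebraMap ch.R' T)) (by ext r; simp) (by ext r; simp) (Coalgebra.comul (R := ch.R') (ch.θ a)) = _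
    rw [ch.comul_θ]
    induction Coalgebra.comul (R := R) a using TensorProduct.induction_on with
    | zero => simp
    | add p q hp hq => simp only [map_add, hp, hq]
    | tmul p q =>
      simp [iL, iR, φ, red]
      exact ((Algebra.TensorProduct.tmul_mul_tmul _ _ _ _).trans (by rw [_root_.mul_one, _root_.one_mul])).symm
  have hcomp : ∀ (f : MT →ₐ[R] C), ptMap f ≫ x = ptMap (f.comp ξ) ≫ W.inc := fun f => by
    rw [hξ, ← Category.assoc]
    congr 1
    apply Over.OverMorphism.ext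
    show Spec.map _ ≫ Spec.map _ = Spec.map _
    rw [← Spec.map_comp]
    rfl
  have hhom : ptMap δ ≫ x = (ptMap iL ≫ x) * (ptMap iR ≫ x) := by
    simp only [x, ← Category.assoc, ptMap_comp_mapMulEquiv]
    rw [← MonObj.mul_comp, ← map_mul, ← hδ]
  rw [hcomp, hcomp, hcomp] at hhom
  obtain ⟨ζ, hζ, hsum⟩ := W.mul_eq (K.map (algebraMap T C)) (hK C) (iL.comp ξ) (iR.comp ξ)
    (hmem (Algebra.TensorProduct.includeLeft : MT →ₐ[T] C)) (hmem (Algebra.TensorProduct.includeRight : MT →ₐ[T] C))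
  rw [hsum] at hhom
  have hδζ : δ.comp ξ = ζ := by
    have h' : Spec.map (CommRingCat.ofHom (δ.comp ξ).toRingHom) ≫ W.inc.left =
        Spec.map (CommRingCat.ofHom ζ.toRingHom) ≫ W.inc.left := congrArg (fun z : pt (R := R) C ⟶ G => z.left) hhom
    replace h' := (@cancel_mono _ _ _ _ _ _ W.mono_inc _ _).1 h'
    exact AlgHom.coe_ringHom_injective (congrArg CommRingCat.Hom.hom (Spec.map_injective h'))
  have hξe : ξ = (Algebra.ofId R MT).comp W.e := by
    refine AlgHom.ext fun b => ?_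
    refine sub_eq_zero.1 (eq_zero_of_primitive _ ?_)
    have h1 : Coalgebra.comul (R := T) (ξ b) = ξ b ⊗ₜ[T] 1 + 1 ⊗ₜ[T] ξ b - algebraMap R C (W.e b) := by
      exact (DFunLike.congr_fun hδζ b).trans (hζ b)
    have h2 : ∀ r : R, Coalgebra.comul (R := T) (algebraMap R MT r) = algebraMap R C r := fun r => by
      exact δ.commutes r
    have h3 : ∀ r : R, (algebraMap R MT r) ⊗ₜ[T] (1 : MT) = algebraMap R C r := fun r => iL.commutes r
    have h4 : ∀ r : R, (1 : MT) ⊗ₜ[T] (algebraMap R MT r) = algebraMap R C r := fun r => iR.commutes r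
    show Coalgebra.comul (R := T) (ξ b - algebraMap R MT (W.e b)) =
      (ξ b - algebraMap R MT (W.e b)) ⊗ₜ[T] 1 + 1 ⊗ₜ[T] (ξ b - algebraMap R MT (W.e b))
    rw [map_sub, h1, h2, TensorProduct.sub_tmul, TensorProduct.tmul_sub, h3, h4]
    abel
  have hfin : ∀ a ∈ J, φ a = 0 := by
    refine (hiff MT (toConv φ)).1 ?_
    show x = 1
    rw [hξ, hξe, W.inc_e]
  have hsq : 𝔞 ≤ 𝔞 ^ 2 := by
    rw [Ideal.span_le]
    intro c hc
    obtain ⟨b, hb, hc⟩ := Finset.mem_biUnion.1 (Finset.mem_coe.1 hc)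
    obtain ⟨m, -, rfl⟩ := Finset.mem_image.1 hc
    have h := congrArg (fun z => z.coeff m) (hfin b (ht.le (Ideal.subset_span hb)))
    change (MonoidAlgebra.mapRingHom ch.M (algebraMap ch.R' T) (ch.θ b)).coeff m = _ at h
    rw [MonoidAlgebra.coeff_mapRingHom, MonoidAlgebra.coeff_zero, Finsupp.zero_apply] at h
    exact Ideal.Quotient.eq_zero_iff_mem.1 h
  have h𝔞 : 𝔞 = ⊥ := Submodule.eq_bot_of_le_smul_of_le_jacobson_bot (IsLocalRing.maximalIdeal ch.R') 𝔞
    (Submodule.fg_span S.finite_toSet)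
    (hsq.trans (by rw [pow_two]; exact Ideal.mul_mono_left hmax))
    (IsLocalRing.maximalIdeal_le_jacobson _)
  rw [eq_bot_iff]
  intro a ha
  have : Module.FaithfullyFlat R ch.R' := by
    have : IsLocalHom (algebraMap R ch.R') :=
      ((IsLocalRing.local_hom_TFAE (algebraMap R ch.R')).out 0 4).2 ch.over
    exact Module.FaithfullyFlat.of_flat_of_isLocalHom
  apply Module.FaithfullyFlat.tensorProduct_mk_injective (A := R) (B := ch.R') A
  apply ch.isBaseChange.equiv.injective
  rw [map_zero, map_zero, TensorProduct.mk_apply, IsBaseChange.equiv_tmul, one_smul]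
  apply MonoidAlgebra.coeff_injective
  ext m
  have := hcoeff a ha m
  rw [h𝔞, Ideal.mem_bot] at this
  exact this

end Groth.Agent.MultHopf
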