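import Groth.Agent.MultHopf.LiftHom
import Groth.Agent.MultHopf.Trivial
import Mathlib.RingTheory.Idempotents

/-!
# Group-like elements of group algebras over arbitrary rings, modulo nilpotent ideals
-/

set_option autoImplicit false

universe u

open scoped TensorProduct
open WithConv Coalgebra

namespace Groth.Agent.MultHopf

open Groth.Agent.FinHopf (postComp)

variable {T : Type u} [CommRing T] {M : Type u} [CommGroup M]

/-- Evaluation of a pair of coefficients. -/
noncomputable def coeff₂ (m n : M) : MonoidAlgebra T M ⊗[T] MonoidAlgebra T M →ₗ[T] T :=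
  LinearMap.mul' T T ∘ₗ TensorProduct.map
    (Finsupp.lapply m ∘ₗ (MonoidAlgebra.coeffLinearEquiv T).toLinearMap)
    (Finsupp.lapply n ∘ₗ (MonoidAlgebra.coeffLinearEquiv T).toLinearMap)

theorem coeff₂_tmul (m n : M) (y z : MonoidAlgebra T M) : coeff₂ m n (y ⊗ₜ[T] z) = y.coeff m * z.coeff n := by
  simp [coeff₂]

theorem coeff₂_comul [DecidableEq M] (m n : M) (y : MonoidAlgebra T M) :
    coeff₂ m n (comul (R := T) y) = if m = n then y.coeff m else 0 := by
  induction y using MonoidAlgebra.induction_linear with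
  | zero => simp
  | add a b ha hb => rw [map_add, map_add, ha, hb, MonoidAlgebra.coeff_add, Finsupp.add_apply]; split_ifs <;> simp
  | single k r =>
    rw [MonoidAlgebra.comul_single, CommSemiring.comul_apply, TensorProduct.map_tmul]
    simp only [coeff₂_tmul, MonoidAlgebra.lsingle_apply, MonoidAlgebra.coeff_single, Finsupp.single_apply]
    split_ifs <;> simp_all

theorem counit_eq_sum [DecidableEq M] (y : MonoidAlgebra T M) (s : Finset M) (hs : y.coeff.support ⊆ s) :
    counit (R := T) y = ∑ m ∈ s, y.coeff m := by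
  rw [← Finset.sum_subset hs (fun m _ hm => Finsupp.notMem_support_iff.1 hm)]
  conv_lhs => rw [← MonoidAlgebra.sum_coeff_single y]
  rw [map_finsuppSum]
  simp [MonoidAlgebra.counit_single, Finsupp.sum]

/-- Group-like modulo an ideal, in coordinates. -/
structure IsGLMod [DecidableEq M] (K : Ideal T) (z : MonoidAlgebra T M) : Prop where
  orth : ∀ m n, z.coeff m * z.coeff n - (if m = n then z.coeff m else 0) ∈ K
  total : counit (R := T) z - 1 ∈ K

/-- Group-like, in coordinates. -/
def IsGL [DecidableEq M] (z : MonoidAlgebra T M) : Prop := IsGLMod (⊥ : Ideal T) z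

variable [DecidableEq M]

theorem IsGL.orth {z : MonoidAlgebra T M} (h : IsGL z) (m n : M) :
    z.coeff m * z.coeff n = if m = n then z.coeff m else 0 :=
  sub_eq_zero.1 ((Ideal.mem_bot).1 (IsGLMod.orth h m n))

theorem IsGL.idem {z : MonoidAlgebra T M} (h : IsGL z) (m : M) : IsIdempotentElem (z.coeff m) := by
  show z.coeff m * z.coeff m = z.coeff m
  rw [h.orth, if_pos rfl]

theorem IsGL.counit_eq {z : MonoidAlgebra T M} (h : IsGL z) : counit (R := T) z = 1 :=
  sub_eq_zero.1 ((Ideal.mem_bot).1 (IsGLMod.total h))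

theorem IsGL.comul_eq {z : MonoidAlgebra T M} (h : IsGL z) : comul (R := T) z = z ⊗ₜ[T] z := by
  have hz := MonoidAlgebra.sum_coeff_single z
  have e1 : comul (R := T) z = ∑ m ∈ z.coeff.support, z.coeff m • (MonoidAlgebra.single m (1 : T) ⊗ₜ[T] MonoidAlgebra.single m (1 : T)) := by
    conv_lhs => rw [← hz, Finsupp.sum, map_sum]
    refine Finset.sum_congr rfl fun m _ => ?_
    rw [show MonoidAlgebra.single m (z.coeff m) = z.coeff m • MonoidAlgebra.single m (1 : T) by simp, map_smul,
      MonoidAlgebra.comul_single]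
    simp [CommSemiring.comul_apply]
  rw [e1]
  conv_rhs => rw [← hz, Finsupp.sum, TensorProduct.sum_tmul]
  refine Finset.sum_congr rfl fun m hm => ?_
  rw [TensorProduct.tmul_sum, Finset.sum_eq_single m]
  · rw [show MonoidAlgebra.single m (z.coeff m) = z.coeff m • MonoidAlgebra.single m (1 : T) by simp,
      TensorProduct.smul_tmul_smul, h.orth, if_pos rfl]
  · intro n _ hn
    rw [show MonoidAlgebra.single m (z.coeff m) = z.coeff m • MonoidAlgebra.single m (1 : T) by simp,
      show MonoidAlgebra.single n (z.coeff n) = z.coeff n • MonoidAlgebra.single n (1 : T) by simp,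
      TensorProduct.smul_tmul_smul, h.orth, if_neg (Ne.symm hn), zero_smul]
  · exact fun h => absurd hm h

theorem isGLMod_of_comul {K : Ideal T} {z : MonoidAlgebra T M}
    (h : ∀ m n, coeff₂ m n (comul (R := T) z) - z.coeff m * z.coeff n ∈ K) (hε : counit (R := T) z - 1 ∈ K) :
    IsGLMod K z :=
  ⟨fun m n => by
    rw [← coeff₂_comul, ← neg_sub]
    exact neg_mem (h m n), hε⟩

theorem IsGL.mul {y z : MonoidAlgebra T M} (hy : IsGL y) (hz : IsGL z) : IsGL (y * z) := by
  refine isGLMod_of_comul (fun m n => ?_) ?_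
  · rw [Bialgebra.comul_mul, hy.comul_eq, hz.comul_eq, Algebra.TensorProduct.tmul_mul_tmul, coeff₂_tmul, sub_self]
    exact zero_mem _
  · rw [Bialgebra.counit_mul, hy.counit_eq, hz.counit_eq, mul_one, sub_self]
    exact zero_mem _

theorem isGL_one : IsGL (1 : MonoidAlgebra T M) := by
  refine isGLMod_of_comul (fun m n => ?_) ?_
  · rw [Bialgebra.comul_one, Algebra.TensorProduct.one_def, coeff₂_tmul, sub_self]
    exact zero_mem _
  · rw [Bialgebra.counit_one, sub_self]
    exact zero_mem _

theorem isNilpotent_of_mem {K : Ideal T} (hK : IsNilpotent K) {x : T} (hx : x ∈ K) : IsNilpotent x := by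
  obtain ⟨n, hn⟩ := hK
  exact ⟨n, by have := Ideal.pow_mem_pow hx n; rwa [hn, Submodule.zero_eq_bot, Ideal.mem_bot] at this⟩

/-- Congruent group-like elements are equal. -/
theorem IsGL.eq_of_congr {K : Ideal T} (hK : ∀ x ∈ K, IsNilpotent x) {y z : MonoidAlgebra T M} (hy : IsGL y) (hz : IsGL z)
    (h : ∀ m, y.coeff m - z.coeff m ∈ K) : y = z :=
  MonoidAlgebra.coeff_injective (Finsupp.ext fun m =>
    eq_of_isNilpotent_sub_of_isIdempotentElem (hy.idem m) (hz.idem m) (hK _ (h m)))

theorem exists_idem_lift {K : Ideal T} (hK : ∀ x ∈ K, IsNilpotent x) (x : T) (hx : x * x - x ∈ K) :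
    ∃ e : T, IsIdempotentElem e ∧ e - x ∈ K := by
  obtain ⟨e, he, he'⟩ := exists_isIdempotentElem_eq_of_ker_isNilpotent (Ideal.Quotient.mk K)
    (fun y hy => hK y (Ideal.Quotient.eq_zero_iff_mem.1 hy)) (Ideal.Quotient.mk K x) ⟨x, rfl⟩
    (show Ideal.Quotient.mk K x * Ideal.Quotient.mk K x = Ideal.Quotient.mk K x by
      rw [← map_mul]; exact Ideal.Quotient.eq.2 hx)
  exact ⟨e, he, Ideal.Quotient.eq.1 he'⟩

/-- Group-like elements lift along nilpotent ideals. -/
theorem IsGLMod.exists_lift {K : Ideal T} (hK : ∀ x ∈ K, IsNilpotent x) {z : MonoidAlgebra T M} (h : IsGLMod K z) :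
    ∃ y : MonoidAlgebra T M, IsGL y ∧ ∀ m, y.coeff m - z.coeff m ∈ K := by
  have hex : ∀ m, ∃ e : T, IsIdempotentElem e ∧ e - z.coeff m ∈ K := fun m =>
    exists_idem_lift hK _ (by simpa using h.orth m m)
  choose e he hek using hex
  let s := z.coeff.support
  let y : MonoidAlgebra T M := ∑ m ∈ s, MonoidAlgebra.single m (e m)
  have hy : ∀ m, y.coeff m = if m ∈ s then e m else 0 := fun m => by
    simp [y, MonoidAlgebra.coeff_single, Finsupp.single_apply]
  have hcong : ∀ m, y.coeff m - z.coeff m ∈ K := fun m => by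
    rw [hy]
    split_ifs with hm
    · exact hek m
    · rw [Finsupp.notMem_support_iff.1 hm, sub_zero]; exact zero_mem _
  have hidem : ∀ m, IsIdempotentElem (y.coeff m) := fun m => by
    rw [hy]; split_ifs
    · exact he m
    · exact IsIdempotentElem.zero
  have hq : ∀ m, Ideal.Quotient.mk K (y.coeff m) = Ideal.Quotient.mk K (z.coeff m) := fun m => Ideal.Quotient.eq.2 (hcong m)
  have horth : ∀ m n, y.coeff m * y.coeff n = if m = n then y.coeff m else 0 := fun m n => by
    split_ifs with hmn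
    · subst hmn; exact hidem m
    · refine ((hidem m).mul (hidem n)).eq_zero_of_isNilpotent (hK _ ?_)
      rw [← Ideal.Quotient.eq_zero_iff_mem, map_mul, hq, hq, ← map_mul, Ideal.Quotient.eq_zero_iff_mem]
      simpa [hmn] using h.orth m n
  refine ⟨y, ⟨fun m n => by rw [horth, sub_self]; exact zero_mem _, ?_⟩, hcong⟩
  have hys : y.coeff.support ⊆ s := fun m hm => by
    by_contra hms
    rw [Finsupp.mem_support_iff, hy, if_neg hms] at hm
    exact hm rfl
  have hsum : IsIdempotentElem (∑ m ∈ s, y.coeff m) := by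
    show _ * _ = _
    rw [Finset.sum_mul_sum]
    refine Finset.sum_congr rfl fun m hm => ?_
    simp only [horth, Finset.sum_ite_eq, if_pos hm]
  rw [counit_eq_sum y s hys, Ideal.mem_bot, sub_eq_zero]
  refine eq_of_isNilpotent_sub_of_isIdempotentElem hsum IsIdempotentElem.one (hK _ ?_)
  rw [← Ideal.Quotient.eq_zero_iff_mem, map_sub, map_sum, Finset.sum_congr rfl (fun m _ => hq m), ← map_sum,
    ← counit_eq_sum z s subset_rfl, ← map_sub, Ideal.Quotient.eq_zero_iff_mem]
  exact h.total

theorem mk_eq_mk_iff_coeff (K : Ideal T) (y z : MonoidAlgebra T M) :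
    Ideal.Quotient.mk (K.map (algebraMap T (MonoidAlgebra T M))) y = Ideal.Quotient.mk _ z ↔
      ∀ m, y.coeff m - z.coeff m ∈ K := by
  rw [Ideal.Quotient.eq]
  refine ⟨fun h m => ?_, fun h => mem_map_of_forall_coeff K _ fun m => ?_⟩
  · have h1 := map_mem_of_linear (Finsupp.lapply m ∘ₗ (MonoidAlgebra.coeffLinearEquiv T).toLinearMap) K h
    rw [Algebra.algebraMap_self, Ideal.map_id] at h1
    simpa using h1
  · simpa using h m

variable {M' : Type u} [CommGroup M']

/-- The images of the basis elements under a compatible map are group-like modulo the ideal. -/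
theorem isGLMod_of_compatible {K : Ideal T} (v₀ : WithConv (MonoidAlgebra T M' →ₐ[T] Bar K (MonoidAlgebra T M)))
    (hv : Compatible K v₀) (m' : M') (z : MonoidAlgebra T M)
    (hz : Ideal.Quotient.mk _ z = v₀.ofConv (MonoidAlgebra.single m' 1)) : IsGLMod K z := by
  have h1 : ∀ {X : Type u} [CommRing X] [Algebra T X] (f g : WithConv (MonoidAlgebra T M' →ₐ[T] X)),
      (f * g).ofConv (MonoidAlgebra.single m' 1) =
        f.ofConv (MonoidAlgebra.single m' 1) * g.ofConv (MonoidAlgebra.single m' 1) := fun f g => by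
    rw [AlgHom.convMul_apply, MonoidAlgebra.comul_single]
    simp [CommSemiring.comul_apply]
  have h := DFunLike.congr_fun (congrArg WithConv.ofConv hv) (MonoidAlgebra.single m' 1)
  rw [h1, FinHopf.postComp_apply, FinHopf.postComp_apply, FinHopf.postComp_apply, ← hz, bar_mk, bar_mk, bar_mk, ← map_mul,
    Bialgebra.comulAlgHom_apply, show i₁ z * i₂ z = z ⊗ₜ[T] z by simp [i₁, i₂]] at h
  have hmem := Ideal.Quotient.eq.1 h
  refine isGLMod_of_comul (fun m n => ?_) ?_
  · have h2 := map_mem_of_linear (coeff₂ m n) K hmem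
    rw [map_sub, coeff₂_tmul, Algebra.algebraMap_self, Ideal.map_id] at h2
    exact h2
  · have hu : IsUnit (Ideal.Quotient.mk (K.map (algebraMap T (MonoidAlgebra T M))) z) := by
      rw [hz]
      refine IsUnit.map v₀.ofConv (IsUnit.of_mul_eq_one (MonoidAlgebra.single m'⁻¹ 1) ?_)
      rw [MonoidAlgebra.single_mul_single, mul_inv_cancel, mul_one, MonoidAlgebra.one_def]
    have h2 := map_mem_of_linear ((TensorProduct.lid T (MonoidAlgebra T M)).toLinearMap ∘ₗ (counit (R := T)).rTensor _) K hmem
    rw [map_sub, LinearMap.comp_apply, LinearMap.comp_apply, Coalgebra.rTensor_counit_comul, LinearMap.rTensor_tmul,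
      LinearEquiv.coe_coe, TensorProduct.lid_tmul, TensorProduct.lid_tmul, one_smul, Algebra.smul_def,
      ← Ideal.Quotient.eq_zero_iff_mem, map_sub, map_mul, sub_eq_zero, eq_comm, hu.mul_eq_right] at h2
    have h3 := Ideal.Quotient.eq.1 (h2.trans (map_one _).symm)
    have h4 := map_mem_of_linear (Finsupp.lapply (1 : M) ∘ₗ (MonoidAlgebra.coeffLinearEquiv T).toLinearMap) K h3
    rw [Algebra.algebraMap_self, Ideal.map_id] at h4
    simpa [MonoidAlgebra.coeff_single, MonoidAlgebra.one_def] using h4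

/-- Homomorphisms of diagonalisable groups lift along nilpotent ideals. -/
theorem exists_lift_diagHom {K : Ideal T} (hK : ∀ x ∈ K, IsNilpotent x)
    (v₀ : WithConv (MonoidAlgebra T M' →ₐ[T] Bar K (MonoidAlgebra T M))) (hv : Compatible K v₀) :
    ∃ v : MonoidAlgebra T M' →ₐc[T] MonoidAlgebra T M, ∀ x, Ideal.Quotient.mk _ (v x) = v₀.ofConv x := by
  have hex : ∀ m' : M', ∃ y : MonoidAlgebra T M, IsGL y ∧ Ideal.Quotient.mk _ y = v₀.ofConv (MonoidAlgebra.single m' 1) := fun m' => by
    obtain ⟨z, hz⟩ := Ideal.Quotient.mk_surjective (v₀.ofConv (MonoidAlgebra.single m' 1))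
    obtain ⟨y, hy, hyz⟩ := (isGLMod_of_compatible v₀ hv m' z hz).exists_lift hK
    exact ⟨y, hy, ((mk_eq_mk_iff_coeff K y z).2 hyz).trans hz⟩
  choose y hy hy0 using hex
  have huniq : ∀ (m' : M') (w : MonoidAlgebra T M), IsGL w →
      Ideal.Quotient.mk _ w = v₀.ofConv (MonoidAlgebra.single m' 1) → w = y m' := fun m' w hw h =>
    hw.eq_of_congr hK (hy m') ((mk_eq_mk_iff_coeff K w (y m')).1 (h.trans (hy0 m').symm))
  let θ : M' →* MonoidAlgebra T M :=
    { toFun := y
      map_one' := (huniq 1 1 isGL_one (by rw [map_one, ← MonoidAlgebra.one_def, map_one])).symm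
      map_mul' := fun a b => (huniq _ _ ((hy a).mul (hy b)) (by
        rw [map_mul, hy0, hy0, ← map_mul, MonoidAlgebra.single_mul_single, mul_one])).symm }
  let φ : MonoidAlgebra T M' →ₐ[T] MonoidAlgebra T M := MonoidAlgebra.lift T (MonoidAlgebra T M) M' θ
  have hφ : ∀ m', φ (MonoidAlgebra.single m' 1) = y m' := fun m' => by simp [φ, θ]
  refine ⟨BialgHom.ofAlgHom φ ?_ ?_, fun x => ?_⟩
  · ext m'
    simp [hφ, (hy m').counit_eq]
  · ext m'
    simp [hφ, (hy m').comul_eq, CommSemiring.comul_apply]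
  · show Ideal.Quotient.mk _ (φ x) = _
    suffices e : (Ideal.Quotient.mkₐ T _).comp φ = v₀.ofConv from DFunLike.congr_fun e x
    ext m'
    simp only [AlgHom.comp_apply, MonoidHom.coe_comp, Function.comp_apply, MonoidAlgebra.of_apply, MonoidAlgebra.singleOneAlgHom_apply, hφ]
    first | exact hy0 m' | simp [hφ, hy0]

theorem bialgHom_isGL (v : MonoidAlgebra T M' →ₐc[T] MonoidAlgebra T M) (m' : M') :
    IsGL (v (MonoidAlgebra.single m' 1)) := by
  refine isGLMod_of_comul (fun m n => ?_) ?_
  · rw [show comul (R := T) (v (MonoidAlgebra.single m' 1)) =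
        TensorProduct.map v.toCoalgHom.toLinearMap v.toCoalgHom.toLinearMap (comul (MonoidAlgebra.single m' 1)) from
      (LinearMap.congr_fun v.toCoalgHom.map_comp_comul _).symm]
    simp [MonoidAlgebra.comul_single, CommSemiring.comul_apply, coeff₂_tmul]
    exact sub_self _
  · rw [CoalgHomClass.counit_comp_apply, MonoidAlgebra.counit_single]
    simp

/-- Homomorphisms of diagonalisable groups congruent modulo a nilpotent ideal are equal. -/
theorem diagHom_eq_of_congr {K : Ideal T} (hK : ∀ x ∈ K, IsNilpotent x)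
    (v w : MonoidAlgebra T M' →ₐc[T] MonoidAlgebra T M)
    (h : ∀ x, Ideal.Quotient.mk (K.map (algebraMap T (MonoidAlgebra T M))) (v x) = Ideal.Quotient.mk _ (w x)) :
    v = w := by
  have : (v : MonoidAlgebra T M' →ₐ[T] MonoidAlgebra T M) = w := by
    ext m' : 2
    simp
    exact (bialgHom_isGL v m').eq_of_congr hK (bialgHom_isGL w m') ((mk_eq_mk_iff_coeff K _ _).1 (h _))
  exact DFunLike.ext _ _ (fun x => DFunLike.congr_fun this x)

end Groth.Agent.MultHopf
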