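import Groth.Agent.MultHopf.Pieces
import Groth.Agent.MultHopf.GroupLike

/-!
# Homomorphisms between groups of multiplicative type lift along nilpotent ideals
-/

set_option autoImplicit false

universe u

open scoped TensorProduct
open WithConv Coalgebra

namespace Groth.Agent.MultHopf

open Groth.Agent.FinHopf (postComp)

variable {R : Type u} [CommRing R] {A : Type u} [CommRing A] [HopfAlgebra R A] {A' : Type u} [CommRing A'] [HopfAlgebra R A']

theorem isNil_map {J : Ideal R} (hJ : ∀ x ∈ J, IsNilpotent x) (S : Type u) [CommRing S] [Algebra R S] :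
    ∀ x ∈ J.map (algebraMap R S), IsNilpotent x := fun x hx => by
  have h : J.map (algebraMap R S) ≤ nilradical S :=
    Ideal.map_le_iff_le_comap.2 fun r hr => (mem_nilradical.2 ((hJ r hr).map (algebraMap R S)) : _)
  exact mem_nilradical.1 (h hx)

theorem map_map_algebraMap (J : Ideal R) (S X : Type u) [CommRing S] [Algebra R S] [CommRing X] [Algebra R X] [Algebra S X]
    [IsScalarTower R S X] : (J.map (algebraMap R S)).map (algebraMap S X) = J.map (algebraMap R X) := by
  rw [Ideal.map_map, ← IsScalarTower.algebraMap_eq]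

/-- Over a piece where both groups are diagonalisable, congruent homomorphisms are equal. -/
theorem eq_of_congr_diag {J : Ideal R} (hJ : ∀ x ∈ J, IsNilpotent x) {S : Type u} [CommRing S] [Algebra R S]
    {M : Type u} [CommGroup M] (e : S ⊗[R] A ≃ₐc[S] MonoidAlgebra S M)
    {M' : Type u} [CommGroup M'] (e' : S ⊗[R] A' ≃ₐc[S] MonoidAlgebra S M')
    (V W : S ⊗[R] A' →ₐc[S] S ⊗[R] A)
    (h : ∀ a', V ((1 : S) ⊗ₜ[R] a') - W ((1 : S) ⊗ₜ[R] a') ∈ J.map (algebraMap R (S ⊗[R] A))) : V = W := by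
  classical
  let v : MonoidAlgebra S M' →ₐc[S] MonoidAlgebra S M := ((e : _ →ₐc[S] _).comp V).comp (e'.symm : _ →ₐc[S] _)
  let w : MonoidAlgebra S M' →ₐc[S] MonoidAlgebra S M := ((e : _ →ₐc[S] _).comp W).comp (e'.symm : _ →ₐc[S] _)
  let K := J.map (algebraMap R S)
  let q := Ideal.Quotient.mkₐ S (K.map (algebraMap S (MonoidAlgebra S M)))
  let eS : S ⊗[R] A →ₐ[S] MonoidAlgebra S M := ((e : S ⊗[R] A →ₐc[S] MonoidAlgebra S M) : S ⊗[R] A →ₐ[S] MonoidAlgebra S M)
  have hcong : (q.comp eS).comp (V : S ⊗[R] A' →ₐ[S] S ⊗[R] A) = (q.comp eS).comp (W : S ⊗[R] A' →ₐ[S] S ⊗[R] A) := by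
    refine Algebra.TensorProduct.ext (by ext) (AlgHom.ext fun a' => Ideal.Quotient.eq.2 ?_)
    show e (V ((1 : S) ⊗ₜ[R] a')) - e (W ((1 : S) ⊗ₜ[R] a')) ∈ _
    rw [← map_sub]
    have h1 := h a'
    rw [← map_map_algebraMap J S (S ⊗[R] A)] at h1
    exact map_mem_of_linear (e : S ⊗[R] A →ₗ[S] MonoidAlgebra S M) K h1
  have hvw : v = w := diagHom_eq_of_congr (isNil_map hJ S) v w fun x => DFunLike.congr_fun hcong (e'.symm x)
  refine DFunLike.ext _ _ fun x => e.injective ?_
  have := DFunLike.congr_fun hvw (e' x)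
  simpa [v, w] using this

/-- Over a piece where both groups are diagonalisable, homomorphisms modulo the ideal lift. -/
theorem exists_lift_diag {J : Ideal R} (hJ : ∀ x ∈ J, IsNilpotent x) {S : Type u} [CommRing S] [Algebra R S]
    {M : Type u} [CommGroup M] (e : S ⊗[R] A ≃ₐc[S] MonoidAlgebra S M)
    {M' : Type u} [CommGroup M'] (e' : S ⊗[R] A' ≃ₐc[S] MonoidAlgebra S M')
    (u₀ : WithConv (A' →ₐ[R] Bar J A)) (hu₀ : Compatible J u₀) :
    ∃ V : S ⊗[R] A' →ₐc[S] S ⊗[R] A, ∀ a' a, u₀.ofConv a' = Ideal.Quotient.mk _ a →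
      V ((1 : S) ⊗ₜ[R] a') - (1 : S) ⊗ₜ[R] a ∈ J.map (algebraMap R (S ⊗[R] A)) := by
  classical
  let K := J.map (algebraMap R S)
  let MT := MonoidAlgebra S M
  let ε : A →ₐ[R] MT := (((e : S ⊗[R] A →ₐc[S] MT) : S ⊗[R] A →ₐ[S] MT).restrictScalars R).comp Algebra.TensorProduct.includeRight
  have hmap : ∀ (X : Type u) [CommRing X] [Algebra R X] [Algebra S X] [IsScalarTower R S X] (φ : A →ₐ[R] X),
      ∀ x ∈ J.map (algebraMap R A), φ x ∈ K.map (algebraMap S X) := fun X _ _ _ _ φ x hx => by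
    rw [map_map_algebraMap]
    exact map_mem_of_linear φ.toLinearMap J hx
  let ρ : Bar J A →ₐ[R] Bar K MT :=
    Ideal.Quotient.liftₐ _ (((Ideal.Quotient.mkₐ S _).restrictScalars R).comp ε) fun x hx =>
      Ideal.Quotient.eq_zero_iff_mem.2 (hmap MT ε x hx)
  let v' : S ⊗[R] A' →ₐ[S] Bar K MT :=
    Algebra.TensorProduct.lift (Algebra.ofId S _) (ρ.comp u₀.ofConv) (fun _ _ => Commute.all _ _)
  let v₀ : WithConv (MonoidAlgebra S M' →ₐ[S] Bar K MT) := toConv (v'.comp ((e'.symm : MonoidAlgebra S M' →ₐc[S] S ⊗[R] A') : MonoidAlgebra S M' →ₐ[S] S ⊗[R] A'))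
  have hv₀e : ∀ z, v₀.ofConv (e' z) = v' z := fun z => by simp [v₀]
  have hv'1 : ∀ a', v' ((1 : S) ⊗ₜ[R] a') = ρ (u₀.ofConv a') := fun a' => by simp [v']
  -- the compatibility
  let ψ : A ⊗[R] A →ₐ[R] MT ⊗[S] MT :=
    Algebra.TensorProduct.lift (((i₁ (R := S) (A := MT)).restrictScalars R).comp ε)
      (((i₂ (R := S) (A := MT)).restrictScalars R).comp ε) (fun _ _ => Commute.all _ _)
  let Θ : Bar J (A ⊗[R] A) →ₐ[R] Bar K (MT ⊗[S] MT) :=
    Ideal.Quotient.liftₐ _ (((Ideal.Quotient.mkₐ S _).restrictScalars R).comp ψ) fun x hx => by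
      refine Ideal.Quotient.eq_zero_iff_mem.2 ?_
      rw [map_map_algebraMap]
      exact map_mem_of_linear ψ.toLinearMap J hx
  have hΘ : ∀ z, Θ (Ideal.Quotient.mk _ z) = Ideal.Quotient.mk _ (ψ z) := fun z => rfl
  have hρ : ∀ z, ρ (Ideal.Quotient.mk _ z) = Ideal.Quotient.mk _ (ε z) := fun z => rfl
  have hψΔ : ∀ a : A, ψ (comul (R := R) a) = comul (R := S) (ε a) := fun a => by
    show _ = comul (R := S) (e ((1 : S) ⊗ₜ[R] a))
    rw [show comul (R := S) (e ((1 : S) ⊗ₜ[R] a)) = TensorProduct.map (e : S ⊗[R] A →ₗ[S] MT) (e : S ⊗[R] A →ₗ[S] MT)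
        (comul ((1 : S) ⊗ₜ[R] a)) from (LinearMap.congr_fun (e : S ⊗[R] A →ₐc[S] MT).toCoalgHom.map_comp_comul _).symm,
      TensorProduct.comul_tmul, CommSemiring.comul_apply]
    induction comul (R := R) a using TensorProduct.induction_on with
    | zero => simp
    | add x y hx hy => simp only [TensorProduct.tmul_add, map_add, hx, hy]
    | tmul x y => simp [ψ, ε, i₁, i₂]
  have hv₀ : Compatible K v₀ := by
    apply WithConv.ofConv_injective
    refine AlgHom.ext fun x => ?_
    rw [← e'.apply_symm_apply x]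
    generalize e'.symm x = z
    induction z using TensorProduct.induction_on with
    | zero => simp
    | add x y hx hy => simp only [map_add, hx, hy]
    | tmul s a' =>
      rw [show s ⊗ₜ[R] a' = s • ((1 : S) ⊗ₜ[R] a') by rw [TensorProduct.smul_tmul', smul_eq_mul, mul_one], map_smul, map_smul, map_smul]
      congr 1
      have hu := DFunLike.congr_fun (congrArg WithConv.ofConv hu₀) a'
      rw [FinHopf.postComp_apply, AlgHom.convMul_apply] at hu
      rw [FinHopf.postComp_apply, hv₀e, hv'1, AlgHom.convMul_apply,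
        show comul (R := S) (e' ((1 : S) ⊗ₜ[R] a')) = TensorProduct.map (e' : S ⊗[R] A' →ₗ[S] MonoidAlgebra S M')
          (e' : S ⊗[R] A' →ₗ[S] MonoidAlgebra S M') (comul ((1 : S) ⊗ₜ[R] a')) from
          (LinearMap.congr_fun (e' : S ⊗[R] A' →ₐc[S] MonoidAlgebra S M').toCoalgHom.map_comp_comul _).symm,
        TensorProduct.comul_tmul, CommSemiring.comul_apply]
      have hLHS : bar K (Bialgebra.comulAlgHom S MT) (ρ (u₀.ofConv a')) = Θ (bar J (Bialgebra.comulAlgHom R A) (u₀.ofConv a')) := by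
        obtain ⟨a, ha⟩ := Ideal.Quotient.mk_surjective (u₀.ofConv a')
        rw [← ha, bar_mk, hρ, bar_mk, hΘ, Bialgebra.comulAlgHom_apply, Bialgebra.comulAlgHom_apply, hψΔ]
      rw [hLHS, hu]
      induction comul (R := R) a' using TensorProduct.induction_on with
      | zero => simp
      | add x y hx hy => simp only [TensorProduct.tmul_add, map_add, hx, hy]
      | tmul x y =>
        simp only [TensorProduct.AlgebraTensorModule.tensorTensorTensorComm_tmul, TensorProduct.map_tmul,
          Algebra.TensorProduct.lift_tmul, map_mul, FinHopf.postComp_apply]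
        show _ = bar K i₁ (v₀.ofConv (e' ((1 : S) ⊗ₜ[R] x))) * bar K i₂ (v₀.ofConv (e' ((1 : S) ⊗ₜ[R] y)))
        rw [hv₀e, hv₀e, hv'1, hv'1]
        obtain ⟨a, ha⟩ := Ideal.Quotient.mk_surjective (u₀.ofConv x)
        obtain ⟨b, hb⟩ := Ideal.Quotient.mk_surjective (u₀.ofConv y)
        rw [← ha, ← hb, bar_mk, bar_mk, hρ, hρ, bar_mk, bar_mk, hΘ, hΘ]
        simp [ψ, ε, i₁, i₂, ← Algebra.TensorProduct.one_def]
  obtain ⟨v, hv⟩ := exists_lift_diagHom (isNil_map hJ S) v₀ hv₀
  refine ⟨((e.symm : _ →ₐc[S] _).comp v).comp (e' : _ →ₐc[S] _), fun a' a ha => ?_⟩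
  show e.symm (v (e' ((1 : S) ⊗ₜ[R] a'))) - _ ∈ _
  have h1 := hv (e' ((1 : S) ⊗ₜ[R] a'))
  rw [hv₀e, hv'1, ha, hρ, Ideal.Quotient.eq] at h1
  have h2 := map_mem_of_linear (e.symm : MT →ₗ[S] S ⊗[R] A) K h1
  rw [map_map_algebraMap, map_sub] at h2
  simpa [ε] using h2

/-- Homomorphisms between groups of multiplicative type lift along nilpotent ideals. -/
theorem exists_lift_hom_multType {J : Ideal R} (hJ : ∀ x ∈ J, IsNilpotent x) (F : FamFF R) (hA : Splits A F) (hA' : Splits A' F)
    (u₀ : WithConv (A' →ₐ[R] Bar J A)) (hu₀ : Compatible J u₀) :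
    ∃ φ : A' →ₐc[R] A, ∀ a', Ideal.Quotient.mk _ (φ a') = u₀.ofConv a' := by
  classical
  choose M _iM he using hA
  choose M' _iM' he' using hA'
  have hex : ∀ k, ∃ V : F.S k ⊗[R] A' →ₐc[F.S k] F.S k ⊗[R] A, ∀ a' a, u₀.ofConv a' = Ideal.Quotient.mk _ a →
      V ((1 : F.S k) ⊗ₜ[R] a') - (1 : F.S k) ⊗ₜ[R] a ∈ J.map (algebraMap R (F.S k ⊗[R] A)) :=
    fun k => exists_lift_diag hJ (he k).some (he' k).some u₀ hu₀
  choose V hV using hex
  let y : ∀ k, A' →ₐ[R] F.S k ⊗[R] A := fun k =>
    (((V k) : F.S k ⊗[R] A' →ₐ[F.S k] F.S k ⊗[R] A).restrictScalars R).comp Algebra.TensorProduct.includeRight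
  -- agreement on overlaps
  have hover : ∀ k k' a', Algebra.TensorProduct.map (Algebra.TensorProduct.includeLeft : F.S k →ₐ[R] F.S k ⊗[R] F.S k')
        (AlgHom.id R A) (y k a') =
      Algebra.TensorProduct.map (Algebra.TensorProduct.includeRight : F.S k' →ₐ[R] F.S k ⊗[R] F.S k') (AlgHom.id R A) (y k' a') := by
    intro k k'
    let iL : F.S k →ₐ[R] F.S k ⊗[R] F.S k' := Algebra.TensorProduct.includeLeft
    let iR : F.S k' →ₐ[R] F.S k ⊗[R] F.S k' := Algebra.TensorProduct.includeRight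
    obtain ⟨P, hP⟩ := exists_bc iL (V k)
    obtain ⟨Q, hQ⟩ := exists_bc iR (V k')
    obtain ⟨e⟩ := nonempty_diag_bc (A := A) iL (he k).some
    obtain ⟨e'⟩ := nonempty_diag_bc (A := A') iL (he' k).some
    have hPQ : P = Q := eq_of_congr_diag hJ e e' P Q fun a' => by
      obtain ⟨a, ha⟩ := Ideal.Quotient.mk_surjective (u₀.ofConv a')
      have h1 := map_mem_of_linear (Algebra.TensorProduct.map iL (AlgHom.id R A)).toLinearMap J (hV k a' a ha.symm)
      have h2 := map_mem_of_linear (Algebra.TensorProduct.map iR (AlgHom.id R A)).toLinearMap J (hV k' a' a ha.symm)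
      rw [map_sub, AlgHom.toLinearMap_apply, AlgHom.toLinearMap_apply] at h1 h2
      have h3 := sub_mem h1 h2
      rw [Algebra.TensorProduct.map_tmul, Algebra.TensorProduct.map_tmul, map_one, map_one, sub_sub_sub_cancel_right] at h3
      rw [hP, hQ]
      exact h3
    intro a'
    show Algebra.TensorProduct.map iL (AlgHom.id R A) (V k ((1 : F.S k) ⊗ₜ[R] a')) =
      Algebra.TensorProduct.map iR (AlgHom.id R A) (V k' ((1 : F.S k') ⊗ₜ[R] a'))
    rw [← hP, ← hQ, hPQ]
  -- descent
  have := F.faithfullyFlat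
  let T := (k : F.κ) → F.S k
  let toPi : T ⊗[R] A →ₗ[R] (k : F.κ) → A ⊗[R] F.S k :=
    ((TensorProduct.comm R T A).trans (TensorProduct.piRight R R A F.S)).toLinearMap
  have hdesc : ∀ a', ∃ a : A, ∀ k, (1 : F.S k) ⊗ₜ[R] a = y k a' := by
    intro a'
    obtain ⟨z, hz⟩ : ∃ z : T ⊗[R] A, ∀ k, (LinearMap.proj (φ := F.S) k).rTensor A z = y k a' := by
      refine ⟨((TensorProduct.comm R T A).trans (TensorProduct.piRight R R A F.S)).symm
        (fun k => TensorProduct.comm R (F.S k) A (y k a')), fun k => ?_⟩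
      apply (TensorProduct.comm R (F.S k) A).injective
      conv_rhs => rw [← congrFun (((TensorProduct.comm R T A).trans (TensorProduct.piRight R R A F.S)).apply_symm_apply
        (fun k => TensorProduct.comm R (F.S k) A (y k a'))) k]
      generalize ((TensorProduct.comm R T A).trans (TensorProduct.piRight R R A F.S)).symm _ = w
      induction w using TensorProduct.induction_on with
      | zero => simp
      | add u v hu hv => simp only [map_add, Pi.add_apply, hu, hv]
      | tmul t a => simp; rfl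
    obtain ⟨a, ha⟩ := FpqcDescent.Amitsur.mem_range_mk R T A z (by
      rw [← sub_eq_zero]
      let F₂ := F.prod F
      let pr : ∀ (k k' : F.κ), T ⊗[R] (T ⊗[R] A) →ₗ[R] (F.S k ⊗[R] F.S k') ⊗[R] A := fun k k' =>
        (TensorProduct.assoc R (F.S k) (F.S k') A).symm.toLinearMap ∘ₗ
          TensorProduct.map (LinearMap.proj (φ := F.S) k) ((LinearMap.proj (φ := F.S) k').rTensor A)
      have hsep : ∀ w : T ⊗[R] (T ⊗[R] A), (∀ k k', pr k k' w = 0) → w = 0 := by
        intro w hw
        apply ((TensorProduct.comm R T (T ⊗[R] A)).trans (TensorProduct.piRight R R (T ⊗[R] A) F.S)).injective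
        rw [map_zero]
        funext k
        apply ((TensorProduct.congr ((TensorProduct.comm R T A).trans (TensorProduct.piRight R R A F.S)) (LinearEquiv.refl R (F.S k))).trans
          ((TensorProduct.comm R _ (F.S k)).trans (TensorProduct.piRight R R (F.S k) (fun k' => A ⊗[R] F.S k')))).injective
        rw [Pi.zero_apply, map_zero]
        funext k'
        apply ((TensorProduct.congr (LinearEquiv.refl R (F.S k)) (TensorProduct.comm R A (F.S k'))).trans
          (TensorProduct.assoc R (F.S k) (F.S k') A).symm).injective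
        rw [Pi.zero_apply, map_zero]
        refine Eq.trans ?_ (hw k k')
        clear hw
        induction w using TensorProduct.induction_on with
        | zero => simp
        | add u v hu hv => simp only [map_add, Pi.add_apply, hu, hv]
        | tmul t r =>
          induction r using TensorProduct.induction_on with
          | zero => simp
          | add u v hu hv => simp only [TensorProduct.tmul_add, map_add, Pi.add_apply, hu, hv]
          | tmul t' a => simp [pr]; rfl
      refine hsep _ fun k k' => ?_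
      rw [map_sub, sub_eq_zero]
      have e1 : ∀ w : T ⊗[R] A, pr k k' (TensorProduct.mk R T (T ⊗[R] A) 1 w) =
          Algebra.TensorProduct.map (Algebra.TensorProduct.includeRight : F.S k' →ₐ[R] F.S k ⊗[R] F.S k') (AlgHom.id R A)
            ((LinearMap.proj (φ := F.S) k').rTensor A w) := fun w => by
        induction w using TensorProduct.induction_on with
        | zero => simp
        | add u v hu hv => simp only [map_add, hu, hv]
        | tmul t a => simp [pr]; rfl
      have e2 : ∀ w : T ⊗[R] A, pr k k' ((TensorProduct.mk R T A 1).lTensor T w) =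
          Algebra.TensorProduct.map (Algebra.TensorProduct.includeLeft : F.S k →ₐ[R] F.S k ⊗[R] F.S k') (AlgHom.id R A)
            ((LinearMap.proj (φ := F.S) k).rTensor A w) := fun w => by
        induction w using TensorProduct.induction_on with
        | zero => simp
        | add u v hu hv => simp only [map_add, hu, hv]
        | tmul t a => simp [pr]; rfl
      rw [e1, e2, hz, hz]
      exact (hover k k' a').symm)
    exact ⟨a, fun k => by rw [← hz k, ← ha]; simp; rfl⟩
  choose f hf using hdesc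
  have heq : ∀ a b : A, (∀ k, (1 : F.S k) ⊗ₜ[R] a = (1 : F.S k) ⊗ₜ[R] b) → a = b := fun a b h =>
    sub_eq_zero.1 (F.eq_zero _ fun k => by rw [TensorProduct.tmul_sub, h k, sub_self])
  have hmk : ∀ k (x y : A), (1 : F.S k) ⊗ₜ[R] (x * y) = ((1 : F.S k) ⊗ₜ[R] x) * ((1 : F.S k) ⊗ₜ[R] y) := fun k x y => by simp
  let fA : A' →ₐ[R] A :=
    { toFun := f
      map_one' := heq _ _ fun k => by rw [hf, map_one, Algebra.TensorProduct.one_def]
      map_mul' := fun p q => heq _ _ fun k => by rw [hf, map_mul, hmk, hf, hf]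
      map_zero' := heq _ _ fun k => by rw [hf, map_zero, TensorProduct.tmul_zero]
      map_add' := fun p q => heq _ _ fun k => by rw [hf, map_add, TensorProduct.tmul_add, hf, hf]
      commutes' := fun r => heq _ _ fun k => by
        rw [hf, AlgHom.commutes]
        simp [Algebra.algebraMap_eq_smul_one, TensorProduct.tmul_smul, Algebra.TensorProduct.one_def, TensorProduct.smul_tmul'] }
  obtain ⟨φ, hφ⟩ := exists_bialgHom (toConv fA) (by
    apply WithConv.ofConv_injective
    refine AlgHom.ext fun a' => ?_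
    rw [← sub_eq_zero]
    refine F.eq_zero _ fun k => ?_
    rw [TensorProduct.tmul_sub, sub_eq_zero]
    let L : (F.S k ⊗[R] A) ⊗[F.S k] (F.S k ⊗[R] A) ≃ₗ[F.S k] F.S k ⊗[R] (A ⊗[R] A) :=
      (TensorProduct.AlgebraTensorModule.distribBaseChange R (F.S k) A A).symm
    have hL : ∀ x y : A, L (((1 : F.S k) ⊗ₜ[R] x) ⊗ₜ[F.S k] ((1 : F.S k) ⊗ₜ[R] y)) = (1 : F.S k) ⊗ₜ[R] (x ⊗ₜ[R] y) := fun x y => by
      apply L.symm.injective
      rw [L.symm_apply_apply]
      simp [L]
    have hLc : ∀ x : A, (1 : F.S k) ⊗ₜ[R] (comul (R := R) x) = L (comul (R := F.S k) ((1 : F.S k) ⊗ₜ[R] x)) := fun x => by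
      rw [TensorProduct.comul_tmul, CommSemiring.comul_apply]
      induction comul (R := R) x using TensorProduct.induction_on with
      | zero => simp
      | add u v hu hv => simp only [TensorProduct.tmul_add, map_add, hu, hv]
      | tmul u v => rw [TensorProduct.AlgebraTensorModule.tensorTensorTensorComm_tmul, hL]
    show (1 : F.S k) ⊗ₜ[R] (comul (R := R) (f a')) = _
    rw [hLc, hf, AlgHom.convMul_apply]
    show L (comul (R := F.S k) (V k ((1 : F.S k) ⊗ₜ[R] a'))) = _
    rw [show comul (R := F.S k) (V k ((1 : F.S k) ⊗ₜ[R] a')) = TensorProduct.map (V k).toCoalgHom.toLinearMap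
        (V k).toCoalgHom.toLinearMap (comul ((1 : F.S k) ⊗ₜ[R] a')) from (LinearMap.congr_fun (V k).toCoalgHom.map_comp_comul _).symm,
      TensorProduct.comul_tmul, CommSemiring.comul_apply]
    induction comul (R := R) a' using TensorProduct.induction_on with
    | zero => simp
    | add u v hu hv => simp only [TensorProduct.tmul_add, map_add, hu, hv]
    | tmul u v =>
      rw [TensorProduct.AlgebraTensorModule.tensorTensorTensorComm_tmul, TensorProduct.map_tmul]
      show L (V k ((1 : F.S k) ⊗ₜ[R] u) ⊗ₜ[F.S k] V k ((1 : F.S k) ⊗ₜ[R] v)) = _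
      rw [show V k ((1 : F.S k) ⊗ₜ[R] u) = (1 : F.S k) ⊗ₜ[R] f u from (hf u k).symm,
        show V k ((1 : F.S k) ⊗ₜ[R] v) = (1 : F.S k) ⊗ₜ[R] f v from (hf v k).symm, hL]
      simp [fA, i₁, i₂])
  refine ⟨φ, fun a' => sub_eq_zero.1 (F.eq_zero _ fun k => ?_)⟩
  obtain ⟨a, ha⟩ := Ideal.Quotient.mk_surjective (u₀.ofConv a')
  rw [hφ a', ← ha, ← map_sub]
  let q := Ideal.Quotient.mkₐ R (J.map (algebraMap R A))
  have h1 := hV k a' a ha.symm
  rw [show V k ((1 : F.S k) ⊗ₜ[R] a') = (1 : F.S k) ⊗ₜ[R] f a' from (hf a' k).symm, ← TensorProduct.tmul_sub] at h1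
  have h2 := map_mem_of_linear (q.toLinearMap.lTensor (F.S k)) J h1
  rw [LinearMap.lTensor_tmul] at h2
  have h3 : J.map (algebraMap R (F.S k ⊗[R] Bar J A)) = ⊥ := by
    rw [Ideal.map_eq_bot_iff_le_ker]
    intro r hr
    rw [RingHom.mem_ker, Algebra.algebraMap_eq_smul_one, Algebra.TensorProduct.one_def, ← TensorProduct.tmul_smul,
      show r • (1 : Bar J A) = 0 from (Algebra.algebraMap_eq_smul_one r).symm.trans
        (Ideal.Quotient.eq_zero_iff_mem.2 (Ideal.mem_map_of_mem _ hr)), TensorProduct.tmul_zero]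
  rw [h3, Ideal.mem_bot] at h2
  exact h2

end Groth.Agent.MultHopf
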