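import Groth.Agent.MultHopf.HomLocus
import Groth.Agent.MultHopf.Locally

/-!
# Loci of homomorphisms, the source of multiplicative type of arbitrary type
-/

set_option autoImplicit false
set_option backward.isDefEq.respectTransparency.types false

universe u

open CategoryTheory CategoryTheory.Limits MonoidalCategory CartesianMonoidalCategory MonObj AlgebraicGeometry
open scoped TensorProduct
open WithConv

namespace Groth.Agent.MultHopf

variable {S : Scheme.{u}}

/-- A cover diagonalising two groups of multiplicative type simultaneously. -/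
theorem exists_common_cover_loc (G H : Over S) [GrpObj G] [GrpObj H] (hG : IsMultTypeLoc G)
    (hH : SGA3x.IsMultTypeFT H) :
    ∃ (S' : Scheme.{u}) (f : S' ⟶ S), Flat f ∧ Surjective f ∧
      (∀ V : S.Opens, IsAffineOpen V → ∃ W : S'.Opens, IsCompact (W : Set S') ∧ f.base '' (W : Set S') = (V : Set S)) ∧
      ∀ s : S', ∃ U : S'.Opens, s ∈ U ∧ ∃ (M : Type) (_ : AddCommGroup M) (M' : Type) (_ : AddCommGroup M'),
        AddGroup.FG M' ∧
        Nonempty (Grp.mk (Red.bc (U.ι ≫ f) G) ≅ Grp.mk (Red.DS (U : Scheme.{u}) M)) ∧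
        Nonempty (Grp.mk (Red.bc (U.ι ≫ f) H) ≅ Grp.mk (Red.DS (U : Scheme.{u}) M')) := by
  obtain ⟨S₁, f₁, hfl₁, hs₁, hcov₁, hloc₁⟩ := hG
  obtain ⟨S₂, f₂, hfl₂, hs₂, hcov₂, hloc₂⟩ := hH
  let p₁ : pullback f₁ f₂ ⟶ S₁ := pullback.fst f₁ f₂
  let p₂ : pullback f₁ f₂ ⟶ S₂ := pullback.snd f₁ f₂
  have : Flat p₁ := MorphismProperty.pullback_fst (P := @Flat) _ _ hfl₂
  have : Surjective p₁ := MorphismProperty.pullback_fst (P := @Surjective) _ _ hs₂
  refine ⟨pullback f₁ f₂, p₁ ≫ f₁, inferInstance, inferInstance, fun V hV => ?_, fun s => ?_⟩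
  · obtain ⟨W₁, hW₁, hWV₁⟩ := hcov₁ V hV
    obtain ⟨W₂, hW₂, hWV₂⟩ := hcov₂ V hV
    have hl₁ : W₁ ≤ f₁ ⁻¹ᵁ V := fun w hw => hWV₁.le ⟨w, hw, rfl⟩
    have hl₂ : W₂ ≤ f₂ ⁻¹ᵁ V := fun w hw => hWV₂.le ⟨w, hw, rfl⟩
    let b₁ := f₁.resLE V W₁ hl₁
    let b₂ := f₂.resLE V W₂ hl₂
    have : IsAffine V.toScheme := hV
    have : CompactSpace W₁.toScheme := isCompact_iff_compactSpace.1 hW₁
    have : CompactSpace W₂.toScheme := isCompact_iff_compactSpace.1 hW₂
    have : QuasiCompact b₁ := inferInstance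
    have : QuasiCompact b₂ := inferInstance
    have : CompactSpace ↥(pullback b₁ b₂) := QuasiCompact.compactSpace_of_compactSpace (pullback.fst b₁ b₂)
    let q : pullback b₁ b₂ ⟶ pullback f₁ f₂ := pullback.map b₁ b₂ f₁ f₂ W₁.ι W₂.ι V.ι
      (Scheme.Hom.resLE_comp_ι f₁ hl₁) (Scheme.Hom.resLE_comp_ι f₂ hl₂)
    have : IsOpenImmersion q := inferInstance
    refine ⟨q.opensRange, by rw [Scheme.Hom.coe_opensRange, ← Set.image_univ]; exact isCompact_univ.image q.continuous, ?_⟩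
    rw [Scheme.Hom.coe_opensRange, ← Set.range_comp]
    apply Set.Subset.antisymm
    · rintro _ ⟨z, rfl⟩
      show (p₁ ≫ f₁) (q z) ∈ V
      rw [← Scheme.Hom.comp_apply, ← Category.assoc, pullback.lift_fst, Category.assoc, Scheme.Hom.comp_apply]
      exact hl₁ (Subtype.mem _)
    · intro v hv
      obtain ⟨w₁, hw₁, hwv₁⟩ := hWV₁.ge hv
      obtain ⟨w₂, hw₂, hwv₂⟩ := hWV₂.ge hv
      obtain ⟨z, hz, -⟩ := Scheme.Pullback.exists_preimage_pullback (f := b₁) (g := b₂) ⟨w₁, hw₁⟩ ⟨w₂, hw₂⟩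
        (V.ι.isOpenEmbedding.injective (by
          rw [← Scheme.Hom.comp_apply, ← Scheme.Hom.comp_apply, Scheme.Hom.resLE_comp_ι, Scheme.Hom.resLE_comp_ι,
            Scheme.Hom.comp_apply, Scheme.Hom.comp_apply]
          exact hwv₁.trans hwv₂.symm))
      refine ⟨z, ?_⟩
      show (p₁ ≫ f₁) (q z) = v
      rw [← Scheme.Hom.comp_apply, ← Category.assoc, pullback.lift_fst, Category.assoc, Scheme.Hom.comp_apply, hz,
        Scheme.Hom.comp_apply]
      exact hwv₁
  · obtain ⟨U₁, hU₁, M, iM, ⟨e₁⟩⟩ := hloc₁ (p₁ s)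
    obtain ⟨U₂, hU₂, M', iM', hM', ⟨e₂⟩⟩ := hloc₂ (p₂ s)
    let U := p₁ ⁻¹ᵁ U₁ ⊓ p₂ ⁻¹ᵁ U₂
    let g₁ : U.toScheme ⟶ U₁.toScheme := p₁.resLE U₁ U inf_le_left
    let g₂ : U.toScheme ⟶ U₂.toScheme := p₂.resLE U₂ U inf_le_right
    have h1 : U.ι ≫ p₁ ≫ f₁ = g₁ ≫ U₁.ι ≫ f₁ := by
      rw [← Category.assoc g₁, Scheme.Hom.resLE_comp_ι, Category.assoc]
    have h2 : U.ι ≫ p₁ ≫ f₁ = g₂ ≫ U₂.ι ≫ f₂ := by
      rw [← Category.assoc g₂, Scheme.Hom.resLE_comp_ι, Category.assoc, pullback.condition]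
    let t₁ := Limits.IsTerminal.from specULiftZIsTerminal U₁.toScheme
    let t₂ := Limits.IsTerminal.from specULiftZIsTerminal U₂.toScheme
    refine ⟨U, ⟨hU₁, hU₂⟩, M, iM, M', iM', hM', ⟨?_⟩, ⟨?_⟩⟩
    · exact bcCongr h1 G ≪≫ bcComp g₁ _ G ≪≫ bcIso g₁ e₁ ≪≫ (bcComp g₁ t₁ _).symm ≪≫
        bcCongr (specULiftZIsTerminal.hom_ext _ _) _
    · exact bcCongr h2 H ≪≫ bcComp g₂ _ H ≪≫ bcIso g₂ e₂ ≪≫ (bcComp g₂ t₂ _).symm ≪≫
        bcCongr (specULiftZIsTerminal.hom_ext _ _) _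

/-- The locus where a homomorphism of groups of multiplicative type of finite type has a property given by a
condition on character groups is open and closed, and the property holds above it. -/
theorem exists_clopen_locus_loc (P : MorphismProperty Scheme.{u}) [P.IsStableUnderBaseChange]
    [IsZariskiLocalAtTarget P] [P.DescendsAlong (@Surjective ⊓ @Flat ⊓ @QuasiCompact)]
    (Q : ∀ {M' M : Type u} [CommGroup M'] [CommGroup M], (M' →* M) → Prop)
    (hQP : ∀ (R : Type u) [CommRing R] {M' M : Type u} [CommGroup M'] [CommGroup M] (θ : M' →* M), Q θ →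
      P (Spec.map (CommRingCat.ofHom (MonoidAlgebra.mapDomainAlgHom R R θ).toRingHom)))
    (hPQ : ∀ (K : Type u) [Field K] {M' M : Type u} [CommGroup M'] [CommGroup M] (θ : M' →* M),
      P (Spec.map (CommRingCat.ofHom (MonoidAlgebra.mapDomainAlgHom K K θ).toRingHom)) → Q θ)
    (G H : Over S) [GrpObj G] [GrpObj H] (hG : IsMultTypeLoc G) (hH : SGA3x.IsMultTypeFT H)
    (u : G ⟶ H) [IsMonHom u] :
    ∃ U : S.Opens, IsClosed (U : Set S) ∧
      (∀ s : S, s ∈ U ↔ P ((Over.pullback (S.fromSpecResidueField s)).map u).left) ∧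
      P ((Over.pullback U.ι).map u).left := by
  classical
  obtain ⟨S', f, hfl, hsurj, hcov, hloc⟩ := exists_common_cover_loc G H hG hH
  let U₀ : Set S := {s | P ((Over.pullback (S.fromSpecResidueField s)).map u).left}
  -- charts
  have hchart : ∀ x : S', ∃ (R : Type u) (_ : CommRing R) (k : Spec (CommRingCat.of R) ⟶ S') (_ : IsOpenImmersion k),
      x ∈ Set.range k ∧ ∀ p : PrimeSpectrum R, ∃ e : R, IsIdempotentElem e ∧ e ∉ p.asIdeal ∧ ∃ c : Prop,
        ∀ (K : Type u) [CommRing K] [Algebra R K], algebraMap R K e = 1 →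
          (c → P ((Over.pullback (Spec.map (CommRingCat.ofHom (algebraMap R K)) ≫ k ≫ f)).map u).left) ∧
          (IsField K → P ((Over.pullback (Spec.map (CommRingCat.ofHom (algebraMap R K)) ≫ k ≫ f)).map u).left → c) := by
    intro x
    obtain ⟨U, hxU, M, iM, M', iM', hM', ⟨eG⟩, ⟨eH⟩⟩ := hloc x
    obtain ⟨W, hW, hxW, hWU⟩ := exists_isAffineOpen_mem_and_subset hxU
    let R : Type u := Γ(S', W)
    let g : Spec (CommRingCat.of R) ⟶ U.toScheme := hW.isoSpec.inv ≫ S'.homOfLE hWU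
    have hg : hW.fromSpec ≫ f = g ≫ U.ι ≫ f := by
      simp only [g, Category.assoc, Scheme.homOfLE_ι_assoc]
      rfl
    let t := Limits.IsTerminal.from specULiftZIsTerminal U.toScheme
    let MG : Type u := ULift.{u} (Multiplicative M)
    let MH : Type u := ULift.{u} (Multiplicative M')
    let eA : Grp.mk (Red.bc (hW.fromSpec ≫ f) G) ≅ Grp.mk (hspec R (MonoidAlgebra R MG)) :=
      bcCongr hg G ≪≫ bcComp g _ G ≪≫ bcIso g eG ≪≫ (bcComp g t _).symm ≪≫ bcDiag _ _ _ M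
    let eB : Grp.mk (Red.bc (hW.fromSpec ≫ f) H) ≅ Grp.mk (hspec R (MonoidAlgebra R MH)) :=
      bcCongr hg H ≪≫ bcComp g _ H ≪≫ bcIso g eH ≪≫ (bcComp g t _).symm ≪≫ bcDiag _ _ _ M'
    let w₀ := eA.inv ≫ (Over.pullback (hW.fromSpec ≫ f)).mapGrp.map (Grp.homMk'' u : Grp.mk G ⟶ Grp.mk H) ≫ eB.hom
    let w : hspec R (MonoidAlgebra R MG) ⟶ hspec R (MonoidAlgebra R MH) := w₀.hom.hom
    have : IsMonHom w := w₀.hom.isMonHom_hom
    have hw : (Over.pullback (hW.fromSpec ≫ f)).map u = eA.hom.hom.hom ≫ w ≫ eB.inv.hom.hom := by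
      have h1 : eA.hom ≫ w₀ ≫ eB.inv = (Over.pullback (hW.fromSpec ≫ f)).mapGrp.map (Grp.homMk'' u : Grp.mk G ⟶ Grp.mk H) := by
        simp only [w₀, Category.assoc, Iso.hom_inv_id_assoc]
        exact (congrArg (_ ≫ ·) eB.hom_inv_id).trans (Category.comp_id _)
      exact (congrArg (fun z => z.hom.hom) h1).symm
    let eι : Multiplicative M' ≃* MH := MulEquiv.ulift.symm
    have : Group.FG MH := Group.fg_of_surjective (f := eι.toMonoidHom) eι.surjective
    refine ⟨R, inferInstance, hW.fromSpec, inferInstance, by rw [hW.range_fromSpec]; exact hxW, fun p => ?_⟩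
    obtain ⟨e, he, hep, θ, hθ⟩ := exists_idem_theta (modelMap w) (modelMap_groupLike w) p
    refine ⟨e, he, hep, Q θ, fun K _ _ heK => ?_⟩
    let gK := Spec.map (CommRingCat.ofHom (algebraMap R K))
    have : IsIso eA.hom.hom.hom := ⟨eA.inv.hom.hom, congrArg (fun z => z.hom.hom) eA.hom_inv_id,
      congrArg (fun z => z.hom.hom) eA.inv_hom_id⟩
    have : IsIso eB.inv.hom.hom := ⟨eB.hom.hom.hom, congrArg (fun z => z.hom.hom) eB.inv_hom_id,
      congrArg (fun z => z.hom.hom) eB.hom_inv_id⟩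
    have hiff : P ((Over.pullback (gK ≫ hW.fromSpec ≫ f)).map u).left ↔
        P (Spec.map (CommRingCat.ofHom (MonoidAlgebra.mapDomainAlgHom K K θ).toRingHom)) := by
      have hbc := bc_model_iff P (K := K) (modelMap w) (MonoidAlgebra.mapDomainAlgHom K K θ) (fun g => by
        rw [hθ K heK g]; simp)
      rw [map_comp_iff P gK (hW.fromSpec ≫ f) u, hw, ← hbc, ptMap_modelMap, Functor.map_comp, Functor.map_comp,
        Over.comp_left, Over.comp_left]
      have : IsIso ((Over.pullback gK).map eA.hom.hom.hom).left :=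
        inferInstanceAs (IsIso ((Over.forget _).map ((Over.pullback gK).map (eA.hom.hom.hom))))
      have : IsIso ((Over.pullback gK).map eB.inv.hom.hom).left :=
        inferInstanceAs (IsIso ((Over.forget _).map ((Over.pullback gK).map (eB.inv.hom.hom))))
      rw [P.cancel_left_of_respectsIso, P.cancel_right_of_respectsIso]
    refine ⟨fun h => hiff.2 (hQP K θ h), fun hK h => ?_⟩
    let : Field K := hK.toField
    exact hPQ K θ (hiff.1 h)
  choose R _iR k hk hxk hp using hchart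
  choose e he hep c hc using hp
  -- membership at the points of a chart
  have hmem : ∀ (x : S') (p q : PrimeSpectrum (R x)), e x p ∉ q.asIdeal →
      (f (k x q) ∈ U₀ ↔ c x p) := by
    intro x p q hq
    let K := q.asIdeal.ResidueField
    have he1 : algebraMap (R x) K (e x p) = 1 := by
      have h := (he x p).map (algebraMap (R x) K)
      refine (IsIdempotentElem.iff_eq_zero_or_one.1 h).resolve_left ?_
      rw [Ideal.algebraMap_residueField_eq_zero]
      exact hq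
    let m : Spec (CommRingCat.of K) ⟶ S := Spec.map (CommRingCat.ofHom (algebraMap (R x) K)) ≫ k x ≫ f
    have hker : PrimeSpectrum.comap (algebraMap (R x) K) (IsLocalRing.closedPoint K) = q := by
      refine PrimeSpectrum.ext ?_
      show (IsLocalRing.maximalIdeal K).comap _ = _
      rw [IsLocalRing.maximalIdeal_eq_bot]
      exact Ideal.ker_algebraMap_residueField q.asIdeal
    have hpt : m (IsLocalRing.closedPoint K) = f (k x q) :=
      (Scheme.Hom.comp_apply _ _ _).trans ((Scheme.Hom.comp_apply _ _ _).trans (congrArg (fun z => f (k x z)) hker))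
    show P _ ↔ _
    rw [residue_iff P u m _ hpt]
    exact ⟨(hc x p K he1).2 (Field.toIsField K), (hc x p K he1).1⟩
  have hsurjk : ∀ x : S', ∃ p : PrimeSpectrum (R x), k x p = x := fun x => hxk x
  choose p₀ hp₀ using hsurjk
  -- neighbourhoods on which membership is constant
  let O : S' → S'.Opens := fun x => (k x) ''ᵁ PrimeSpectrum.basicOpen (e x (p₀ x))
  have hxO : ∀ x, x ∈ O x := fun x => ⟨p₀ x, hep x _, hp₀ x⟩
  have hconst : ∀ x, ∀ y ∈ O x, (f y ∈ U₀ ↔ c x (p₀ x)) := by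
    rintro x _ ⟨q, hq, rfl⟩
    exact hmem x _ q hq
  have hlc : ∀ x y, y ∈ O x → (f x ∈ U₀ ↔ f y ∈ U₀) := fun x y hy =>
    (hconst x x (hxO x)).trans (hconst x y hy).symm
  have hcl : IsClosed (f ⁻¹' U₀) := ⟨isOpen_iff_forall_mem_open.2 fun x hx =>
    ⟨O x, fun y hy h => hx ((hlc x y hy).2 h), (O x).isOpen, hxO x⟩⟩
  have hop : IsOpen (f ⁻¹' U₀) := isOpen_iff_forall_mem_open.2 fun x hx =>
    ⟨O x, fun y hy => (hlc x y hy).1 hx, (O x).isOpen, hxO x⟩
  -- descent
  have hdesc : ∀ V : S.Opens, IsAffineOpen V → ∃ (W : S'.Opens) (b : W.toScheme ⟶ V.toScheme),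
      b ≫ V.ι = W.ι ≫ f ∧ QuasiCompact b ∧ Flat b ∧ Surjective b := by
    intro V hV
    obtain ⟨W, hWc, hWV⟩ := hcov V hV
    have hle : W ≤ f ⁻¹ᵁ V := fun w hw => hWV.le ⟨w, hw, rfl⟩
    let b : W.toScheme ⟶ V.toScheme := f.resLE V W hle
    have hb : b ≫ V.ι = W.ι ≫ f := Scheme.Hom.resLE_comp_ι f hle
    have : IsAffine V.toScheme := hV
    have : CompactSpace W.toScheme := isCompact_iff_compactSpace.1 hWc
    have : QuasiCompact b := inferInstance
    have : Flat b := MorphismProperty.of_postcomp (W := @Flat) (W' := @IsOpenImmersion) b V.ι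
      inferInstance (hb ▸ inferInstance)
    refine ⟨W, b, hb, inferInstance, inferInstance, ⟨fun v => ?_⟩⟩
    obtain ⟨w, hw, hwv⟩ := hWV.ge v.2
    refine ⟨⟨w, hw⟩, V.ι.isOpenEmbedding.injective ?_⟩
    rw [← Scheme.Hom.comp_apply, hb, Scheme.Hom.comp_apply]
    exact hwv
  have hVcov : TopologicalSpace.IsOpenCover (fun V : S.affineOpens => V.1) := iSup_affineOpens_eq_top S
  have hpre : ∀ {W : S'.Opens} {V : S.Opens} (b : W.toScheme ⟶ V.toScheme), b ≫ V.ι = W.ι ≫ f →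
      (b : W.toScheme → V.toScheme) ⁻¹' ((V.ι : V.toScheme → S) ⁻¹' U₀) = (W.ι : W.toScheme → S') ⁻¹' ((f : S' → S) ⁻¹' U₀) :=
    fun b hb => by
      rw [← Set.preimage_comp, ← Set.preimage_comp]
      congr 1
      funext w
      rw [Function.comp_apply, Function.comp_apply, ← Scheme.Hom.comp_apply, hb, Scheme.Hom.comp_apply]
  have hclosed : IsClosed U₀ := hVcov.isClosed_iff_coe_preimage.2 fun ⟨V, hV⟩ => by
    obtain ⟨W, b, hb, _, _, _⟩ := hdesc V hV
    show IsClosed ((V.ι : V.toScheme → S) ⁻¹' U₀)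
    rw [← (Flat.isQuotientMap_of_surjective b).isClosed_preimage, hpre b hb]
    exact hcl.preimage W.ι.continuous
  have hopen : IsOpen U₀ := hVcov.isOpen_iff_coe_preimage.2 fun ⟨V, hV⟩ => by
    obtain ⟨W, b, hb, _, _, _⟩ := hdesc V hV
    show IsOpen ((V.ι : V.toScheme → S) ⁻¹' U₀)
    rw [← (Flat.isQuotientMap_of_surjective b).isOpen_preimage, hpre b hb]
    exact hop.preimage W.ι.continuous
  let U : S.Opens := ⟨U₀, hopen⟩
  refine ⟨U, hclosed, fun s => Iff.rfl, ?_⟩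
  refine of_locally_base P _ (U.toScheme.openCoverOfIsOpenCover (fun V : U.toScheme.affineOpens => V.1)
    (iSup_affineOpens_eq_top _)) fun V => ?_
  obtain ⟨V, hV⟩ := V
  refine (map_comp_iff P V.ι U.ι u).1 ?_
  let V' : S.Opens := U.ι ''ᵁ V
  let i : V.toScheme ≅ V'.toScheme := (U.ι.isoImage V)
  have hi : i.hom ≫ V'.ι = V.ι ≫ U.ι := Scheme.Hom.isoImage_hom_ι _ _
  rw [← hi, map_comp_iff P i.hom V'.ι u]
  refine MorphismProperty.of_isPullback (isPullback_map_left i.hom _) ?_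
  obtain ⟨W, b, hb, _, _, _⟩ := hdesc V' (hV.image_of_isOpenImmersion U.ι)
  show P ((Over.pullback V'.ι).map u).left
  refine of_fpqc_base P (U := W.toScheme) (S := V'.toScheme) _ b ((map_comp_iff P b _ u).1 ?_)
  show P ((Over.pullback (b ≫ V'.ι)).map u).left
  rw [hb]
  refine (map_comp_iff P W.ι f u).2 ?_
  let O' : W.toScheme → W.toScheme.Opens := fun z => W.ι ⁻¹ᵁ O (W.ι z)
  have hO' : TopologicalSpace.IsOpenCover O' := top_le_iff.1 fun z _ =>
    TopologicalSpace.Opens.mem_iSup.2 ⟨z, hxO (W.ι z)⟩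
  refine of_locally_base P _ (W.toScheme.openCoverOfIsOpenCover O' hO') fun z => ?_
  refine (map_comp_iff P _ W.ι _).1 ((map_comp_iff P _ f u).1 ?_)
  let x := W.ι z
  let L := Localization.Away (e x (p₀ x))
  have hcx : c x (p₀ x) := by
    refine (hconst x x (hxO x)).1 ?_
    show f (W.ι z) ∈ U₀
    have h1 : (b ≫ V'.ι) z ∈ V' := by rw [Scheme.Hom.comp_apply]; exact Subtype.mem _
    rw [hb, Scheme.Hom.comp_apply] at h1
    obtain ⟨v, -, hv⟩ := h1
    exact hv ▸ v.2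
  have heL : algebraMap (R x) L (e x (p₀ x)) = 1 :=
    (IsLocalization.Away.algebraMap_isUnit (e x (p₀ x))).mul_eq_left.1 (by rw [← map_mul, he x (p₀ x)])
  have hPL := (hc x (p₀ x) L heL).1 hcx
  let a : Spec (CommRingCat.of L) ⟶ S' := Spec.map (CommRingCat.ofHom (algebraMap (R x) L)) ≫ k x
  have ha : Set.range ((O' z).ι ≫ W.ι) ⊆ Set.range a := by
    rintro _ ⟨v, rfl⟩
    obtain ⟨q, hq, hqv⟩ := (show W.ι v.1 ∈ O x from v.2)
    obtain ⟨q', rfl⟩ : q ∈ Set.range (PrimeSpectrum.comap (algebraMap (R x) L)) := by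
      rw [PrimeSpectrum.localization_away_comap_range L (e x (p₀ x))]
      exact hq
    exact ⟨q', by rw [Scheme.Hom.comp_apply, Scheme.Hom.comp_apply]; exact hqv⟩
  let l : (O' z).toScheme ⟶ Spec (CommRingCat.of L) := IsOpenImmersion.lift a ((O' z).ι ≫ W.ι) ha
  have hl : l ≫ a ≫ f = ((O' z).ι ≫ W.ι) ≫ f := by rw [← Category.assoc, IsOpenImmersion.lift_fac]
  show P ((Over.pullback (((O' z).ι ≫ W.ι) ≫ f)).map u).left
  rw [← hl, map_comp_iff P l (a ≫ f) u]
  refine MorphismProperty.of_isPullback (isPullback_map_left l _) ?_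
  rwa [show a ≫ f = Spec.map (CommRingCat.ofHom (algebraMap (R x) L)) ≫ k x ≫ f from Category.assoc _ _ _]



end Groth.Agent.MultHopf
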