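import Groth.Agent.MultHopf.HopfModel

/-!
# Hopf axioms descend along faithfully flat base change
-/

set_option autoImplicit false
set_option backward.isDefEq.respectTransparency.types false

universe u

open scoped TensorProduct
open Coalgebra
open Algebra.TensorProduct (includeLeft includeRight)

namespace Groth.Agent.MultHopf.Model

variable {S : Type u} [CommRing S] {M : Type u} [CommRing M] [Algebra S M]
variable {R : Type u} [CommRing R] [Algebra S R]
variable {C : Type u} [CommRing C] [HopfAlgebra R C] [Algebra S C] [IsScalarTower S R C]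

/-- Equalities can be checked after a faithfully flat extension. -/
theorem eq_of_ff [Module.FaithfullyFlat S R] {D : Type u} [CommRing D] [Algebra S D] (f g : M →ₐ[S] D)
    (h : ∀ m, (1 : R) ⊗ₜ[S] f m = (1 : R) ⊗ₜ[S] g m) : f = g :=
  AlgHom.ext fun m => Module.FaithfullyFlat.tensorProduct_mk_injective (A := S) (B := R) D (h m)

variable (H : Data S M R C)

set_option synthInstance.maxHeartbeats 100000 in
set_option maxHeartbeats 800000 in
/-- The axioms hold over the extension. -/
theorem Data.axioms : Axioms R H.Δ H.ε H.σ := by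
  classical
  let F := Algebra.TensorProduct.lift (Algebra.ofId R C) H.f fun _ _ => Commute.all _ _
  have hF : ∀ x, F ((1 : R) ⊗ₜ[S] x) = H.f x := fun x => by simp [F]
  have hcounit : ∀ w : M ⊗[S] M, H.f (Algebra.TensorProduct.lid S M (Algebra.TensorProduct.map H.ε (AlgHom.id S M) w)) =
      TensorProduct.lid R C ((counit (R := R)).rTensor C (e₂ (R := R) H.f w)) := fun w => by
    induction w using TensorProduct.induction_on with
    | zero => simp
    | add a b ha hb => simp only [map_add, ha, hb]
    | tmul a b => simp [e₂_tmul, H.counit_f]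
  have hcounit' : ∀ w : M ⊗[S] M, H.f (Algebra.TensorProduct.rid S S M (Algebra.TensorProduct.map (AlgHom.id S M) H.ε w)) =
      TensorProduct.rid R C ((counit (R := R)).lTensor C (e₂ (R := R) H.f w)) := fun w => by
    induction w using TensorProduct.induction_on with
    | zero => simp
    | add a b ha hb => simp only [map_add, ha, hb]
    | tmul a b => simp [e₂_tmul, H.counit_f]
  have hant : ∀ w : M ⊗[S] M, H.f (Algebra.TensorProduct.lift H.σ (AlgHom.id S M) (fun _ _ => Commute.all _ _) w) =
      LinearMap.mul' R C ((HopfAlgebra.antipode R).rTensor C (e₂ (R := R) H.f w)) := fun w => by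
    induction w using TensorProduct.induction_on with
    | zero => simp
    | add a b ha hb => simp only [map_add, ha, hb]
    | tmul a b => simp [e₂_tmul, H.antipode_f]
  have hant' : ∀ w : M ⊗[S] M, H.f (Algebra.TensorProduct.lift (AlgHom.id S M) H.σ (fun _ _ => Commute.all _ _) w) =
      LinearMap.mul' R C ((HopfAlgebra.antipode R).lTensor C (e₂ (R := R) H.f w)) := fun w => by
    induction w using TensorProduct.induction_on with
    | zero => simp
    | add a b ha hb => simp only [map_add, ha, hb]
    | tmul a b => simp [e₂_tmul, H.antipode_f]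
  have h₁ : ∀ m, (1 : R) ⊗ₜ[S] (((Algebra.TensorProduct.assoc S S S M M M).toAlgHom.comp ((Algebra.TensorProduct.map H.Δ (AlgHom.id S M)).comp H.Δ))) m = (1 : R) ⊗ₜ[S] (((Algebra.TensorProduct.map (AlgHom.id S M) H.Δ).comp H.Δ)) m := fun m => by
    let E₃ : M ⊗[S] (M ⊗[S] M) →ₐ[S] C ⊗[R] (C ⊗[R] C) :=
      Algebra.TensorProduct.lift (((includeLeft : C →ₐ[R] C ⊗[R] (C ⊗[R] C)).restrictScalars S).comp H.f)
        (((includeRight : C ⊗[R] C →ₐ[R] C ⊗[R] (C ⊗[R] C)).restrictScalars S).comp (e₂ (R := R) H.f))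
        fun _ _ => Commute.all _ _
    let E := (TensorProduct.AlgebraTensorModule.distribBaseChange S R M (M ⊗[S] M)).trans
      (TensorProduct.congr (AlgEquiv.ofBijective _ H.bij).toLinearEquiv
        (AlgEquiv.ofBijective _ (bijective_e₂ H.bij)).toLinearEquiv)
    have hE : ∀ x, E ((1 : R) ⊗ₜ[S] x) = E₃ x := fun x => by
      induction x using TensorProduct.induction_on with
      | zero => simp
      | add a b ha hb => simp only [TensorProduct.tmul_add, map_add, ha, hb]
      | tmul a b => simp [E, E₃, ← Algebra.TensorProduct.one_def]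
    apply E.injective
    rw [hE, hE]
    have k1 : ∀ (w : M ⊗[S] M) (c : M), E₃ (Algebra.TensorProduct.assoc S S S M M M (w ⊗ₜ[S] c)) =
        TensorProduct.assoc R C C C (e₂ (R := R) H.f w ⊗ₜ[R] H.f c) := fun w c => by
      induction w using TensorProduct.induction_on with
      | zero => simp
      | add a b ha hb => simp only [TensorProduct.add_tmul, map_add, ha, hb]
      | tmul a b => simp [E₃, e₂_tmul]
    have k2 : ∀ w : M ⊗[S] M, E₃ (Algebra.TensorProduct.assoc S S S M M M (Algebra.TensorProduct.map H.Δ (AlgHom.id S M) w)) =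
        TensorProduct.assoc R C C C ((comul (R := R)).rTensor C (e₂ (R := R) H.f w)) := fun w => by
      induction w using TensorProduct.induction_on with
      | zero => simp
      | add a b ha hb => simp only [map_add, ha, hb]
      | tmul a b => simp [k1, e₂_tmul, H.comul_f]
    have k3 : ∀ w : M ⊗[S] M, E₃ (Algebra.TensorProduct.map (AlgHom.id S M) H.Δ w) =
        (comul (R := R)).lTensor C (e₂ (R := R) H.f w) := fun w => by
      induction w using TensorProduct.induction_on with
      | zero => simp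
      | add a b ha hb => simp only [map_add, ha, hb]
      | tmul a b => simp [E₃, e₂_tmul, H.comul_f]
    show E₃ (Algebra.TensorProduct.assoc S S S M M M (Algebra.TensorProduct.map H.Δ (AlgHom.id S M) (H.Δ m))) =
      E₃ (Algebra.TensorProduct.map (AlgHom.id S M) H.Δ (H.Δ m))
    rw [k2, k3, ← H.comul_f, Coalgebra.coassoc_apply]
  have h₂ : ∀ m, (1 : R) ⊗ₜ[S] (((Algebra.TensorProduct.lid S M).toAlgHom.comp ((Algebra.TensorProduct.map H.ε (AlgHom.id S M)).comp H.Δ))) m = (1 : R) ⊗ₜ[S] ((AlgHom.id S M)) m := fun m => by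
    refine H.bij.1 ?_
    show F _ = F _
    rw [hF, hF]
    refine (hcounit _).trans ?_
    erw [← H.comul_f]; rw [Coalgebra.rTensor_counit_comul]
    simp
  have h₃ : ∀ m, (1 : R) ⊗ₜ[S] (((Algebra.TensorProduct.rid S S M).toAlgHom.comp ((Algebra.TensorProduct.map (AlgHom.id S M) H.ε).comp H.Δ))) m = (1 : R) ⊗ₜ[S] ((AlgHom.id S M)) m := fun m => by
    refine H.bij.1 ?_
    show F _ = F _
    rw [hF, hF]
    refine (hcounit' _).trans ?_
    erw [← H.comul_f]; rw [Coalgebra.lTensor_counit_comul]
    simp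
  have h₄ : ∀ m, (1 : R) ⊗ₜ[S] (((Algebra.TensorProduct.lift H.σ (AlgHom.id S M) fun _ _ => Commute.all _ _).comp H.Δ)) m = (1 : R) ⊗ₜ[S] (((Algebra.ofId S M).comp H.ε)) m := fun m => by
    refine H.bij.1 ?_
    show F _ = F _
    rw [hF, hF]
    refine (hant _).trans ?_
    erw [← H.comul_f]; rw [HopfAlgebra.mul_antipode_rTensor_comul_apply, H.counit_f, ← IsScalarTower.algebraMap_apply]
    exact (H.f.commutes _).symm
  have h₅ : ∀ m, (1 : R) ⊗ₜ[S] (((Algebra.TensorProduct.lift (AlgHom.id S M) H.σ fun _ _ => Commute.all _ _).comp H.Δ)) m = (1 : R) ⊗ₜ[S] (((Algebra.ofId S M).comp H.ε)) m := fun m => by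
    refine H.bij.1 ?_
    show F _ = F _
    rw [hF, hF]
    refine (hant' _).trans ?_
    erw [← H.comul_f]; rw [HopfAlgebra.mul_antipode_lTensor_comul_apply, H.counit_f, ← IsScalarTower.algebraMap_apply]
    exact (H.f.commutes _).symm
  exact ⟨h₁, h₂, h₃, h₄, h₅⟩

/-- Over a faithfully flat extension the axioms can be checked. -/
theorem Data.axioms_of_ff [Module.FaithfullyFlat S R] : Axioms S H.Δ H.ε H.σ := by
  have h := H.axioms
  have key : ∀ {D : Type u} [CommRing D] [Algebra S D] (x y : D), (1 : R) ⊗ₜ[S] x = (1 : R) ⊗ₜ[S] y →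
      (1 : S) ⊗ₜ[S] x = (1 : S) ⊗ₜ[S] y := fun {D} _ _ x y h =>
    congrArg _ (Module.FaithfullyFlat.tensorProduct_mk_injective (A := S) (B := R) D h)
  exact ⟨fun m => key _ _ (h.coassoc m), fun m => key _ _ (h.counit_left m), fun m => key _ _ (h.counit_right m),
    fun m => key _ _ (h.antipode_left m), fun m => key _ _ (h.antipode_right m)⟩

variable {S' : Type u} [CommRing S'] [Algebra S S'] [Algebra S' R] [IsScalarTower S S' R]

set_option synthInstance.maxHeartbeats 100000 in
set_option maxHeartbeats 800000 in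
/-- The model recovers the Hopf algebra. -/
theorem Data.exists_equiv (h : Axioms S' H.Δ H.ε H.σ) :
    letI := hopfBC h
    ∃ e : R ⊗[S'] (S' ⊗[S] M) ≃ₐc[R] C, ∀ m, e ((1 : R) ⊗ₜ[S'] ((1 : S') ⊗ₜ[S] m)) = H.f m := by
  let _ : HopfAlgebra S' (S' ⊗[S] M) := hopfBC h
  let : Algebra S' C := ((algebraMap R C).comp (algebraMap S' R)).toAlgebra
  have : IsScalarTower S' R C := IsScalarTower.of_algebraMap_eq fun _ => rfl
  let e : R ⊗[S'] (S' ⊗[S] M) ≃ₐ[R] C :=
    (Algebra.TensorProduct.cancelBaseChange S S' R R M).trans (AlgEquiv.ofBijective _ H.bij)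
  have he : ∀ m, e ((1 : R) ⊗ₜ[S'] ((1 : S') ⊗ₜ[S] m)) = H.f m := fun m => by simp [e]
  refine ⟨BialgEquiv.ofAlgEquiv e ?_ ?_, he⟩
  · refine Algebra.TensorProduct.ext (by ext) (AlgHom.ext fun x => ?_)
    show counit (R := R) (e ((1 : R) ⊗ₜ[S'] x)) = counit (R := R) ((1 : R) ⊗ₜ[S'] x)
    induction x using TensorProduct.induction_on with
    | zero => simp
    | add a b ha hb => simp only [TensorProduct.tmul_add, map_add, ha, hb]
    | tmul s m =>
      have h1 : (1 : R) ⊗ₜ[S'] (s ⊗ₜ[S] m) = algebraMap S' R s • ((1 : R) ⊗ₜ[S'] ((1 : S') ⊗ₜ[S] m)) := by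
        rw [algebraMap_smul, ← TensorProduct.tmul_smul, TensorProduct.smul_tmul', smul_eq_mul, mul_one]
      rw [h1, map_smul e, he, map_smul, map_smul, H.counit_f, TensorProduct.counit_tmul]
      congr 1
      show _ = (counitBC S' H.ε ((1 : S') ⊗ₜ[S] m)) • (1 : R)
      rw [counitBC_one_tmul, ← Algebra.algebraMap_eq_smul_one, ← IsScalarTower.algebraMap_apply]
  · refine Algebra.TensorProduct.ext (by ext) (AlgHom.ext fun x => ?_)
    show Algebra.TensorProduct.map (R := R) (S := R) e.toAlgHom e.toAlgHom (comul (R := R) ((1 : R) ⊗ₜ[S'] x)) =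
      comul (R := R) (e ((1 : R) ⊗ₜ[S'] x))
    induction x using TensorProduct.induction_on with
    | zero => simp
    | add a b ha hb => simp only [TensorProduct.tmul_add, map_add, ha, hb]
    | tmul s m =>
      have h1 : (1 : R) ⊗ₜ[S'] (s ⊗ₜ[S] m) = algebraMap S' R s • ((1 : R) ⊗ₜ[S'] ((1 : S') ⊗ₜ[S] m)) := by
        rw [algebraMap_smul, ← TensorProduct.tmul_smul, TensorProduct.smul_tmul', smul_eq_mul, mul_one]
      rw [h1, map_smul e, he, map_smul, map_smul, map_smul, H.comul_f, TensorProduct.comul_tmul,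
        CommSemiring.comul_apply]
      congr 1
      rw [show comul (R := S') ((1 : S') ⊗ₜ[S] m) = psi₂ S' (H.Δ m) from comulBC_one_tmul S' H.Δ m]
      induction H.Δ m using TensorProduct.induction_on with
      | zero => simp
      | add a b ha hb => simp only [TensorProduct.tmul_add, map_add, ha, hb]
      | tmul a b => simp [psi₂_tmul, e₂_tmul, he]

end Groth.Agent.MultHopf.Model
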