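import Groth.Agent.MultHopf.Bridge
import Groth.Agent.FlatMorLib.Approx
import Mathlib.RingTheory.Extension.Presentation.Core

/-!
# Noetherian models of finitely presented Hopf algebras
-/

set_option autoImplicit false
set_option backward.isDefEq.respectTransparency.types false

universe u

open scoped TensorProduct
open Coalgebra
open Algebra.TensorProduct (includeLeft includeRight)

namespace Groth.Agent.MultHopf.Model

variable {S : Type u} [CommRing S] {M : Type u} [CommRing M] [Algebra S M]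

section BaseChange

variable (S' : Type u) [CommRing S'] [Algebra S S']

/-- `M ⊗ M → (S' ⊗ M) ⊗ (S' ⊗ M)`. -/
noncomputable def psi₂ : M ⊗[S] M →ₐ[S] (S' ⊗[S] M) ⊗[S'] (S' ⊗[S] M) :=
  Algebra.TensorProduct.lift
    (((includeLeft : S' ⊗[S] M →ₐ[S'] (S' ⊗[S] M) ⊗[S'] (S' ⊗[S] M)).restrictScalars S).comp includeRight)
    (((includeRight : S' ⊗[S] M →ₐ[S'] (S' ⊗[S] M) ⊗[S'] (S' ⊗[S] M)).restrictScalars S).comp includeRight)
    fun _ _ => Commute.all _ _

theorem psi₂_tmul (a b : M) : psi₂ S' (a ⊗ₜ[S] b) = ((1 : S') ⊗ₜ[S] a) ⊗ₜ[S'] ((1 : S') ⊗ₜ[S] b) := by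
  simp [psi₂]

variable (Δ : M →ₐ[S] M ⊗[S] M) (ε : M →ₐ[S] S) (σ : M →ₐ[S] M)

/-- The comultiplication after base change. -/
noncomputable def comulBC : S' ⊗[S] M →ₐ[S'] (S' ⊗[S] M) ⊗[S'] (S' ⊗[S] M) :=
  Algebra.TensorProduct.lift (Algebra.ofId S' _) ((psi₂ S').comp Δ) fun _ _ => Commute.all _ _

/-- The counit after base change. -/
noncomputable def counitBC : S' ⊗[S] M →ₐ[S'] S' :=
  Algebra.TensorProduct.lift (Algebra.ofId S' _) ((Algebra.ofId S S').comp ε) fun _ _ => Commute.all _ _

theorem comulBC_one_tmul (m : M) : comulBC S' Δ ((1 : S') ⊗ₜ[S] m) = psi₂ S' (Δ m) := by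
  simp [comulBC, ← Algebra.TensorProduct.one_def]

theorem counitBC_one_tmul (m : M) : counitBC S' ε ((1 : S') ⊗ₜ[S] m) = algebraMap S S' (ε m) := by
  simp [counitBC, Algebra.ofId_apply]

/-- The axioms, after base change to `S'`. -/
structure Axioms : Prop where
  coassoc : ∀ m, (1 : S') ⊗ₜ[S] (Algebra.TensorProduct.assoc S S S M M M (Algebra.TensorProduct.map Δ (AlgHom.id S M) (Δ m))) =
    (1 : S') ⊗ₜ[S] (Algebra.TensorProduct.map (AlgHom.id S M) Δ (Δ m))
  counit_left : ∀ m, (1 : S') ⊗ₜ[S] (Algebra.TensorProduct.lid S M (Algebra.TensorProduct.map ε (AlgHom.id S M) (Δ m))) =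
    (1 : S') ⊗ₜ[S] m
  counit_right : ∀ m, (1 : S') ⊗ₜ[S] (Algebra.TensorProduct.rid S S M (Algebra.TensorProduct.map (AlgHom.id S M) ε (Δ m))) =
    (1 : S') ⊗ₜ[S] m
  antipode_left : ∀ m, (1 : S') ⊗ₜ[S] (Algebra.TensorProduct.lift σ (AlgHom.id S M) (fun _ _ => Commute.all _ _) (Δ m)) =
    (1 : S') ⊗ₜ[S] algebraMap S M (ε m)
  antipode_right : ∀ m, (1 : S') ⊗ₜ[S] (Algebra.TensorProduct.lift (AlgHom.id S M) σ (fun _ _ => Commute.all _ _) (Δ m)) =
    (1 : S') ⊗ₜ[S] algebraMap S M (ε m)

variable {S'} {Δ ε σ}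

theorem Axioms.map {S'' : Type u} [CommRing S''] [Algebra S S''] (g : S' →ₐ[S] S'') (h : Axioms S' Δ ε σ) :
    Axioms S'' Δ ε σ := by
  have key : ∀ {D : Type u} [CommRing D] [Algebra S D] (x y : D), (1 : S') ⊗ₜ[S] x = (1 : S') ⊗ₜ[S] y →
      (1 : S'') ⊗ₜ[S] x = (1 : S'') ⊗ₜ[S] y := fun {D} _ _ x y h => by
    have := congrArg (Algebra.TensorProduct.map g (AlgHom.id S D)) h
    simpa using this
  exact ⟨fun m => key _ _ (h.coassoc m), fun m => key _ _ (h.counit_left m), fun m => key _ _ (h.counit_right m),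
    fun m => key _ _ (h.antipode_left m), fun m => key _ _ (h.antipode_right m)⟩

set_option synthInstance.maxHeartbeats 100000 in
set_option maxHeartbeats 800000 in
/-- The bialgebra structure on the base change. -/
@[implicit_reducible]
noncomputable def bialgebraBC (h : Axioms S' Δ ε σ) : Bialgebra S' (S' ⊗[S] M) := by
  refine Bialgebra.ofAlgHom (comulBC S' Δ) (counitBC S' ε) ?_ ?_ ?_
  · refine Algebra.TensorProduct.ext (by ext) (AlgHom.ext fun m => ?_)
    let I : M →ₐ[S] S' ⊗[S] M := includeRight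
    let ψ₃ : M ⊗[S] (M ⊗[S] M) →ₐ[S] (S' ⊗[S] M) ⊗[S'] ((S' ⊗[S] M) ⊗[S'] (S' ⊗[S] M)) :=
      Algebra.TensorProduct.lift
        (((includeLeft : S' ⊗[S] M →ₐ[S'] (S' ⊗[S] M) ⊗[S'] ((S' ⊗[S] M) ⊗[S'] (S' ⊗[S] M))).restrictScalars S).comp I)
        (((includeRight : (S' ⊗[S] M) ⊗[S'] (S' ⊗[S] M) →ₐ[S'] (S' ⊗[S] M) ⊗[S'] ((S' ⊗[S] M) ⊗[S'] (S' ⊗[S] M))).restrictScalars S).comp
          (psi₂ S'))
        fun _ _ => Commute.all (S := (S' ⊗[S] M) ⊗[S'] ((S' ⊗[S] M) ⊗[S'] (S' ⊗[S] M))) _ _
    have h0 := congrArg (ψ₃.toLinearMap.liftBaseChange S') (h.coassoc m)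
    rw [LinearMap.liftBaseChange_tmul, LinearMap.liftBaseChange_tmul, one_smul, one_smul] at h0
    have h1 : ∀ (w : M ⊗[S] M) (c : M), Algebra.TensorProduct.assoc S' S' S' _ _ _ (psi₂ S' w ⊗ₜ[S'] ((1 : S') ⊗ₜ[S] c)) =
        ψ₃ (Algebra.TensorProduct.assoc S S S M M M (w ⊗ₜ[S] c)) := fun w c => by
      induction w using TensorProduct.induction_on with
      | zero => simp
      | add a b ha hb => simp only [TensorProduct.add_tmul, map_add, ha, hb]
      | tmul a b => simp [ψ₃, I, psi₂_tmul]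
    have h2 : ∀ w : M ⊗[S] M, Algebra.TensorProduct.assoc S' S' S' _ _ _
        (Algebra.TensorProduct.map (comulBC S' Δ) (AlgHom.id S' _) (psi₂ S' w)) =
        ψ₃ (Algebra.TensorProduct.assoc S S S M M M (Algebra.TensorProduct.map Δ (AlgHom.id S M) w)) := fun w => by
      induction w using TensorProduct.induction_on with
      | zero => simp
      | add a b ha hb => simp only [map_add, ha, hb]
      | tmul a b => simp [psi₂_tmul, comulBC_one_tmul, h1]
    have h3 : ∀ w : M ⊗[S] M, Algebra.TensorProduct.map (AlgHom.id S' _) (comulBC S' Δ) (psi₂ S' w) =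
        ψ₃ (Algebra.TensorProduct.map (AlgHom.id S M) Δ w) := fun w => by
      induction w using TensorProduct.induction_on with
      | zero => simp
      | add a b ha hb => simp only [map_add, ha, hb]
      | tmul a b => simp [ψ₃, I, psi₂_tmul, comulBC_one_tmul]
    show Algebra.TensorProduct.assoc S' S' S' _ _ _
        (Algebra.TensorProduct.map (comulBC S' Δ) (AlgHom.id S' _) (comulBC S' Δ ((1 : S') ⊗ₜ[S] m))) =
      Algebra.TensorProduct.map (AlgHom.id S' _) (comulBC S' Δ) (comulBC S' Δ ((1 : S') ⊗ₜ[S] m))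
    rw [comulBC_one_tmul, h2, h3]
    exact h0
  · refine Algebra.TensorProduct.ext (by ext) (AlgHom.ext fun m => ?_)
    show Algebra.TensorProduct.map (counitBC S' ε) (AlgHom.id S' _) (comulBC S' Δ ((1 : S') ⊗ₜ[S] m)) =
      (Algebra.TensorProduct.lid S' (S' ⊗[S] M)).symm ((1 : S') ⊗ₜ[S] m)
    rw [comulBC_one_tmul, AlgEquiv.eq_symm_apply, ← h.counit_left m]
    induction Δ m using TensorProduct.induction_on with
    | zero => simp
    | add a b ha hb => simp only [map_add, TensorProduct.tmul_add, ha, hb]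
    | tmul a b =>
      simp [psi₂_tmul, counitBC_one_tmul, TensorProduct.smul_tmul', TensorProduct.tmul_smul, Algebra.algebraMap_eq_smul_one]
  · refine Algebra.TensorProduct.ext (by ext) (AlgHom.ext fun m => ?_)
    show Algebra.TensorProduct.map (AlgHom.id S' _) (counitBC S' ε) (comulBC S' Δ ((1 : S') ⊗ₜ[S] m)) =
      (Algebra.TensorProduct.rid S' S' (S' ⊗[S] M)).symm ((1 : S') ⊗ₜ[S] m)
    rw [comulBC_one_tmul, AlgEquiv.eq_symm_apply, ← h.counit_right m]
    induction Δ m using TensorProduct.induction_on with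
    | zero => simp
    | add a b ha hb => simp only [map_add, TensorProduct.tmul_add, ha, hb]
    | tmul a b =>
      simp [psi₂_tmul, counitBC_one_tmul, TensorProduct.smul_tmul', TensorProduct.tmul_smul, Algebra.algebraMap_eq_smul_one]

/-- The Hopf algebra structure on the base change. -/
@[implicit_reducible]
noncomputable def hopfBC (h : Axioms S' Δ ε σ) : HopfAlgebra S' (S' ⊗[S] M) :=
  letI := bialgebraBC h
  HopfAlgebra.ofAlgHom (Algebra.TensorProduct.map (AlgHom.id S' S') σ)
    (Algebra.TensorProduct.ext (by ext) (AlgHom.ext fun m => by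
      show Algebra.TensorProduct.lift (Algebra.TensorProduct.map (AlgHom.id S' S') σ) (AlgHom.id S' _)
          (fun _ _ => Commute.all _ _) (comulBC S' Δ ((1 : S') ⊗ₜ[S] m)) =
        algebraMap S' (S' ⊗[S] M) (counitBC S' ε ((1 : S') ⊗ₜ[S] m))
      rw [comulBC_one_tmul, counitBC_one_tmul, ← IsScalarTower.algebraMap_apply,
        show algebraMap S (S' ⊗[S] M) (ε m) = (1 : S') ⊗ₜ[S] algebraMap S M (ε m) from
          ((includeRight : M →ₐ[S] S' ⊗[S] M).commutes _).symm, ← h.antipode_left m]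
      induction Δ m using TensorProduct.induction_on with
      | zero => simp
      | add a b ha hb => simp only [map_add, TensorProduct.tmul_add, ha, hb]
      | tmul a b => simp [psi₂_tmul]))
    (Algebra.TensorProduct.ext (by ext) (AlgHom.ext fun m => by
      show Algebra.TensorProduct.lift (AlgHom.id S' _) (Algebra.TensorProduct.map (AlgHom.id S' S') σ)
          (fun _ _ => Commute.all _ _) (comulBC S' Δ ((1 : S') ⊗ₜ[S] m)) =
        algebraMap S' (S' ⊗[S] M) (counitBC S' ε ((1 : S') ⊗ₜ[S] m))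
      rw [comulBC_one_tmul, counitBC_one_tmul, ← IsScalarTower.algebraMap_apply,
        show algebraMap S (S' ⊗[S] M) (ε m) = (1 : S') ⊗ₜ[S] algebraMap S M (ε m) from
          ((includeRight : M →ₐ[S] S' ⊗[S] M).commutes _).symm, ← h.antipode_right m]
      induction Δ m using TensorProduct.induction_on with
      | zero => simp
      | add a b ha hb => simp only [map_add, TensorProduct.tmul_add, ha, hb]
      | tmul a b => simp [psi₂_tmul]))

end BaseChange

variable {R : Type u} [CommRing R] [Algebra S R]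

/-- Equalities holding over `R` hold over a finitely generated subalgebra. -/
theorem exists_stage_eq [Algebra.FiniteType S M] {D : Type u} [CommRing D] [Algebra S D] (f g : M →ₐ[S] D)
    (h : ∀ m, (1 : R) ⊗ₜ[S] f m = (1 : R) ⊗ₜ[S] g m) :
    ∃ s : Finset R, ∀ S' : Subalgebra S R, ↑s ⊆ (S' : Set R) → ∀ m, (1 : S') ⊗ₜ[S] f m = (1 : S') ⊗ₜ[S] g m := by
  classical
  let A' : Subalgebra S R := ⊥
  obtain ⟨B', hAB, hB', heq⟩ := FlatMorLib.Approx.exists_fg_hom_eq (A := R) (D := D) (A' := A') Subalgebra.fg_bot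
    ((includeRight : D →ₐ[S] A' ⊗[S] D).comp f) ((includeRight : D →ₐ[S] A' ⊗[S] D).comp g)
    (AlgHom.ext fun m => by simpa using h m)
  obtain ⟨s, hs⟩ := hB'
  refine ⟨s, fun S' hS' m => ?_⟩
  have hle : B' ≤ S' := hs ▸ Algebra.adjoin_le hS'
  have h1 := congrArg (FlatMorLib.Approx.incT D hle) (DFunLike.congr_fun heq m)
  simpa using h1

variable {C : Type u} [CommRing C] [HopfAlgebra R C] [Algebra S C] [IsScalarTower S R C]

/-- The map to the Hopf algebra on two factors. -/
noncomputable def e₂ (f : M →ₐ[S] C) : M ⊗[S] M →ₐ[S] C ⊗[R] C :=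
  Algebra.TensorProduct.lift (((includeLeft : C →ₐ[R] C ⊗[R] C).restrictScalars S).comp f)
    (((includeRight : C →ₐ[R] C ⊗[R] C).restrictScalars S).comp f) fun _ _ => Commute.all _ _

theorem e₂_tmul (f : M →ₐ[S] C) (a b : M) : e₂ (R := R) f (a ⊗ₜ[S] b) = f a ⊗ₜ[R] f b := by
  simp [e₂]

/-- A model of a Hopf algebra over a smaller base, before imposing the axioms. -/
structure Data (S M R C : Type u) [CommRing S] [CommRing M] [Algebra S M] [CommRing R] [Algebra S R] [CommRing C]
    [HopfAlgebra R C] [Algebra S C] [IsScalarTower S R C] where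
  Δ : M →ₐ[S] M ⊗[S] M
  ε : M →ₐ[S] S
  σ : M →ₐ[S] M
  f : M →ₐ[S] C
  bij : Function.Bijective (Algebra.TensorProduct.lift (Algebra.ofId R C) f fun _ _ => Commute.all _ _)
  comul_f : ∀ m, comul (R := R) (f m) = e₂ (R := R) f (Δ m)
  counit_f : ∀ m, counit (R := R) (f m) = algebraMap S R (ε m)
  antipode_f : ∀ m, HopfAlgebra.antipode R (f m) = f (σ m)

variable (H : Data S M R C)

/-- Two-factor bijectivity. -/
theorem bijective_e₂ {f : M →ₐ[S] C}
    (hb : Function.Bijective (Algebra.TensorProduct.lift (Algebra.ofId R C) f fun _ _ => Commute.all _ _)) :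
    Function.Bijective (Algebra.TensorProduct.lift (Algebra.ofId R (C ⊗[R] C)) (e₂ (R := R) f) fun _ _ => Commute.all _ _) := by
  let e := (AlgEquiv.ofBijective _ hb).toLinearEquiv
  let E := (TensorProduct.AlgebraTensorModule.distribBaseChange S R M M).trans (TensorProduct.congr e e)
  have : ∀ z, Algebra.TensorProduct.lift (Algebra.ofId R (C ⊗[R] C)) (e₂ (R := R) f) (fun _ _ => Commute.all _ _) z = E z := fun z => by
    induction z using TensorProduct.induction_on with
    | zero => simp
    | add a b ha hb => simp only [map_add, ha, hb]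
    | tmul r w =>
      induction w using TensorProduct.induction_on with
      | zero => simp
      | add a b ha hb => simp only [TensorProduct.tmul_add, map_add, ha, hb]
      | tmul a b =>
        simp [E, e, e₂_tmul, Algebra.ofId_apply, Algebra.TensorProduct.algebraMap_apply, TensorProduct.smul_tmul']
  rw [funext this]
  exact E.bijective

set_option synthInstance.maxHeartbeats 100000 in
set_option maxHeartbeats 800000 in
theorem Data.axioms_stage [Algebra.FiniteType S M] :
    ∃ s : Finset R, ∀ S' : Subalgebra S R, ↑s ⊆ (S' : Set R) → Axioms S' H.Δ H.ε H.σ := by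
  classical
  let F := Algebra.TensorProduct.lift (Algebra.ofId R C) H.f fun _ _ => Commute.all _ _
  have hF : ∀ x, F ((1 : R) ⊗ₜ[S] x) = H.f x := fun x => by simp [F]
  have hcounit : ∀ w : M ⊗[S] M, H.f (Algebra.TensorProduct.lid S M (Algebra.TensorProduct.map H.ε (AlgHom.id S M) w)) =
      TensorProduct.lid R C ((counit (R := R)).rTensor C (e₂ (R := R) H.f w)) := fun w => by
    induction w using TensorProduct.induction_on with
    | zero => simp
    | add a b ha hb => simp only [map_add, ha, hb]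
    | tmul a b => simp [e₂_tmul, H.counit_f]
  have hcounit' : ∀ w : M ⊗[S] M, H.f (Algebra.TensorProduct.rid S S M (Algebra.TensorProduct.map (AlgHom.id S M) H.ε w)) =
      TensorProduct.rid R C ((counit (R := R)).lTensor C (e₂ (R := R) H.f w)) := fun w => by
    induction w using TensorProduct.induction_on with
    | zero => simp
    | add a b ha hb => simp only [map_add, ha, hb]
    | tmul a b => simp [e₂_tmul, H.counit_f]
  have hant : ∀ w : M ⊗[S] M, H.f (Algebra.TensorProduct.lift H.σ (AlgHom.id S M) (fun _ _ => Commute.all _ _) w) =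
      LinearMap.mul' R C ((HopfAlgebra.antipode R).rTensor C (e₂ (R := R) H.f w)) := fun w => by
    induction w using TensorProduct.induction_on with
    | zero => simp
    | add a b ha hb => simp only [map_add, ha, hb]
    | tmul a b => simp [e₂_tmul, H.antipode_f]
  have hant' : ∀ w : M ⊗[S] M, H.f (Algebra.TensorProduct.lift (AlgHom.id S M) H.σ (fun _ _ => Commute.all _ _) w) =
      LinearMap.mul' R C ((HopfAlgebra.antipode R).lTensor C (e₂ (R := R) H.f w)) := fun w => by
    induction w using TensorProduct.induction_on with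
    | zero => simp
    | add a b ha hb => simp only [map_add, ha, hb]
    | tmul a b => simp [e₂_tmul, H.antipode_f]
  obtain ⟨s₁, h₁⟩ := exists_stage_eq (R := R)
    ((Algebra.TensorProduct.assoc S S S M M M).toAlgHom.comp ((Algebra.TensorProduct.map H.Δ (AlgHom.id S M)).comp H.Δ))
    ((Algebra.TensorProduct.map (AlgHom.id S M) H.Δ).comp H.Δ) fun m => by
    let E₃ : M ⊗[S] (M ⊗[S] M) →ₐ[S] C ⊗[R] (C ⊗[R] C) :=
      Algebra.TensorProduct.lift (((includeLeft : C →ₐ[R] C ⊗[R] (C ⊗[R] C)).restrictScalars S).comp H.f)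
        (((includeRight : C ⊗[R] C →ₐ[R] C ⊗[R] (C ⊗[R] C)).restrictScalars S).comp (e₂ (R := R) H.f))
        fun _ _ => Commute.all _ _
    let E := (TensorProduct.AlgebraTensorModule.distribBaseChange S R M (M ⊗[S] M)).trans
      (TensorProduct.congr (AlgEquiv.ofBijective _ H.bij).toLinearEquiv
        (AlgEquiv.ofBijective _ (bijective_e₂ H.bij)).toLinearEquiv)
    have hE : ∀ x, E ((1 : R) ⊗ₜ[S] x) = E₃ x := fun x => by
      induction x using TensorProduct.induction_on with
      | zero => simp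
      | add a b ha hb => simp only [TensorProduct.tmul_add, map_add, ha, hb]
      | tmul a b => simp [E, E₃, ← Algebra.TensorProduct.one_def]
    apply E.injective
    rw [hE, hE]
    have k1 : ∀ (w : M ⊗[S] M) (c : M), E₃ (Algebra.TensorProduct.assoc S S S M M M (w ⊗ₜ[S] c)) =
        TensorProduct.assoc R C C C (e₂ (R := R) H.f w ⊗ₜ[R] H.f c) := fun w c => by
      induction w using TensorProduct.induction_on with
      | zero => simp
      | add a b ha hb => simp only [TensorProduct.add_tmul, map_add, ha, hb]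
      | tmul a b => simp [E₃, e₂_tmul]
    have k2 : ∀ w : M ⊗[S] M, E₃ (Algebra.TensorProduct.assoc S S S M M M (Algebra.TensorProduct.map H.Δ (AlgHom.id S M) w)) =
        TensorProduct.assoc R C C C ((comul (R := R)).rTensor C (e₂ (R := R) H.f w)) := fun w => by
      induction w using TensorProduct.induction_on with
      | zero => simp
      | add a b ha hb => simp only [map_add, ha, hb]
      | tmul a b => simp [k1, e₂_tmul, H.comul_f]
    have k3 : ∀ w : M ⊗[S] M, E₃ (Algebra.TensorProduct.map (AlgHom.id S M) H.Δ w) =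
        (comul (R := R)).lTensor C (e₂ (R := R) H.f w) := fun w => by
      induction w using TensorProduct.induction_on with
      | zero => simp
      | add a b ha hb => simp only [map_add, ha, hb]
      | tmul a b => simp [E₃, e₂_tmul, H.comul_f]
    show E₃ (Algebra.TensorProduct.assoc S S S M M M (Algebra.TensorProduct.map H.Δ (AlgHom.id S M) (H.Δ m))) =
      E₃ (Algebra.TensorProduct.map (AlgHom.id S M) H.Δ (H.Δ m))
    rw [k2, k3, ← H.comul_f, Coalgebra.coassoc_apply]
  obtain ⟨s₂, h₂⟩ := exists_stage_eq (R := R)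
    ((Algebra.TensorProduct.lid S M).toAlgHom.comp ((Algebra.TensorProduct.map H.ε (AlgHom.id S M)).comp H.Δ))
    (AlgHom.id S M) fun m => by
    refine H.bij.1 ?_
    show F _ = F _
    rw [hF, hF]
    refine (hcounit _).trans ?_
    erw [← H.comul_f]; rw [Coalgebra.rTensor_counit_comul]
    simp
  obtain ⟨s₃, h₃⟩ := exists_stage_eq (R := R)
    ((Algebra.TensorProduct.rid S S M).toAlgHom.comp ((Algebra.TensorProduct.map (AlgHom.id S M) H.ε).comp H.Δ))
    (AlgHom.id S M) fun m => by
    refine H.bij.1 ?_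
    show F _ = F _
    rw [hF, hF]
    refine (hcounit' _).trans ?_
    erw [← H.comul_f]; rw [Coalgebra.lTensor_counit_comul]
    simp
  obtain ⟨s₄, h₄⟩ := exists_stage_eq (R := R)
    ((Algebra.TensorProduct.lift H.σ (AlgHom.id S M) fun _ _ => Commute.all _ _).comp H.Δ)
    ((Algebra.ofId S M).comp H.ε) fun m => by
    refine H.bij.1 ?_
    show F _ = F _
    rw [hF, hF]
    refine (hant _).trans ?_
    erw [← H.comul_f]; rw [HopfAlgebra.mul_antipode_rTensor_comul_apply, H.counit_f, ← IsScalarTower.algebraMap_apply]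
    exact (H.f.commutes _).symm
  obtain ⟨s₅, h₅⟩ := exists_stage_eq (R := R)
    ((Algebra.TensorProduct.lift (AlgHom.id S M) H.σ fun _ _ => Commute.all _ _).comp H.Δ)
    ((Algebra.ofId S M).comp H.ε) fun m => by
    refine H.bij.1 ?_
    show F _ = F _
    rw [hF, hF]
    refine (hant' _).trans ?_
    erw [← H.comul_f]; rw [HopfAlgebra.mul_antipode_lTensor_comul_apply, H.counit_f, ← IsScalarTower.algebraMap_apply]
    exact (H.f.commutes _).symm
  refine ⟨s₁ ∪ s₂ ∪ s₃ ∪ s₄ ∪ s₅, fun S' hS' => ?_⟩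
  simp only [Finset.coe_union, Set.union_subset_iff] at hS'
  obtain ⟨⟨⟨⟨a₁, a₂⟩, a₃⟩, a₄⟩, a₅⟩ := hS'
  exact ⟨h₁ S' a₁, h₂ S' a₂, h₃ S' a₃, h₄ S' a₄, h₅ S' a₅⟩

variable {S' : Type u} [CommRing S'] [Algebra S S'] [Algebra S' R] [IsScalarTower S S' R]

set_option synthInstance.maxHeartbeats 100000 in
set_option maxHeartbeats 800000 in
/-- The model recovers the Hopf algebra. -/
theorem Data.nonempty_equiv (h : Axioms S' H.Δ H.ε H.σ) :
    letI := hopfBC h
    Nonempty (R ⊗[S'] (S' ⊗[S] M) ≃ₐc[R] C) := by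
  let _ : HopfAlgebra S' (S' ⊗[S] M) := hopfBC h
  let : Algebra S' C := ((algebraMap R C).comp (algebraMap S' R)).toAlgebra
  have : IsScalarTower S' R C := IsScalarTower.of_algebraMap_eq fun _ => rfl
  let e : R ⊗[S'] (S' ⊗[S] M) ≃ₐ[R] C :=
    (Algebra.TensorProduct.cancelBaseChange S S' R R M).trans (AlgEquiv.ofBijective _ H.bij)
  have he : ∀ m, e ((1 : R) ⊗ₜ[S'] ((1 : S') ⊗ₜ[S] m)) = H.f m := fun m => by simp [e]
  refine ⟨BialgEquiv.ofAlgEquiv e ?_ ?_⟩
  · refine Algebra.TensorProduct.ext (by ext) (AlgHom.ext fun x => ?_)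
    show counit (R := R) (e ((1 : R) ⊗ₜ[S'] x)) = counit (R := R) ((1 : R) ⊗ₜ[S'] x)
    induction x using TensorProduct.induction_on with
    | zero => simp
    | add a b ha hb => simp only [TensorProduct.tmul_add, map_add, ha, hb]
    | tmul s m =>
      have h1 : (1 : R) ⊗ₜ[S'] (s ⊗ₜ[S] m) = algebraMap S' R s • ((1 : R) ⊗ₜ[S'] ((1 : S') ⊗ₜ[S] m)) := by
        rw [algebraMap_smul, ← TensorProduct.tmul_smul, TensorProduct.smul_tmul', smul_eq_mul, mul_one]
      rw [h1, map_smul e, he, map_smul, map_smul, H.counit_f, TensorProduct.counit_tmul]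
      congr 1
      show _ = (counitBC S' H.ε ((1 : S') ⊗ₜ[S] m)) • (1 : R)
      rw [counitBC_one_tmul, ← Algebra.algebraMap_eq_smul_one, ← IsScalarTower.algebraMap_apply]
  · refine Algebra.TensorProduct.ext (by ext) (AlgHom.ext fun x => ?_)
    show Algebra.TensorProduct.map (R := R) (S := R) e.toAlgHom e.toAlgHom (comul (R := R) ((1 : R) ⊗ₜ[S'] x)) =
      comul (R := R) (e ((1 : R) ⊗ₜ[S'] x))
    induction x using TensorProduct.induction_on with
    | zero => simp
    | add a b ha hb => simp only [TensorProduct.tmul_add, map_add, ha, hb]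
    | tmul s m =>
      have h1 : (1 : R) ⊗ₜ[S'] (s ⊗ₜ[S] m) = algebraMap S' R s • ((1 : R) ⊗ₜ[S'] ((1 : S') ⊗ₜ[S] m)) := by
        rw [algebraMap_smul, ← TensorProduct.tmul_smul, TensorProduct.smul_tmul', smul_eq_mul, mul_one]
      rw [h1, map_smul e, he, map_smul, map_smul, map_smul, H.comul_f, TensorProduct.comul_tmul,
        CommSemiring.comul_apply]
      congr 1
      rw [show comul (R := S') ((1 : S') ⊗ₜ[S] m) = psi₂ S' (H.Δ m) from comulBC_one_tmul S' H.Δ m]
      induction H.Δ m using TensorProduct.induction_on with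
      | zero => simp
      | add a b ha hb => simp only [TensorProduct.tmul_add, map_add, ha, hb]
      | tmul a b => simp [psi₂_tmul, e₂_tmul, he]

end Groth.Agent.MultHopf.Model
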