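import Groth.Agent.MultHopf.SubgroupLift
import Groth.Agent.MultHopf.ConstFT
import Groth.Agent.MultHopf.DiagLift
import Groth.Agent.MultHopf.SubgroupConj
import Groth.Agent.HopfLib.DeligneScheme
import Mathlib.AlgebraicGeometry.Limits

/-!
# From Hopf algebras of multiplicative type to groups of multiplicative type; commutativity
-/

set_option autoImplicit false
set_option backward.isDefEq.respectTransparency.types false
set_option maxHeartbeats 1000000
set_option synthInstance.maxHeartbeats 100000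

universe u

open CategoryTheory CategoryTheory.Limits MonoidalCategory CartesianMonoidalCategory MonObj AlgebraicGeometry
open scoped TensorProduct
open WithConv

namespace Groth.Agent.MultHopf

variable {R : Type u} [CommRing R] {A : Type u} [CommRing A] [HopfAlgebra R A]

/-- An affine group split by a finite faithfully flat family is of multiplicative type and finite type. -/
theorem isMultTypeFT_of_splits [Algebra.FiniteType R A] {F : FamFF R} (hF : Splits A F) :
    SGA3x.IsMultTypeFT (hspec R A) := by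
  classical
  let T : Type u := (k : F.κ) → F.S k
  have := F.faithfullyFlat
  let f : Spec (CommRingCat.of T) ⟶ Spec (CommRingCat.of R) := Spec.map (CommRingCat.ofHom (algebraMap R T))
  have hfl : Flat f := Flat.SpecMap_iff.2 (RingHom.flat_algebraMap_iff.2 inferInstance)
  have hsurj : Surjective f := ⟨fun p => PrimeSpectrum.comap_surjective_of_faithfullyFlat p⟩
  refine ⟨_, f, hfl, hsurj, fun V hV => ⟨f ⁻¹ᵁ V, (hV.preimage f).isCompact, ?_⟩, fun s' => ?_⟩
  · ext y
    refine ⟨fun ⟨z, hz, hzy⟩ => hzy ▸ hz, fun hy => ?_⟩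
    obtain ⟨z, rfl⟩ := hsurj.surj y
    exact ⟨z, hy, rfl⟩
  obtain ⟨k, s, hs⟩ := PrimeSpectrum.exists_comap_evalRingHom_eq (R := F.S) s'
  obtain ⟨M, _, ⟨ε⟩⟩ := hF k
  let L : Type u := F.S k
  have : Nontrivial L := PrimeSpectrum.nonempty_iff_nontrivial.1 ⟨s⟩
  let b : Spec (CommRingCat.of L) ⟶ Spec (CommRingCat.of T) := Spec.map (CommRingCat.ofHom (Pi.evalRingHom F.S k))
  have : IsOpenImmersion b := inferInstance
  have hb : b ≫ f = Spec.map (CommRingCat.ofHom (algebraMap R L)) := by
    rw [← Spec.map_comp]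
    rfl
  have hft : Algebra.FiniteType L (MonoidAlgebra L M) :=
    Algebra.FiniteType.equiv (inferInstance : Algebra.FiniteType L (L ⊗[R] A))
      (ε : L ⊗[R] A ≃ₐ[L] MonoidAlgebra L M)
  have hM := group_fg hft
  obtain ⟨τ, iτ, hτ, ⟨σ⟩⟩ : ∃ (τ : Type) (_ : AddCommGroup τ), AddGroup.FG τ ∧
      Nonempty (M ≃* ULift.{u} (Multiplicative τ)) := by
    have : Module.Finite ℤ (Additive M) := Module.Finite.iff_addGroup_fg.2 (GroupFG.iff_add_fg.1 hM)
    obtain ⟨n, φ, hφ⟩ := Module.Finite.exists_fin' ℤ (Additive M)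
    have : Module.Finite ℤ ((Fin n → ℤ) ⧸ LinearMap.ker φ) := inferInstance
    exact ⟨(Fin n → ℤ) ⧸ LinearMap.ker φ, inferInstance, Module.Finite.iff_addGroup_fg.1 this,
      ⟨(MulEquiv.multiplicativeAdditive M).symm.trans ((AddEquiv.toMultiplicative
        (φ.quotKerEquivOfSurjective hφ).symm.toAddEquiv).trans MulEquiv.ulift.symm)⟩⟩
  let q : b.opensRange.toScheme ⟶ Spec (CommRingCat.of L) := b.isoOpensRange.inv
  have hq : b.opensRange.ι ≫ f = q ≫ b ≫ f := by
    rw [← Category.assoc q, Scheme.Hom.isoOpensRange_inv_comp]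
  let tL := Limits.IsTerminal.from specULiftZIsTerminal (Spec (CommRingCat.of L))
  refine ⟨b.opensRange, ⟨s, hs⟩, τ, iτ, hτ, ⟨?_⟩⟩
  exact bcCongr hq _ ≪≫ bcComp q _ _ ≪≫
    bcIso q (bcCongr hb _ ≪≫ bcSpec R L A ≪≫ hspecIso ε ≪≫
      hspecIso (MonoidAlgebra.domCongrBialgEquiv L L σ) ≪≫ (bcDiag (ULift.{u} ℤ) L tL τ).symm) ≪≫
    (bcComp q tL _).symm ≪≫ bcCongr (specULiftZIsTerminal.hom_ext _ _) _

/-- The lifting of subgroups of multiplicative type, remembering the type of the lift. -/
theorem exists_lift_subgroup_ft (J : Ideal R) (hJ : IsNilpotent J)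
    (G : Over (Spec (CommRingCat.of R))) [GrpObj G] (hG : Smooth G.hom)
    (H₀ : Over (Spec (CommRingCat.of (R ⧸ J)))) [GrpObj H₀] (hH₀ : IsMultTypeLoc H₀)
    (j₀ : H₀ ⟶ Red.bc (jcl J) G) [IsMonHom j₀] [IsImmersion j₀.left] :
    ∃ (H : Over (Spec (CommRingCat.of R))) (_ : GrpObj H) (j : H ⟶ G), IsMonHom j ∧ IsImmersion j.left ∧
      SGA3x.IsMultTypeFT H ∧
      ∃ φ : Red.bc (jcl J) H ≅ H₀, φ.hom ≫ j₀ = (Over.pullback (jcl J)).map j := by
  have : IsAffineHom H₀.hom := isAffineHom_of_isMultTypeLoc H₀ hH₀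
  have : LocallyOfFiniteType (Red.bc (jcl J) G).hom :=
    MorphismProperty.pullback_snd (P := @LocallyOfFiniteType) _ _ inferInstance
  have : LocallyOfFiniteType H₀.hom := by rw [← Over.w j₀]; infer_instance
  obtain ⟨A₀, _, _, ⟨eA⟩⟩ := exists_hopf (R ⧸ J) H₀
  have := finiteType_of_lft H₀ eA
  have hA₀ := isMultType_of_loc H₀ hH₀ eA
  obtain ⟨A, _, _, hA, ⟨σ⟩⟩ := exists_lift_quasiIsotrivial J (fun x hx => isNilpotent_of_mem hJ hx) A₀
    (isQuasiIsotrivial_of_finiteType hA₀)
  have hAm := isMultType_of_isQuasiIsotrivial hA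
  have := flat_of_isMultType hAm
  obtain ⟨l, hl⟩ := exists_integral hAm
  let ψ : Grp.mk (Red.bc (jcl J) (hspec R A)) ≅ Grp.mk H₀ := bcSpec R (R ⧸ J) A ≪≫ hspecIso σ ≪≫ eA.symm
  let φ : Red.bc (jcl J) (hspec R A) ≅ H₀ := (Grp.forget _).mapIso ψ
  have : IsMonHom φ.hom := ψ.hom.hom.isMonHom_hom
  let f₀ := φ.hom ≫ j₀
  obtain ⟨f, hf, hfr⟩ := exists_lift_hom hl hG hJ f₀
  have himm : IsImmersion f.left := by
    have : IsIso φ.hom.left := inferInstanceAs (IsIso ((Over.forget _).map φ.hom))
    have hf₀ : IsImmersion ((Over.pullback (jcl J)).map f).left := by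
      rw [hfr]
      exact MorphismProperty.comp_mem _ φ.hom.left j₀.left inferInstance inferInstance
    let v : pullback (f.left ≫ G.hom) (NilLift.quotι J) ⟶ pullback G.hom (NilLift.quotι J) :=
      (pullback.congrHom (Over.w f) rfl).hom ≫ ((Over.pullback (jcl J)).map f).left
    have hv : v ≫ pullback.fst G.hom (NilLift.quotι J) = pullback.fst (f.left ≫ G.hom) (NilLift.quotι J) ≫ f.left := by
      simp only [v, Category.assoc]
      rw [show ((Over.pullback (jcl J)).map f).left ≫ pullback.fst G.hom (jcl J) = pullback.fst (hspec R A).hom (jcl J) ≫ f.left from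
        pullback.lift_fst _ _ _, ← Category.assoc, pullback.congrHom_hom, pullback.lift_fst, Category.comp_id]
    exact (NilLift.isImmersion_of_nil J hJ f.left G.hom v hv).1 (MorphismProperty.comp_mem _ _ _ inferInstance hf₀)
  have : LocallyOfFiniteType (hspec R A).hom := by rw [← Over.w f]; infer_instance
  have : Algebra.FiniteType R A := finiteType_of_lft (hspec R A) (Iso.refl _)
  obtain ⟨F, hF⟩ := exists_splits_of_isMultType hAm
  exact ⟨hspec R A, inferInstance, f, hf, himm, isMultTypeFT_of_splits hF, φ, hfr.symm⟩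

/-- The restriction of a point of a base change respects convolution. -/
theorem resConv_mul {S T : Type u} [CommRing S] [Algebra R S] [CommRing T] [Algebra R T] [Algebra S T]
    [IsScalarTower R S T] (p q : WithConv (S ⊗[R] A →ₐ[S] T)) :
    toConv (((p * q).ofConv.restrictScalars R).comp Algebra.TensorProduct.includeRight) =
      toConv ((p.ofConv.restrictScalars R).comp Algebra.TensorProduct.includeRight) *
        toConv ((q.ofConv.restrictScalars R).comp Algebra.TensorProduct.includeRight) := by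
  apply WithConv.ofConv_injective
  ext a
  show (p * q).ofConv ((1 : S) ⊗ₜ[R] a) = _
  rw [AlgHom.convMul_apply, AlgHom.convMul_apply, TensorProduct.comul_tmul]
  generalize Coalgebra.comul (R := R) a = z
  induction z using TensorProduct.induction_on with
  | zero => simp
  | add u v hu hv => simp only [TensorProduct.tmul_add, map_add, hu, hv]
  | tmul x y => simp

/-- Hopf algebras split by a faithfully flat family are cocommutative. -/
theorem isCocomm_of_splits {F : FamFF R} (hF : Splits A F) : Coalgebra.IsCocomm R A := by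
  refine HopfLib.isCocomm_of_points_comm fun a b => ?_
  let C := A ⊗[R] A
  apply WithConv.ofConv_injective
  ext x
  rw [← sub_eq_zero]
  refine F.eq_zero _ fun k => ?_
  obtain ⟨M, _, ⟨e⟩⟩ := hF k
  let S := F.S k
  let ext' : WithConv (A →ₐ[R] C) → WithConv (S ⊗[R] A →ₐ[S] S ⊗[R] C) := fun a =>
    toConv (Algebra.TensorProduct.lift (Algebra.ofId S (S ⊗[R] C))
      ((Algebra.TensorProduct.includeRight : C →ₐ[R] S ⊗[R] C).comp a.ofConv) fun _ _ => Commute.all _ _)
  have hext : ∀ a : WithConv (A →ₐ[R] C), ((ext' a).ofConv.restrictScalars R).comp Algebra.TensorProduct.includeRight =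
      (Algebra.TensorProduct.includeRight : C →ₐ[R] S ⊗[R] C).comp a.ofConv := fun a => by
    ext y
    simp [ext']
  have hc : ∀ p q : WithConv (S ⊗[R] A →ₐ[S] S ⊗[R] C), p * q = q * p := by
    intro p q
    apply WithConv.ofConv_injective
    have h := AlgHom.convMul_comp_bialgHom_distrib p q (e.symm : MonoidAlgebra S M →ₐc[S] S ⊗[R] A)
    have h' := AlgHom.convMul_comp_bialgHom_distrib q p (e.symm : MonoidAlgebra S M →ₐc[S] S ⊗[R] A)
    refine AlgHom.ext fun z => ?_
    obtain ⟨w, rfl⟩ := e.symm.surjective z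
    exact DFunLike.congr_fun ((h.trans (congrArg WithConv.ofConv (mul_comm (G := WithConv (MonoidAlgebra S M →ₐ[S] S ⊗[R] C)) _ _))).trans h'.symm) w
  have key : ∀ a b : WithConv (A →ₐ[R] C), (1 : S) ⊗ₜ[R] (a * b).ofConv x = (ext' a * ext' b).ofConv ((1 : S) ⊗ₜ[R] x) := by
    intro a b
    have h := congrArg (fun w => w.ofConv x) (resConv_mul (ext' a) (ext' b))
    simp only [hext] at h
    refine Eq.trans ?_ h.symm
    exact DFunLike.congr_fun (AlgHom.comp_convMul_distrib (Algebra.TensorProduct.includeRight : C →ₐ[R] S ⊗[R] C) a b) x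
  rw [TensorProduct.tmul_sub, key, key, hc, sub_self]

/-- Groups of multiplicative type over affine schemes are commutative. -/
theorem isCommMonObj_of_isMultTypeLoc (H : Over (Spec (CommRingCat.of R))) [GrpObj H] (hH : IsMultTypeLoc H) :
    IsCommMonObj H := by
  have := isAffineHom_of_isMultTypeLoc H hH
  obtain ⟨B, _, _, ⟨eB⟩⟩ := exists_hopf R H
  obtain ⟨F, hF⟩ := exists_splits H hH eB
  have := isCocomm_of_splits hF
  let i : H ⟶ hspec R B := eB.hom.hom.hom
  have : IsMonHom i := eB.hom.hom.isMonHom_hom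
  have : IsIso i := inferInstanceAs (IsIso ((Grp.forget _).map eB.hom))
  constructor
  rw [← cancel_mono i, Category.assoc, IsMonHom.mul_hom i, ← Category.assoc, ← BraidedCategory.braiding_naturality,
    Category.assoc, IsCommMonObj.mul_comm]

end Groth.Agent.MultHopf
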