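import Groth.Agent.MultHopf.TwistIdem
import Groth.Agent.Hensel.FiniteEtaleLift
import Groth.Agent.MultHopf.NearSplit

/-!
# Isotrivial groups lift along henselian pairs
-/

set_option autoImplicit false
set_option backward.isDefEq.respectTransparency.types false
set_option maxHeartbeats 1000000
set_option synthInstance.maxHeartbeats 100000

universe u

open scoped TensorProduct
open SGA3b
open Algebra.TensorProduct (includeLeft includeRight)

namespace Groth.Agent.MultHopf

open Twist

/-- A flat algebra whose reduction is faithfully flat is faithfully flat. -/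
theorem faithfullyFlat_of_reduction {R : Type u} [CommRing R] (I : Ideal R) (hI : I ≤ Ideal.jacobson ⊥) {S S' : Type u}
    [CommRing S] [Algebra R S] [Module.Flat R S] [CommRing S'] [Algebra (R ⧸ I) S'] [Module.FaithfullyFlat (R ⧸ I) S']
    [Algebra R S'] [IsScalarTower R (R ⧸ I) S'] (π : S →ₐ[R] S') : Module.FaithfullyFlat R S := by
  rw [Module.FaithfullyFlat.iff_flat_and_ideal_smul_eq_top]
  refine ⟨inferInstance, fun m htop => ?_⟩
  by_contra hne
  obtain ⟨m', hm', hmm'⟩ := m.exists_le_maximal hne
  have hIm : I ≤ m' := hI.trans (sInf_le ⟨bot_le, hm'⟩)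
  rw [Ideal.smul_top_eq_map] at htop
  have htop' : m.map (algebraMap R S) = ⊤ := by
    rw [← top_le_iff]
    intro x _
    have : x ∈ Submodule.restrictScalars R (m.map (algebraMap R S)) := htop.symm ▸ Submodule.mem_top
    exact this
  have h1 : (m'.map (Ideal.Quotient.mk I)).map (algebraMap (R ⧸ I) S') = ⊤ := by
    rw [Ideal.map_map, show (algebraMap (R ⧸ I) S').comp (Ideal.Quotient.mk I) = π.toRingHom.comp (algebraMap R S) from
      RingHom.ext fun r => ((IsScalarTower.algebraMap_apply R (R ⧸ I) S' r).symm.trans (π.commutes r).symm), ← Ideal.map_map,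
      eq_top_iff]
    refine le_trans (le_of_eq (Ideal.map_top π.toRingHom).symm) (Ideal.map_mono ?_)
    rw [← htop']
    exact Ideal.map_mono hmm'
  have h2 : m'.map (Ideal.Quotient.mk I) = ⊤ := by
    rw [← Ideal.comap_map_eq_self_of_faithfullyFlat (B := S') (m'.map (Ideal.Quotient.mk I)), h1, Ideal.comap_top]
  exact hm'.ne_top (by rw [← Ideal.comap_map_mk hIm, h2, Ideal.comap_top])

/-- Groups split by a finite étale cover lift along henselian pairs. -/
theorem exists_lift_isotrivial {R : Type u} [CommRing R] (I : Ideal R) [HenselianRing R I] {A₀ : Type u} [CommRing A₀]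
    [HopfAlgebra (R ⧸ I) A₀] {S₀ : Type u} [CommRing S₀] [Algebra (R ⧸ I) S₀] [Algebra.Etale (R ⧸ I) S₀]
    [Module.Finite (R ⧸ I) S₀] [Module.FaithfullyFlat (R ⧸ I) S₀] {M : Type u} [CommGroup M]
    (e₀ : S₀ ⊗[R ⧸ I] A₀ ≃ₐc[S₀] MonoidAlgebra S₀ M) :
    ∃ (A : Type u) (_ : CommRing A) (_ : HopfAlgebra R A) (S : Type u) (_ : CommRing S) (_ : Algebra R S),
      Algebra.Etale R S ∧ Module.Finite R S ∧ Module.FaithfullyFlat R S ∧
      Nonempty (S ⊗[R] A ≃ₐc[S] MonoidAlgebra S M) ∧ Nonempty ((R ⧸ I) ⊗[R] A ≃ₐc[R ⧸ I] A₀) := by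
  classical
  obtain ⟨S, _, _, hfin, het, ⟨σ⟩⟩ := Hensel.exists_finite_etale_lift I S₀
  have := hfin
  have := het
  let : Algebra R S₀ := ((algebraMap (R ⧸ I) S₀).comp (algebraMap R (R ⧸ I))).toAlgebra
  have : IsScalarTower R (R ⧸ I) S₀ := IsScalarTower.of_algebraMap_eq fun _ => rfl
  let π : S →ₐ[R] S₀ := (σ.toAlgHom.restrictScalars R).comp includeRight
  have hπ : IsBC (R' := R ⧸ I) π := by
    unfold IsBC
    rw [show Algebra.TensorProduct.lift (Algebra.ofId (R ⧸ I) S₀) π (fun _ _ => Commute.all _ _) = σ.toAlgHom from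
      Algebra.TensorProduct.ext (by ext) (AlgHom.ext fun a => by simp [π])]
    exact σ.bijective
  have : Module.FaithfullyFlat R S := faithfullyFlat_of_reduction I HenselianRing.jac π
  have hint : ∀ (T : Type u) [CommRing T] [Algebra R T] [Module.Finite R T], IdemLifts (I.map (algebraMap R T)) :=
    fun T _ _ _ => @idemLifts_of_henselian T _ _ (Hensel.henselianRing_of_isIntegral T)
  obtain ⟨A, _, _, hA, hA'⟩ := exists_lift_quot I π hπ (hint _) (hint _) e₀
  exact ⟨A, inferInstance, inferInstance, S, inferInstance, inferInstance, het, hfin, inferInstance, hA, hA'⟩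

/-- Finite groups of multiplicative type over a field are split by a finite separable extension. -/
theorem exists_etale_split_field {k B : Type u} [Field k] [CommRing B] [HopfAlgebra k B] [Module.Finite k B]
    (h : IsMultType k B) :
    ∃ (S : Type u) (_ : CommRing S) (_ : Algebra k S), Algebra.Etale k S ∧ Module.Finite k S ∧
      Module.FaithfullyFlat k S ∧ ∃ (M : Type u) (_ : CommGroup M), Finite M ∧ Nonempty (S ⊗[k] B ≃ₐc[S] MonoidAlgebra S M) := by
  obtain ⟨K, _, _, M, _, ⟨eK⟩⟩ := exists_field_split h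
  have : Module.Finite K (MonoidAlgebra K M) :=
    Module.Finite.equiv (eK : K ⊗[k] B ≃ₐc[K] MonoidAlgebra K M).toLinearEquiv
  have : Finite M := Module.Finite.finite_basis (MonoidAlgebra.basis M K)
  have : Group.FG M := inferInstance
  obtain ⟨S, _, _, hfin, hsep, ⟨e⟩⟩ := exists_separable_split eK
  have := hfin
  have := hsep
  have : Algebra.FormallyEtale k S := Algebra.FormallyEtale.of_isSeparable k S
  have : Algebra.Etale k S := ⟨inferInstance, Algebra.FinitePresentation.of_finiteType.1 inferInstance⟩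
  exact ⟨S, inferInstance, inferInstance, this, hfin, inferInstance, M, inferInstance, inferInstance, ⟨e⟩⟩

end Groth.Agent.MultHopf
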