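import Groth.Agent.MultHopf.KerSplit
import Mathlib.RingTheory.Localization.AtPrime.Basic
import Mathlib.RingTheory.FiniteStability

/-!
# Kernels out of diagonalisable groups, locally on the base
-/

set_option autoImplicit false
set_option backward.isDefEq.respectTransparency.types false

universe u

open Coalgebra WithConv Groth.Agent.FinHopf
open scoped TensorProduct

namespace Groth.Agent.MultHopf

variable {T : Type u} [CommRing T] {M : Type u} [CommGroup M]

/-- Change of coefficients of a group algebra. -/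
noncomputable abbrev coeffMap (T L : Type u) [CommRing T] [CommRing L] [Algebra T L] (M : Type u) [CommGroup M] :
    MonoidAlgebra T M →+* MonoidAlgebra L M :=
  MonoidAlgebra.mapRingHom M (algebraMap T L)

theorem coeffMap_single {L : Type u} [CommRing L] [Algebra T L] (m : M) (r : T) :
    coeffMap T L M (MonoidAlgebra.single m r) = MonoidAlgebra.single m (algebraMap T L r) := by
  simp [coeffMap]

theorem coeffMap_algebraMap {L : Type u} [CommRing L] [Algebra T L] (r : T) :
    coeffMap T L M (algebraMap T _ r) = algebraMap L _ (algebraMap T L r) := by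
  simp [coeffMap]

theorem coeff_coeffMap {L : Type u} [CommRing L] [Algebra T L] (z : MonoidAlgebra T M) (m : M) :
    (coeffMap T L M z).coeff m = algebraMap T L (z.coeff m) := by
  simp [coeffMap]

theorem coeffMap_surjective (L : Type u) [CommRing L] [Algebra T L] (h : Function.Surjective (algebraMap T L)) :
    Function.Surjective (coeffMap T L M) := fun z => by
  induction z using MonoidAlgebra.induction_linear with
  | zero => exact ⟨0, map_zero _⟩
  | add a b ha hb =>
    obtain ⟨a, rfl⟩ := ha
    obtain ⟨b, rfl⟩ := hb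
    exact ⟨a + b, map_add _ _ _⟩
  | single m r =>
    obtain ⟨r, rfl⟩ := h r
    exact ⟨MonoidAlgebra.single m r, coeffMap_single m r⟩

theorem coeffMap_eq_zero_iff {L : Type u} [CommRing L] [Algebra T L] (z : MonoidAlgebra T M) :
    coeffMap T L M z = 0 ↔ z ∈ (RingHom.ker (algebraMap T L)).map (algebraMap T (MonoidAlgebra T M)) := by
  refine ⟨fun h => ?_, fun h => ?_⟩
  · refine mem_map_of_forall_coeff _ z fun m => ?_
    rw [RingHom.mem_ker, ← coeff_coeffMap, h]
    simp
  · have hle : (RingHom.ker (algebraMap T L)).map (algebraMap T (MonoidAlgebra T M)) ≤ RingHom.ker (coeffMap T L M) :=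
      Ideal.map_le_iff_le_comap.2 fun r hr => by
        rw [Ideal.mem_comap, RingHom.mem_ker, coeffMap_algebraMap, RingHom.mem_ker.1 hr, map_zero]
    exact hle h

theorem kId_map (L : Type u) [CommRing L] [Algebra T L] (N : Subgroup M) :
    (kId T N).map (coeffMap T L M) = kId L N := by
  rw [kId, kId, Ideal.map_span, ← Set.range_comp]
  congr 2
  funext n
  simp [coeffMap_single]

theorem kId_fg [Group.FG M] (N : Subgroup M) : (kId T N).FG := by
  classical
  haveI := subgroup_fg N
  obtain ⟨s, hs⟩ := Group.fg_def.1 (inferInstance : Group.FG N)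
  refine ⟨s.image fun n : N => MonoidAlgebra.single (n : M) (1 : T) - 1, le_antisymm (Ideal.span_le.2 ?_) ?_⟩
  · intro x hx
    obtain ⟨n, _, rfl⟩ := Finset.mem_image.1 hx
    exact single_sub_one_mem n.2
  · refine (kId_le_iff _).2 fun n hn => ?_
    have hle : Subgroup.closure (s : Set N) ≤
        (charGrp (Ideal.span ((s.image fun n : N => MonoidAlgebra.single (n : M) (1 : T) - 1 : Finset _) :
          Set (MonoidAlgebra T M)))).comap N.subtype :=
      Subgroup.closure_le _ |>.2 fun a ha => by
        rw [SetLike.mem_coe, Subgroup.mem_comap, mem_charGrp]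
        exact Ideal.subset_span (Finset.mem_coe.2 (Finset.mem_image.2 ⟨a, ha, rfl⟩))
    exact hle (hs.symm ▸ Subgroup.mem_top (⟨n, hn⟩ : N))

theorem theta_baseChangeGroupAlgebra (L : Type u) [CommRing L] [Algebra T L] :
    theta (baseChangeGroupAlgebra T L M).symm = coeffMap T L M := by
  refine RingHom.ext fun z => ?_
  rw [theta_apply]
  show MonoidAlgebra.scalarTensorEquiv T L ((1 : L) ⊗ₜ[T] z) = _
  rw [MonoidAlgebra.scalarTensorEquiv_tmul, one_smul]
  rfl

variable {D : Type u} [CommRing D] [HopfAlgebra T D]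

/-- The base change of a homomorphism into a group algebra. -/
noncomputable def bcHomGA (ψ : D →ₐc[T] MonoidAlgebra T M) (L : Type u) [CommRing L] [Algebra T L] :
    L ⊗[T] D →ₐc[L] MonoidAlgebra L M :=
  splitHom ψ (baseChangeGroupAlgebra T L M).symm

theorem kerJ_bcHomGA (ψ : D →ₐc[T] MonoidAlgebra T M) (L : Type u) [CommRing L] [Algebra T L] :
    kerJ (bcHomGA ψ L) = (kerJ ψ).map (coeffMap T L M) := by
  rw [bcHomGA, kerJ_splitHom, theta_baseChangeGroupAlgebra]

/-- Over a local ring the kernel is the subgroup scheme of a subgroup of characters. -/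
theorem exists_kerJ_eq_kId_of_local [IsLocalRing T] [Group.FG M] [Algebra.FiniteType T D]
    (ψ : D →ₐc[T] MonoidAlgebra T M) : ∃ N : Subgroup M, kerJ ψ = kId T N := by
  let k := IsLocalRing.ResidueField T
  haveI : (kerJ (bcHomGA ψ k)).IsHopfIdeal k := kerJ_isHopfIdeal _
  have hk := eq_kId_of_field k (kerJ (bcHomGA ψ k))
  rw [kerJ_bcHomGA] at hk
  let N := charGrp ((kerJ ψ).map (coeffMap T k M))
  refine ⟨N, ?_⟩
  have hker : RingHom.ker (algebraMap T k) = IsLocalRing.maximalIdeal T := IsLocalRing.ker_residue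
  have hsurj : Function.Surjective (algebraMap T k) := IsLocalRing.residue_surjective
  -- the closed fibre
  have hN : kId T N ≤ kerJ ψ ⊔ (IsLocalRing.maximalIdeal T).map (algebraMap T (MonoidAlgebra T M)) := by
    intro z hz
    have h1 : coeffMap T k M z ∈ (kerJ ψ).map (coeffMap T k M) := by
      rw [hk, ← kId_map (T := T) k]
      exact Ideal.mem_map_of_mem _ hz
    obtain ⟨y, hy, hyz⟩ := (Ideal.mem_map_iff_of_surjective (coeffMap T k M) (coeffMap_surjective k hsurj)).1 h1
    rw [show z = y + (z - y) by ring]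
    refine add_mem (Submodule.mem_sup_left hy) (Submodule.mem_sup_right ?_)
    rw [← hker, ← coeffMap_eq_zero_iff, map_sub, hyz, sub_self]
  -- containment by rigidity
  let f : D →ₐc[T] MonoidAlgebra T (M ⧸ N) := (qM T N).comp ψ
  have h0 : ∀ c : D, f c - algebraMap T _ (counit (R := T) c) ∈
      (IsLocalRing.maximalIdeal T).map (algebraMap T (MonoidAlgebra T (M ⧸ N))) := by
    intro c
    rw [← hker, ← coeffMap_eq_zero_iff]
    have hc : coeffMap T k M (ψ c - algebraMap T _ (counit (R := T) c)) ∈ kId k N := by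
      rw [← hk]
      exact Ideal.mem_map_of_mem _ ((kerJ_le_iff ψ _).1 le_rfl c)
    have hcomm : ∀ z : MonoidAlgebra T M, coeffMap T k (M ⧸ N) (qM T N z) = qM k N (coeffMap T k M z) := by
      intro z
      induction z using MonoidAlgebra.induction_linear with
      | zero => simp
      | add a b ha hb => simp only [map_add, ha, hb]
      | single m r => rw [qM_single, coeffMap_single, coeffMap_single, qM_single]
    rw [show f c - algebraMap T _ (counit (R := T) c) = qM T N (ψ c - algebraMap T _ (counit (R := T) c)) by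
      rw [map_sub, AlgHomClass.commutes]; rfl]
    rw [hcomm, qM_eq_zero_iff]
    exact hc
  have hJ : kerJ ψ ≤ kId T N := by
    refine (kerJ_le_iff ψ _).2 fun c => ?_
    rw [← qM_eq_zero_iff, map_sub, AlgHomClass.commutes, sub_eq_zero]
    exact eq_counit_of_local (isMultType_monoidAlgebra T (M ⧸ N)) (f : D →ₐ[T] MonoidAlgebra T (M ⧸ N))
      (compat_bialgHom f) h0 (exists_finset_span_of_finiteType _) c
  haveI : (kerJ ψ).IsHopfIdeal T := kerJ_isHopfIdeal ψ
  exact eq_kId_of_local (kerJ ψ) hJ hN

/-- Denominators for membership in an extended ideal. -/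
theorem exists_smul_mem_of_map_localization {S : Submonoid T} (L : Type u) [CommRing L] [Algebra T L]
    [IsLocalization S L] (I : Ideal (MonoidAlgebra T M)) {x : MonoidAlgebra T M}
    (hx : coeffMap T L M x ∈ I.map (coeffMap T L M)) : ∃ s ∈ S, algebraMap T (MonoidAlgebra T M) s * x ∈ I := by
  classical
  let am : T → MonoidAlgebra T M := fun s => algebraMap T (MonoidAlgebra T M) s
  have hden : ∀ w : MonoidAlgebra L M, ∃ s ∈ S, ∃ z, coeffMap T L M (am s) * w = coeffMap T L M z := by
    intro w
    induction w using MonoidAlgebra.induction_linear with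
    | zero => exact ⟨1, S.one_mem, 0, by simp [am]⟩
    | add a b ha hb =>
      obtain ⟨s, hs, z, hz⟩ := ha
      obtain ⟨s', hs', z', hz'⟩ := hb
      refine ⟨s * s', S.mul_mem hs hs', am s' * z + am s * z', ?_⟩
      rw [map_add, map_mul, map_mul, ← hz, ← hz']
      simp only [am, map_mul]
      ring
    | single m r =>
      obtain ⟨⟨t, s⟩, hts⟩ := IsLocalization.surj S r
      refine ⟨s, s.2, MonoidAlgebra.single m t, ?_⟩
      simp only [am, coeffMap_algebraMap, coeffMap_single]
      rw [← hts, MonoidAlgebra.coe_algebraMap]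
      simp [mul_comm]
  have key : ∀ w ∈ I.map (coeffMap T L M), ∃ s ∈ S, ∃ y ∈ I, coeffMap T L M (am s) * w = coeffMap T L M y := by
    intro w hw
    rw [Ideal.map] at hw
    induction hw using Submodule.span_induction with
    | mem w hw =>
      obtain ⟨y, hy, rfl⟩ := hw
      exact ⟨1, S.one_mem, y, hy, by simp [am, ← MonoidAlgebra.one_def]⟩
    | zero => exact ⟨1, S.one_mem, 0, I.zero_mem, by simp [am]⟩
    | add a b _ _ ha hb =>
      obtain ⟨s, hs, z, hzI, hz⟩ := ha
      obtain ⟨s', hs', z', hzI', hz'⟩ := hb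
      refine ⟨s * s', S.mul_mem hs hs', am s' * z + am s * z', add_mem (I.mul_mem_left _ hzI) (I.mul_mem_left _ hzI'), ?_⟩
      rw [map_add, map_mul, map_mul, ← hz, ← hz']
      simp only [am, map_mul]
      ring
    | smul a w _ hw =>
      obtain ⟨s, hs, y, hy, hsy⟩ := hw
      obtain ⟨s', hs', z, hz⟩ := hden a
      refine ⟨s * s', S.mul_mem hs hs', z * y, I.mul_mem_left _ hy, ?_⟩
      rw [map_mul, ← hz, ← hsy, smul_eq_mul]
      simp only [am, map_mul]
      ring
  obtain ⟨s, hs, y, hy, hsy⟩ := key _ hx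
  rw [← map_mul] at hsy
  have hex : ∀ m : M, ∃ c : S, (c : T) * (am s * x).coeff m = c * y.coeff m := fun m => by
    apply IsLocalization.exists_of_eq (S := L)
    rw [← coeff_coeffMap, ← coeff_coeffMap, hsy]
  choose c hc using hex
  let F := (am s * x).coeff.support ∪ y.coeff.support
  refine ⟨(∏ m ∈ F, (c m : T)) * s, S.mul_mem (prod_mem fun m _ => (c m).2) hs, ?_⟩
  rw [map_mul, mul_assoc]
  have heq : am (∏ m ∈ F, (c m : T)) * (am s * x) = am (∏ m ∈ F, (c m : T)) * y := by
    apply MonoidAlgebra.coeff_injective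
    ext m
    simp only [am, ← Algebra.smul_def, MonoidAlgebra.coeff_smul, Finsupp.smul_apply, smul_eq_mul]
    by_cases hm : m ∈ F
    · obtain ⟨d, hd⟩ := Finset.dvd_prod_of_mem (fun m => (c m : T)) hm
      rw [hd]
      have := hc m
      simp only [am, ← Algebra.smul_def, MonoidAlgebra.coeff_smul, Finsupp.smul_apply, smul_eq_mul] at this
      linear_combination d * this
    · simp only [F, Finset.mem_union, not_or, Finsupp.notMem_support_iff] at hm
      have h1 := hm.1
      simp only [am, ← Algebra.smul_def, MonoidAlgebra.coeff_smul, Finsupp.smul_apply, smul_eq_mul] at h1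
      rw [h1, hm.2]
  rw [heq]
  exact I.mul_mem_left _ hy

/-- A finitely generated ideal contained in another after localizing is so after inverting one element. -/
theorem exists_forall_map_le {S : Submonoid T} (L₀ : Type u) [CommRing L₀] [Algebra T L₀] [IsLocalization S L₀]
    {I I' : Ideal (MonoidAlgebra T M)} (hI : I.FG) (h : I.map (coeffMap T L₀ M) ≤ I'.map (coeffMap T L₀ M)) :
    ∃ g ∈ S, ∀ (L : Type u) [CommRing L] [Algebra T L], IsUnit (algebraMap T L g) →
      I.map (coeffMap T L M) ≤ I'.map (coeffMap T L M) := by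
  classical
  obtain ⟨s, rfl⟩ := hI
  have hex : ∀ x ∈ s, ∃ t ∈ S, algebraMap T (MonoidAlgebra T M) t * x ∈ I' := fun x hx =>
    exists_smul_mem_of_map_localization L₀ I' (h (Ideal.mem_map_of_mem _ (Ideal.subset_span hx)))
  choose! t htS ht using hex
  refine ⟨∏ x ∈ s, t x, prod_mem htS, fun L _ _ hu => ?_⟩
  rw [Ideal.map_span, Ideal.span_le]
  rintro _ ⟨x, hx, rfl⟩
  have hux : IsUnit (algebraMap L (MonoidAlgebra L M) (algebraMap T L (t x))) :=
    (isUnit_of_dvd_unit (map_dvd _ (Finset.dvd_prod_of_mem t hx)) hu).map _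
  have := Ideal.mem_map_of_mem (coeffMap T L M) (ht x hx)
  rw [map_mul, coeffMap_algebraMap] at this
  exact (Ideal.unit_mul_mem_iff_mem _ hux).1 this

theorem kerJ_fg [Algebra.FiniteType T D] (ψ : D →ₐc[T] MonoidAlgebra T M) : (kerJ ψ).FG := by
  classical
  obtain ⟨S, hS⟩ := exists_finset_span_of_finiteType (ψ : D →ₐ[T] MonoidAlgebra T M)
  refine ⟨S.image fun d => ψ d - algebraMap T _ (counit (R := T) d), le_antisymm (Ideal.span_le.2 ?_) ?_⟩
  · intro x hx
    obtain ⟨d, _, rfl⟩ := Finset.mem_image.1 hx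
    exact (kerJ_le_iff ψ _).1 le_rfl d
  · refine (kerJ_le_iff ψ _).2 fun c => ?_
    rw [Finset.coe_image]
    exact hS c

/-- The kernel near a prime. -/
theorem exists_nhd_kId [Group.FG M] [Algebra.FiniteType T D] (ψ : D →ₐc[T] MonoidAlgebra T M)
    (P : PrimeSpectrum T) : ∃ g ∉ P.asIdeal, ∃ N : Subgroup M, ∀ (L : Type u) [CommRing L] [Algebra T L],
      IsUnit (algebraMap T L g) → (kerJ ψ).map (coeffMap T L M) = kId L N := by
  let L₀ := Localization.AtPrime P.asIdeal
  obtain ⟨N, hN⟩ := exists_kerJ_eq_kId_of_local (T := L₀) (bcHomGA ψ L₀)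
  rw [kerJ_bcHomGA, ← kId_map (T := T) L₀] at hN
  obtain ⟨g₁, hg₁, h₁⟩ := exists_forall_map_le (S := P.asIdeal.primeCompl) L₀ (kerJ_fg ψ) hN.le
  obtain ⟨g₂, hg₂, h₂⟩ := exists_forall_map_le (S := P.asIdeal.primeCompl) L₀ (kId_fg N) hN.ge
  refine ⟨g₁ * g₂, P.asIdeal.primeCompl.mul_mem hg₁ hg₂, N, fun L _ _ hu => ?_⟩
  rw [map_mul, IsUnit.mul_iff] at hu
  rw [← kId_map (T := T) L]
  exact le_antisymm (h₁ L hu.1) (h₂ L hu.2)

end Groth.Agent.MultHopf
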