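import Groth.Agent.MultHopf.KerType
import Groth.Agent.HopfFF.Kernel

/-!
# Kernels of homomorphisms of groups of multiplicative type and finite type
-/

set_option autoImplicit false
set_option backward.isDefEq.respectTransparency.types false

universe u

open scoped TensorProduct

namespace Groth.Agent.MultHopf

variable {R A C : Type u} [CommRing R] [CommRing A] [HopfAlgebra R A] [CommRing C] [HopfAlgebra R C]

theorem map_map_of_comp {X Y Z F G H : Type*} [CommRing X] [CommRing Y] [CommRing Z] [FunLike F X Y] [FunLike G Y Z]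
    [FunLike H X Z] [RingHomClass F X Y] [RingHomClass G Y Z] [RingHomClass H X Z] (I : Ideal X) (f : F) (g : G) (h : H)
    (hh : ∀ x, g (f x) = h x) : (I.map f).map g = I.map h := by
  refine le_antisymm (Ideal.map_le_iff_le_comap.2 (Ideal.map_le_iff_le_comap.2 fun x hx => ?_))
    (Ideal.map_le_iff_le_comap.2 fun x hx => ?_)
  · rw [Ideal.mem_comap, Ideal.mem_comap, hh]
    exact Ideal.mem_map_of_mem _ hx
  · rw [Ideal.mem_comap, ← hh]
    exact Ideal.mem_map_of_mem _ (Ideal.mem_map_of_mem _ hx)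

theorem kId_map_iN (L : Type u) [CommRing L] {M : Type u} [CommGroup M] (M₀ : Subgroup M) (N : Subgroup M₀) :
    (kId L N).map (iN M₀ : MonoidAlgebra L M₀ →ₐc[L] MonoidAlgebra L M) = kId L (N.map M₀.subtype) := by
  rw [kId, kId, Ideal.map_span]
  apply le_antisymm <;> rw [Ideal.span_le]
  · rintro _ ⟨_, ⟨n, rfl⟩, rfl⟩
    refine Ideal.subset_span ⟨⟨_, Subgroup.mem_map_of_mem _ n.2⟩, ?_⟩
    simp [iN_single]
  · rintro _ ⟨⟨_, n, hn, rfl⟩, rfl⟩
    exact Ideal.subset_span ⟨_, ⟨⟨n, hn⟩, rfl⟩, by simp [iN_single]⟩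

/-- A map into a group algebra from an algebra of finite type goes through finitely many characters. -/
theorem exists_factor_subgroup {T : Type u} [CommRing T] {M : Type u} [CommGroup M] {D : Type u} [CommRing D]
    [HopfAlgebra T D] [Algebra.FiniteType T D] (ψ : D →ₐc[T] MonoidAlgebra T M) :
    ∃ (M₀ : Subgroup M) (_ : Group.FG M₀) (ψ₀ : D →ₐc[T] MonoidAlgebra T M₀), (iN M₀).comp ψ₀ = ψ := by
  classical
  obtain ⟨s, hs⟩ := Algebra.FiniteType.out (R := T) (A := D)
  let M₀ := Subgroup.closure ((s.biUnion fun d => (ψ d).coeff.support : Finset M) : Set M)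
  have hfg : Group.FG M₀ := (Group.fg_iff_subgroup_fg _).2 ⟨_, rfl⟩
  let ι₀ : MonoidAlgebra T M₀ →ₐ[T] MonoidAlgebra T M := (iN M₀ : MonoidAlgebra T M₀ →ₐc[T] MonoidAlgebra T M)
  have hrange : (ψ : D →ₐ[T] MonoidAlgebra T M).range ≤ ι₀.range := by
    rw [← Algebra.map_top, ← hs, AlgHom.map_adjoin, Algebra.adjoin_le_iff]
    rintro _ ⟨d, hd, rfl⟩
    show (ψ d) ∈ ι₀.range
    rw [← MonoidAlgebra.sum_coeff_single (ψ d)]
    refine sum_mem fun m hm => ?_
    exact ⟨MonoidAlgebra.single ⟨m, Subgroup.subset_closure (Finset.mem_biUnion.2 ⟨d, hd, hm⟩)⟩ ((ψ d).coeff m),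
      iN_single _ _⟩
  have hfix : ∀ x, iN M₀ (rN M₀ (ψ x)) = ψ x := fun x => by
    obtain ⟨y, hy⟩ := hrange ⟨x, rfl⟩
    have hy' : iN M₀ y = ψ x := hy
    rw [← hy', rN_iN]
  let ψa : D →ₐ[T] MonoidAlgebra T M₀ := AlgHom.ofLinearMap ((rN M₀).comp (ψ : D →ₗ[T] MonoidAlgebra T M))
    (by
      show rN M₀ (ψ 1) = 1
      rw [map_one, ← map_one (iN (R := T) M₀), rN_iN])
    (fun x y => by
      show rN M₀ (ψ (x * y)) = rN M₀ (ψ x) * rN M₀ (ψ y)
      rw [map_mul, ← hfix x, ← hfix y, ← map_mul, rN_iN, rN_iN, rN_iN])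
  have hψa : ∀ x, iN M₀ (ψa x) = ψ x := hfix
  have hinj : Function.Injective
      (TensorProduct.map (iN M₀ : MonoidAlgebra T M₀ →ₐc[T] MonoidAlgebra T M).toCoalgHom.toLinearMap
        (iN M₀ : MonoidAlgebra T M₀ →ₐc[T] MonoidAlgebra T M).toCoalgHom.toLinearMap) := by
    refine Function.LeftInverse.injective (g := TensorProduct.map (rN M₀) (rN M₀)) fun z => ?_
    induction z using TensorProduct.induction_on with
    | zero => simp
    | add a b ha hb => rw [map_add, map_add, ha, hb]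
    | tmul a b =>
      show rN M₀ (iN M₀ a) ⊗ₜ[T] rN M₀ (iN M₀ b) = a ⊗ₜ[T] b
      rw [rN_iN, rN_iN]
  refine ⟨M₀, hfg, BialgHom.ofAlgHom ψa ?_ ?_, ?_⟩
  · ext x
    show Coalgebra.counit (ψa x) = Coalgebra.counit x
    rw [← CoalgHomClass.counit_comp_apply (iN (R := T) M₀) (ψa x), hψa, CoalgHomClass.counit_comp_apply]
  · ext x
    apply hinj
    have h1 : Coalgebra.comul (R := T) (ψ x) =
        TensorProduct.map (iN M₀ : MonoidAlgebra T M₀ →ₐc[T] MonoidAlgebra T M).toCoalgHom.toLinearMap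
          (iN M₀ : MonoidAlgebra T M₀ →ₐc[T] MonoidAlgebra T M).toCoalgHom.toLinearMap (Coalgebra.comul (R := T) (ψa x)) := by
      rw [← hψa x]
      exact (CoalgHomClass.map_comp_comul_apply (iN (R := T) M₀) (ψa x)).symm
    simp only [AlgHom.comp_apply, Bialgebra.comulAlgHom_apply]
    rw [← h1, ← CoalgHomClass.map_comp_comul_apply ψ x]
    induction Coalgebra.comul (R := T) x using TensorProduct.induction_on with
    | zero => simp
    | add a b ha hb => simp only [map_add, ha, hb]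
    | tmul a b =>
      show iN M₀ (ψa a) ⊗ₜ[T] iN M₀ (ψa b) = ψ a ⊗ₜ[T] ψ b
      rw [hψa, hψa]
  · exact BialgHom.ext hψa

/-- The kernel of a map from a group of finite type is locally a subgroup scheme. -/
theorem locallySub_kerJ [Algebra.FiniteType R C] (φ : C →ₐc[R] A)
    {T : Type u} [CommRing T] [Algebra R T] {M : Type u} [CommGroup M]
    (e : T ⊗[R] A ≃ₐc[T] MonoidAlgebra T M) : LocallySub (kerJ φ) e := by
  intro P
  obtain ⟨M₀, _, ψ₀, hψ₀⟩ := exists_factor_subgroup (splitHom φ e)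
  obtain ⟨g, hg, N, hN⟩ := exists_nhd_kId ψ₀ P
  refine ⟨g, hg, N.map M₀.subtype, fun L _ _ hu => ?_⟩
  rw [← kerJ_splitHom, ← hψ₀]
  have h1 : kerJ ((iN M₀).comp ψ₀) = (kerJ ψ₀).map (iN M₀ : MonoidAlgebra T M₀ →ₐc[T] MonoidAlgebra T M) :=
    (map_map_of_comp _ _ _ _ fun _ => rfl).symm
  rw [h1, ← kId_map_iN L M₀ N, ← hN L hu]
  have hsq : ∀ x : MonoidAlgebra T M₀, coeffMap T L M (iN M₀ x) = iN M₀ (coeffMap T L M₀ x) := by
    intro x
    induction x using MonoidAlgebra.induction_linear with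
    | zero => simp
    | add a b ha hb => simp only [map_add, ha, hb]
    | single m r => simp [iN_single]
  rw [map_map_of_comp (kerJ ψ₀) _ _ ((coeffMap T L M).comp
      (iN M₀ : MonoidAlgebra T M₀ →ₐc[T] MonoidAlgebra T M)) fun x => rfl,
    map_map_of_comp (kerJ ψ₀) _ _ ((coeffMap T L M).comp
      (iN M₀ : MonoidAlgebra T M₀ →ₐc[T] MonoidAlgebra T M)) fun x => (hsq x).symm]

/-- Kernels are of multiplicative type. -/
theorem isMultType_kerJ [Algebra.FiniteType R C] (φ : C →ₐc[R] A)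
    (hA : SGA3b.IsMultType R A) [(kerJ φ).IsHopfIdeal R] : SGA3b.IsMultType R (A ⧸ kerJ φ) :=
  isMultType_quot (kerJ φ) hA fun _ _ _ _ _ e => locallySub_kerJ φ e

/-- Over a field every closed subgroup of a group of multiplicative type is of multiplicative type. -/
theorem isMultType_quot_of_field (k : Type u) [Field k] {A : Type u} [CommRing A] [HopfAlgebra k A]
    (hA : SGA3b.IsMultType k A) (J : Ideal A) [J.IsHopfIdeal k] : SGA3b.IsMultType k (A ⧸ J) := by
  obtain ⟨s, hs, hconst⟩ := hA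
  obtain ⟨f, hf, hf0⟩ : ∃ f ∈ s, f ≠ 0 := by
    by_contra hcon
    push Not at hcon
    refine one_ne_zero (α := k) (Ideal.mem_bot.1 ?_)
    rw [← Ideal.span_singleton_zero]
    exact Ideal.span_mono (fun x hx => Set.mem_singleton_iff.2 (hcon x hx)) (hs.symm ▸ Submodule.mem_top)
  obtain ⟨R₁, _, _, hff, M, _, ⟨e₁⟩⟩ := hconst f hf
  have hf' : IsUnit f := Ne.isUnit hf0
  have : Nontrivial (Localization.Away f) := (IsLocalization.atUnit k (Localization.Away f) f hf').toEquiv.symm.nontrivial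
  have : Nontrivial R₁ := (FaithfulSMul.algebraMap_injective (Localization.Away f) R₁).nontrivial
  obtain ⟨m, hm⟩ := Ideal.exists_maximal R₁
  let K := m.ResidueField
  let : Algebra k R₁ := ((algebraMap (Localization.Away f) R₁).comp (algebraMap k (Localization.Away f))).toAlgebra
  have : IsScalarTower k (Localization.Away f) R₁ := IsScalarTower.of_algebraMap_eq fun _ => rfl
  let e : K ⊗[k] A ≃ₐc[K] MonoidAlgebra K M := bcE ((cancelBC k (Localization.Away f) R₁ A).symm.trans e₁) K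
  haveI hH : (J.map (theta e)).IsHopfIdeal K := by
    rw [map_theta_eq_ker e J]
    exact Groth.Agent.HopfFF.isHopfIdeal_ker (k := K) ((Bialgebra.TensorProduct.map (BialgHom.id K K)
      (Bialgebra.Quotient.mkBialgHom (R := k) J)).comp (e.symm : MonoidAlgebra K M →ₐc[K] K ⊗[k] A))
  obtain ⟨E⟩ := nonempty_equiv_of_map_theta e J (qM K (charGrp (J.map (theta e)))) (qM_surjective _)
    ((ker_qM _).trans (eq_kId_of_field K (J.map (theta e))).symm)
  refine ⟨{1}, Ideal.span_singleton_one, fun r _ => ?_⟩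
  subst_vars
  have hu : IsUnit (algebraMap k K (1 : k)) := by rw [map_one]; exact isUnit_one
  let : Algebra (Localization.Away (1 : k)) K := (IsLocalization.Away.lift (1 : k) hu).toAlgebra
  have : IsScalarTower k (Localization.Away (1 : k)) K :=
    IsScalarTower.of_algebraMap_eq fun x => (IsLocalization.Away.lift_eq (1 : k) hu x).symm
  have : Module.Flat (Localization.Away (1 : k)) K :=
    (Module.flat_iff_of_isLocalization (Localization.Away (1 : k)) (Submonoid.powers (1 : k)) K).2 inferInstance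
  refine ⟨K, inferInstance, inferInstance, Module.FaithfullyFlat.of_comap_surjective ?_,
    M ⧸ charGrp (J.map (theta e)), inferInstance, ⟨(cancelBC k (Localization.Away (1 : k)) K (A ⧸ J)).trans E⟩⟩
  intro x
  exact ⟨⟨⊥, Ideal.isPrime_bot⟩,
    (PrimeSpectrum.localization_away_isOpenEmbedding (Localization.Away (1 : k)) (1 : k)).injective (Subsingleton.elim _ _)⟩

end Groth.Agent.MultHopf
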