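import Groth.Agent.MultHopf.Points
import Groth.Agent.MultHopf.CentralRigid
import Mathlib.RingTheory.Noetherian.Basic
import Groth.Agent.MultHopf.HomLocus
import Mathlib.RingTheory.HopfAlgebra.Quotient

/-!
# Hopf ideals of group algebras and subgroups of the character group
-/

set_option autoImplicit false
set_option backward.isDefEq.respectTransparency.types false

universe u

open Coalgebra
open scoped TensorProduct

namespace Groth.Agent.MultHopf

variable (R : Type u) [CommRing R] {M : Type u} [CommGroup M] (N : Subgroup M)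

/-- The ideal of the subgroup scheme `D(M/N)` of `D(M)`. -/
noncomputable def kId : Ideal (MonoidAlgebra R M) :=
  Ideal.span (Set.range fun n : N => MonoidAlgebra.single (n : M) (1 : R) - 1)

/-- The bialgebra map to the group algebra of the quotient. -/
noncomputable def qM : MonoidAlgebra R M →ₐc[R] MonoidAlgebra R (M ⧸ N) :=
  MonoidAlgebra.mapDomainBialgHom R (QuotientGroup.mk' N)

variable {R}

theorem qM_single (m : M) (r : R) : qM R N (MonoidAlgebra.single m r) = MonoidAlgebra.single (m : M ⧸ N) r := by
  simp [qM, MonoidAlgebra.mapDomainBialgHom]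

variable {N}

theorem single_sub_one_mem {n : M} (hn : n ∈ N) : MonoidAlgebra.single n (1 : R) - 1 ∈ kId R N :=
  Ideal.subset_span ⟨⟨n, hn⟩, rfl⟩

theorem kId_le_iff (J : Ideal (MonoidAlgebra R M)) :
    kId R N ≤ J ↔ ∀ n ∈ N, MonoidAlgebra.single n (1 : R) - 1 ∈ J := by
  rw [kId, Ideal.span_le]
  exact ⟨fun h n hn => h ⟨⟨n, hn⟩, rfl⟩, fun h => by rintro _ ⟨n, rfl⟩; exact h n.1 n.2⟩

variable (N)

theorem qM_eq_zero_iff (z : MonoidAlgebra R M) : qM R N z = 0 ↔ z ∈ kId R N := by
  constructor
  · intro h
    let s : M ⧸ N → M := Quotient.out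
    let σ : MonoidAlgebra R (M ⧸ N) →+ MonoidAlgebra R M :=
      (Finsupp.liftAddHom fun c : M ⧸ N => MonoidAlgebra.singleAddHom (R := R) (s c)).comp
        (MonoidAlgebra.coeffAddEquiv).toAddMonoidHom
    have hσ : ∀ c r, σ (MonoidAlgebra.single c r) = MonoidAlgebra.single (s c) r := by
      intro c r
      show (Finsupp.liftAddHom _) (MonoidAlgebra.single c r).coeff = _
      rw [MonoidAlgebra.coeff_single, Finsupp.liftAddHom_apply_single]
      rfl
    suffices hz : z - σ (qM R N z) ∈ kId R N by rwa [h, map_zero, sub_zero] at hz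
    clear h
    induction z using MonoidAlgebra.induction_linear with
    | zero => simp
    | add a b ha hb => rw [map_add, map_add, add_sub_add_comm]; exact add_mem ha hb
    | single m r =>
      rw [qM_single, hσ]
      have hmem : (s (m : M ⧸ N))⁻¹ * m ∈ N := QuotientGroup.eq.1 (Quotient.out_eq' _)
      rw [show MonoidAlgebra.single m r - MonoidAlgebra.single (s (m : M ⧸ N)) r =
        MonoidAlgebra.single (s (m : M ⧸ N)) r * (MonoidAlgebra.single ((s (m : M ⧸ N))⁻¹ * m) 1 - 1) by
        rw [mul_sub, MonoidAlgebra.single_mul_single, mul_one, mul_one, mul_inv_cancel_left]]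
      exact Ideal.mul_mem_left _ _ (single_sub_one_mem hmem)
  · intro h
    induction h using Submodule.span_induction with
    | mem x hx =>
      obtain ⟨n, rfl⟩ := hx
      rw [map_sub, qM_single, map_one, (QuotientGroup.eq_one_iff _).2 n.2, ← MonoidAlgebra.one_def, sub_self]
    | zero => exact map_zero _
    | add x y _ _ hx hy => rw [map_add, hx, hy, add_zero]
    | smul a x _ hx => rw [smul_eq_mul, map_mul, hx, mul_zero]

theorem ker_qM : RingHom.ker (qM R N : MonoidAlgebra R M →ₐ[R] MonoidAlgebra R (M ⧸ N)) = kId R N :=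
  Ideal.ext fun z => qM_eq_zero_iff N z

theorem qM_surjective : Function.Surjective (qM R N) :=
  mapDomain_surjective' R (QuotientGroup.mk' N) (QuotientGroup.mk'_surjective N)

/-- The subgroup of characters trivial on a subgroup scheme. -/
def charGrp (J : Ideal (MonoidAlgebra R M)) : Subgroup M where
  carrier := {m | MonoidAlgebra.single m (1 : R) - 1 ∈ J}
  one_mem' := by simp [MonoidAlgebra.one_def]
  mul_mem' {a b} ha hb := by
    show MonoidAlgebra.single (a * b) (1 : R) - 1 ∈ J
    have : MonoidAlgebra.single (a * b) (1 : R) - 1 =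
        MonoidAlgebra.single a 1 * (MonoidAlgebra.single b 1 - 1) + (MonoidAlgebra.single a 1 - 1) := by
      rw [mul_sub, MonoidAlgebra.single_mul_single, one_mul, mul_one, sub_add_sub_cancel]
    rw [this]
    exact add_mem (J.mul_mem_left _ hb) ha
  inv_mem' {a} ha := by
    show MonoidAlgebra.single a⁻¹ (1 : R) - 1 ∈ J
    have : MonoidAlgebra.single a⁻¹ (1 : R) - 1 =
        -(MonoidAlgebra.single a⁻¹ 1 * (MonoidAlgebra.single a 1 - 1)) := by
      rw [mul_sub, MonoidAlgebra.single_mul_single, inv_mul_cancel, one_mul, mul_one, ← MonoidAlgebra.one_def]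
      abel
    rw [this]
    exact J.neg_mem (J.mul_mem_left _ ha)

theorem mem_charGrp {J : Ideal (MonoidAlgebra R M)} {m : M} :
    m ∈ charGrp J ↔ MonoidAlgebra.single m (1 : R) - 1 ∈ J := Iff.rfl

theorem kId_charGrp_le (J : Ideal (MonoidAlgebra R M)) : kId R (charGrp J) ≤ J :=
  (kId_le_iff J).2 fun _ hn => hn

/-- Over a field every Hopf ideal of a group algebra is given by a subgroup. -/
theorem eq_kId_of_field (k : Type u) [Field k] {M : Type u} [CommGroup M]
    (J : Ideal (MonoidAlgebra k M)) [J.IsHopfIdeal k] : J = kId k (charGrp J) := by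
  classical
  refine le_antisymm (fun z hz => ?_) (kId_charGrp_le J)
  rw [← qM_eq_zero_iff]
  let N := charGrp J
  let π : MonoidAlgebra k M →ₐc[k] MonoidAlgebra k M ⧸ J := Bialgebra.Quotient.mkBialgHom J
  let γ : M ⧸ N → MonoidAlgebra k M ⧸ J := fun c => π (MonoidAlgebra.single c.out 1)
  have hγq : ∀ m : M, γ (m : M ⧸ N) = π (MonoidAlgebra.single m 1) := by
    intro m
    have hmem : ((m : M ⧸ N)).out⁻¹ * m ∈ N := QuotientGroup.eq.1 (Quotient.out_eq' _)
    rw [mem_charGrp] at hmem
    symm
    refine Ideal.Quotient.eq.2 ?_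
    have : MonoidAlgebra.single m (1 : k) - MonoidAlgebra.single ((m : M ⧸ N)).out 1 =
        MonoidAlgebra.single ((m : M ⧸ N)).out 1 * (MonoidAlgebra.single (((m : M ⧸ N)).out⁻¹ * m) 1 - 1) := by
      rw [mul_sub, MonoidAlgebra.single_mul_single, mul_one, mul_one, mul_inv_cancel_left]
    rw [this]
    exact J.mul_mem_left _ hmem
  have hinj : Function.Injective γ := by
    intro c c' h
    induction c using QuotientGroup.induction_on with | _ m =>
    induction c' using QuotientGroup.induction_on with | _ m' =>
    rw [hγq, hγq] at h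
    rw [QuotientGroup.eq]
    rw [mem_charGrp]
    have h' : MonoidAlgebra.single m (1 : k) - MonoidAlgebra.single m' 1 ∈ J := Ideal.Quotient.eq.1 h
    have : MonoidAlgebra.single (m⁻¹ * m') (1 : k) - 1 =
        -(MonoidAlgebra.single m⁻¹ 1 * (MonoidAlgebra.single m 1 - MonoidAlgebra.single m' 1)) := by
      rw [mul_sub, MonoidAlgebra.single_mul_single, MonoidAlgebra.single_mul_single, inv_mul_cancel, one_mul,
        ← MonoidAlgebra.one_def]
      abel
    rw [this]
    exact J.neg_mem (J.mul_mem_left _ h')
  have hli : LinearIndependent k γ := by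
    refine LinearIndepOn.linearIndependent_restrict (v := id) (s := Set.range γ)
      (linearIndepOn_isGroupLikeElem.mono ?_) |>.comp (fun c => ⟨γ c, c, rfl⟩) (fun c c' h => hinj (congrArg Subtype.val h))
    rintro _ ⟨c, rfl⟩
    exact IsGroupLikeElem.map π (MonoidAlgebra.isGroupLikeElem_single_one _)
  have key : ∀ w : MonoidAlgebra k M, π w = Finsupp.linearCombination k γ (qM k N w).coeff := by
    intro w
    induction w using MonoidAlgebra.induction_linear with
    | zero => simp
    | add a b ha hb => simp only [map_add, MonoidAlgebra.coeff_add, ha, hb]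
    | single m r =>
      rw [qM_single, MonoidAlgebra.coeff_single, Finsupp.linearCombination_single, hγq, ← map_smul,
        MonoidAlgebra.smul_single, smul_eq_mul, mul_one]
  have h0 : Finsupp.linearCombination k γ (qM k N z).coeff = 0 := by
    rw [← key]; exact Ideal.Quotient.eq_zero_iff_mem.2 hz
  exact MonoidAlgebra.coeff_injective (by simpa using linearIndependent_iff.1 hli _ h0)

section graded

variable {N}

open Classical in
/-- The part of an element supported on a coset. -/
noncomputable def cpart (c : M ⧸ N) : MonoidAlgebra R M →ₗ[R] MonoidAlgebra R M :=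
  (MonoidAlgebra.coeffLinearEquiv R).symm.toLinearMap ∘ₗ
    (Finsupp.lsum R fun m : M => if (m : M ⧸ N) = c then Finsupp.lsingle m else 0) ∘ₗ
      (MonoidAlgebra.coeffLinearEquiv R).toLinearMap

open Classical in
theorem cpart_single (c : M ⧸ N) (m : M) (r : R) :
    cpart (R := R) c (MonoidAlgebra.single m r) = if (m : M ⧸ N) = c then MonoidAlgebra.single m r else 0 := by
  split_ifs with h <;> simp [cpart, h]

/-- The retraction to the group algebra of the subgroup. -/
noncomputable def rN (N : Subgroup M) : MonoidAlgebra R M →ₗ[R] MonoidAlgebra R N :=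
  open Classical in
  (MonoidAlgebra.coeffLinearEquiv R).symm.toLinearMap ∘ₗ
    (Finsupp.lsum R fun m : M => if h : m ∈ N then Finsupp.lsingle (⟨m, h⟩ : N) else 0) ∘ₗ
      (MonoidAlgebra.coeffLinearEquiv R).toLinearMap

/-- The inclusion of the group algebra of the subgroup. -/
noncomputable def iN (N : Subgroup M) : MonoidAlgebra R N →ₐc[R] MonoidAlgebra R M :=
  MonoidAlgebra.mapDomainBialgHom R N.subtype

theorem iN_single (n : N) (r : R) : iN N (MonoidAlgebra.single n r) = MonoidAlgebra.single (n : M) r := by
  simp [iN, MonoidAlgebra.mapDomainBialgHom]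

theorem rN_single_mem {m : M} (h : m ∈ N) (r : R) :
    rN (R := R) N (MonoidAlgebra.single m r) = MonoidAlgebra.single ⟨m, h⟩ r := by
  simp [rN, h]

theorem rN_single_not_mem {m : M} (h : m ∉ N) (r : R) : rN (R := R) N (MonoidAlgebra.single m r) = 0 := by
  simp [rN, h]

theorem rN_iN (w : MonoidAlgebra R N) : rN N (iN N w) = w := by
  induction w using MonoidAlgebra.induction_linear with
  | zero => simp
  | add a b ha hb => rw [map_add, map_add, ha, hb]
  | single n r => rw [iN_single, rN_single_mem n.2]

theorem iN_rN (z : MonoidAlgebra R M) : iN N (rN N z) = cpart (1 : M ⧸ N) z := by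
  induction z using MonoidAlgebra.induction_linear with
  | zero => simp
  | add a b ha hb => rw [map_add, map_add, map_add, ha, hb]
  | single m r =>
    rw [cpart_single]
    by_cases h : m ∈ N
    · rw [if_pos ((QuotientGroup.eq_one_iff m).2 h), rN_single_mem h, iN_single]
    · rw [if_neg (fun h' => h ((QuotientGroup.eq_one_iff m).1 h')), rN_single_not_mem h, map_zero]

/-- A Hopf ideal inside `kId N` is graded by the cosets of `N`. -/
theorem cpart_mem (J : Ideal (MonoidAlgebra R M)) [J.IsHopfIdeal R] (hJ : J ≤ kId R N) {z : MonoidAlgebra R M}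
    (hz : z ∈ J) (c : M ⧸ N) : cpart c z ∈ J := by
  classical
  let q : (MonoidAlgebra R M ⧸ J.restrictScalars R) →ₗ[R] R :=
    Submodule.liftQ _ (Finsupp.lapply c ∘ₗ (MonoidAlgebra.coeffLinearEquiv R).toLinearMap ∘ₗ
      (qM R N : MonoidAlgebra R M →ₗ[R] MonoidAlgebra R (M ⧸ N))) (fun x hx => by
        have : qM R N x = 0 := (qM_eq_zero_iff N x).2 (hJ hx)
        simp [LinearMap.mem_ker, this])
  let Φ : (MonoidAlgebra R M ⧸ J.restrictScalars R) ⊗[R] (MonoidAlgebra R M ⧸ J.restrictScalars R) →ₗ[R]
      MonoidAlgebra R M ⧸ J.restrictScalars R :=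
    (TensorProduct.rid R _).toLinearMap ∘ₗ TensorProduct.map LinearMap.id q
  have key : ∀ w : MonoidAlgebra R M, Φ (TensorProduct.map (J.restrictScalars R).mkQ (J.restrictScalars R).mkQ
      (Coalgebra.comul (R := R) w)) = (J.restrictScalars R).mkQ (cpart c w) := by
    intro w
    induction w using MonoidAlgebra.induction_linear with
    | zero => simp
    | add a b ha hb => simp only [map_add, ha, hb]
    | single m r =>
      rw [cpart_single, MonoidAlgebra.comul_single, CommSemiring.comul_apply]
      simp only [TensorProduct.map_tmul, Φ, q, LinearMap.comp_apply, LinearEquiv.coe_toLinearMap,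
        TensorProduct.rid_tmul, LinearMap.id_apply, Submodule.mkQ_apply, Submodule.liftQ_apply,
        MonoidAlgebra.lsingle_apply]
      split_ifs with h <;> simp [qM_single, h, ← Submodule.Quotient.mk_smul]
  have h0 := key z
  rw [Submodule.IsCoideal.map_mkQ_comul_eq_zero (I := J.restrictScalars R) hz, map_zero] at h0
  exact (Submodule.Quotient.mk_eq_zero _).1 h0.symm

/-- The contraction to the group algebra of the subgroup is a Hopf ideal. -/
theorem isHopfIdeal_contr (J : Ideal (MonoidAlgebra R M)) [J.IsHopfIdeal R] (hJ : J ≤ kId R N) :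
    (J.comap (iN N : MonoidAlgebra R N →ₐc[R] MonoidAlgebra R M)).IsHopfIdeal R := by
  let J' := J.comap (iN N : MonoidAlgebra R N →ₐc[R] MonoidAlgebra R M)
  have hr : ∀ x ∈ J, rN N x ∈ J' := fun x hx => by
    show iN N (rN N x) ∈ J
    rw [iN_rN]
    exact cpart_mem J hJ hx 1
  let ρ : (MonoidAlgebra R M ⧸ J.restrictScalars R) →ₗ[R] (MonoidAlgebra R N ⧸ J'.restrictScalars R) :=
    Submodule.mapQ _ _ (rN N) (fun x hx => hr x hx)
  refine @Ideal.IsHopfIdeal.mk R (MonoidAlgebra R N) _ _ _ J' ⟨fun x hx => ?_, fun x hx => ?_⟩ (fun x hx => ?_)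
  · rw [← CoalgHomClass.counit_comp_apply (iN N) x]
    exact Submodule.IsCoideal.counit_eq_zero (I := J.restrictScalars R) hx
  · have key : ∀ w : MonoidAlgebra R N, TensorProduct.map (J'.restrictScalars R).mkQ (J'.restrictScalars R).mkQ
        (Coalgebra.comul (R := R) w) = TensorProduct.map ρ ρ (TensorProduct.map (J.restrictScalars R).mkQ
          (J.restrictScalars R).mkQ (Coalgebra.comul (R := R) (iN N w))) := by
      intro w
      induction w using MonoidAlgebra.induction_linear with
      | zero => simp
      | add a b ha hb => simp only [map_add, ha, hb]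
      | single n r =>
        rw [iN_single, MonoidAlgebra.comul_single, MonoidAlgebra.comul_single, CommSemiring.comul_apply]
        simp [ρ, rN_single_mem n.2]
    rw [key, Submodule.IsCoideal.map_mkQ_comul_eq_zero (I := J.restrictScalars R) hx, map_zero]
  · have key : ∀ w : MonoidAlgebra R N, iN N (HopfAlgebraStruct.antipode R w) = HopfAlgebraStruct.antipode R (iN N w) := by
      intro w
      induction w using MonoidAlgebra.induction_linear with
      | zero => simp
      | add a b ha hb => simp only [map_add, ha, hb]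
      | single n r => simp [iN_single]
    show iN N (HopfAlgebraStruct.antipode R x) ∈ J
    rw [key]
    exact Ideal.IsHopfIdeal.antipode_mem (R := R) hx

end graded

/-- A group algebra is of multiplicative type. -/
theorem isMultType_monoidAlgebra (R : Type u) [CommRing R] (M : Type u) [CommGroup M] :
    SGA3b.IsMultType R (MonoidAlgebra R M) := by
  refine ⟨{1}, Ideal.span_singleton_one, fun r _ => ?_⟩
  exact ⟨Localization.Away r, inferInstance, Algebra.id _, inferInstance, M, inferInstance,
    ⟨(cancelBC R (Localization.Away r) (Localization.Away r) (MonoidAlgebra R M)).trans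
      (baseChangeGroupAlgebra R (Localization.Away r) M).symm⟩⟩

/-- Subgroups of finitely generated commutative groups are finitely generated. -/
theorem subgroup_fg {M : Type u} [CommGroup M] [Group.FG M] (N : Subgroup M) : Group.FG N := by
  haveI : Module.Finite ℤ (Additive M) := Module.Finite.iff_addGroup_fg.2 inferInstance
  haveI : IsNoetherian ℤ (Additive M) := isNoetherian_of_isNoetherianRing_of_finite ℤ _
  rw [Group.fg_iff_subgroup_fg, Subgroup.fg_iff_add_fg]
  exact (Submodule.fg_iff_addSubgroup_fg _).1 (IsNoetherian.noetherian (AddSubgroup.toIntSubmodule (Subgroup.toAddSubgroup N)))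

/-- Over a local ring: a Hopf ideal with the same closed fibre as a subgroup ideal containing it is that
subgroup ideal. -/
theorem eq_kId_of_local {R : Type u} [CommRing R] [IsLocalRing R] {M : Type u} [CommGroup M] [Group.FG M]
    {N : Subgroup M} (J : Ideal (MonoidAlgebra R M)) [J.IsHopfIdeal R] (hJ : J ≤ kId R N)
    (hN : kId R N ≤ J ⊔ (IsLocalRing.maximalIdeal R).map (algebraMap R (MonoidAlgebra R M))) :
    J = kId R N := by
  refine le_antisymm hJ ((kId_le_iff J).2 fun n hn => ?_)
  let J' := J.comap (iN N : MonoidAlgebra R N →ₐc[R] MonoidAlgebra R M)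
  haveI : J'.IsHopfIdeal R := isHopfIdeal_contr J hJ
  haveI : Group.FG N := subgroup_fg N
  haveI : Monoid.FG N := Group.fg_iff_monoid_fg.1 inferInstance
  haveI : Algebra.FiniteType R (MonoidAlgebra R N) := inferInstance
  have hK : Algebra.FiniteType R (MonoidAlgebra R N ⧸ J') :=
    Algebra.FiniteType.of_surjective (Ideal.Quotient.mkₐ R J') (Ideal.Quotient.mkₐ_surjective R J')
  let m := IsLocalRing.maximalIdeal R
  have hm : ∀ x : MonoidAlgebra R M, x ∈ m.map (algebraMap R (MonoidAlgebra R M)) →
      rN N x ∈ m.map (algebraMap R (MonoidAlgebra R N)) := by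
    intro x hx
    have hx' : x ∈ (m.map (algebraMap R (MonoidAlgebra R M))).restrictScalars R := hx
    rw [← Ideal.smul_top_eq_map] at hx'
    have h1 : rN N x ∈ (m • (⊤ : Submodule R (MonoidAlgebra R M))).map (rN N) := Submodule.mem_map_of_mem hx'
    rw [Submodule.map_smul''] at h1
    have h2 : rN N x ∈ m • (⊤ : Submodule R (MonoidAlgebra R N)) := Submodule.smul_mono le_rfl le_top h1
    rw [Ideal.smul_top_eq_map] at h2
    exact h2
  have hgen : ∀ a : N, MonoidAlgebra.single a (1 : R) - 1 ∈ J' ⊔ m.map (algebraMap R (MonoidAlgebra R N)) := by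
    intro a
    obtain ⟨y, hy, x, hx, hyx⟩ := Submodule.mem_sup.1 (hN (single_sub_one_mem a.2))
    have h1 : MonoidAlgebra.single a (1 : R) - 1 = rN N y + rN N x := by
      rw [← map_add, hyx, ← rN_iN (MonoidAlgebra.single a (1 : R) - 1), map_sub, iN_single, map_one]
    rw [h1]
    refine add_mem (Submodule.mem_sup_left ?_) (Submodule.mem_sup_right (hm x hx))
    change iN N (rN N y) ∈ J
    rw [iN_rN]
    exact cpart_mem J hJ hy 1
  have haug : RingHom.ker (Bialgebra.counitAlgHom R (MonoidAlgebra R N)) ≤
      J' ⊔ m.map (algebraMap R (MonoidAlgebra R N)) := by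
    intro z hz
    have hdec : ∀ w : MonoidAlgebra R N, w - algebraMap R _ (Coalgebra.counit (R := R) w) ∈
        J' ⊔ m.map (algebraMap R (MonoidAlgebra R N)) := by
      intro w
      induction w using MonoidAlgebra.induction_linear with
      | zero => simp
      | add a b ha hb => rw [map_add, map_add, add_sub_add_comm]; exact add_mem ha hb
      | single a r =>
        rw [show MonoidAlgebra.single a r - algebraMap R _ (Coalgebra.counit (R := R) (MonoidAlgebra.single a r)) =
          algebraMap R _ r * (MonoidAlgebra.single a 1 - 1) by simp [mul_sub]]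
        exact Ideal.mul_mem_left _ _ (hgen a)
    have := hdec z
    rwa [show Coalgebra.counit (R := R) z = 0 from hz, map_zero, sub_zero] at this
  have hle := ker_counit_le_of_local' (isMultType_monoidAlgebra R N) J' hK haug
  have : MonoidAlgebra.single (⟨n, hn⟩ : N) (1 : R) - 1 ∈ J' := hle (by simp [RingHom.mem_ker])
  change iN N _ ∈ J at this
  rwa [map_sub, iN_single, map_one] at this

end Groth.Agent.MultHopf
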