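import Groth.Agent.MultHopf.KerLoc
import Mathlib.RingTheory.Spectrum.Prime.Topology
import Mathlib.RingTheory.RingHom.Flat
import Mathlib.RingTheory.LocalRing.ResidueField.Ideal
import Mathlib.RingTheory.Bialgebra.MonoidAlgebra
import Mathlib.Algebra.Group.Pi.Units

/-!
# Quotients of groups of multiplicative type that are locally subgroup schemes
-/

set_option autoImplicit false
set_option backward.isDefEq.respectTransparency.types false

universe u

open Coalgebra WithConv
open scoped TensorProduct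

namespace Groth.Agent.MultHopf

theorem mulEquiv_of_bialgEquiv {K : Type u} [CommRing K] [IsDomain K] {G H : Type u} [CommGroup G] [CommGroup H]
    (e : MonoidAlgebra K G ≃ₐc[K] MonoidAlgebra K H) : Nonempty (G ≃* H) := by
  refine ⟨MonoidHom.toMulEquiv (MonoidAlgebra.mapDomainOfBialgHom (e : MonoidAlgebra K G →ₐc[K] MonoidAlgebra K H))
    (MonoidAlgebra.mapDomainOfBialgHom (e.symm : MonoidAlgebra K H →ₐc[K] MonoidAlgebra K G)) ?_ ?_⟩
  · refine MonoidHom.ext fun g => MonoidAlgebra.single_left_injective (R := K) one_ne_zero ?_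
    simp
  · refine MonoidHom.ext fun g => MonoidAlgebra.single_left_injective (R := K) one_ne_zero ?_
    simp

variable {R A : Type u} [CommRing R] [CommRing A] [HopfAlgebra R A]

section glue

variable {T : Type u} [CommRing T] [Algebra R T] {M : Type u} [CommGroup M] {ι' : Type} [Fintype ι']
  (L : ι' → Type u) [∀ i, CommRing (L i)]

/-- The orthogonal idempotents of a product. -/
noncomputable def idem [DecidableEq ι'] (i : ι') : Π j, L j := Pi.single i 1

variable {L}

theorem idem_mul_idem [DecidableEq ι'] {i j : ι'} (h : i ≠ j) : idem L i * idem L j = 0 := by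
  ext l
  by_cases hl : l = i
  · subst hl; simp [idem, h]
  · simp [idem, hl]

theorem idem_mul_self [DecidableEq ι'] (i : ι') : idem L i * idem L i = idem L i := by
  simp [idem, ← Pi.single_mul]

theorem sum_single_idem [DecidableEq ι'] {X : Type u} [CommGroup X] :
    ∑ i, MonoidAlgebra.single (1 : X) (idem L i) = (1 : MonoidAlgebra (Π j, L j) X) := by
  show ∑ i, MonoidAlgebra.singleAddHom (R := Π j, L j) (1 : X) (idem L i) = 1
  rw [← map_sum]
  simp [idem, Finset.univ_sum_single (fun j => (1 : L j)), ← Pi.one_def, ← MonoidAlgebra.one_def]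

/-- The map of group algebras given by one surjection of groups on each factor. -/
noncomputable def glueHom [DecidableEq ι'] {τ : Type u} [CommGroup τ] (θ : ι' → M →* τ) :
    MonoidAlgebra (Π j, L j) M →ₐc[Π j, L j] MonoidAlgebra (Π j, L j) τ :=
  BialgHom.ofAlgHom
    (MonoidAlgebra.lift (Π j, L j) (MonoidAlgebra (Π j, L j) τ) M
      { toFun := fun m => ∑ i, MonoidAlgebra.single (θ i m) (idem L i)
        map_one' := by
          simp only [map_one]
          exact sum_single_idem
        map_mul' := fun a b => by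
          rw [Finset.sum_mul_sum]
          refine Finset.sum_congr rfl fun i _ => ?_
          rw [Finset.sum_eq_single i]
          · simp [MonoidAlgebra.single_mul_single, idem, ← Pi.single_mul]
          · intro j _ hj
            rw [MonoidAlgebra.single_mul_single]
            rw [idem_mul_idem (Ne.symm hj), MonoidAlgebra.single_zero]
          · simp })
    (by
      refine MonoidAlgebra.algHom_ext (fun m => ?_) (by ext)
      simp only [AlgHom.comp_apply, MonoidAlgebra.lift_single, one_smul, MonoidHom.coe_mk, OneHom.coe_mk, map_sum,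
        Bialgebra.counitAlgHom_apply, MonoidAlgebra.counit_single, CommSemiring.counit_apply]
      simp [idem, Finset.univ_sum_single (fun j => (1 : L j)), Pi.one_def])
    (by
      refine MonoidAlgebra.algHom_ext (fun m => ?_) (by ext)
      simp only [AlgHom.comp_apply, MonoidAlgebra.lift_single, one_smul, MonoidHom.coe_mk, OneHom.coe_mk, map_sum,
        Bialgebra.comulAlgHom_apply, MonoidAlgebra.comul_single, CommSemiring.comul_apply, TensorProduct.map_tmul,
        Algebra.TensorProduct.map_tmul, MonoidAlgebra.lsingle_apply, AlgHom.coe_coe]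
      rw [TensorProduct.sum_tmul]
      refine Finset.sum_congr rfl fun i _ => ?_
      rw [TensorProduct.tmul_sum, Finset.sum_eq_single i]
      · rw [show MonoidAlgebra.single (θ i m) (idem L i) = idem L i • MonoidAlgebra.single (θ i m) (1 : Π j, L j) by
          simp, TensorProduct.smul_tmul_smul, idem_mul_self, TensorProduct.tmul_smul]
      · intro j _ hj
        have h0 : idem L i * idem L j = 0 := by
          ext l
          by_cases hl : l = i
          · subst hl; simp [idem, hj.symm]
          · simp [idem, hl]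
        rw [show MonoidAlgebra.single (θ i m) (idem L i) = idem L i • MonoidAlgebra.single (θ i m) (1 : Π j, L j) by
            simp, show MonoidAlgebra.single (θ j m) (idem L j) = idem L j • MonoidAlgebra.single (θ j m) (1 : Π j, L j) by
            simp, TensorProduct.tmul_smul, TensorProduct.smul_tmul', smul_smul, mul_comm, h0, zero_smul,
          TensorProduct.zero_tmul]
      · simp)

/-- The projection of group algebras to a factor. -/
noncomputable abbrev proj (i : ι') (M : Type u) [CommGroup M] :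
    MonoidAlgebra (Π j, L j) M →+* MonoidAlgebra (L i) M :=
  MonoidAlgebra.mapRingHom M (Pi.evalRingHom L i)

theorem proj_glueHom [DecidableEq ι'] {τ : Type u} [CommGroup τ] (θ : ι' → M →* τ) (i : ι') (z : MonoidAlgebra (Π j, L j) M) :
    proj i τ (glueHom θ z) = MonoidAlgebra.mapDomainBialgHom (L i) (θ i) (proj i M z) := by
  induction z using MonoidAlgebra.induction_linear with
  | zero => simp
  | add a b ha hb => simp only [map_add, ha, hb]
  | single m r =>
    show proj i τ (MonoidAlgebra.lift (Π j, L j) (MonoidAlgebra (Π j, L j) τ) M _ (MonoidAlgebra.single m r)) = _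
    rw [MonoidAlgebra.lift_single]
    simp only [MonoidHom.coe_mk, OneHom.coe_mk, Finset.smul_sum, map_sum, MonoidAlgebra.smul_single,
      smul_eq_mul, MonoidAlgebra.mapRingHom_single, Pi.evalRingHom_apply, Pi.mul_apply,
      MonoidAlgebra.mapDomainBialgHom_single]
    rw [Finset.sum_eq_single i]
    · simp [idem]
    · intro j _ hj
      simp [idem, hj.symm]
    · simp

theorem eq_of_proj_eq {X : Type u} [CommGroup X] {z w : MonoidAlgebra (Π j, L j) X}
    (h : ∀ i, proj i X z = proj i X w) : z = w := by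
  refine MonoidAlgebra.coeff_injective (Finsupp.ext fun m => funext fun i => ?_)
  have := congrArg (fun y => (MonoidAlgebra.coeff y) m) (h i)
  simpa using this

theorem glueHom_surjective [DecidableEq ι'] {τ : Type u} [CommGroup τ] (θ : ι' → M →* τ)
    (hθ : ∀ i, Function.Surjective (θ i)) : Function.Surjective (glueHom (L := L) θ) := fun w => by
  induction w using MonoidAlgebra.induction_linear with
  | zero => exact ⟨0, map_zero _⟩
  | add a b ha hb =>
    obtain ⟨a, rfl⟩ := ha
    obtain ⟨b, rfl⟩ := hb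
    exact ⟨a + b, map_add _ _ _⟩
  | single t r =>
    choose m hm using fun i => hθ i t
    refine ⟨∑ j, MonoidAlgebra.single (m j) (r * idem L j), eq_of_proj_eq fun i => ?_⟩
    rw [proj_glueHom]
    simp only [map_sum, MonoidAlgebra.mapRingHom_single, Pi.evalRingHom_apply, Pi.mul_apply,
      MonoidAlgebra.mapDomainBialgHom_single]
    rw [Finset.sum_eq_single i]
    · simp [idem, hm]
    · intro j _ hj
      simp [idem, hj.symm]
    · simp

theorem proj_surjective [DecidableEq ι'] (i : ι') : Function.Surjective (proj (L := L) i M) := fun z => by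
  induction z using MonoidAlgebra.induction_linear with
  | zero => exact ⟨0, map_zero _⟩
  | add a b ha hb =>
    obtain ⟨a, rfl⟩ := ha
    obtain ⟨b, rfl⟩ := hb
    exact ⟨a + b, map_add _ _ _⟩
  | single m r => exact ⟨MonoidAlgebra.single m (Pi.single i r), by simp⟩

theorem mem_of_proj_mem [DecidableEq ι'] (I : Ideal (MonoidAlgebra (Π j, L j) M)) {z : MonoidAlgebra (Π j, L j) M}
    (h : ∀ i, proj i M z ∈ I.map (proj i M)) : z ∈ I := by
  classical
  have hz : z = ∑ i, MonoidAlgebra.single (1 : M) (idem L i) * z := by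
    rw [← Finset.sum_mul, sum_single_idem, one_mul]
  rw [hz]
  refine sum_mem fun i _ => ?_
  obtain ⟨y, hy, hyz⟩ := (Ideal.mem_map_iff_of_surjective (proj i M) (proj_surjective i)).1 (h i)
  have he : MonoidAlgebra.single (1 : M) (idem L i) * z = MonoidAlgebra.single (1 : M) (idem L i) * y := by
    refine eq_of_proj_eq fun j => ?_
    rw [map_mul, map_mul]
    by_cases hj : j = i
    · subst hj; rw [hyz]
    · simp [idem, hj]
  rw [he]
  exact I.mul_mem_left _ hy

variable [∀ i, Algebra T (L i)] [∀ i, Algebra R (L i)] [∀ i, IsScalarTower R T (L i)]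

/-- Gluing of constant subgroup schemes with isomorphic quotients. -/
theorem nonempty_equiv_of_glue (e : T ⊗[R] A ≃ₐc[T] MonoidAlgebra T M) (J : Ideal A) [J.IsHopfIdeal R]
    (N : ι' → Subgroup M) {τ : Type u} [CommGroup τ] (σ : ∀ i, M ⧸ N i ≃* τ)
    (h : ∀ i, (J.map (theta e)).map (coeffMap T (L i) M) = kId (L i) (N i)) :
    Nonempty ((Π j, L j) ⊗[R] (A ⧸ J) ≃ₐc[Π j, L j] MonoidAlgebra (Π j, L j) τ) := by
  classical
  let θ : ι' → M →* τ := fun i => (σ i).toMonoidHom.comp (QuotientGroup.mk' (N i))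
  have hθ : ∀ i, Function.Surjective (θ i) := fun i => (σ i).surjective.comp (QuotientGroup.mk'_surjective _)
  refine nonempty_equiv_of_map_theta (bcE e (Π j, L j)) J (glueHom θ) (glueHom_surjective θ hθ) ?_
  rw [map_theta_bcE]
  have hproj : ∀ i, ((J.map (theta e)).map (coeffMap T (Π j, L j) M)).map (proj i M) = kId (L i) (N i) := fun i => by
    rw [← h i, Ideal.map_map, ← MonoidAlgebra.mapRingHom_comp]
    rfl
  have hker : ∀ i (w : MonoidAlgebra (L i) M),
      MonoidAlgebra.mapDomainBialgHom (L i) (θ i) w = 0 ↔ w ∈ kId (L i) (N i) := by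
    intro i w
    have hcomp : MonoidAlgebra.mapDomainBialgHom (L i) (θ i) w =
        MonoidAlgebra.mapDomainBialgHom (L i) (σ i).toMonoidHom (qM (L i) (N i) w) := by
      induction w using MonoidAlgebra.induction_linear with
      | zero => simp
      | add a b ha hb => simp only [map_add, ha, hb]
      | single m r => simp [qM_single, θ]
    rw [hcomp, ← qM_eq_zero_iff]
    refine map_eq_zero_iff _ ?_
    intro a b hab
    exact MonoidAlgebra.mapDomain_injective (σ i).injective (by simpa [MonoidAlgebra.mapDomainBialgHom] using hab)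
  ext z
  rw [RingHom.mem_ker]
  constructor
  · intro hz
    refine mem_of_proj_mem _ fun i => ?_
    have hi : proj i τ (glueHom θ z) = 0 := by rw [hz, map_zero]
    rw [proj_glueHom, hker] at hi
    show proj i M z ∈ ((J.map (theta e)).map (coeffMap T (Π j, L j) M)).map (proj i M)
    rw [hproj]
    exact hi
  · intro hz
    refine eq_of_proj_eq fun i => ?_
    rw [proj_glueHom, map_zero, hker, ← hproj i]
    exact Ideal.mem_map_of_mem _ hz

end glue

/-- Near every prime of every splitting the quotient is given by a subgroup of characters. -/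
def LocallySub (J : Ideal A) {T : Type u} [CommRing T] [Algebra R T] {M : Type u} [CommGroup M]
    (e : T ⊗[R] A ≃ₐc[T] MonoidAlgebra T M) : Prop :=
  ∀ P : PrimeSpectrum T, ∃ g ∉ P.asIdeal, ∃ N : Subgroup M, ∀ (L : Type u) [CommRing L] [Algebra T L],
    IsUnit (algebraMap T L g) → (J.map (theta e)).map (coeffMap T L M) = kId L N

/-- The fibre at a point is the diagonalisable group of type `τ`. -/
def HasType (J : Ideal A) [J.IsHopfIdeal R] (κ : Type u) [CommRing κ] [Algebra R κ] (τ : Type u) [CommGroup τ] : Prop :=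
  Nonempty (κ ⊗[R] (A ⧸ J) ≃ₐc[κ] MonoidAlgebra κ τ)

theorem hasType_of_map_eq {J : Ideal A} [J.IsHopfIdeal R] {T : Type u} [CommRing T] [Algebra R T] {M : Type u}
    [CommGroup M] (e : T ⊗[R] A ≃ₐc[T] MonoidAlgebra T M) (L : Type u) [CommRing L] [Algebra R L] [Algebra T L]
    [IsScalarTower R T L] (N : Subgroup M) (h : (J.map (theta e)).map (coeffMap T L M) = kId L N) :
    HasType (R := R) J L (M ⧸ N) :=
  nonempty_equiv_of_map_theta (R := R) (T := L) (bcE e L) J (qM L N) (qM_surjective (R := L) N)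
    ((ker_qM (R := L) N).trans (h.symm.trans (map_theta_bcE e L J).symm))

theorem hasType_unique {J : Ideal A} [J.IsHopfIdeal R] {κ' κ'' : Type u} [Field κ'] [Field κ''] [Algebra R κ']
    [Algebra R κ''] {τ τ' : Type u} [CommGroup τ] [CommGroup τ'] (h' : HasType (R := R) J κ' τ) (h'' : HasType (R := R) J κ'' τ')
    (hp : RingHom.ker (algebraMap R κ') = RingHom.ker (algebraMap R κ'')) : Nonempty (τ ≃* τ') := by
  let p := RingHom.ker (algebraMap R κ')
  have : p.IsPrime := RingHom.ker_isPrime _
  let k := p.ResidueField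
  let i' : k →ₐ[R] κ' := Ideal.ResidueField.liftₐ p (Algebra.ofId R κ') (fun x hx => hx)
    (fun x hx => by
      rw [Submonoid.mem_comap, IsUnit.mem_submonoid_iff]
      exact Ne.isUnit fun h0 => hx h0)
  let i'' : k →ₐ[R] κ'' := Ideal.ResidueField.liftₐ p (Algebra.ofId R κ'') (fun x hx => hp.le hx)
    (fun x hx => by
      rw [Submonoid.mem_comap, IsUnit.mem_submonoid_iff]
      exact Ne.isUnit fun h0 => hx (hp.ge h0))
  let : Algebra k κ' := i'.toRingHom.toAlgebra
  let : Algebra k κ'' := i''.toRingHom.toAlgebra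
  have : IsScalarTower R k κ' := IsScalarTower.of_algebraMap_eq fun r => (i'.commutes r).symm
  have : IsScalarTower R k κ'' := IsScalarTower.of_algebraMap_eq fun r => (i''.commutes r).symm
  have : Nontrivial (κ' ⊗[k] κ'') :=
    (Algebra.TensorProduct.includeLeft_injective (R := k) (S := k) (A := κ') (B := κ'')
      (algebraMap k κ'').injective).nontrivial
  obtain ⟨K, hK, f', f'', hagree⟩ : ∃ (K : Type u) (_ : Field K) (f' : κ' →+* K) (f'' : κ'' →+* K),
      f'.comp (algebraMap R κ') = f''.comp (algebraMap R κ'') := by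
    obtain ⟨m, hm⟩ := Ideal.exists_maximal (κ' ⊗[k] κ'')
    let : Field ((κ' ⊗[k] κ'') ⧸ m) := Ideal.Quotient.field m
    refine ⟨_, this, (Ideal.Quotient.mk m).comp (Algebra.TensorProduct.includeLeftRingHom),
      (Ideal.Quotient.mk m).comp (Algebra.TensorProduct.includeRight : κ'' →ₐ[k] κ' ⊗[k] κ'').toRingHom, ?_⟩
    ext r
    show Ideal.Quotient.mk m (algebraMap R κ' r ⊗ₜ[k] 1) = Ideal.Quotient.mk m ((1 : κ') ⊗ₜ[k] algebraMap R κ'' r)
    rw [IsScalarTower.algebraMap_apply R k κ', IsScalarTower.algebraMap_apply R k κ'',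
      Algebra.algebraMap_eq_smul_one (R := k) (A := κ'), Algebra.algebraMap_eq_smul_one (R := k) (A := κ''),
      TensorProduct.smul_tmul]
  let : Algebra R K := (f'.comp (algebraMap R κ')).toAlgebra
  let : Algebra κ' K := f'.toAlgebra
  let : Algebra κ'' K := f''.toAlgebra
  have : IsScalarTower R κ' K := IsScalarTower.of_algebraMap_eq fun r => rfl
  have : IsScalarTower R κ'' K := IsScalarTower.of_algebraMap_eq fun r => RingHom.congr_fun hagree r
  obtain ⟨e'⟩ := h'
  obtain ⟨e''⟩ := h''
  exact mulEquiv_of_bialgEquiv ((bcE e' K).symm.trans (bcE e'' K))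

theorem HasType.congr {J : Ideal A} [J.IsHopfIdeal R] {κ : Type u} [CommRing κ] [Algebra R κ] {τ τ' : Type u}
    [CommGroup τ] [CommGroup τ'] (h : HasType (R := R) J κ τ) (σ : τ ≃* τ') : HasType (R := R) J κ τ' :=
  h.elim fun e => ⟨e.trans (MonoidAlgebra.domCongrBialgEquiv κ κ σ)⟩

/-- A quotient of a group of multiplicative type which is, after splitting and locally, a subgroup scheme given by
a subgroup of characters is of multiplicative type. -/
theorem isMultType_quot (J : Ideal A) [J.IsHopfIdeal R] (hA : SGA3b.IsMultType R A)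
    (hloc : ∀ (T : Type u) [CommRing T] [Algebra R T] (M : Type u) [CommGroup M]
      (e : T ⊗[R] A ≃ₐc[T] MonoidAlgebra T M), LocallySub J e) :
    SGA3b.IsMultType R (A ⧸ J) := by
  classical
  obtain ⟨s, hs, hconst⟩ := hA
  refine ⟨{h | SGA3b.IsMultTypeConst (Localization.Away h) (Localization.Away h ⊗[R] (A ⧸ J))}, ?_, fun _ h => h⟩
  by_contra hne
  obtain ⟨q, hq, hle⟩ := Ideal.exists_le_maximal _ hne
  let p : PrimeSpectrum R := ⟨q, hq.isPrime⟩
  suffices hgoal : ∃ h ∉ q, SGA3b.IsMultTypeConst (Localization.Away h) (Localization.Away h ⊗[R] (A ⧸ J)) by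
    obtain ⟨h, hhq, hh⟩ := hgoal
    exact hhq (hle (Ideal.subset_span hh))
  obtain ⟨f, hf, hfp⟩ : ∃ f ∈ s, f ∉ q := by
    by_contra hcon
    push Not at hcon
    exact hq.ne_top (top_le_iff.1 (hs ▸ Ideal.span_le.2 hcon))
  obtain ⟨R₁, _, _, hff, M, _, ⟨e₁⟩⟩ := hconst f hf
  let R₀ := Localization.Away f
  let : Algebra R R₁ := ((algebraMap R₀ R₁).comp (algebraMap R R₀)).toAlgebra
  have : IsScalarTower R R₀ R₁ := IsScalarTower.of_algebraMap_eq fun _ => rfl
  have : Module.Flat R R₁ := Module.Flat.trans R R₀ R₁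
  let e : R₁ ⊗[R] A ≃ₐc[R₁] MonoidAlgebra R₁ M := (cancelBC R R₀ R₁ A).symm.trans e₁
  choose g hg N hN using hloc R₁ M e
  let π : PrimeSpectrum R₁ → PrimeSpectrum R := PrimeSpectrum.comap (algebraMap R R₁)
  let π₀ : PrimeSpectrum R₁ → PrimeSpectrum R₀ := PrimeSpectrum.comap (algebraMap R₀ R₁)
  let j : PrimeSpectrum R₀ → PrimeSpectrum R := PrimeSpectrum.comap (algebraMap R R₀)
  have hπ : ∀ P, π P = j (π₀ P) := fun P => rfl
  have hj : Topology.IsOpenEmbedding j := PrimeSpectrum.localization_away_isOpenEmbedding R₀ f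
  have hπ₀ : Function.Surjective π₀ := PrimeSpectrum.comap_surjective_of_faithfullyFlat
  have hpj : p ∈ Set.range j := by
    rw [PrimeSpectrum.localization_away_comap_range R₀ f]
    exact hfp
  -- the type at each point of the cover
  have hty : ∀ (P P' : PrimeSpectrum R₁), P' ∈ PrimeSpectrum.basicOpen (g P) →
      HasType (R := R) J P'.asIdeal.ResidueField (M ⧸ N P) := fun P P' hP' =>
    hasType_of_map_eq e _ (N P) (hN P _ (Ne.isUnit fun h0 => hP' (Ideal.algebraMap_residueField_eq_zero.1 h0)))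
  have huniq : ∀ (P P' : PrimeSpectrum R₁) (τ τ' : Type u) [CommGroup τ] [CommGroup τ'], π P = π P' →
      HasType (R := R) J P.asIdeal.ResidueField τ → HasType (R := R) J P'.asIdeal.ResidueField τ' →
      Nonempty (τ ≃* τ') := by
    intro P P' τ τ' _ _ hPP' h1 h2
    refine hasType_unique h1 h2 ?_
    rw [IsScalarTower.algebraMap_eq R R₁ P.asIdeal.ResidueField, IsScalarTower.algebraMap_eq R R₁ P'.asIdeal.ResidueField,
      ← RingHom.comap_ker, ← RingHom.comap_ker, Ideal.ker_algebraMap_residueField, Ideal.ker_algebraMap_residueField]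
    exact congrArg PrimeSpectrum.asIdeal hPP'
  obtain ⟨p₀, hp₀⟩ := hpj
  obtain ⟨P₀, hP₀⟩ := hπ₀ p₀
  let τ := M ⧸ N P₀
  let U : Set (PrimeSpectrum R₁) := {P | Nonempty (M ⧸ N P ≃* τ)}
  have hnbhd : ∀ P P', P' ∈ PrimeSpectrum.basicOpen (g P) → Nonempty (M ⧸ N P' ≃* M ⧸ N P) := fun P P' h =>
    huniq P' P' _ _ rfl (hty P' P' (hg P')) (hty P P' h)
  have hUopen : IsOpen U := isOpen_iff_forall_mem_open.2 fun P hP =>
    ⟨(PrimeSpectrum.basicOpen (g P) : Set (PrimeSpectrum R₁)), fun P' hP' => by
      obtain ⟨σ⟩ := hnbhd P P' hP'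
      obtain ⟨σ'⟩ := hP
      exact ⟨σ.trans σ'⟩, (PrimeSpectrum.basicOpen (g P)).isOpen, hg P⟩
  have hsat : π₀ ⁻¹' (π₀ '' U) = U := by
    refine Set.eq_of_subset_of_subset ?_ (Set.subset_preimage_image _ _)
    rintro P ⟨P', ⟨σ⟩, hPP'⟩
    obtain ⟨σ'⟩ := huniq P P' _ _ (by rw [hπ, hπ, hPP']) (hty P P (hg P)) (hty P' P' (hg P'))
    exact ⟨σ'.trans σ⟩
  have hV : IsOpen (π₀ '' U) := by
    have hquot : Topology.IsQuotientMap π₀ := PrimeSpectrum.isQuotientMap_of_generalizingMap hπ₀
      (RingHom.Flat.generalizingMap_comap (RingHom.flat_algebraMap_iff.2 inferInstance))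
    exact hquot.isOpen_preimage.1 (hsat.symm ▸ hUopen)
  have hpV : p ∈ j '' (π₀ '' U) := ⟨p₀, ⟨P₀, ⟨MulEquiv.refl _⟩, hP₀⟩, hp₀⟩
  obtain ⟨_, ⟨h₀, rfl⟩, hph₀, hh₀⟩ :=
    PrimeSpectrum.isTopologicalBasis_basic_opens.exists_subset_of_mem_open hpV (hj.isOpenMap _ hV)
  refine ⟨h₀, hph₀, ?_⟩
  -- the points over the basic open
  let h₁ : R₁ := algebraMap R R₁ h₀
  have hU : ∀ P : PrimeSpectrum R₁, P ∈ PrimeSpectrum.basicOpen h₁ → P ∈ U := fun P hP => by
    have hPb : π P ∈ (PrimeSpectrum.basicOpen h₀ : Set (PrimeSpectrum R)) := hP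
    obtain ⟨v, hv, hvP⟩ := hh₀ hPb
    have : π₀ P ∈ π₀ '' U := by rwa [← hj.injective (hvP.trans (hπ P))]
    exact hsat ▸ this
  obtain ⟨F, hF⟩ := (PrimeSpectrum.isCompact_basicOpen h₁).elim_finite_subcover
    (fun P : {P : PrimeSpectrum R₁ // P ∈ PrimeSpectrum.basicOpen h₁} =>
      (PrimeSpectrum.basicOpen (g P.1) : Set (PrimeSpectrum R₁)))
    (fun P => (PrimeSpectrum.basicOpen (g P.1)).isOpen)
    (fun P hP => Set.mem_iUnion.2 ⟨⟨P, hP⟩, hg P⟩)
  let idx : Fin F.card → {P : PrimeSpectrum R₁ // P ∈ PrimeSpectrum.basicOpen h₁} := fun i => (F.equivFin.symm i).1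
  let L : Fin F.card → Type u := fun i => Localization.Away (h₁ * g (idx i).1)
  have hσ : ∀ i, Nonempty (M ⧸ N (idx i).1 ≃* τ) := fun i => hU (idx i).1 (idx i).2
  have hLu : ∀ i, IsUnit (algebraMap R₁ (L i) h₁) ∧ IsUnit (algebraMap R₁ (L i) (g (idx i).1)) := fun i => by
    rw [← IsUnit.mul_iff, ← map_mul]
    exact IsLocalization.Away.algebraMap_isUnit (S := L i) (h₁ * g (idx i).1)
  obtain ⟨E⟩ := nonempty_equiv_of_glue (L := L) e J (fun i => N (idx i).1) (fun i => (hσ i).some)
    (fun i => hN _ _ (hLu i).2)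
  let T' := Π i, L i
  have hu : IsUnit (algebraMap R T' h₀) := by
    rw [Pi.isUnit_iff]
    intro i
    rw [Pi.algebraMap_apply, IsScalarTower.algebraMap_apply R R₁ (L i)]
    exact (hLu i).1
  let : Algebra (Localization.Away h₀) T' := (IsLocalization.Away.lift h₀ hu).toAlgebra
  have : IsScalarTower R (Localization.Away h₀) T' :=
    IsScalarTower.of_algebraMap_eq fun r => (IsLocalization.Away.lift_eq h₀ hu r).symm
  have : ∀ i, Module.Flat R₁ (L i) := fun i => IsLocalization.flat (L i) (Submonoid.powers (h₁ * g (idx i).1))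
  have : ∀ i, Module.Flat R (L i) := fun i => Module.Flat.trans R R₁ (L i)
  have : Module.Flat R T' := Module.Flat.of_linearEquiv (DFinsupp.linearEquivFunOnFintype (R := R) (M := L)).symm
  have : Module.Flat (Localization.Away h₀) T' :=
    (Module.flat_iff_of_isLocalization (Localization.Away h₀) (Submonoid.powers h₀) T').2 inferInstance
  refine ⟨T', inferInstance, inferInstance, Module.FaithfullyFlat.of_comap_surjective ?_, τ, inferInstance,
    ⟨(cancelBC R (Localization.Away h₀) T' (A ⧸ J)).trans E⟩⟩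
  intro r
  -- a point of the product above a given point
  let r' : PrimeSpectrum R := PrimeSpectrum.comap (algebraMap R (Localization.Away h₀)) r
  have hr' : r' ∈ (PrimeSpectrum.basicOpen h₀ : Set (PrimeSpectrum R)) := by
    rw [← PrimeSpectrum.localization_away_comap_range (Localization.Away h₀) h₀]
    exact ⟨r, rfl⟩
  obtain ⟨v, ⟨P, hPU, rfl⟩, hvr⟩ := hh₀ hr'
  have hP₁ : P ∈ PrimeSpectrum.basicOpen h₁ := by
    show π P ∈ (PrimeSpectrum.basicOpen h₀ : Set (PrimeSpectrum R))
    rw [hπ, hvr]; exact hr'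
  obtain ⟨P', hP'F, hPP'⟩ := Set.mem_iUnion₂.1 (hF hP₁)
  let i : Fin F.card := F.equivFin ⟨P', hP'F⟩
  have hPi : P ∈ PrimeSpectrum.basicOpen (h₁ * g (idx i).1) := by
    rw [PrimeSpectrum.basicOpen_mul]
    exact ⟨hP₁, by simpa [idx, i] using hPP'⟩
  rw [← SetLike.mem_coe, ← PrimeSpectrum.localization_away_comap_range (L i) (h₁ * g (idx i).1)] at hPi
  obtain ⟨Q, hQ⟩ := hPi
  refine ⟨PrimeSpectrum.comap (Pi.evalRingHom L i) Q,
    (PrimeSpectrum.localization_away_isOpenEmbedding (Localization.Away h₀) h₀).injective ?_⟩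
  rw [show PrimeSpectrum.comap (algebraMap R (Localization.Away h₀)) r = r' from rfl, ← hvr, ← hπ, ← hQ]
  show (PrimeSpectrum.comap _ (PrimeSpectrum.comap _ (PrimeSpectrum.comap _ Q))) = PrimeSpectrum.comap _ (PrimeSpectrum.comap _ Q)
  rw [← PrimeSpectrum.comap_comp_apply, ← IsScalarTower.algebraMap_eq, ← PrimeSpectrum.comap_comp_apply,
    ← PrimeSpectrum.comap_comp_apply, ← IsScalarTower.algebraMap_eq]
  rfl

end Groth.Agent.MultHopf
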