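import Groth.Agent.FinHopf.Power
import Mathlib.RingTheory.HopfAlgebra.Convolution
import Mathlib.RingTheory.Ideal.Quotient.Operations

/-!
# Square-zero kernels of groups of points
-/

set_option autoImplicit false

universe u v w

open scoped TensorProduct
open WithConv Coalgebra

namespace Groth.Agent.MultHopf

open Groth.Agent.FinHopf (postComp)

variable {R : Type u} [CommRing R] {C : Type v} [CommRing C] [HopfAlgebra R C]
variable {T T' T'' T₀ : Type w} [CommRing T] [Algebra R T] [CommRing T'] [Algebra R T'] [CommRing T''] [Algebra R T''] [CommRing T₀] [Algebra R T₀]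

/-- Inverse of a point. -/
noncomputable def cinv (f : WithConv (C →ₐ[R] T)) : WithConv (C →ₐ[R] T) :=
  toConv (f.ofConv.comp (HopfAlgebra.antipodeAlgHom R C))

theorem cinv_mul (f : WithConv (C →ₐ[R] T)) : cinv f * f = 1 := by
  have h := congrArg (postComp (C := C) f.ofConv) (AlgHom.antipode_id_cancel (R := R) (A := C))
  rw [map_mul, map_one] at h
  exact h

theorem mul_cinv (f : WithConv (C →ₐ[R] T)) : f * cinv f = 1 := by
  have h1 : cinv (cinv f) * cinv f = 1 := cinv_mul _
  calc f * cinv f = (cinv (cinv f) * cinv f) * (f * cinv f) := by rw [h1, one_mul]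
    _ = cinv (cinv f) * ((cinv f * f) * cinv f) := by simp only [mul_assoc]
    _ = 1 := by rw [cinv_mul, one_mul, h1]

theorem postComp_cinv (h : T →ₐ[R] T') (f : WithConv (C →ₐ[R] T)) :
    postComp h (cinv f) = cinv (postComp h f) := rfl

theorem cinv_one : cinv (1 : WithConv (C →ₐ[R] T)) = 1 := by
  simpa using cinv_mul (1 : WithConv (C →ₐ[R] T))

theorem cinv_mul_rev (f g : WithConv (C →ₐ[R] T)) : cinv (f * g) = cinv g * cinv f := by
  refine left_inv_eq_right_inv (cinv_mul (f * g)) ?_
  rw [mul_assoc, ← mul_assoc g, mul_cinv, one_mul, mul_cinv]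

/-- A point congruent to the trivial one. -/
def InK (K : Ideal R) (f : WithConv (C →ₐ[R] T)) : Prop :=
  ∀ c, f.ofConv c - algebraMap R T (counit c) ∈ K.map (algebraMap R T)

theorem inK_iff (K : Ideal R) (f : WithConv (C →ₐ[R] T)) :
    InK K f ↔ postComp (Ideal.Quotient.mkₐ R (K.map (algebraMap R T))) f = 1 := by
  refine ⟨fun h => ?_, fun h c => ?_⟩
  · apply WithConv.ofConv_injective
    exact AlgHom.ext fun c => Ideal.Quotient.eq.2 (h c)
  · exact Ideal.Quotient.eq.1 (DFunLike.congr_fun (congrArg WithConv.ofConv h) c)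

theorem InK.one (K : Ideal R) : InK K (1 : WithConv (C →ₐ[R] T)) := by
  rw [inK_iff, map_one]

theorem InK.mul {K : Ideal R} {f g : WithConv (C →ₐ[R] T)} (hf : InK K f) (hg : InK K g) : InK K (f * g) := by
  rw [inK_iff] at *; rw [map_mul, hf, hg, one_mul]

theorem InK.cinv {K : Ideal R} {f : WithConv (C →ₐ[R] T)} (hf : InK K f) : InK K (MultHopf.cinv f) := by
  rw [inK_iff] at *; rw [postComp_cinv, hf, cinv_one]

theorem InK.conj {K : Ideal R} {f : WithConv (C →ₐ[R] T)} (hf : InK K f) (g : WithConv (C →ₐ[R] T)) :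
    InK K (g * f * MultHopf.cinv g) := by
  rw [inK_iff] at *; rw [map_mul, map_mul, hf, mul_one, ← map_mul, mul_cinv, map_one]

theorem InK.postComp {K : Ideal R} {f : WithConv (C →ₐ[R] T)} (hf : InK K f) (h : T →ₐ[R] T') :
    InK K (FinHopf.postComp h f) := fun c => by
  have h1 := Ideal.mem_map_of_mem (h : T →+* T') (hf c)
  rw [Ideal.map_map, AlgHom.comp_algebraMap] at h1
  rw [FinHopf.postComp_apply]
  simpa using h1

theorem map_mem_of_linear (L : T →ₗ[R] T') (K : Ideal R) {x : T} (hx : x ∈ K.map (algebraMap R T)) :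
    L x ∈ K.map (algebraMap R T') := by
  have h : x ∈ K • (⊤ : Submodule R T) := by rw [Ideal.smul_top_eq_map]; exact hx
  have h2 : L x ∈ Submodule.map L (K • (⊤ : Submodule R T)) := ⟨x, h, rfl⟩
  rw [Submodule.map_smul''] at h2
  have h3 : L x ∈ K • (⊤ : Submodule R T') := Submodule.smul_mono le_rfl le_top h2
  rwa [Ideal.smul_top_eq_map] at h3

/-- The underlying linear map in the convolution ring. -/
noncomputable def lin : WithConv (C →ₐ[R] T) →* WithConv (C →ₗ[R] T) where
  toFun f := toConv f.ofConv.toLinearMap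
  map_one' := AlgHom.toLinearMap_convOne
  map_mul' f g := AlgHom.toLinearMap_convMul f g

theorem lin_injective : Function.Injective (lin (R := R) (C := C) (T := T)) := fun _ _ h =>
  WithConv.ofConv_injective (AlgHom.toLinearMap_injective (congrArg WithConv.ofConv h))

section Push

variable (K : Ideal R) (hT' : ∀ x ∈ K.map (algebraMap R T'), ∀ y ∈ K.map (algebraMap R T'), x * y = 0)
variable (hT : ∀ x ∈ K.map (algebraMap R T), ∀ y ∈ K.map (algebraMap R T), x * y = 0)

include hT hT' in
/-- Pushing a kernel element forward along a linear map. -/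
noncomputable def push (L : T →ₗ[R] T') (f : WithConv (C →ₐ[R] T)) (hf : InK K f) : WithConv (C →ₐ[R] T') :=
  toConv <| AlgHom.ofLinearMap
    (Algebra.linearMap R T' ∘ₗ counit + L ∘ₗ (f.ofConv.toLinearMap - Algebra.linearMap R T ∘ₗ counit))
    (by simp [map_one])
    (fun x y => by
      let D : C → T := fun c => f.ofConv c - algebraMap R T (counit c)
      have h : D (x * y) = counit (R := R) x • D y + counit (R := R) y • D x := by
        have h0 : D x * D y = 0 := hT _ (hf x) _ (hf y)
        have : D (x * y) = counit (R := R) x • D y + counit (R := R) y • D x + D x * D y := by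
          simp only [D, map_mul, Bialgebra.counit_mul, Algebra.smul_def]; ring
        rw [this, h0, add_zero]
      have h0' : L (D x) * L (D y) = 0 := hT' _ (map_mem_of_linear L K (hf x)) _ (map_mem_of_linear L K (hf y))
      show algebraMap R T' (counit (x * y)) + L (D (x * y)) =
        (algebraMap R T' (counit x) + L (D x)) * (algebraMap R T' (counit y) + L (D y))
      rw [h, Bialgebra.counit_mul, map_mul, map_add, map_smul, map_smul, Algebra.smul_def, Algebra.smul_def]
      linear_combination -h0')

theorem push_apply (L : T →ₗ[R] T') (f : WithConv (C →ₐ[R] T)) (hf : InK K f) (c : C) :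
    (push K hT' hT L f hf).ofConv c = algebraMap R T' (counit c) + L (f.ofConv c - algebraMap R T (counit c)) := rfl

theorem push_congr (L L' : T →ₗ[R] T') (hL : L = L') (f f' : WithConv (C →ₐ[R] T)) (h : f = f')
    (hf : InK K f) : push K hT' hT L f hf = push K hT' hT L' f' (h ▸ hf) := by
  subst hL; subst h; rfl

theorem inK_push (L : T →ₗ[R] T') (f : WithConv (C →ₐ[R] T)) (hf : InK K f) :
    InK K (push K hT' hT L f hf) := fun c => by
  rw [push_apply, add_sub_cancel_left]
  exact map_mem_of_linear L K (hf c)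

theorem lin_push (L : T →ₗ[R] T') (f : WithConv (C →ₐ[R] T)) (hf : InK K f) :
    lin (push K hT' hT L f hf) = 1 + toConv (L ∘ₗ (lin f - 1).ofConv) := by
  apply WithConv.ofConv_injective
  ext c
  rfl

theorem push_mul (L : T →ₗ[R] T') (f g : WithConv (C →ₐ[R] T)) (hf : InK K f) (hg : InK K g) :
    push K hT' hT L (f * g) (hf.mul hg) = push K hT' hT L f hf * push K hT' hT L g hg := by
  have zero : ∀ {S : Type w} [CommRing S] [Algebra R S] (X Y : WithConv (C →ₗ[R] S)),
      (∀ x ∈ K.map (algebraMap R S), ∀ y ∈ K.map (algebraMap R S), x * y = 0) →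
      (∀ c, X.ofConv c ∈ K.map (algebraMap R S)) → (∀ c, Y.ofConv c ∈ K.map (algebraMap R S)) → X * Y = 0 := by
    intro S _ _ X Y hS hX hY
    apply WithConv.ofConv_injective
    ext c
    show (X * Y).ofConv c = 0
    rw [LinearMap.convMul_def, ofConv_toConv, LinearMap.comp_apply, LinearMap.comp_apply]
    induction comul (R := R) c using TensorProduct.induction_on with
    | zero => simp
    | add u v hu hv => rw [map_add, map_add, hu, hv, add_zero]
    | tmul a b => simpa using hS _ (hX a) _ (hY b)
  apply lin_injective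
  rw [map_mul lin, lin_push, lin_push, lin_push]
  set X := lin f - 1 with hX
  set Y := lin g - 1 with hY
  have hXY : X * Y = 0 := zero X Y hT (fun c => hf c) (fun c => hg c)
  have hXY' : toConv (L ∘ₗ X.ofConv) * toConv (L ∘ₗ Y.ofConv) = 0 :=
    zero _ _ hT' (fun c => map_mem_of_linear L K (hf c)) (fun c => map_mem_of_linear L K (hg c))
  have h : lin (f * g) - 1 = X + Y := by
    rw [map_mul lin, show lin f = 1 + X by rw [hX, add_sub_cancel], show lin g = 1 + Y by rw [hY, add_sub_cancel],
      mul_add, add_mul, add_mul, hXY]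
    simp only [one_mul, mul_one, add_zero]
    abel
  rw [h, show toConv (L ∘ₗ (X + Y).ofConv) = toConv (L ∘ₗ X.ofConv) + toConv (L ∘ₗ Y.ofConv) from
    WithConv.ofConv_injective (LinearMap.comp_add _ _ _), mul_add, add_mul, add_mul, hXY']
  simp only [one_mul, mul_one, add_zero]
  abel

theorem push_postComp (φ : T'' →ₐ[R] T) (hT'' : ∀ x ∈ K.map (algebraMap R T''), ∀ y ∈ K.map (algebraMap R T''), x * y = 0)
    (L : T →ₗ[R] T') (f : WithConv (C →ₐ[R] T'')) (hf : InK K f) :
    push K hT' hT L (postComp φ f) (hf.postComp φ) = push K hT' hT'' (L ∘ₗ φ.toLinearMap) f hf := by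
  apply WithConv.ofConv_injective
  ext c
  simp [push_apply]

theorem postComp_push (φ : T' →ₐ[R] T'') (hT'' : ∀ x ∈ K.map (algebraMap R T''), ∀ y ∈ K.map (algebraMap R T''), x * y = 0)
    (L : T →ₗ[R] T') (f : WithConv (C →ₐ[R] T)) (hf : InK K f) :
    postComp φ (push K hT' hT L f hf) = push K hT'' hT (φ.toLinearMap ∘ₗ L) f hf := by
  apply WithConv.ofConv_injective
  ext c
  simp [push_apply]

theorem push_id (f : WithConv (C →ₐ[R] T)) (hf : InK K f) : push K hT hT LinearMap.id f hf = f := by
  apply WithConv.ofConv_injective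
  ext c
  simp [push_apply]

theorem push_conj (j : T₀ →ₐ[R] T) (j' : T₀ →ₐ[R] T') (L : T →ₗ[R] T') (hL : ∀ x t, L (j x * t) = j' x * L t)
    (g : WithConv (C →ₐ[R] T₀)) (f : WithConv (C →ₐ[R] T)) (hf : InK K f) :
    push K hT' hT L (postComp j g * f * MultHopf.cinv (postComp j g)) (hf.conj _) =
      postComp j' g * push K hT' hT L f hf * MultHopf.cinv (postComp j' g) := by
  have hcomm : ∀ (g₀ : WithConv (C →ₐ[R] T₀)) (X : WithConv (C →ₗ[R] T)),
      toConv (L ∘ₗ (lin (postComp j g₀) * X).ofConv) = lin (postComp j' g₀) * toConv (L ∘ₗ X.ofConv) ∧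
      toConv (L ∘ₗ (X * lin (postComp j g₀)).ofConv) = toConv (L ∘ₗ X.ofConv) * lin (postComp j' g₀) := by
    intro g₀ X
    refine ⟨?_, ?_⟩
    all_goals
      apply WithConv.ofConv_injective
      refine LinearMap.ext fun c => ?_
      simp only [ofConv_toConv, LinearMap.comp_apply, LinearMap.convMul_def]
      induction comul (R := R) c using TensorProduct.induction_on with
      | zero => simp
      | add u v hu hv => simp only [map_add, hu, hv]
      | tmul a b =>
        simp only [lin, MonoidHom.coe_mk, OneHom.coe_mk, ofConv_toConv, TensorProduct.map_tmul, LinearMap.mul'_apply,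
          AlgHom.toLinearMap_apply, FinHopf.postComp_apply, LinearMap.comp_apply]
        first
          | exact hL _ _
          | (rw [mul_comm, hL, mul_comm])
  apply lin_injective
  rw [lin_push, map_mul lin, map_mul lin, map_mul lin, map_mul lin, lin_push]
  have e : lin (postComp j g) * lin f * lin (MultHopf.cinv (postComp j g)) - 1 =
      lin (postComp j g) * (lin f - 1) * lin (postComp j (MultHopf.cinv g)) := by
    rw [postComp_cinv, mul_sub, sub_mul, mul_one, ← map_mul lin (postComp j g) (MultHopf.cinv _), mul_cinv, map_one]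
  rw [e, mul_add, add_mul, mul_one, ← map_mul lin (postComp j' g) (MultHopf.cinv _), mul_cinv, map_one]
  congr 1
  rw [(hcomm _ _).2, (hcomm _ _).1, postComp_cinv]

end Push

end Groth.Agent.MultHopf
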