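import Groth.Agent.MultHopf.Kernel
import Groth.Agent.MultHopf.Integral
import Mathlib.RingTheory.Smooth.Basic

/-!
# Deformation of homomorphisms from groups of multiplicative type
-/

set_option autoImplicit false

universe u v w

open scoped TensorProduct
open WithConv Coalgebra

namespace Groth.Agent.MultHopf

open Groth.Agent.FinHopf (postComp)

variable {R : Type u} [CommRing R]

/-- Reduction of an algebra modulo an ideal of the base. -/
abbrev Bar (J : Ideal R) (T : Type v) [CommRing T] [Algebra R T] : Type v :=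
  T ⧸ J.map (algebraMap R T)

variable (J : Ideal R) {T T' T'' : Type v} [CommRing T] [Algebra R T] [CommRing T'] [Algebra R T'] [CommRing T''] [Algebra R T'']

/-- Reduction of an algebra map. -/
noncomputable def bar (φ : T →ₐ[R] T') : Bar J T →ₐ[R] Bar J T' :=
  Ideal.Quotient.liftₐ _ ((Ideal.Quotient.mkₐ R _).comp φ) fun x hx => by
    rw [AlgHom.comp_apply, Ideal.Quotient.mkₐ_eq_mk, Ideal.Quotient.eq_zero_iff_mem]
    exact map_mem_of_linear φ.toLinearMap J hx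

@[simp] theorem bar_mk (φ : T →ₐ[R] T') (x : T) :
    bar J φ (Ideal.Quotient.mk _ x) = Ideal.Quotient.mk _ (φ x) := rfl

/-- Reduction of a linear map. -/
noncomputable def barL (L : T →ₗ[R] T') : Bar J T →ₗ[R] Bar J T' :=
  (Submodule.liftQ ((J.map (algebraMap R T)).restrictScalars R)
    ((Ideal.Quotient.mkₐ R _).toLinearMap ∘ₗ L) fun x hx => by
      rw [LinearMap.mem_ker, LinearMap.comp_apply, AlgHom.toLinearMap_apply, Ideal.Quotient.mkₐ_eq_mk,
        Ideal.Quotient.eq_zero_iff_mem]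
      exact map_mem_of_linear L J hx) ∘ₗ
    (Submodule.Quotient.restrictScalarsEquiv R (J.map (algebraMap R T))).symm.toLinearMap

@[simp] theorem barL_mk (L : T →ₗ[R] T') (x : T) :
    barL J L (Ideal.Quotient.mk _ x) = Ideal.Quotient.mk _ (L x) := rfl

theorem bar_comp (φ : T' →ₐ[R] T'') (ψ : T →ₐ[R] T') (f : Bar J T) :
    bar J φ (bar J ψ f) = bar J (φ.comp ψ) f := by
  obtain ⟨x, rfl⟩ := Ideal.Quotient.mk_surjective f
  rfl

variable {A : Type u} [CommRing A] [HopfAlgebra R A] {C : Type w} [CommRing C] [HopfAlgebra R C]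

/-- The first inclusion. -/
noncomputable abbrev i₁ : A →ₐ[R] A ⊗[R] A := Algebra.TensorProduct.includeLeft

/-- The second inclusion. -/
noncomputable abbrev i₂ : A →ₐ[R] A ⊗[R] A := Algebra.TensorProduct.includeRight

/-- Compatibility with comultiplications modulo `J`. -/
def Compatible (u : WithConv (C →ₐ[R] Bar J A)) : Prop :=
  postComp (bar J (Bialgebra.comulAlgHom R A)) u = postComp (bar J i₁) u * postComp (bar J i₂) u

omit [HopfAlgebra R A] in
theorem sq_zero (K : Ideal R) (hKJ : K * K ≤ J) (T : Type v) [CommRing T] [Algebra R T] :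
    ∀ x ∈ K.map (algebraMap R (Bar J T)), ∀ y ∈ K.map (algebraMap R (Bar J T)), x * y = 0 := by
  intro x hx y hy
  have h := Ideal.mul_mem_mul hx hy
  rw [← Ideal.map_mul, IsScalarTower.algebraMap_eq R T (Bar J T), ← Ideal.map_map,
    Ideal.Quotient.algebraMap_eq] at h
  have h2 : ((K * K).map (algebraMap R T)).map (Ideal.Quotient.mk (J.map (algebraMap R T))) ≤ ⊥ := by
    rw [Ideal.map_le_iff_le_comap, ← RingHom.ker_eq_comap_bot, Ideal.mk_ker]
    exact Ideal.map_mono hKJ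
  exact (Submodule.mem_bot _).1 (h2 h)

section Maps

variable (R A)

/-- `A ⊗ A → (A ⊗ A) ⊗ A`, the first two factors. -/
noncomputable def inc₁₂ : A ⊗[R] A →ₐ[R] (A ⊗[R] A) ⊗[R] A := Algebra.TensorProduct.includeLeft

/-- `A ⊗ A → (A ⊗ A) ⊗ A`, the last two factors. -/
noncomputable def inc₂₃ : A ⊗[R] A →ₐ[R] (A ⊗[R] A) ⊗[R] A :=
  Algebra.TensorProduct.lift ((inc₁₂ R A).comp i₂) Algebra.TensorProduct.includeRight (fun _ _ => Commute.all _ _)

/-- `Δ ⊗ 1`. -/
noncomputable def d₁ : A ⊗[R] A →ₐ[R] (A ⊗[R] A) ⊗[R] A :=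
  Algebra.TensorProduct.map (Bialgebra.comulAlgHom R A) (AlgHom.id R A)

/-- `1 ⊗ Δ`, associated. -/
noncomputable def d₂ : A ⊗[R] A →ₐ[R] (A ⊗[R] A) ⊗[R] A :=
  Algebra.TensorProduct.lift ((inc₁₂ R A).comp i₁) ((inc₂₃ R A).comp (Bialgebra.comulAlgHom R A)) (fun _ _ => Commute.all _ _)

variable {R A}

theorem inc₁₂_apply (z : A ⊗[R] A) : inc₁₂ R A z = z ⊗ₜ[R] 1 := rfl

theorem inc₂₃_tmul (x y : A) : inc₂₃ R A (x ⊗ₜ[R] y) = ((1 : A) ⊗ₜ[R] x) ⊗ₜ[R] y := by
  simp [inc₂₃, inc₁₂]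

theorem d₁_tmul (x y : A) : d₁ R A (x ⊗ₜ[R] y) = comul x ⊗ₜ[R] y := by simp [d₁]

theorem d₂_tmul (x y : A) : d₂ R A (x ⊗ₜ[R] y) = inc₁₂ R A (i₁ x) * inc₂₃ R A (comul y) := by simp [d₂]

theorem inc₂₃_comp_i₁ : (inc₂₃ R A).comp i₁ = (inc₁₂ R A).comp i₂ := by
  refine AlgHom.ext fun x => ?_
  show inc₂₃ R A (x ⊗ₜ[R] 1) = inc₁₂ R A ((1 : A) ⊗ₜ[R] x)
  rw [inc₂₃_tmul]; rfl

theorem inc₂₃_comp_i₂ : (inc₂₃ R A).comp i₂ = Algebra.TensorProduct.includeRight := by
  refine AlgHom.ext fun x => ?_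
  show inc₂₃ R A ((1 : A) ⊗ₜ[R] x) = (1 : A ⊗[R] A) ⊗ₜ[R] x
  rw [inc₂₃_tmul]; rfl

theorem d₁_comp_i₁ : (d₁ R A).comp i₁ = (inc₁₂ R A).comp (Bialgebra.comulAlgHom R A) := by
  refine AlgHom.ext fun x => ?_
  show d₁ R A (x ⊗ₜ[R] 1) = _
  rw [d₁_tmul]; rfl

theorem d₁_comp_i₂ : (d₁ R A).comp i₂ = Algebra.TensorProduct.includeRight := by
  refine AlgHom.ext fun x => ?_
  show d₁ R A ((1 : A) ⊗ₜ[R] x) = _
  rw [d₁_tmul, Bialgebra.comul_one]; rfl

theorem d₂_comp_i₁ : (d₂ R A).comp i₁ = (inc₁₂ R A).comp i₁ := by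
  refine AlgHom.ext fun x => ?_
  show d₂ R A (x ⊗ₜ[R] 1) = _
  rw [d₂_tmul, Bialgebra.comul_one, map_one, mul_one]; rfl

theorem d₂_comp_i₂ : (d₂ R A).comp i₂ = (inc₂₃ R A).comp (Bialgebra.comulAlgHom R A) := by
  refine AlgHom.ext fun x => ?_
  show d₂ R A ((1 : A) ⊗ₜ[R] x) = _
  rw [d₂_tmul, map_one, map_one, one_mul]; rfl

theorem d₂_comp_comul : (d₂ R A).comp (Bialgebra.comulAlgHom R A) = (d₁ R A).comp (Bialgebra.comulAlgHom R A) := by
  refine AlgHom.ext fun y => ?_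
  have h1 : ∀ z : A ⊗[R] A, d₁ R A z = (comul (R := R)).rTensor A z := fun z => by
    induction z using TensorProduct.induction_on with
    | zero => simp
    | add u v hu hv => simp only [map_add, hu, hv]
    | tmul x y => rw [d₁_tmul, LinearMap.rTensor_tmul]
  have h3 : ∀ (x : A) (w : A ⊗[R] A),
      inc₁₂ R A (i₁ x) * inc₂₃ R A w = (TensorProduct.assoc R A A A).symm (x ⊗ₜ[R] w) := fun x w => by
    induction w using TensorProduct.induction_on with
    | zero => simp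
    | add u v hu hv => rw [map_add, mul_add, hu, hv, TensorProduct.tmul_add, map_add]
    | tmul a b => rw [inc₂₃_tmul, inc₁₂_apply, TensorProduct.assoc_symm_tmul]; simp
  have h2 : ∀ z : A ⊗[R] A, d₂ R A z = (TensorProduct.assoc R A A A).symm ((comul (R := R)).lTensor A z) := fun z => by
    induction z using TensorProduct.induction_on with
    | zero => simp
    | add u v hu hv => simp only [map_add, hu, hv]
    | tmul x y => rw [d₂_tmul, LinearMap.lTensor_tmul, h3]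
  show d₂ R A (comul (R := R) y) = d₁ R A (comul (R := R) y)
  rw [h1, h2, Coalgebra.coassoc_symm_apply]

variable (l : A →ₗ[R] R)

/-- Integration of the last variable, two variables. -/
noncomputable def intLast₂ : A ⊗[R] A →ₗ[R] A := (TensorProduct.rid R A).toLinearMap ∘ₗ l.lTensor A

/-- Integration of the last variable, three variables. -/
noncomputable def intLast₃ : (A ⊗[R] A) ⊗[R] A →ₗ[R] A ⊗[R] A :=
  (TensorProduct.rid R (A ⊗[R] A)).toLinearMap ∘ₗ l.lTensor (A ⊗[R] A)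

theorem intLast₂_tmul (x a : A) : intLast₂ l (x ⊗ₜ[R] a) = l a • x := by simp [intLast₂]

theorem intLast₃_tmul (z : A ⊗[R] A) (a : A) : intLast₃ l (z ⊗ₜ[R] a) = l a • z := by simp [intLast₃]

theorem intLast₃_mul (z : A ⊗[R] A) (t : (A ⊗[R] A) ⊗[R] A) :
    intLast₃ l (inc₁₂ R A z * t) = z * intLast₃ l t := by
  induction t using TensorProduct.induction_on with
  | zero => simp
  | add u v hu hv => simp only [mul_add, map_add, hu, hv]
  | tmul w a => rw [inc₁₂_apply, Algebra.TensorProduct.tmul_mul_tmul, one_mul, intLast₃_tmul, intLast₃_tmul, mul_smul_comm]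

variable {l}

theorem intLast₃_inc₁₂ (hl : IsIntegral l) (z : A ⊗[R] A) : intLast₃ l (inc₁₂ R A z) = z := by
  rw [inc₁₂_apply, intLast₃_tmul, hl.one, one_smul]

theorem intLast₃_d₁ (z : A ⊗[R] A) : intLast₃ l (d₁ R A z) = Bialgebra.comulAlgHom R A (intLast₂ l z) := by
  induction z using TensorProduct.induction_on with
  | zero => simp
  | add u v hu hv => simp only [map_add, hu, hv]
  | tmul x y => rw [d₁_tmul, intLast₃_tmul, intLast₂_tmul, map_smul]; rfl

theorem intLast₃_inc₂₃ (z : A ⊗[R] A) : intLast₃ l (inc₂₃ R A z) = i₂ (intLast₂ l z) := by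
  induction z using TensorProduct.induction_on with
  | zero => simp
  | add u v hu hv => simp only [map_add, hu, hv]
  | tmul x y => rw [inc₂₃_tmul, intLast₃_tmul, intLast₂_tmul, map_smul]; rfl

theorem intLast₃_d₂ (hl : IsIntegral l) (z : A ⊗[R] A) : intLast₃ l (d₂ R A z) = i₁ (intLast₂ l z) := by
  induction z using TensorProduct.induction_on with
  | zero => simp
  | add u v hu hv => simp only [map_add, hu, hv]
  | tmul x y =>
    have h : intLast₂ l (comul (R := R) y) = l y • (1 : A) := by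
      show TensorProduct.rid R A (l.lTensor A (comul (R := R) y)) = _
      rw [hl.right]; simp
    rw [d₂_tmul, intLast₃_mul, intLast₃_inc₂₃, h, intLast₂_tmul, map_smul, map_smul, map_one, mul_smul_comm, mul_one]

end Maps

theorem postComp_comp {X Y Z : Type u} [CommRing X] [Algebra R X] [CommRing Y] [Algebra R Y] [CommRing Z] [Algebra R Z]
    (φ : Y →ₐ[R] Z) (φ' : X →ₐ[R] Y) (f : WithConv (C →ₐ[R] X)) :
    postComp φ (postComp φ' f) = postComp (φ.comp φ') f := rfl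

/-- The algebra behind the correction step, with abstract targets. -/
theorem exists_correction {A₀ P₀ Q₀ : Type u} [CommRing A₀] [Algebra R A₀] [CommRing P₀] [Algebra R P₀]
    [CommRing Q₀] [Algebra R Q₀] (f₁ f₂ fΔ : A₀ →ₐ[R] P₀) (a₁₂ a₂₃ D₁ D₂ : P₀ →ₐ[R] Q₀)
    (L₂ : P₀ →ₗ[R] A₀) (L₃ : Q₀ →ₗ[R] P₀)
    (q1 : a₂₃.comp f₁ = a₁₂.comp f₂) (q2 : a₂₃.comp f₂ = D₁.comp f₂) (q3 : D₁.comp f₁ = a₁₂.comp fΔ)
    (q4 : D₂.comp f₁ = a₁₂.comp f₁) (q5 : D₂.comp f₂ = a₂₃.comp fΔ) (q6 : D₂.comp fΔ = D₁.comp fΔ)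
    (e0 : L₃ ∘ₗ a₁₂.toLinearMap = LinearMap.id) (e1 : L₃ ∘ₗ D₁.toLinearMap = fΔ.toLinearMap ∘ₗ L₂)
    (e2 : L₃ ∘ₗ a₂₃.toLinearMap = f₂.toLinearMap ∘ₗ L₂) (e3 : L₃ ∘ₗ D₂.toLinearMap = f₁.toLinearMap ∘ₗ L₂)
    (hlin : ∀ z t, L₃ (a₁₂ z * t) = z * L₃ t)
    (K : Ideal R) (hA : ∀ x ∈ K.map (algebraMap R A₀), ∀ y ∈ K.map (algebraMap R A₀), x * y = 0)
    (hP : ∀ x ∈ K.map (algebraMap R P₀), ∀ y ∈ K.map (algebraMap R P₀), x * y = 0)
    (hQ : ∀ x ∈ K.map (algebraMap R Q₀), ∀ y ∈ K.map (algebraMap R Q₀), x * y = 0)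
    (ψ : WithConv (C →ₐ[R] A₀)) (hψ : InK K (postComp f₁ ψ * postComp f₂ ψ * cinv (postComp fΔ ψ))) :
    ∃ h : WithConv (C →ₐ[R] A₀), InK K h ∧
      postComp fΔ (h * ψ) = postComp f₁ (h * ψ) * postComp f₂ (h * ψ) := by
  set F := postComp f₁ ψ * postComp f₂ ψ * cinv (postComp fΔ ψ) with hF
  set g := postComp f₁ ψ with hg
  set p₂ := postComp (a₁₂.comp f₂) ψ
  set p₃ := postComp (D₁.comp f₂) ψ
  set p₁₂ := postComp (a₁₂.comp fΔ) ψ
  set p₂₃ := postComp (a₂₃.comp fΔ) ψ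
  set p₁₂₃ := postComp (D₁.comp fΔ) ψ
  set p₁ := postComp a₁₂ g with hp₁
  have fa : postComp a₁₂ F = p₁ * p₂ * cinv p₁₂ := by
    rw [hF, map_mul, map_mul, postComp_cinv]; rfl
  have fb : postComp D₁ F = p₁₂ * p₃ * cinv p₁₂₃ := by
    rw [hF, map_mul, map_mul, postComp_cinv, hg, postComp_comp, postComp_comp, postComp_comp, q3]
  have fc : postComp a₂₃ F = p₂ * p₃ * cinv p₂₃ := by
    rw [hF, map_mul, map_mul, postComp_cinv, hg, postComp_comp, postComp_comp, postComp_comp, q1, q2]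
  have fd : postComp D₂ F = p₁ * p₂₃ * cinv p₁₂₃ := by
    rw [hF, map_mul, map_mul, postComp_cinv, hp₁, hg, postComp_comp, postComp_comp, postComp_comp, postComp_comp, q4, q5, q6]
  have cocycle : postComp a₁₂ F * postComp D₁ F = (p₁ * postComp a₂₃ F * cinv p₁) * postComp D₂ F := by
    rw [fa, fb, fc, fd]
    simp only [mul_assoc]
    rw [← mul_assoc (cinv p₁₂), cinv_mul, one_mul, ← mul_assoc (cinv p₁) p₁, cinv_mul, one_mul,
      ← mul_assoc (cinv p₂₃) p₂₃, cinv_mul, one_mul]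
  set h := push K hA hP L₂ F hψ with hh
  have hin : InK K h := inK_push K hA hP _ F hψ
  have push_of : ∀ (φ : P₀ →ₐ[R] Q₀) (φ' : A₀ →ₐ[R] P₀), L₃ ∘ₗ φ.toLinearMap = φ'.toLinearMap ∘ₗ L₂ →
      push K hP hQ L₃ (postComp φ F) (hψ.postComp _) = postComp φ' h := by
    intro φ φ' hφ
    rw [push_postComp K hP hQ φ hP L₃ F hψ, hh, postComp_push K hA hP φ' hP L₂ F hψ]
    exact push_congr K hP hP _ _ hφ F F rfl hψ
  have ea : push K hP hQ L₃ (postComp a₁₂ F) (hψ.postComp _) = F := by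
    rw [push_postComp K hP hQ a₁₂ hP L₃ F hψ]
    exact (push_congr K hP hP _ LinearMap.id e0 F F rfl hψ).trans (push_id K hP F hψ)
  have c1 := push_mul K hP hQ L₃ (postComp a₁₂ F) (postComp D₁ F) (hψ.postComp _) (hψ.postComp _)
  have c2 := push_mul K hP hQ L₃ (p₁ * postComp a₂₃ F * cinv p₁) (postComp D₂ F)
    ((hψ.postComp _).conj _) (hψ.postComp _)
  have c3 := push_congr K hP hQ L₃ L₃ rfl _ _ cocycle ((hψ.postComp _).mul (hψ.postComp _))
  have c4 : push K hP hQ L₃ (p₁ * postComp a₂₃ F * cinv p₁) ((hψ.postComp _).conj _) =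
      g * push K hP hQ L₃ (postComp a₂₃ F) (hψ.postComp _) * cinv g :=
    push_conj K hP hQ a₁₂ (AlgHom.id R P₀) L₃ hlin g (postComp a₂₃ F) (hψ.postComp _)
  rw [c1, c2, c4, ea, push_of D₁ fΔ e1, push_of a₂₃ f₂ e2, push_of D₂ f₁ e3] at c3
  refine ⟨cinv h, hin.cinv, ?_⟩
  simp only [map_mul, postComp_cinv]
  set h₁ := postComp f₁ h
  set h₂ := postComp f₂ h
  set hd := postComp fΔ h
  set g₂ := postComp f₂ ψ
  set gd := postComp fΔ ψ
  have hF' : g * g₂ = (g * h₂ * cinv g * h₁ * cinv hd) * gd := by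
    rw [← c3, hF]
    simp only [mul_assoc]
    rw [← mul_assoc hd (cinv hd), mul_cinv, one_mul, cinv_mul, mul_one]
  symm
  calc cinv h₁ * g * (cinv h₂ * g₂) = cinv h₁ * (g * cinv h₂ * cinv g) * (g * g₂) := by
        simp only [mul_assoc]; rw [← mul_assoc (cinv g) g, cinv_mul, one_mul]
    _ = cinv h₁ * (g * cinv h₂ * cinv g) * (g * h₂ * cinv g * h₁ * cinv hd) * gd := by
        rw [hF']; simp only [mul_assoc]
    _ = cinv hd * gd := by
        congr 1
        simp only [mul_assoc]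
        rw [← mul_assoc (cinv g) g, cinv_mul, one_mul, ← mul_assoc (cinv h₂) h₂, cinv_mul, one_mul,
          ← mul_assoc g (cinv g), mul_cinv, one_mul, ← mul_assoc (cinv h₁) h₁, cinv_mul, one_mul]

theorem bar_comp_eq {φ : T' →ₐ[R] T''} {ψ : T →ₐ[R] T'} {φ' : T' →ₐ[R] T''} {ψ' : T →ₐ[R] T'}
    (h : φ.comp ψ = φ'.comp ψ') : (bar J φ).comp (bar J ψ) = (bar J φ').comp (bar J ψ') :=
  AlgHom.ext fun x => by rw [AlgHom.comp_apply, AlgHom.comp_apply, bar_comp, bar_comp, h]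

/-- The correction step. -/
theorem exists_compatible {l : A →ₗ[R] R} (hl : IsIntegral l) (K : Ideal R) (hKJ : K * K ≤ J)
    (ψ : WithConv (C →ₐ[R] Bar J A))
    (hψ : InK K (postComp (bar J i₁) ψ * postComp (bar J i₂) ψ * cinv (postComp (bar J (Bialgebra.comulAlgHom R A)) ψ))) :
    ∃ h : WithConv (C →ₐ[R] Bar J A), InK K h ∧ Compatible J (h * ψ) := by
  refine exists_correction (bar J i₁) (bar J i₂) (bar J (Bialgebra.comulAlgHom R A)) (bar J (inc₁₂ R A))
    (bar J (inc₂₃ R A)) (bar J (d₁ R A)) (bar J (d₂ R A)) (barL J (intLast₂ l)) (barL J (intLast₃ l))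
    (bar_comp_eq J inc₂₃_comp_i₁) (bar_comp_eq J (inc₂₃_comp_i₂.trans d₁_comp_i₂.symm)) (bar_comp_eq J d₁_comp_i₁)
    (bar_comp_eq J d₂_comp_i₁) (bar_comp_eq J d₂_comp_i₂) (bar_comp_eq J d₂_comp_comul) ?_ ?_ ?_ ?_ ?_
    K (sq_zero J K hKJ A) (sq_zero J K hKJ _) (sq_zero J K hKJ _) ψ hψ
  · refine LinearMap.ext fun z => ?_
    obtain ⟨z, rfl⟩ := Ideal.Quotient.mk_surjective z
    rw [LinearMap.comp_apply, AlgHom.toLinearMap_apply, bar_mk, barL_mk, intLast₃_inc₁₂ hl, LinearMap.id_apply]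
  · refine LinearMap.ext fun z => ?_
    obtain ⟨z, rfl⟩ := Ideal.Quotient.mk_surjective z
    rw [LinearMap.comp_apply, LinearMap.comp_apply, AlgHom.toLinearMap_apply, AlgHom.toLinearMap_apply, bar_mk, barL_mk, barL_mk, bar_mk, intLast₃_d₁]
  · refine LinearMap.ext fun z => ?_
    obtain ⟨z, rfl⟩ := Ideal.Quotient.mk_surjective z
    rw [LinearMap.comp_apply, LinearMap.comp_apply, AlgHom.toLinearMap_apply, AlgHom.toLinearMap_apply, bar_mk, barL_mk, barL_mk, bar_mk, intLast₃_inc₂₃]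
  · refine LinearMap.ext fun z => ?_
    obtain ⟨z, rfl⟩ := Ideal.Quotient.mk_surjective z
    rw [LinearMap.comp_apply, LinearMap.comp_apply, AlgHom.toLinearMap_apply, AlgHom.toLinearMap_apply, bar_mk, barL_mk, barL_mk, bar_mk, intLast₃_d₂ hl]
  · intro z t
    obtain ⟨z, rfl⟩ := Ideal.Quotient.mk_surjective z
    obtain ⟨t, rfl⟩ := Ideal.Quotient.mk_surjective t
    rw [bar_mk, ← map_mul, barL_mk, barL_mk, intLast₃_mul, map_mul]

/-- Reduction from one ideal to a bigger one. -/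
noncomputable def red {J K : Ideal R} (hJK : J ≤ K) (T : Type v) [CommRing T] [Algebra R T] :
    Bar J T →ₐ[R] Bar K T :=
  Ideal.Quotient.factorₐ R (Ideal.map_mono hJK)

theorem red_bar {J K : Ideal R} (hJK : J ≤ K) (φ : T →ₐ[R] T') (x : Bar J T) :
    red hJK T' (bar J φ x) = bar K φ (red hJK T x) := by
  obtain ⟨x, rfl⟩ := Ideal.Quotient.mk_surjective x
  rfl

theorem ker_red {J K : Ideal R} (hJK : J ≤ K) :
    RingHom.ker (red hJK T) = K.map (algebraMap R (Bar J T)) := by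
  rw [IsScalarTower.algebraMap_eq R T (Bar J T), ← Ideal.map_map, Ideal.Quotient.algebraMap_eq]
  ext z
  obtain ⟨x, rfl⟩ := Ideal.Quotient.mk_surjective z
  rw [RingHom.mem_ker, Ideal.mem_map_iff_of_surjective _ Ideal.Quotient.mk_surjective]
  show Ideal.Quotient.mk (K.map (algebraMap R T)) x = 0 ↔ _
  rw [Ideal.Quotient.eq_zero_iff_mem]
  refine ⟨fun h => ⟨x, h, rfl⟩, ?_⟩
  rintro ⟨y, hy, hxy⟩
  have := Ideal.map_mono hJK (Ideal.Quotient.eq.1 hxy)
  simpa using sub_mem hy this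

theorem inK_iff_red {J K : Ideal R} (hJK : J ≤ K) (f : WithConv (C →ₐ[R] Bar J T)) :
    InK K f ↔ postComp (red hJK T) f = 1 := by
  refine ⟨fun h => ?_, fun h c => ?_⟩
  · apply WithConv.ofConv_injective
    refine AlgHom.ext fun c => ?_
    have := h c
    rw [← ker_red hJK, RingHom.mem_ker, map_sub, AlgHom.commutes, sub_eq_zero] at this
    exact this
  · rw [← ker_red hJK, RingHom.mem_ker, map_sub, AlgHom.commutes, sub_eq_zero]
    exact DFunLike.congr_fun (congrArg WithConv.ofConv h) c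

/-- Lifting a compatible map through a square-zero step. -/
theorem exists_lift_compatible {l : A →ₗ[R] R} (hl : IsIntegral l) [Algebra.FormallySmooth R C] {J K : Ideal R}
    (hJK : J ≤ K) (hKJ : K * K ≤ J) (u : WithConv (C →ₐ[R] Bar K A)) (hu : Compatible K u) :
    ∃ v : WithConv (C →ₐ[R] Bar J A), Compatible J v ∧ postComp (red hJK A) v = u := by
  have hsurj : Function.Surjective (red hJK A) := fun z => by
    obtain ⟨x, rfl⟩ := Ideal.Quotient.mk_surjective z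
    exact ⟨Ideal.Quotient.mk _ x, rfl⟩
  have hnil : IsNilpotent (RingHom.ker ((red hJK A) : Bar J A →+* Bar K A)) := by
    refine ⟨2, ?_⟩
    rw [RingHom.ker_coe_toRingHom, ker_red, pow_two]
    refine le_bot_iff.1 (Ideal.mul_le.2 fun x hx y hy => ?_)
    rw [Ideal.mem_bot]
    exact sq_zero J K hKJ A x hx y hy
  let ψ : WithConv (C →ₐ[R] Bar J A) :=
    toConv (Algebra.FormallySmooth.liftOfSurjective u.ofConv (red hJK A) hsurj hnil)
  have hψu : postComp (red hJK A) ψ = u := by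
    apply WithConv.ofConv_injective
    exact Algebra.FormallySmooth.comp_liftOfSurjective u.ofConv (red hJK A) hsurj hnil
  have hpc : ∀ φ : A →ₐ[R] A ⊗[R] A, postComp (red hJK _) (postComp (bar J φ) ψ) = postComp (bar K φ) u := fun φ => by
    rw [← hψu]
    apply WithConv.ofConv_injective
    exact AlgHom.ext fun c => red_bar hJK φ _
  obtain ⟨h, hh, hc⟩ := exists_compatible J hl K hKJ ψ (by
    rw [inK_iff_red hJK, map_mul, map_mul, postComp_cinv, hpc, hpc, hpc, ← hu, mul_cinv])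
  exact ⟨h * ψ, hc, by rw [map_mul, (inK_iff_red hJK h).1 hh, one_mul, hψu]⟩

end Groth.Agent.MultHopf
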