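import Groth.Agent.MultHopf.Lift
import Mathlib.RingTheory.Bialgebra.Hom
import Mathlib.RingTheory.TensorProduct.Quotient

/-!
# Lifting homomorphisms from groups of multiplicative type over nilpotent ideals
-/

set_option autoImplicit false

universe u v w

open scoped TensorProduct
open WithConv Coalgebra

namespace Groth.Agent.MultHopf

open Groth.Agent.FinHopf (postComp)

variable {R : Type u} [CommRing R] {A : Type u} [CommRing A] [HopfAlgebra R A] {C : Type u} [CommRing C] [HopfAlgebra R C]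

/-- A compatible algebra map is a bialgebra map. -/
theorem exists_bialgHom (u : WithConv (C →ₐ[R] A))
    (hu : postComp (Bialgebra.comulAlgHom R A) u = postComp i₁ u * postComp i₂ u) :
    ∃ φ : C →ₐc[R] A, ∀ c, φ c = u.ofConv c := by
  have hε : postComp (Bialgebra.counitAlgHom R A) u = 1 := by
    let E : A ⊗[R] A →ₐ[R] R := Algebra.TensorProduct.lift (Bialgebra.counitAlgHom R A) (Bialgebra.counitAlgHom R A)
      (fun _ _ => Commute.all _ _)
    have h := congrArg (postComp (C := C) E) hu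
    rw [map_mul] at h
    have e1 : postComp E (postComp i₁ u) = postComp (Bialgebra.counitAlgHom R A) u := by
      apply WithConv.ofConv_injective; ext c; simp [E]
    have e2 : postComp E (postComp i₂ u) = postComp (Bialgebra.counitAlgHom R A) u := by
      apply WithConv.ofConv_injective; ext c; simp [E]
    have e3 : postComp E (postComp (Bialgebra.comulAlgHom R A) u) = postComp (Bialgebra.counitAlgHom R A) u := by
      apply WithConv.ofConv_injective
      refine AlgHom.ext fun c => ?_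
      show E (comul (R := R) (u.ofConv c)) = counit (u.ofConv c)
      have key : ∀ z : A ⊗[R] A, E z = counit (R := R) (TensorProduct.lid R A ((counit (R := R)).rTensor A z)) := fun z => by
        induction z using TensorProduct.induction_on with
        | zero => simp
        | add a b ha hb => simp only [map_add, ha, hb]
        | tmul x y => simp [E]
      rw [key, Coalgebra.rTensor_counit_comul]; simp
    rw [e1, e2, e3] at h
    set x := postComp (Bialgebra.counitAlgHom R A) u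
    calc x = cinv x * x * x := by rw [cinv_mul, one_mul]
      _ = 1 := by rw [mul_assoc, ← h, cinv_mul]
  refine ⟨BialgHom.ofAlgHom u.ofConv ?_ ?_, fun c => rfl⟩
  · exact congrArg WithConv.ofConv hε
  · refine AlgHom.ext fun c => ?_
    show Algebra.TensorProduct.map u.ofConv u.ofConv (comul (R := R) c) = comul (R := R) (u.ofConv c)
    have h := DFunLike.congr_fun (congrArg WithConv.ofConv hu) c
    refine Eq.trans ?_ h.symm
    rw [AlgHom.convMul_apply]
    induction comul (R := R) c using TensorProduct.induction_on with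
    | zero => simp
    | add a b ha hb => simp only [map_add, ha, hb]
    | tmul x y => simp [i₁, i₂]

/-- The reduction of a homomorphism over `R/I`. -/
theorem exists_compatible_of_bialgHom (I : Ideal R) (φ₀ : ((R ⧸ I) ⊗[R] C) →ₐc[R ⧸ I] ((R ⧸ I) ⊗[R] A)) :
    ∃ u : WithConv (C →ₐ[R] Bar I A), Compatible I u ∧
      ∀ c a, u.ofConv c = Ideal.Quotient.mk _ a ↔ φ₀ ((1 : R ⧸ I) ⊗ₜ[R] c) = (1 : R ⧸ I) ⊗ₜ[R] a := by
  let e : Bar I A ≃ₐ[R] (R ⧸ I) ⊗[R] A := (Algebra.TensorProduct.quotIdealMapEquivQuotTensor A I).restrictScalars R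
  have he : ∀ a, e.symm ((1 : R ⧸ I) ⊗ₜ[R] a) = Ideal.Quotient.mk _ a := fun a => by
    rw [AlgEquiv.symm_apply_eq]
    exact (Algebra.TensorProduct.quotIdealMapEquivQuotTensor_mk A I a).symm
  let u : C →ₐ[R] Bar I A := e.symm.toAlgHom.comp
    (((φ₀ : (R ⧸ I) ⊗[R] C →ₐ[R ⧸ I] (R ⧸ I) ⊗[R] A).restrictScalars R).comp Algebra.TensorProduct.includeRight)
  have hu : ∀ c, u c = e.symm (φ₀ ((1 : R ⧸ I) ⊗ₜ[R] c)) := fun c => rfl
  refine ⟨toConv u, ?_, fun c a => ?_⟩
  · apply WithConv.ofConv_injective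
    refine AlgHom.ext fun c => ?_
    -- transport along the product map
    let P := Bar I (A ⊗[R] A)
    let s₁ : (R ⧸ I) ⊗[R] A →ₗ[R] P := (bar I (i₁ (R := R) (A := A))).toLinearMap ∘ₗ e.symm.toLinearMap
    let s₂ : (R ⧸ I) ⊗[R] A →ₗ[R] P := (bar I (i₂ (R := R) (A := A))).toLinearMap ∘ₗ e.symm.toLinearMap
    let Θ : ((R ⧸ I) ⊗[R] A) ⊗[R ⧸ I] ((R ⧸ I) ⊗[R] A) → P :=
      TensorProduct.liftAddHom
        { toFun := fun x => ((LinearMap.mulLeft R (s₁ x)) ∘ₗ s₂).toAddMonoidHom
          map_zero' := by ext; simp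
          map_add' := fun x y => by ext z; simp [add_mul] }
        (fun r x y => by
          obtain ⟨r, rfl⟩ := Ideal.Quotient.mk_surjective r
          show s₁ (Ideal.Quotient.mk I r • x) * s₂ y = s₁ x * s₂ (Ideal.Quotient.mk I r • y)
          rw [← Ideal.Quotient.algebraMap_eq, algebraMap_smul, algebraMap_smul, map_smul, map_smul,
            smul_mul_assoc, mul_smul_comm])
    have Θt : ∀ x y, Θ (x ⊗ₜ y) = bar I i₁ (e.symm x) * bar I i₂ (e.symm y) := fun x y => rfl
    have Θadd : ∀ x y, Θ (x + y) = Θ x + Θ y := map_add (TensorProduct.liftAddHom _ _)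
    have Θ0 : Θ 0 = 0 := map_zero (TensorProduct.liftAddHom _ _)
    have hbase : ∀ a : A, bar I (Bialgebra.comulAlgHom R A) (Ideal.Quotient.mk _ a) =
        Θ (comul (R := R ⧸ I) ((1 : R ⧸ I) ⊗ₜ[R] a)) := fun a => by
      rw [bar_mk, TensorProduct.comul_tmul, CommSemiring.comul_apply, Bialgebra.comulAlgHom_apply]
      induction comul (R := R) a using TensorProduct.induction_on with
      | zero => simp [Θ0]
      | add x y hx hy => simp only [TensorProduct.tmul_add, map_add, Θadd, hx, hy]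
      | tmul x y =>
        rw [TensorProduct.AlgebraTensorModule.tensorTensorTensorComm_tmul, Θt, he, he, bar_mk, bar_mk, ← map_mul]
        simp [i₁, i₂]
    show bar I (Bialgebra.comulAlgHom R A) (u c) = _
    obtain ⟨a, ha⟩ := Ideal.Quotient.mk_surjective (u c)
    have hφa : φ₀ ((1 : R ⧸ I) ⊗ₜ[R] c) = (1 : R ⧸ I) ⊗ₜ[R] a := by
      apply e.symm.injective
      rw [he, ← hu, ha]
    rw [← ha, hbase, ← hφa,
      show comul (R := R ⧸ I) (φ₀ ((1 : R ⧸ I) ⊗ₜ[R] c)) = TensorProduct.map φ₀.toCoalgHom.toLinearMap φ₀.toCoalgHom.toLinearMap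
        (comul (R := R ⧸ I) ((1 : R ⧸ I) ⊗ₜ[R] c)) from (LinearMap.congr_fun φ₀.toCoalgHom.map_comp_comul _).symm,
      TensorProduct.comul_tmul, CommSemiring.comul_apply, AlgHom.convMul_apply]
    induction comul (R := R) c using TensorProduct.induction_on with
    | zero => simp [Θ0]
    | add x y hx hy => simp only [TensorProduct.tmul_add, map_add, Θadd, hx, hy]
    | tmul x y =>
      rw [TensorProduct.AlgebraTensorModule.tensorTensorTensorComm_tmul, TensorProduct.map_tmul, Θt]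
      rw [Algebra.TensorProduct.lift_tmul]
      rfl
  · show u c = _ ↔ _
    rw [hu, ← he, e.symm.injective.eq_iff]

/-- A compatible map modulo the zero ideal is a bialgebra map. -/
theorem exists_bialgHom_of_bot {J K : Ideal R} (hJ : J = ⊥) (hJK : J ≤ K) (u : WithConv (C →ₐ[R] Bar J A))
    (hu : Compatible J u) : ∃ φ : C →ₐc[R] A, ∀ c, red hJK A (u.ofConv c) = Ideal.Quotient.mk _ (φ c) := by
  have hA : J.map (algebraMap R A) = ⊥ := by rw [hJ, Ideal.map_bot]
  have hP : J.map (algebraMap R (A ⊗[R] A)) = ⊥ := by rw [hJ, Ideal.map_bot]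
  let dA : Bar J A →ₐ[R] A := Ideal.Quotient.liftₐ _ (AlgHom.id R A) fun x hx => by rw [hA, Ideal.mem_bot] at hx; exact hx
  let dP : Bar J (A ⊗[R] A) →ₐ[R] A ⊗[R] A := Ideal.Quotient.liftₐ _ (AlgHom.id R _) fun x hx => by
    rw [hP, Ideal.mem_bot] at hx; exact hx
  obtain ⟨φ, hφ⟩ := exists_bialgHom (postComp dA u) (by
    have h := congrArg (postComp (C := C) dP) hu
    rw [map_mul] at h
    have e : ∀ ψ : A →ₐ[R] A ⊗[R] A, postComp dP (postComp (bar J ψ) u) = postComp ψ (postComp dA u) := by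
      intro ψ
      apply WithConv.ofConv_injective
      refine AlgHom.ext fun c => ?_
      show dP (bar J ψ (u.ofConv c)) = ψ (dA (u.ofConv c))
      obtain ⟨a, ha⟩ := Ideal.Quotient.mk_surjective (u.ofConv c)
      rw [← ha]; rfl
    rwa [e, e, e] at h)
  refine ⟨φ, fun c => ?_⟩
  rw [hφ c, FinHopf.postComp_apply]
  obtain ⟨a, ha⟩ := Ideal.Quotient.mk_surjective (u.ofConv c)
  rw [← ha]; rfl

theorem red_red {J K L : Ideal R} (hJK : J ≤ K) (hKL : K ≤ L) (hJL : J ≤ L) (x : Bar J A) :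
    red hKL A (red hJK A x) = red hJL A x := by
  obtain ⟨x, rfl⟩ := Ideal.Quotient.mk_surjective x
  rfl

theorem lift_step {l : A →ₗ[R] R} (hl : IsIntegral l) [Algebra.FormallySmooth R C] {J K L : Ideal R}
    (hJK : J ≤ K) (hKJ : K * K ≤ J) (hKL : K ≤ L) (hJL : J ≤ L) (u : WithConv (C →ₐ[R] Bar K A)) (hu : Compatible K u)
    (u₀ : WithConv (C →ₐ[R] Bar L A)) (hur : postComp (red hKL A) u = u₀) :
    ∃ v : WithConv (C →ₐ[R] Bar J A), Compatible J v ∧ postComp (red hJL A) v = u₀ := by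
  obtain ⟨v, hv, hvr⟩ := exists_lift_compatible hl hJK hKJ u hu
  refine ⟨v, hv, ?_⟩
  rw [← hur, ← hvr]
  apply WithConv.ofConv_injective
  exact AlgHom.ext fun c => (red_red hJK hKL hJL _).symm

/-- Compatible lifts modulo all powers. -/
theorem exists_lift_pow {l : A →ₗ[R] R} (hl : IsIntegral l) [Algebra.FormallySmooth R C]
    (I : Ideal R) (hle : ∀ n : ℕ, I ^ (n + 1) ≤ I) (u₀ : WithConv (C →ₐ[R] Bar I A)) (hu₀ : Compatible I u₀) (n : ℕ) :
    ∃ u : WithConv (C →ₐ[R] Bar (I ^ (n + 1)) A),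
      Compatible (I ^ (n + 1)) u ∧ postComp (red (hle n) A) u = u₀ := by
  induction n with
  | zero =>
    obtain ⟨u, hu, hur⟩ := exists_lift_compatible hl (hle 0) (by simpa using Ideal.mul_le_left) u₀ hu₀
    exact ⟨u, hu, hur⟩
  | succ n ih =>
    obtain ⟨u, hu, hur⟩ := ih
    exact lift_step hl (Ideal.pow_le_pow_right (Nat.le_succ (n + 1)))
      (by rw [← pow_add]; exact Ideal.pow_le_pow_right (by omega)) (hle n) (hle (n + 1)) u hu u₀ hur

/-- Homomorphisms lift along nilpotent ideals. -/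
theorem exists_lift_of_nilpotent {l : A →ₗ[R] R} (hl : IsIntegral l) [Algebra.FormallySmooth R C]
    (I : Ideal R) (hI : IsNilpotent I) (φ₀ : ((R ⧸ I) ⊗[R] C) →ₐc[R ⧸ I] ((R ⧸ I) ⊗[R] A)) :
    ∃ φ : C →ₐc[R] A, ∀ c : C, φ₀ ((1 : R ⧸ I) ⊗ₜ[R] c) = (1 : R ⧸ I) ⊗ₜ[R] (φ c) := by
  obtain ⟨u₀, hu₀, hu₀a⟩ := exists_compatible_of_bialgHom I φ₀
  obtain ⟨N, hN⟩ := hI
  have hle : ∀ n : ℕ, I ^ (n + 1) ≤ I := fun n => Ideal.pow_le_self n.succ_ne_zero
  obtain ⟨u, hu, hur⟩ := exists_lift_pow hl I hle u₀ hu₀ N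
  obtain ⟨φ, hφ⟩ := exists_bialgHom_of_bot (le_bot_iff.1 ((Ideal.pow_le_pow_right N.le_succ).trans hN.le)) (hle N) u hu
  exact ⟨φ, fun c => (hu₀a c (φ c)).1 (by rw [← hur, FinHopf.postComp_apply, hφ])⟩

end Groth.Agent.MultHopf
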