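import Groth.Agent.MultHopf.FlatNear

/-!
# Noetherian local models of Hopf algebras flat near the closed fibre
-/

set_option autoImplicit false
set_option backward.isDefEq.respectTransparency.types false

universe u

open scoped TensorProduct
open Algebra.TensorProduct (includeLeft includeRight)
open IsLocalRing (maximalIdeal)

namespace Groth.Agent.MultHopf

open Model

set_option synthInstance.maxHeartbeats 100000 in
set_option maxHeartbeats 1000000 in
theorem lift_ofId_one_tmul {S₀ A N X : Type u} [CommRing S₀] [CommRing A] [Algebra S₀ A] [CommRing N] [Algebra S₀ N] [CommRing X]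
    [Algebra A X] [Algebra S₀ X] [IsScalarTower S₀ A X] (ψ : N →ₐ[S₀] X) (h : ∀ x y, Commute (Algebra.ofId A X x) (ψ y)) (n : N) :
    Algebra.TensorProduct.lift (Algebra.ofId A X) ψ h ((1 : A) ⊗ₜ[S₀] n) = ψ n := by
  simp

set_option synthInstance.maxHeartbeats 100000 in
set_option maxHeartbeats 1000000 in
/-- Structure maps at a finite stage over an abstract base. -/
theorem exists_data_of_model {R : Type u} [CommRing R] {C : Type u} [CommRing C] [HopfAlgebra R C]
    {S₀ : Type u} [CommRing S₀] [IsNoetherianRing S₀] [Algebra S₀ R] [Algebra S₀ C] [IsScalarTower S₀ R C]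
    {M₀ : Type u} [CommRing M₀] [Algebra S₀ M₀] [Algebra.FinitePresentation S₀ M₀] (e₀ : R ⊗[S₀] M₀ ≃ₐ[R] C) (t : Finset C) :
    ∃ (S : Type u) (_ : CommRing S) (_ : Algebra S R) (_ : Algebra S C) (_ : IsScalarTower S R C) (M : Type u) (_ : CommRing M)
      (_ : Algebra S M) (_ : IsNoetherianRing S) (_ : Algebra.FiniteType S M) (H : Data S M R C), ∀ g ∈ t, ∃ g₀ : M, H.f g₀ = g := by
  classical
  let f₀ : M₀ →ₐ[S₀] C := (e₀.toAlgHom.restrictScalars S₀).comp includeRight
  have hb : Function.Bijective (Algebra.TensorProduct.lift (Algebra.ofId R C) f₀ fun _ _ => Commute.all _ _) := by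
    rw [show Algebra.TensorProduct.lift (Algebra.ofId R C) f₀ (fun _ _ => Commute.all _ _) = e₀.toAlgHom from
      Algebra.TensorProduct.ext (by ext) (AlgHom.ext fun m => by
        show Algebra.TensorProduct.lift (Algebra.ofId R C) f₀ (fun _ _ => Commute.all _ _) ((1 : R) ⊗ₜ[S₀] m) = e₀ ((1 : R) ⊗ₜ[S₀] m)
        rw [Algebra.TensorProduct.lift_tmul, map_one, one_mul]
        rfl)]
    exact e₀.bijective
  let Φ := AlgEquiv.ofBijective _ (bijective_e₂ (R := R) hb)
  obtain ⟨A₁, hA₁, φ₁, hφ₁⟩ := FlatMorLib.Approx.exists_fg_lift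
    ((Φ.symm.toAlgHom.restrictScalars S₀).comp (((Bialgebra.comulAlgHom R C).restrictScalars S₀).comp f₀))
  obtain ⟨A₂, hA₂, φ₂, hφ₂⟩ := FlatMorLib.Approx.exists_fg_lift (R := S₀) (A := R) (D := S₀)
    (((Algebra.TensorProduct.rid S₀ S₀ R).symm.toAlgHom).comp (((Bialgebra.counitAlgHom R C).restrictScalars S₀).comp f₀))
  obtain ⟨A₃, hA₃, φ₃, hφ₃⟩ := FlatMorLib.Approx.exists_fg_lift
    ((e₀.symm.toAlgHom.restrictScalars S₀).comp (((HopfAlgebra.antipodeAlgHom R C).restrictScalars S₀).comp f₀))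
  obtain ⟨A₄, hA₄, hmem⟩ := FlatMorLib.Approx.exists_fg_finset_subset (t.image e₀.symm)
  let A : Subalgebra S₀ R := A₁ ⊔ A₂ ⊔ A₃ ⊔ A₄
  have h₁ : A₁ ≤ A := le_sup_left.trans (le_sup_left.trans le_sup_left)
  have h₂ : A₂ ≤ A := le_sup_right.trans (le_sup_left.trans le_sup_left)
  have h₃ : A₃ ≤ A := le_sup_right.trans le_sup_left
  have h₄ : A₄ ≤ A := le_sup_right
  have hA : A.FG := ((hA₁.sup hA₂).sup hA₃).sup hA₄
  have : Algebra.FiniteType S₀ A := (Subalgebra.fg_iff_finiteType A).1 hA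
  have : IsNoetherianRing A := Algebra.FiniteType.isNoetherianRing S₀ A
  let M := A ⊗[S₀] M₀
  have : Algebra.FiniteType A M := inferInstance
  let ψ₁ : M₀ →ₐ[S₀] A ⊗[S₀] (M₀ ⊗[S₀] M₀) := (FlatMorLib.Approx.incT _ h₁).comp φ₁
  let ψ₂ : M₀ →ₐ[S₀] A ⊗[S₀] S₀ := (FlatMorLib.Approx.incT _ h₂).comp φ₂
  let ψ₃ : M₀ →ₐ[S₀] A ⊗[S₀] M₀ := (FlatMorLib.Approx.incT _ h₃).comp φ₃
  have hψ₁ : ∀ m, FlatMorLib.Approx.valT _ A (ψ₁ m) = Φ.symm (Coalgebra.comul (R := R) (f₀ m)) := fun m =>
    (FlatMorLib.Approx.valT_incT h₁ _).trans (DFunLike.congr_fun hφ₁ m)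
  have hψ₂ : ∀ m, FlatMorLib.Approx.valT _ A (ψ₂ m) = (Algebra.TensorProduct.rid S₀ S₀ R).symm (Coalgebra.counit (R := R) (f₀ m)) :=
    fun m => (FlatMorLib.Approx.valT_incT h₂ _).trans (DFunLike.congr_fun hφ₂ m)
  have hψ₃ : ∀ m, FlatMorLib.Approx.valT _ A (ψ₃ m) = e₀.symm (HopfAlgebra.antipode R (f₀ m)) := fun m =>
    (FlatMorLib.Approx.valT_incT h₃ _).trans (DFunLike.congr_fun hφ₃ m)
  let g : A ⊗[S₀] (M₀ ⊗[S₀] M₀) →ₐ[A] M ⊗[A] M :=
    Algebra.TensorProduct.lift (Algebra.ofId A _) (Model.psi₂ A) fun _ _ => Commute.all (S := M ⊗[A] M) _ _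
  let Δ : M →ₐ[A] M ⊗[A] M :=
    Algebra.TensorProduct.lift (Algebra.ofId A _) ((g.restrictScalars S₀).comp ψ₁) fun _ _ => Commute.all (S := M ⊗[A] M) _ _
  let ε : M →ₐ[A] A :=
    Algebra.TensorProduct.lift (Algebra.ofId A _) ((Algebra.TensorProduct.rid S₀ S₀ A).toAlgHom.comp ψ₂) fun _ _ => Commute.all _ _
  let σ : M →ₐ[A] M := Algebra.TensorProduct.lift (Algebra.ofId A _) ψ₃ fun _ _ => Commute.all _ _
  let f : M →ₐ[A] C := Algebra.TensorProduct.lift (Algebra.ofId A C) f₀ fun _ _ => Commute.all _ _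
  have hf1 : ∀ m, f ((1 : A) ⊗ₜ[S₀] m) = f₀ m := fun m => by
    show Algebra.TensorProduct.lift _ _ _ ((1 : A) ⊗ₜ[S₀] m) = _
    rw [Algebra.TensorProduct.lift_tmul, map_one, one_mul]
  have hf : ∀ x, f x = e₀ (FlatMorLib.Approx.valT M₀ A x) := fun x => by
    induction x using TensorProduct.induction_on with
    | zero => simp
    | add a b ha hb => simp only [map_add, ha, hb]
    | tmul a m =>
      rw [FlatMorLib.Approx.valT, Algebra.TensorProduct.map_tmul,
        show A.val a ⊗ₜ[S₀] (AlgHom.id S₀ M₀) m = (a : R) • ((1 : R) ⊗ₜ[S₀] m) by simp [TensorProduct.smul_tmul'], map_smul]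
      simp [f, f₀, Algebra.smul_def, Algebra.ofId_apply]
      rfl
  have he₂ : ∀ z, e₂ (R := R) f (g z) = Φ (FlatMorLib.Approx.valT _ A z) := fun z => by
    induction z using TensorProduct.induction_on with
    | zero => simp
    | add a b ha hb => simp only [map_add, ha, hb]
    | tmul a w =>
      induction w using TensorProduct.induction_on with
      | zero => simp
      | add a b ha hb => simp only [TensorProduct.tmul_add, map_add, ha, hb]
      | tmul m m' =>
        rw [FlatMorLib.Approx.valT, Algebra.TensorProduct.map_tmul,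
          show A.val a ⊗ₜ[S₀] (AlgHom.id S₀ _) (m ⊗ₜ[S₀] m') = (a : R) • ((1 : R) ⊗ₜ[S₀] (m ⊗ₜ[S₀] m')) by
            simp [TensorProduct.smul_tmul'], map_smul,
          show a ⊗ₜ[S₀] (m ⊗ₜ[S₀] m') = a • ((1 : A) ⊗ₜ[S₀] (m ⊗ₜ[S₀] m')) by rw [TensorProduct.smul_tmul', smul_eq_mul, mul_one],
          map_smul, map_smul]
        show algebraMap A R a • e₂ (R := R) f (g ((1 : A) ⊗ₜ[S₀] (m ⊗ₜ[S₀] m'))) = (a : R) • _
        congr 1
        simp [g, Φ, f]
        rw [Model.psi₂_tmul, e₂_tmul]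
        exact ((congrArg₂ (fun x y => x ⊗ₜ[R] y) (hf1 m) (hf1 m')).trans (e₂_tmul f₀ m m').symm).trans (one_mul _).symm
  let H : Data A M R C :=
    { Δ := Δ
      ε := ε
      σ := σ
      f := f
      bij := by
        rw [show Algebra.TensorProduct.lift (Algebra.ofId R C) f (fun _ _ => Commute.all _ _) =
          ((Algebra.TensorProduct.cancelBaseChange S₀ A R R M₀).trans e₀).toAlgHom from
          Algebra.TensorProduct.ext (by ext) (AlgHom.ext fun x => by
            show Algebra.TensorProduct.lift (Algebra.ofId R C) f (fun _ _ => Commute.all _ _) ((1 : R) ⊗ₜ[A] x) =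
              e₀ (Algebra.TensorProduct.cancelBaseChange S₀ A R R M₀ ((1 : R) ⊗ₜ[A] x))
            rw [Algebra.TensorProduct.lift_tmul, map_one, one_mul, hf]
            congr 1
            induction x using TensorProduct.induction_on with
            | zero => simp
            | add a b ha hb => simp only [TensorProduct.tmul_add, map_add, ha, hb]
            | tmul a m => simp [FlatMorLib.Approx.valT, Algebra.smul_def])]
        exact ((Algebra.TensorProduct.cancelBaseChange S₀ A R R M₀).trans e₀).bijective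
      comul_f := fun x => by
        induction x using TensorProduct.induction_on with
        | zero => simp
        | add a b ha hb => simp only [map_add, ha, hb]
        | tmul a m =>
          rw [show a ⊗ₜ[S₀] m = a • ((1 : A) ⊗ₜ[S₀] m) by rw [TensorProduct.smul_tmul', smul_eq_mul, mul_one], map_smul f,
            ← algebraMap_smul R a (f ((1 : A) ⊗ₜ[S₀] m)), map_smul, algebraMap_smul, map_smul Δ, map_smul (e₂ (R := R) f)]
          congr 1
          rw [show Δ ((1 : A) ⊗ₜ[S₀] m) = g (ψ₁ m) from lift_ofId_one_tmul (X := M ⊗[A] M) _ _ _, he₂, hψ₁,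
            AlgEquiv.apply_symm_apply]
          rw [hf1]
      counit_f := fun x => by
        induction x using TensorProduct.induction_on with
        | zero => simp
        | add a b ha hb => simp only [map_add, ha, hb]
        | tmul a m =>
          have hr : ∀ y : A ⊗[S₀] S₀, algebraMap A R (Algebra.TensorProduct.rid S₀ S₀ A y) =
              Algebra.TensorProduct.rid S₀ S₀ R (FlatMorLib.Approx.valT S₀ A y) := fun y => by
            induction y using TensorProduct.induction_on with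
            | zero => simp
            | add p q hp hq => simp only [map_add, hp, hq]
            | tmul p q => simp [FlatMorLib.Approx.valT]
          rw [show a ⊗ₜ[S₀] m = a • ((1 : A) ⊗ₜ[S₀] m) by rw [TensorProduct.smul_tmul', smul_eq_mul, mul_one], map_smul f,
            ← algebraMap_smul R a (f ((1 : A) ⊗ₜ[S₀] m)), map_smul, map_smul ε, smul_eq_mul, smul_eq_mul, map_mul]
          congr 1
          rw [show ε ((1 : A) ⊗ₜ[S₀] m) = Algebra.TensorProduct.rid S₀ S₀ A (ψ₂ m) by
              show Algebra.TensorProduct.lift _ _ _ ((1 : A) ⊗ₜ[S₀] m) = _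
              rw [Algebra.TensorProduct.lift_tmul, map_one, one_mul]
              rfl, hr, hψ₂, AlgEquiv.apply_symm_apply]
          rw [hf1]
      antipode_f := fun x => by
        induction x using TensorProduct.induction_on with
        | zero => simp
        | add a b ha hb => simp only [map_add, ha, hb]
        | tmul a m =>
          rw [show a ⊗ₜ[S₀] m = a • ((1 : A) ⊗ₜ[S₀] m) by rw [TensorProduct.smul_tmul', smul_eq_mul, mul_one], map_smul f,
            ← algebraMap_smul R a (f ((1 : A) ⊗ₜ[S₀] m)), map_smul, algebraMap_smul, map_smul σ, map_smul f]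
          congr 1
          rw [show σ ((1 : A) ⊗ₜ[S₀] m) = ψ₃ m by
              show Algebra.TensorProduct.lift _ _ _ ((1 : A) ⊗ₜ[S₀] m) = _
              rw [Algebra.TensorProduct.lift_tmul, map_one, one_mul], hf (ψ₃ m), hψ₃, AlgEquiv.apply_symm_apply]
          rw [hf1] }
  refine ⟨A, inferInstance, inferInstance, inferInstance, inferInstance, M, inferInstance, inferInstance, inferInstance,
    inferInstance, H, fun g hg => ?_⟩
  obtain ⟨z, hz⟩ := hmem _ (Finset.mem_image_of_mem _ hg)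
  refine ⟨FlatMorLib.Approx.incT M₀ h₄ z, ?_⟩
  show f _ = g
  rw [hf, FlatMorLib.Approx.valT_incT]
  erw [hz]
  rw [AlgEquiv.apply_symm_apply]

/-- Structure maps at a finite stage. -/
theorem exists_data {R : Type u} [CommRing R] {C : Type u} [CommRing C] [HopfAlgebra R C] [Algebra.FinitePresentation R C]
    (t : Finset C) :
    ∃ (S : Type u) (_ : CommRing S) (_ : Algebra S R) (_ : Algebra S C) (_ : IsScalarTower S R C) (M : Type u) (_ : CommRing M)
      (_ : Algebra S M) (_ : IsNoetherianRing S) (_ : Algebra.FiniteType S M) (H : Data S M R C), ∀ g ∈ t, ∃ g₀ : M, H.f g₀ = g := by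
  classical
  let P := Algebra.Presentation.ofFinitePresentation R C
  let S₀ : Subalgebra ℤ R := Algebra.adjoin ℤ P.coeffs
  have : P.HasCoeffs S₀ := ⟨by simp [S₀, Subalgebra.algebraMap_eq]⟩
  let M₀ := P.ModelOfHasCoeffs S₀
  let e₀ : R ⊗[S₀] M₀ ≃ₐ[R] C := P.tensorModelOfHasCoeffsEquiv S₀
  have : Algebra.FiniteType ℤ S₀ := Algebra.FiniteType.adjoin_of_finite P.finite_coeffs
  have : IsNoetherianRing S₀ := Algebra.FiniteType.isNoetherianRing ℤ S₀
  exact exists_data_of_model (M₀ := M₀) e₀ t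

/-- A ring killed after a field extension vanishes. -/
theorem one_eq_zero_of_bc {R₀ R k₀ k Q C₀ C : Type u} [CommRing R₀] [CommRing R] [Algebra R₀ R] [Field k₀] [Field k] [Algebra k₀ k]
    [Algebra R₀ k₀] [Algebra R₀ k] [IsScalarTower R₀ k₀ k] [Algebra R k] [IsScalarTower R₀ R k]
    [CommRing Q] [Algebra k₀ Q] [Algebra R₀ Q] [IsScalarTower R₀ k₀ Q]
    [CommRing C₀] [Algebra R₀ C₀] [CommRing C] [Algebra R C] (π : C₀ →ₐ[R₀] Q)
    (e : R ⊗[R₀] C₀ ≃ₐ[R] C) (t : Set C) (g₀ : C → C₀) (I : Ideal R) (hI : ∀ r ∈ I, algebraMap R k r = 0)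
    (hg : ∀ g ∈ t, e ((1 : R) ⊗ₜ[R₀] g₀ g) = g) (hπ : ∀ g ∈ t, π (g₀ g) = 0)
    (ht : Ideal.span t ⊔ I.map (algebraMap R C) = ⊤) : (1 : Q) = 0 := by
  let i : R →ₐ[R₀] k ⊗[k₀] Q := ((includeLeft : k →ₐ[k₀] k ⊗[k₀] Q).restrictScalars R₀).comp (IsScalarTower.toAlgHom R₀ R k)
  let j : C₀ →ₐ[R₀] k ⊗[k₀] Q := ((includeRight : Q →ₐ[k₀] k ⊗[k₀] Q).restrictScalars R₀).comp π
  let κ : R ⊗[R₀] C₀ →ₐ[R₀] k ⊗[k₀] Q := Algebra.TensorProduct.lift i j fun _ _ => Commute.all _ _
  let χ : C →+* k ⊗[k₀] Q := κ.toRingHom.comp e.symm.toRingEquiv.toRingHom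
  have hker : Ideal.span t ⊔ I.map (algebraMap R C) ≤ RingHom.ker χ := by
    refine sup_le (Ideal.span_le.2 fun g hgt => ?_) (Ideal.map_le_iff_le_comap.2 fun r hr => ?_)
    · rw [SetLike.mem_coe, RingHom.mem_ker]
      show κ (e.symm g) = 0
      rw [← hg g hgt, AlgEquiv.symm_apply_apply, Algebra.TensorProduct.lift_tmul, map_one, one_mul]
      show (1 : k) ⊗ₜ[k₀] π _ = 0
      rw [hπ g hgt, TensorProduct.tmul_zero]
    · show κ (e.symm (algebraMap R C r)) = 0
      rw [AlgEquiv.commutes, Algebra.TensorProduct.algebraMap_apply, Algebra.TensorProduct.lift_tmul, map_one, mul_one]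
      show (algebraMap R k r) ⊗ₜ[k₀] (1 : Q) = 0
      rw [hI r hr, TensorProduct.zero_tmul]
  have h1 : (1 : k ⊗[k₀] Q) = 0 := by
    rw [← map_one χ]
    exact hker ((Ideal.eq_top_iff_one _).1 ht)
  exact Module.FaithfullyFlat.tensorProduct_mk_injective (A := k₀) (B := k) Q (by
    rw [TensorProduct.mk_apply, TensorProduct.mk_apply, TensorProduct.tmul_zero, ← Algebra.TensorProduct.one_def, h1])

/-- Covering of the closed fibre descends along a local map. -/
theorem eq_top_of_bc {R₀ R : Type u} [CommRing R₀] [IsLocalRing R₀] [CommRing R] [IsLocalRing R] [Algebra R₀ R]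
    [IsLocalHom (algebraMap R₀ R)] {C₀ C : Type u} [CommRing C₀] [Algebra R₀ C₀] [CommRing C] [Algebra R C] [DecidableEq C₀]
    (e : R ⊗[R₀] C₀ ≃ₐ[R] C) (t : Finset C) (g₀ : C → C₀) (hg : ∀ g ∈ t, e ((1 : R) ⊗ₜ[R₀] g₀ g) = g)
    (ht : Ideal.span (t : Set C) ⊔ (maximalIdeal R).map (algebraMap R C) = ⊤) :
    Ideal.span ↑(t.image g₀) ⊔ (maximalIdeal R₀).map (algebraMap R₀ C₀) = ⊤ := by
  set J : Ideal C₀ := Ideal.span ↑(t.image g₀) ⊔ (maximalIdeal R₀).map (algebraMap R₀ C₀)
  let : Algebra (IsLocalRing.ResidueField R₀) (C₀ ⧸ J) :=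
    (Ideal.Quotient.lift (maximalIdeal R₀) (algebraMap R₀ (C₀ ⧸ J)) fun r hr =>
      (show algebraMap R₀ (C₀ ⧸ J) r = 0 from Ideal.Quotient.eq_zero_iff_mem.2 (Ideal.mem_sup_right (Ideal.mem_map_of_mem _ hr)))).toAlgebra
  have : IsScalarTower R₀ (IsLocalRing.ResidueField R₀) (C₀ ⧸ J) := IsScalarTower.of_algebraMap_eq fun _ => rfl
  let : Algebra (IsLocalRing.ResidueField R₀) (IsLocalRing.ResidueField R) :=
    (IsLocalRing.ResidueField.map (algebraMap R₀ R)).toAlgebra
  have : IsScalarTower R₀ (IsLocalRing.ResidueField R₀) (IsLocalRing.ResidueField R) := IsScalarTower.of_algebraMap_eq fun _ => rfl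
  refine (Ideal.eq_top_iff_one _).2 (Ideal.Quotient.eq_zero_iff_mem.1 (?_ : Ideal.Quotient.mk J 1 = 0))
  rw [map_one]
  exact one_eq_zero_of_bc (k₀ := IsLocalRing.ResidueField R₀) (k := IsLocalRing.ResidueField R) (Ideal.Quotient.mkₐ R₀ J) e t g₀
    (maximalIdeal R) (fun r hr => (IsLocalRing.residue_eq_zero_iff r).2 hr) hg
    (fun g hgt => Ideal.Quotient.eq_zero_iff_mem.2 (Ideal.mem_sup_left (Ideal.subset_span (Finset.mem_image_of_mem _ hgt)))) ht

set_option synthInstance.maxHeartbeats 100000 in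
set_option maxHeartbeats 1000000 in
/-- A Noetherian local model of a finitely presented Hopf algebra over a local ring, flat near the closed fibre. -/
theorem exists_near_model {R : Type u} [CommRing R] [IsLocalRing R] {C : Type u} [CommRing C] [HopfAlgebra R C]
    [Algebra.FinitePresentation R C] (h : FlatNear R C (maximalIdeal R)) :
    ∃ (R₀ : Type u) (_ : CommRing R₀) (_ : IsLocalRing R₀) (_ : IsNoetherianRing R₀) (_ : Algebra R₀ R)
      (_ : IsLocalHom (algebraMap R₀ R)) (C₀ : Type u) (_ : CommRing C₀) (_ : HopfAlgebra R₀ C₀) (_ : Algebra.FiniteType R₀ C₀),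
      FlatNear R₀ C₀ (maximalIdeal R₀) ∧ Nonempty (R ⊗[R₀] C₀ ≃ₐc[R] C) := by
  classical
  obtain ⟨t, ht, hfl⟩ := h
  obtain ⟨S, _, _, _, _, M, _, _, hS, hM, H, hg⟩ := exists_data (R := R) t
  choose! g₀ hg₀ using hg
  obtain ⟨s₀, hs₀⟩ := H.axioms_stage
  let F := AlgEquiv.ofBijective _ H.bij
  have hF : ∀ x, F ((1 : R) ⊗ₜ[S] x) = H.f x := fun x => by simp [F]
  have hflS : ∀ g ∈ t, ∃ s : Finset R, ∀ S' : Subalgebra S R, ↑s ⊆ (S' : Set R) → Algebra.FiniteType S S' →
      Module.Flat S' (S' ⊗[S] Localization.Away (g₀ g)) := fun g hg => by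
    have := hfl g hg
    let e : Localization.Away ((1 : R) ⊗ₜ[S] g₀ g) ≃ₐ[R] Localization.Away g :=
      IsLocalization.algEquivOfAlgEquiv (M := Submonoid.powers ((1 : R) ⊗ₜ[S] g₀ g)) (T := Submonoid.powers g)
        (Localization.Away ((1 : R) ⊗ₜ[S] g₀ g)) (Localization.Away g) F
        (by rw [Submonoid.map_powers]; congr 1; exact (hF _).trans (hg₀ g hg))
    have : Module.Flat R (Localization.Away ((1 : R) ⊗ₜ[S] g₀ g)) := Module.Flat.of_linearEquiv e.toLinearEquiv
    have : Module.Flat R (R ⊗[S] Localization.Away (g₀ g)) :=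
      Module.Flat.of_linearEquiv (IsLocalization.Away.tensorProductEquivTMulRight S R (g₀ g) (Localization.Away (g₀ g))).toLinearEquiv
    have : Algebra.FiniteType M (Localization.Away (g₀ g)) := IsLocalization.finiteType_of_monoid_fg (Submonoid.powers (g₀ g)) _
    have : Algebra.FiniteType S (Localization.Away (g₀ g)) := Algebra.FiniteType.trans (S := M) inferInstance inferInstance
    exact GenFlat.exists_flat_subalgebra S (Localization.Away (g₀ g)) R
  choose! sf hsf using hflS
  let s : Finset R := s₀ ∪ t.biUnion sf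
  let S' : Subalgebra S R := Algebra.adjoin S (s : Set R)
  have : Algebra.FiniteType S S' := Algebra.FiniteType.adjoin_of_finite s.finite_toSet
  have : IsNoetherianRing S' := Algebra.FiniteType.isNoetherianRing S S'
  have hax : Axioms S' H.Δ H.ε H.σ :=
    hs₀ S' ((Finset.coe_subset.2 Finset.subset_union_left).trans Algebra.subset_adjoin)
  have hfl' : ∀ g ∈ t, Module.Flat S' (S' ⊗[S] Localization.Away (g₀ g)) := fun g hg =>
    hsf g hg S' ((Finset.coe_subset.2 ((Finset.subset_biUnion_of_mem sf hg).trans Finset.subset_union_right)).trans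
      Algebra.subset_adjoin) inferInstance
  let p : Ideal S' := (maximalIdeal R).comap (algebraMap S' R)
  let R₀ := Localization.AtPrime p
  let : Algebra R₀ R := (IsLocalization.lift (M := p.primeCompl) (S := R₀) (g := algebraMap S' R) fun y =>
    IsLocalRing.notMem_maximalIdeal.1 y.2).toAlgebra
  have : IsScalarTower S' R₀ R := IsScalarTower.of_algebraMap_eq fun x => (IsLocalization.lift_eq (M := p.primeCompl) _ x).symm
  have : IsNoetherianRing R₀ := IsLocalization.isNoetherianRing p.primeCompl R₀ inferInstance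
  have : IsScalarTower S R₀ R := IsScalarTower.of_algebraMap_eq fun x => by
    rw [IsScalarTower.algebraMap_apply S S' R₀, ← IsScalarTower.algebraMap_apply S' R₀ R, ← IsScalarTower.algebraMap_apply]
  have hloc : IsLocalHom (algebraMap R₀ R) := ⟨fun x hx => by
    obtain ⟨a, b, rfl⟩ := IsLocalization.exists_mk'_eq p.primeCompl x
    rw [IsLocalization.AtPrime.isUnit_mk'_iff (S := R₀) p]
    intro ha
    have h1 : algebraMap S' R a = algebraMap R₀ R (IsLocalization.mk' R₀ a b) * algebraMap S' R b := by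
      rw [IsScalarTower.algebraMap_apply S' R₀ R b, ← map_mul, IsLocalization.mk'_spec, ← IsScalarTower.algebraMap_apply]
    exact (IsLocalRing.mem_maximalIdeal _).1 ha (h1 ▸ hx.mul (IsLocalRing.notMem_maximalIdeal.1 b.2))⟩
  let hopf : HopfAlgebra R₀ (R₀ ⊗[S] M) := hopfBC (hax.map (IsScalarTower.toAlgHom S S' R₀))
  refine ⟨R₀, inferInstance, inferInstance, inferInstance, inferInstance, hloc, R₀ ⊗[S] M, inferInstance, hopf, inferInstance, ?_,
    H.nonempty_equiv (hax.map (IsScalarTower.toAlgHom S S' R₀))⟩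
  refine ⟨t.image fun g => (1 : R₀) ⊗ₜ[S] g₀ g, ?_, fun g' hg' => ?_⟩
  · refine eq_top_of_bc ((Algebra.TensorProduct.cancelBaseChange S R₀ R R M).trans F) t
      (fun g => (1 : R₀) ⊗ₜ[S] g₀ g) (fun g hg => ?_) ht
    simpa [F] using hg₀ g hg
  · obtain ⟨g, hg, rfl⟩ := Finset.mem_image.1 hg'
    have := hfl' g hg
    exact Module.Flat.of_linearEquiv (M := R₀ ⊗[S'] (S' ⊗[S] Localization.Away (g₀ g)))
      ((IsLocalization.Away.tensorProductEquivTMulRight S R₀ (g₀ g) (Localization.Away (g₀ g))).symm.trans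
        (Algebra.TensorProduct.cancelBaseChange S S' R₀ R₀ (Localization.Away (g₀ g))).symm).toLinearEquiv

end Groth.Agent.MultHopf
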