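import Groth.Agent.MultHopf.CentralFib
import Groth.Agent.GrpSch.FixedEtale
import Mathlib.Topology.Connected.Basic

/-!
# Normal subgroups of multiplicative type of groups with connected fibres are central on the fibres
-/

set_option autoImplicit false
set_option backward.isDefEq.respectTransparency.types false

universe u

open CategoryTheory CategoryTheory.Limits MonoidalCategory CartesianMonoidalCategory MonObj AlgebraicGeometry
open scoped TensorProduct
open WithConv

namespace Groth.Agent.MultHopf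

variable {S : Scheme.{u}} {L : Type u} [Field L] (j : Spec (CommRingCat.of L) ⟶ S)
  {H K : Over S} [GrpObj H] [GrpObj K] (i : H ⟶ K) [IsMonHom i] {M : Type u} [CommGroup M]
  (eA : Grp.mk (Red.bc j H) ≅ Grp.mk (hspec L (MonoidAlgebra L M)))

include eA in
/-- Over a field, a normal diagonalisable subgroup of a connected group is central. -/
theorem conjugate_eq_of_connected [Mono i]
    (hn : ∀ (T : Over S) (g : T ⟶ K) (n : T ⟶ H), ∃ n' : T ⟶ H, g * (n ≫ i) * g⁻¹ = n' ≫ i)
    [ConnectedSpace (Red.bc j K).left] {D : Type u} [CommRing D] [Algebra L D]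
    (g : ptS j D ⟶ K) (h : ptS j D ⟶ H) : g * (h ≫ i) = (h ≫ i) * g := by
  classical
  have hchi : ∀ {E : Type u} [CommRing E] [Algebra L E] (y : ptS j E ⟶ H), ∃ χ : M →* E, chiPt j eA χ = y := by
    intro E _ _ y
    refine ⟨(MonoidAlgebra.lift L E M).symm (ptEquiv j eA E y).ofConv, ?_⟩
    rw [chiPt, Equiv.apply_symm_apply]
    exact (ptEquiv j eA E).symm_apply_apply y
  have hinjχ : ∀ {E : Type u} [CommRing E] [Algebra L E] (χ χ' : M →* E),
      chiPt j eA χ ≫ i = chiPt j eA χ' ≫ i → χ = χ' := fun χ χ' he => by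
    have h1 := (ptEquiv j eA _).symm.injective ((cancel_mono i).1 he)
    exact (MonoidAlgebra.lift L _ M).injective (WithConv.toConv_injective h1)
  -- the conjugate of the universal point
  let incl : ∀ (E : Type u) [CommRing E] [Algebra L E], E →ₐ[L] MonoidAlgebra E M :=
    fun E _ _ => IsScalarTower.toAlgHom L E _
  have hex : ∀ {E : Type u} [CommRing E] [Algebra L E] (x : ptS j E ⟶ K), ∃ z : M →* MonoidAlgebra E M,
      (pSMap j (incl E) ≫ x) * (chiPt j eA (MonoidAlgebra.of E M) ≫ i) * (pSMap j (incl E) ≫ x)⁻¹ =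
        chiPt j eA z ≫ i := by
    intro E _ _ x
    obtain ⟨n', hn'⟩ := hn _ (pSMap j (incl E) ≫ x) (chiPt j eA (MonoidAlgebra.of E M))
    obtain ⟨z, rfl⟩ := hchi n'
    exact ⟨z, hn'⟩
  choose z hzspec using @hex
  -- its naturality
  have hnat : ∀ {E E' : Type u} [CommRing E] [Algebra L E] [CommRing E'] [Algebra L E'] (x : ptS j E ⟶ K)
      (ξ : E →ₐ[L] E') (χ : M →* E'),
      (pSMap j ξ ≫ x) * (chiPt j eA χ ≫ i) * (pSMap j ξ ≫ x)⁻¹ =
        chiPt j eA (((MonoidAlgebra.liftNCAlgHom ξ χ (fun _ _ => Commute.all _ _) : MonoidAlgebra E M →ₐ[L] E') :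
          MonoidAlgebra E M →* E').comp (z x)) ≫ i := by
    intro E E' _ _ _ _ x ξ χ
    let f : MonoidAlgebra E M →ₐ[L] E' := MonoidAlgebra.liftNCAlgHom ξ χ (fun _ _ => Commute.all _ _)
    have h1 := congrArg (fun w => pSMap j f ≫ w) (hzspec x)
    simp only [MonObj.comp_mul, GrpObj.comp_inv, ← Category.assoc, ← pSMap_comp, chiPt_pSMap] at h1
    have e1 : f.comp (incl E) = ξ := AlgHom.ext fun b => by
      show MonoidAlgebra.liftNC (ξ : E →+ _) χ (algebraMap E (MonoidAlgebra E M) b) = _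
      rw [MonoidAlgebra.coe_algebraMap]
      simp [MonoidAlgebra.liftNC_single]
    have e2 : (f : MonoidAlgebra E M →* E').comp (MonoidAlgebra.of E M) = χ := MonoidHom.ext fun m => by
      show MonoidAlgebra.liftNC (ξ : E →+ _) χ (MonoidAlgebra.single m 1) = _
      simp [MonoidAlgebra.liftNC_single]
    rw [e1, e2] at h1
    exact h1
  have hz : ∀ {E E' : Type u} [CommRing E] [Algebra L E] [CommRing E'] [Algebra L E'] (x : ptS j E ⟶ K)
      (ξ : E →ₐ[L] E') (m n : M), (z (pSMap j ξ ≫ x) m).coeff n = ξ ((z x m).coeff n) := by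
    intro E E' _ _ _ _ x ξ m n
    have h2 := (hzspec (pSMap j ξ ≫ x))
    rw [← Category.assoc, ← pSMap_comp] at h2
    have h1 := DFunLike.congr_fun (hinjχ _ _ ((hnat x ((incl E').comp ξ) (MonoidAlgebra.of E' M)).symm.trans h2)) m
    rw [show z (pSMap j ξ ≫ x) m = _ from h1.symm]
    show (MonoidAlgebra.liftNC (((incl E').comp ξ : E →ₐ[L] _) : E →+ _) (MonoidAlgebra.of E' M) (z x m)).coeff n = _
    induction z x m using MonoidAlgebra.induction_linear with
    | zero => simp
    | add a b ha hb => simp only [map_add, MonoidAlgebra.coeff_add, Finsupp.add_apply, ha, hb]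
    | single k r =>
      rw [MonoidAlgebra.liftNC_single]
      simp only [incl, AlgHom.comp_apply, IsScalarTower.coe_toAlgHom', MonoidAlgebra.of_apply, AddMonoidHom.coe_coe,
        MonoidAlgebra.coe_algebraMap, Function.comp_apply, Algebra.algebraMap_self, RingHom.id_apply,
        MonoidAlgebra.single_mul_single, _root_.one_mul, _root_.mul_one, MonoidAlgebra.coeff_single,
        Finsupp.single_apply]
      split_ifs <;> simp
  have hev : ∀ {E E' : Type u} [CommRing E] [Algebra L E] [CommRing E'] [Algebra L E'] (χ : M →* E') (ξ : E →ₐ[L] E')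
      (w : MonoidAlgebra E M), MonoidAlgebra.liftNCAlgHom ξ χ (fun _ _ => Commute.all _ _) w =
        w.coeff.sum fun m c => ξ c * χ m := fun χ ξ w => by
    show MonoidAlgebra.liftNC _ χ w = _
    conv_lhs => rw [← MonoidAlgebra.sum_coeff_single w]
    simp [Finsupp.sum, map_sum, MonoidAlgebra.liftNC_single]
  have hidem : ∀ {E : Type u} [CommRing E] [Algebra L E] (x : ptS j E ⟶ K) (m : M),
      (z x m).coeff m * (z x m).coeff m = (z x m).coeff m ∧
        ((z x m).coeff m = 1 → z x m = MonoidAlgebra.single m 1) := by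
    intro E _ _ x m
    let E' := MonoidAlgebra E (M × M)
    let ξ : E →ₐ[L] E' := IsScalarTower.toAlgHom L E E'
    let χ₁ : M →* E' := (MonoidAlgebra.of E (M × M)).comp (MonoidHom.inl M M)
    let χ₂ : M →* E' := (MonoidAlgebra.of E (M × M)).comp (MonoidHom.inr M M)
    have h1 : ∀ χ, _ = _ := fun χ => hnat x ξ χ
    have h2 := h1 (χ₁ * χ₂)
    have h3 : (pSMap j ξ ≫ x) * ((chiPt j eA χ₁ * chiPt j eA χ₂) ≫ i) * (pSMap j ξ ≫ x)⁻¹ =
        ((pSMap j ξ ≫ x) * (chiPt j eA χ₁ ≫ i) * (pSMap j ξ ≫ x)⁻¹) *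
          ((pSMap j ξ ≫ x) * (chiPt j eA χ₂ ≫ i) * (pSMap j ξ ≫ x)⁻¹) := by
      rw [MonObj.mul_comp]
      group
    rw [chiPt_mul, h3, h1 χ₁, h1 χ₂, ← MonObj.mul_comp, ← chiPt_mul] at h2
    have h4 := DFunLike.congr_fun (hinjχ _ _ h2) m
    simp only [MonoidHom.mul_apply, MonoidHom.comp_apply, RingHom.toMonoidHom_eq_coe, MonoidHom.coe_coe] at h4
    rw [hev, hev, hev] at h4
    have h5 := fun p : M × M => congrArg (fun w : E' => w.coeff p) h4
    have halg : ∀ c : E, ξ c = MonoidAlgebra.single 1 c := fun c => by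
      simp [ξ, E', MonoidAlgebra.coe_algebraMap]
    have hcoef : ∀ a b : M, (z x m).coeff a * (z x m).coeff b = if a = b then (z x m).coeff a else 0 := by
      intro a b
      have h6 := h5 (a, b)
      dsimp only [E'] at h6
      simp only [χ₁, χ₂, halg, Finsupp.sum, MonoidAlgebra.coeff_sum, Finsupp.finsetSum_apply,
        MonoidHom.mul_apply, MonoidHom.comp_apply, MonoidHom.inl_apply, MonoidHom.inr_apply, MonoidAlgebra.of_apply,
        Finset.sum_mul, Finset.mul_sum, MonoidAlgebra.single_mul_single, _root_.one_mul, _root_.mul_one,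
        Prod.mk_mul_mk, MonoidAlgebra.coeff_single, Finsupp.single_apply, Prod.mk.injEq] at h6
      simp only [ite_and, Finset.sum_ite_irrel, Finset.sum_const_zero, Finset.sum_ite_eq', Finsupp.mem_support_iff,
        ne_eq, ite_not] at h6
      by_cases ha : (z x m).coeff a = 0 <;> by_cases hb : (z x m).coeff b = 0 <;>
        by_cases hab : a = b <;> subst_vars <;> simp_all
    refine ⟨by simpa using hcoef m m, fun hm => MonoidAlgebra.coeff_injective (Finsupp.ext fun k => ?_)⟩
    rw [MonoidAlgebra.coeff_single, Finsupp.single_apply]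
    by_cases hk : m = k
    · subst hk; rw [if_pos rfl, hm]
    · have h7 := hcoef m k
      rw [hm, _root_.one_mul, if_neg hk] at h7
      rw [if_neg hk, h7]
  let a : ∀ {E : Type u} [CommRing E] [Algebra L E], (ptS j E ⟶ K) → M → E := fun x m => (z x m).coeff m
  -- affine pieces of the group
  let X : Scheme.{u} := (Red.bc j K).left
  let adj := fun (E : Type u) [CommRing E] [Algebra L E] => adjMulEquiv j (pt (R := L) E) K
  suffices key : ∀ {E : Type u} [Field E] [Algebra L E] (x : ptS j E ⟶ K) (m : M), a x m = 1 by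
    have hone : ∀ m, a g m = 1 := fun m => by
      have hu : IsUnit (a g m) := by
        by_contra hu
        obtain ⟨P, hP, hmem⟩ := exists_max_ideal_of_mem_nonunits (mem_nonunits_iff.2 hu)
        have h1 := key (pSMap j (IsScalarTower.toAlgHom L D P.ResidueField) ≫ g) m
        simp only [a] at h1
        rw [hz] at h1
        have h0 : algebraMap D P.ResidueField ((z g m).coeff m) = 0 := Ideal.algebraMap_residueField_eq_zero.2 hmem
        exact zero_ne_one (h0.symm.trans h1)
      exact hu.mul_left_cancel (((hidem g m).1).trans (_root_.mul_one _).symm)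
    have hzg : z g = MonoidAlgebra.of D M := MonoidHom.ext fun m => (hidem g m).2 (hone m)
    obtain ⟨χ, rfl⟩ := hchi h
    have h1 := hnat g (AlgHom.id L D) χ
    have e : ((MonoidAlgebra.liftNCAlgHom (AlgHom.id L D) χ (fun _ _ => Commute.all _ _) : MonoidAlgebra D M →ₐ[L] D) :
        MonoidAlgebra D M →* D).comp (z g) = χ := by
      rw [hzg]
      ext m
      show MonoidAlgebra.liftNC _ χ (MonoidAlgebra.single m 1) = _
      simp [MonoidAlgebra.liftNC_single]
    rw [e, show pSMap j (AlgHom.id L D) = 𝟙 _ by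
      apply Over.OverMorphism.ext
      show Spec.map _ = _
      exact Spec.map_id _, Category.id_comp, mul_inv_eq_iff_eq_mul] at h1
    exact h1
  intro E _ _ x m
  let pV : ∀ V : X.affineOpens, Spec Γ(X, V.1) ⟶ Spec (CommRingCat.of L) := fun V => V.2.fromSpec ≫ (Red.bc j K).hom
  let algV : ∀ V : X.affineOpens, Algebra L Γ(X, V.1) := fun V => (Spec.preimage (pV V)).hom.toAlgebra
  have hpV : ∀ V : X.affineOpens,
      Spec.map (CommRingCat.ofHom (@algebraMap L Γ(X, V.1) _ _ (algV V))) = pV V := fun V => Spec.map_preimage _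
  let incV : ∀ V : X.affineOpens, @pt L _ Γ(X, V.1) _ (algV V) ⟶ Red.bc j K := fun V =>
    Over.homMk V.2.fromSpec (hpV V).symm
  let gV : ∀ V : X.affineOpens, @ptS S L _ j Γ(X, V.1) _ (algV V) ⟶ K := fun V =>
    letI := algV V
    (adj Γ(X, V.1)).symm (incV V)
  let bV : ∀ V : X.affineOpens, Γ(X, V.1) := fun V =>
    letI := algV V
    a (gV V) m
  have hres : ∀ (V : X.affineOpens) {E' : Type u} [CommRing E'] [Algebra L E'] (y : ptS j E' ⟶ K),
      (∀ q, ((adj E' y).left : Spec (CommRingCat.of E') ⟶ _) q ∈ V.1) →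
        ∃ f : Γ(X, V.1) →+* E', Spec.map (CommRingCat.ofHom f) ≫ V.2.fromSpec = (adj E' y).left ∧ f (bV V) = a y m := by
    intro V E' _ _ y hy
    letI := algV V
    have hr : Set.range ((adj E' y).left : Spec (CommRingCat.of E') ⟶ _) ⊆ Set.range V.2.fromSpec := by
      rw [V.2.range_fromSpec]; rintro _ ⟨q, rfl⟩; exact hy q
    let l := IsOpenImmersion.lift V.2.fromSpec _ hr
    have hl : l ≫ V.2.fromSpec = (adj E' y).left := IsOpenImmersion.lift_fac _ _ _
    have he : CommRingCat.ofHom (algebraMap L Γ(X, V.1)) ≫ Spec.preimage l = CommRingCat.ofHom (algebraMap L E') := by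
      apply Spec.map_injective
      rw [Spec.map_comp, Spec.map_preimage, hpV]
      show l ≫ V.2.fromSpec ≫ _ = _
      erw [← Category.assoc, hl]
      exact Over.w (adj E' y)
    let ξ : Γ(X, V.1) →ₐ[L] E' := { (Spec.preimage l).hom with commutes' := fun r => CategoryTheory.congr_fun he r }
    have hξ : pSMap j ξ ≫ gV V = y := by
      apply (adj E').injective
      show (Over.mapPullbackAdj j).homEquiv _ K ((Over.map j).map (ptMap ξ) ≫ gV V) = _
      rw [Adjunction.homEquiv_naturality_left]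
      show ptMap ξ ≫ adj Γ(X, V.1) ((adj Γ(X, V.1)).symm (incV V)) = _
      rw [MulEquiv.apply_symm_apply]
      apply Over.OverMorphism.ext
      show Spec.map (Spec.preimage l) ≫ V.2.fromSpec = _
      exact (congrArg (· ≫ V.2.fromSpec) (Spec.map_preimage l)).trans hl
    refine ⟨ξ.toRingHom, ?_, ?_⟩
    · show Spec.map (Spec.preimage l) ≫ V.2.fromSpec = _
      exact (congrArg (· ≫ V.2.fromSpec) (Spec.map_preimage l)).trans hl
    · simp only [a, bV]
      rw [← hξ, hz]
      rfl
  have hmem : ∀ (V : X.affineOpens) (b : Γ(X, V.1)) {E' : Type u} [Field E'] (f : Γ(X, V.1) →+* E')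
      (q : Spec (CommRingCat.of E')), (Spec.map (CommRingCat.ofHom f) ≫ V.2.fromSpec) q ∈ X.basicOpen b → f b ≠ 0 := by
    intro V b E' _ f q hq h0
    rw [Scheme.Hom.comp_apply] at hq
    have h1 : (Spec.map (CommRingCat.ofHom f)) q ∈ V.2.fromSpec ⁻¹ᵁ X.basicOpen b := hq
    rw [V.2.fromSpec_preimage_basicOpen] at h1
    exact h1 (by
      show f b ∈ q.asIdeal
      rw [h0]
      exact zero_mem _)
  have hbV : ∀ V : X.affineOpens, bV V * (1 - bV V) = 0 := fun V => by
    letI := algV V
    rw [mul_sub, _root_.mul_one, sub_eq_zero]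
    exact ((hidem (gV V) m).1).symm
  have hpt : ∀ y : X, ∃ (F : Type u) (_ : Field F) (_ : Algebra L F) (p : ptS j F ⟶ K),
      ∀ q, ((adj F p).left : Spec (CommRingCat.of F) ⟶ _) q = y := fun y => by
    let t : Spec (X.residueField y) ⟶ Spec (CommRingCat.of L) := X.fromSpecResidueField y ≫ (Red.bc j K).hom
    letI : Algebra L (X.residueField y) := (Spec.preimage t).hom.toAlgebra
    let w : pt (R := L) (X.residueField y) ⟶ Red.bc j K :=
      Over.homMk (X.fromSpecResidueField y) (Spec.map_preimage t).symm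
    refine ⟨X.residueField y, inferInstance, inferInstance, (adj _).symm w, fun q => ?_⟩
    rw [MulEquiv.apply_symm_apply]
    exact Scheme.fromSpecResidueField_apply y q
  let E₁ : X.Opens := ⨆ V : X.affineOpens, X.basicOpen (bV V)
  let E₀ : X.Opens := ⨆ V : X.affineOpens, X.basicOpen (1 - bV V)
  have hdisj : Disjoint (E₁ : Set X) E₀ := by
    rw [Set.disjoint_left]
    intro y hy1 hy0
    obtain ⟨V, hV⟩ := TopologicalSpace.Opens.mem_iSup.1 hy1
    obtain ⟨W, hW⟩ := TopologicalSpace.Opens.mem_iSup.1 hy0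
    obtain ⟨F, _, _, p, hp⟩ := hpt y
    obtain ⟨f, hf, hfa⟩ := hres V p fun q => (hp q).symm ▸ X.basicOpen_le _ hV
    obtain ⟨f', hf', hfa'⟩ := hres W p fun q => (hp q).symm ▸ X.basicOpen_le _ hW
    let q : Spec (CommRingCat.of F) := IsLocalRing.closedPoint F
    have h1 := hmem V (bV V) f q ((hf.symm ▸ (hp q).symm ▸ hV))
    have h0 := hmem W (1 - bV W) f' q ((hf'.symm ▸ (hp q).symm ▸ hW))
    rw [map_sub, map_one, hfa', ← hfa] at h0
    exact (mul_ne_zero h1 h0) (by rw [mul_sub, _root_.mul_one, ← map_mul, sub_eq_zero]; rw [(show bV V * bV V = bV V by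
      have := hbV V; rw [mul_sub, _root_.mul_one, sub_eq_zero] at this; exact this.symm)])
  have hcov : (E₁ : Set X) ∪ E₀ = Set.univ := Set.eq_univ_of_forall fun y => by
    obtain ⟨V, hV, hyV, -⟩ := exists_isAffineOpen_mem_and_subset (x := y) (U := (⊤ : X.Opens)) trivial
    obtain ⟨v, rfl⟩ : y ∈ Set.range hV.fromSpec := by rwa [hV.range_fromSpec]
    by_cases hb : bV ⟨V, hV⟩ ∈ v.asIdeal
    · refine Or.inr (TopologicalSpace.Opens.mem_iSup.2 ⟨⟨V, hV⟩, ?_⟩)
      show v ∈ hV.fromSpec ⁻¹ᵁ X.basicOpen (1 - bV ⟨V, hV⟩)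
      rw [hV.fromSpec_preimage_basicOpen]
      intro h1
      exact v.isPrime.ne_top ((Ideal.eq_top_iff_one _).2 (by simpa using add_mem h1 hb))
    · refine Or.inl (TopologicalSpace.Opens.mem_iSup.2 ⟨⟨V, hV⟩, ?_⟩)
      show v ∈ hV.fromSpec ⁻¹ᵁ X.basicOpen (bV ⟨V, hV⟩)
      rw [hV.fromSpec_preimage_basicOpen]
      exact hb
  -- the unit section
  have hunit : a (1 : ptS j L ⟶ K) m = 1 := by
    have h1 : z (1 : ptS j L ⟶ K) = MonoidAlgebra.of L M := by
      have h2 := (hzspec (1 : ptS j L ⟶ K))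
      rw [MonObj.comp_one, _root_.one_mul, inv_one, _root_.mul_one] at h2
      exact (hinjχ _ _ h2).symm
    simp only [a, h1]
    simp
  have hne : (E₁ : Set X).Nonempty := by
    let q : Spec (CommRingCat.of L) := IsLocalRing.closedPoint L
    have : Subsingleton (Spec (CommRingCat.of L)) := inferInstanceAs (Subsingleton (PrimeSpectrum L))
    let y := ((adj L (1 : ptS j L ⟶ K)).left : Spec (CommRingCat.of L) ⟶ _) q
    have hy : y ∈ (E₁ : Set X) ∪ E₀ := hcov.symm ▸ Set.mem_univ y
    refine ⟨y, hy.resolve_right fun h0 => ?_⟩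
    obtain ⟨W, hW⟩ := TopologicalSpace.Opens.mem_iSup.1 h0
    obtain ⟨f, hf, hfa⟩ := hres W (1 : ptS j L ⟶ K) fun q' => by
      exact (Subsingleton.elim q q' : q = q') ▸ X.basicOpen_le _ hW
    have h1 := hmem W (1 - bV W) f q (by rw [hf]; exact hW)
    rw [map_sub, map_one, hfa, hunit, sub_self] at h1
    exact h1 rfl
  have huniv : (E₁ : Set X) = Set.univ := by
    have hclopen : IsClopen (E₁ : Set X) := by
      refine ⟨⟨?_⟩, E₁.isOpen⟩
      rw [show (E₁ : Set X)ᶜ = (E₀ : Set X) from ?_]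
      · exact E₀.isOpen
      refine Set.ext fun y => ⟨fun hy => (hcov.symm ▸ Set.mem_univ y : y ∈ (E₁ : Set X) ∪ E₀).resolve_left hy,
        fun hy h' => Set.disjoint_left.1 hdisj h' hy⟩
    exact (isClopen_iff.1 hclopen).resolve_left hne.ne_empty
  let q : Spec (CommRingCat.of E) := IsLocalRing.closedPoint E
  have : Subsingleton (Spec (CommRingCat.of E)) := inferInstanceAs (Subsingleton (PrimeSpectrum E))
  obtain ⟨V, hV⟩ := TopologicalSpace.Opens.mem_iSup.1
    (huniv ▸ Set.mem_univ (((adj E x).left : Spec (CommRingCat.of E) ⟶ _) q) : _ ∈ (E₁ : Set X))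
  obtain ⟨f, hf, hfa⟩ := hres V x fun q' => by exact (Subsingleton.elim q q' : q = q') ▸ X.basicOpen_le _ hV
  have h1 := hmem V (bV V) f q (by rw [hf]; exact hV)
  rw [← hfa]
  refine mul_left_cancel₀ h1 ?_
  rw [← map_mul, _root_.mul_one]
  congr 1
  have := hbV V
  rw [mul_sub, _root_.mul_one, sub_eq_zero] at this
  exact this.symm

end Groth.Agent.MultHopf
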