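import Groth.Agent.MultHopf.PointDef
import Groth.Agent.MultHopf.Conj
import Groth.Agent.MultHopf.Locally
import Groth.Agent.SmoothLift.Main

/-!
# Infinitesimal conjugacy of homomorphisms from groups of multiplicative type into arbitrary group schemes
-/

set_option autoImplicit false
set_option backward.isDefEq.respectTransparency.types false

universe u

open CategoryTheory CategoryTheory.Limits MonoidalCategory CartesianMonoidalCategory MonObj AlgebraicGeometry
open scoped TensorProduct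
open WithConv

namespace Groth.Agent.MultHopf

open Groth.Agent.FinHopf (postComp)

variable {R : Type u} [CommRing R]

/-- Lifting points of a smooth scheme over a square zero extension. -/
theorem exists_lift_pt_sq {G : Over (Spec (CommRingCat.of R))} (hG : Smooth G.hom) {A B : Type u} [CommRing A]
    [Algebra R A] [CommRing B] [Algebra R B] (q : A →ₐ[R] B) (hq : Function.Surjective q)
    (h2 : RingHom.ker q ^ 2 = ⊥) (z : pt (R := R) B ⟶ G) : ∃ l : pt (R := R) A ⟶ G, ptMap q ≫ l = z := by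
  let ε : (A ⧸ RingHom.ker q) ≃ₐ[R] B := Ideal.quotientKerAlgEquivOfSurjective hq
  let a : Spec (CommRingCat.of (A ⧸ RingHom.ker q)) ⟶ G.left :=
    Spec.map (CommRingCat.ofHom ε.symm.toAlgHom.toRingHom) ≫ z.left
  obtain ⟨l, hl, hlG⟩ := SmoothLift.isFormallySmoothHom_of_smooth G.hom A (RingHom.ker q) h2 a
    (Spec.map (CommRingCat.ofHom (algebraMap R A))) (by
      show _ = (Spec.map (CommRingCat.ofHom ε.symm.toAlgHom.toRingHom) ≫ z.left) ≫ G.hom
      refine Eq.trans ?_ (Category.assoc _ _ _).symm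
      refine Eq.trans ?_ (congrArg (_ ≫ ·) (Over.w z).symm)
      show _ = Spec.map (CommRingCat.ofHom ε.symm.toAlgHom.toRingHom) ≫ Spec.map (CommRingCat.ofHom (algebraMap R B))
      rw [← Spec.map_comp, ← Spec.map_comp, ← CommRingCat.ofHom_comp, ← CommRingCat.ofHom_comp]
      exact congrArg (fun k => Spec.map (CommRingCat.ofHom k)) ε.symm.toAlgHom.comp_algebraMap.symm)
  refine ⟨Over.homMk l hlG, Over.OverMorphism.ext ?_⟩
  show Spec.map (CommRingCat.ofHom q.toRingHom) ≫ l = z.left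
  have e : q.toRingHom = ε.toAlgHom.toRingHom.comp (Ideal.Quotient.mk (RingHom.ker q)) :=
    RingHom.ext fun x => rfl
  rw [e, CommRingCat.ofHom_comp, Spec.map_comp, Category.assoc, hl]
  simp only [a]
  rw [← Category.assoc, ← Spec.map_comp, ← CommRingCat.ofHom_comp,
    show ε.toAlgHom.toRingHom.comp ε.symm.toAlgHom.toRingHom = RingHom.id B from RingHom.ext ε.apply_symm_apply]
  exact (congrArg (· ≫ z.left) (Spec.map_id _)).trans (Category.id_comp _)

/-- Lifting points of a smooth scheme over a nilpotent extension. -/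
theorem exists_lift_pt {G : Over (Spec (CommRingCat.of R))} (hG : Smooth G.hom) {A B : Type u} [CommRing A]
    [Algebra R A] [CommRing B] [Algebra R B] (q : A →ₐ[R] B) (hq : Function.Surjective q)
    (hn : IsNilpotent (RingHom.ker q)) (z : pt (R := R) B ⟶ G) : ∃ l : pt (R := R) A ⟶ G, ptMap q ≫ l = z := by
  obtain ⟨N, hN⟩ := hn
  suffices h : ∀ (n : ℕ) (A : Type u) [CommRing A] [Algebra R A] (q : A →ₐ[R] B), Function.Surjective q →
      RingHom.ker q ^ (2 ^ n) = ⊥ → ∃ l : pt (R := R) A ⟶ G, ptMap q ≫ l = z from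
    h N A q hq (le_bot_iff.1 ((Ideal.pow_le_pow_right Nat.lt_two_pow_self.le).trans hN.le))
  intro n
  induction n with
  | zero =>
    intro A _ _ q hq h
    rw [pow_zero, pow_one] at h
    let ε := AlgEquiv.ofBijective q ⟨(RingHom.injective_iff_ker_eq_bot q).2 h, hq⟩
    refine ⟨ptMap ε.symm.toAlgHom ≫ z, ?_⟩
    rw [← Category.assoc, ← ptMap_comp, show q.comp ε.symm.toAlgHom = AlgHom.id R B from AlgHom.ext ε.apply_symm_apply,
      ptMap_id, Category.id_comp]
  | succ n ih =>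
    intro A _ _ q hq h
    let K := RingHom.ker q ^ (2 ^ n)
    have hK : K ≤ RingHom.ker q := Ideal.pow_le_self (pow_ne_zero _ two_ne_zero)
    let q' : A ⧸ K →ₐ[R] B := Ideal.Quotient.liftₐ K q fun x hx => hK hx
    have hmap : RingHom.ker q' = (RingHom.ker q).map (Ideal.Quotient.mk K) := Ideal.ker_quotient_lift _ _
    obtain ⟨l', hl'⟩ := ih (A ⧸ K) q' (fun b => by obtain ⟨x, rfl⟩ := hq b; exact ⟨Ideal.Quotient.mk K x, rfl⟩) (by
      rw [hmap, ← Ideal.map_pow]
      exact (Ideal.map_mk_eq_bot_of_le le_rfl))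
    obtain ⟨l, hl⟩ := exists_lift_pt_sq hG (Ideal.Quotient.mkₐ R K) Ideal.Quotient.mk_surjective (by
      rw [show RingHom.ker (Ideal.Quotient.mkₐ R K) = K from Ideal.mk_ker, ← pow_mul, ← pow_succ]
      exact h) l'
    refine ⟨l, ?_⟩
    rw [show q = q'.comp (Ideal.Quotient.mkₐ R K) from rfl, ptMap_comp, Category.assoc, hl, hl']

variable {A : Type u} [CommRing A] [HopfAlgebra R A] {G : Over (Spec (CommRingCat.of R))} [GrpObj G]

/-- The homomorphism condition on the universal point. -/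
def IsHomPt (u : pt (R := R) A ⟶ G) : Prop :=
  ptMap (Bialgebra.comulAlgHom R A) ≫ u = (ptMap (i₁ (R := R) (A := A)) ≫ u) * (ptMap (i₂ (R := R) (A := A)) ≫ u)

theorem comul_eq_convMul :
    toConv (Bialgebra.comulAlgHom R A) =
      (toConv (i₁ (R := R) (A := A)) * toConv (i₂ (R := R) (A := A)) : WithConv (A →ₐ[R] A ⊗[R] A)) := by
  refine (congrArg toConv (AlgHom.ext fun a => ?_)).trans (toConv_ofConv _)
  rw [AlgHom.convMul_apply, Bialgebra.comulAlgHom_apply]
  simp only [ofConv_toConv]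
  induction Coalgebra.comul (R := R) a using TensorProduct.induction_on with
  | zero => simp
  | add x y hx hy => simp only [map_add, ← hx, ← hy]
  | tmul x y => simp [i₁, i₂]

theorem isHomPt_of_isMonHom (u : hspec R A ⟶ G) [IsMonHom u] : IsHomPt (R := R) (A := A) u := by
  have hid : ∀ (T : Type u) [CommRing T] [Algebra R T] (f : A →ₐ[R] T),
      ptMap f = Spec.mapMulEquiv (toConv f) := fun T _ _ f => rfl
  show _ = _
  rw [hid, comul_eq_convMul, map_mul, MonObj.mul_comp, ← hid, ← hid]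

theorem ptMap_mk_bar {J : Ideal R} {T T' : Type u} [CommRing T] [Algebra R T] [CommRing T'] [Algebra R T']
    (f : T →ₐ[R] T') :
    (bar J f).comp (Ideal.Quotient.mkₐ R (J.map (algebraMap R T))) =
      (Ideal.Quotient.mkₐ R (J.map (algebraMap R T'))).comp f := rfl

/-- One step of infinitesimal conjugacy. -/
theorem exists_conj_step_pt {l : A →ₗ[R] R} (hl : IsIntegral l) {J K : Ideal R} (hJK : J ≤ K) (hKJ : K * K ≤ J)
    (u v : pt (R := R) A ⟶ G) (hu : IsHomPt u) (hv : IsHomPt v)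
    (h : ptMap (Ideal.Quotient.mkₐ R (K.map (algebraMap R A))) ≫ u =
      ptMap (Ideal.Quotient.mkₐ R (K.map (algebraMap R A))) ≫ v) :
    ∃ g : pt (R := R) (Bar J R) ⟶ G, ptMap (red hJK R) ≫ g = 1 ∧
      ptMap (Ideal.Quotient.mkₐ R (J.map (algebraMap R A))) ≫ v =
        (ptMap (bar J (Algebra.ofId R A)) ≫ g) * (ptMap (Ideal.Quotient.mkₐ R (J.map (algebraMap R A))) ≫ u) *
          (ptMap (bar J (Algebra.ofId R A)) ≫ g)⁻¹ := by
  let mkA := Ideal.Quotient.mkₐ R (J.map (algebraMap R A))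
  have hcompat : ∀ w : pt (R := R) A ⟶ G, IsHomPt w →
      ptMap (bar J (Bialgebra.comulAlgHom R A)) ≫ ptMap mkA ≫ w =
        (ptMap (bar J (i₁ (R := R) (A := A))) ≫ ptMap mkA ≫ w) * (ptMap (bar J (i₂ (R := R) (A := A))) ≫ ptMap mkA ≫ w) := by
    intro w hw
    simp only [← Category.assoc, ← ptMap_comp, mkA, ptMap_mk_bar]
    simp only [ptMap_comp, Category.assoc]
    rw [show ptMap (Bialgebra.comulAlgHom R A) ≫ w = _ from hw, MonObj.comp_mul]
  have he : ∀ f : A →ₐ[R] A ⊗[R] A, (bar J f).comp (bar J (Algebra.ofId R A)) = bar J (Algebra.ofId R (A ⊗[R] A)) :=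
    fun f => AlgHom.ext fun x => by
      obtain ⟨r, rfl⟩ := Ideal.Quotient.mk_surjective x
      simp only [AlgHom.comp_apply, bar_mk, Algebra.ofId_apply, AlgHom.commutes]
  obtain ⟨g, hg1, hg2⟩ := exists_conj_core (bar J (Algebra.ofId R A)) (bar J (i₁ (R := R) (A := A))) (bar J (i₂ (R := R) (A := A)))
    (bar J (Bialgebra.comulAlgHom R A)) ((he _).trans (he _).symm) ((he _).trans (he _).symm) (barL J (intLast₂ l)) (barL J l)
    (fun x t => by
      obtain ⟨x, rfl⟩ := Ideal.Quotient.mk_surjective x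
      obtain ⟨t, rfl⟩ := Ideal.Quotient.mk_surjective t
      rw [bar_mk, ← map_mul, barL_mk, barL_mk, intLast₂_mul, map_mul])
    (fun r x => by
      obtain ⟨x, rfl⟩ := Ideal.Quotient.mk_surjective x
      obtain ⟨r, rfl⟩ := Ideal.Quotient.mk_surjective r
      rw [bar_mk, ← map_mul, barL_mk, barL_mk, Algebra.ofId_apply, ← Algebra.smul_def, map_smul, smul_eq_mul, map_mul])
    (fun x => by
      obtain ⟨x, rfl⟩ := Ideal.Quotient.mk_surjective x
      rw [bar_mk, barL_mk]
      show Ideal.Quotient.mk _ (intLast₂ l (x ⊗ₜ[R] 1)) = _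
      rw [intLast₂_tmul, hl.one, one_smul])
    (fun x => by
      obtain ⟨x, rfl⟩ := Ideal.Quotient.mk_surjective x
      rw [bar_mk, barL_mk, barL_mk, bar_mk, Algebra.ofId_apply]
      show Ideal.Quotient.mk _ (intLast₂ l ((1 : A) ⊗ₜ[R] x)) = _
      rw [intLast₂_tmul, ← Algebra.algebraMap_eq_smul_one])
    (fun x => by
      obtain ⟨x, rfl⟩ := Ideal.Quotient.mk_surjective x
      rw [bar_mk, barL_mk, barL_mk, bar_mk, Algebra.ofId_apply, Bialgebra.comulAlgHom_apply, intLast₂_comul hl,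
        Algebra.algebraMap_eq_smul_one])
    K (sq_zero J K hKJ R) (sq_zero J K hKJ A) (sq_zero J K hKJ _) (ptMap mkA ≫ u) (ptMap mkA ≫ v)
    (hcompat u hu) (hcompat v hv) (by
      let ψ : Bar K A →ₐ[R] (Bar J A) ⧸ K.map (algebraMap R (Bar J A)) :=
        Ideal.Quotient.liftₐ _ ((Ideal.Quotient.mkₐ R _).comp mkA) fun x hx => by
          rw [AlgHom.comp_apply, Ideal.Quotient.mkₐ_eq_mk, Ideal.Quotient.eq_zero_iff_mem]
          exact map_mem_of_linear mkA.toLinearMap K hx
      rw [← Category.assoc, ← Category.assoc, ← ptMap_comp,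
        show (Ideal.Quotient.mkₐ R (K.map (algebraMap R (Bar J A)))).comp mkA = ψ.comp (Ideal.Quotient.mkₐ R _) from rfl,
        ptMap_comp, Category.assoc, Category.assoc, h])
  refine ⟨g, ?_, hg2⟩
  let ψ : (Bar J R) ⧸ K.map (algebraMap R (Bar J R)) →ₐ[R] Bar K R :=
    Ideal.Quotient.liftₐ _ (red hJK R) fun x hx => by rw [← ker_red hJK] at hx; exact hx
  rw [show red hJK R = ψ.comp (Ideal.Quotient.mkₐ R _) from rfl, ptMap_comp, Category.assoc, hg1, MonObj.comp_one]

/-- Conjugation by a constant point. -/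
noncomputable def conjC (g : pt (R := R) R ⟶ G) {T : Type u} [CommRing T] [Algebra R T] (u : pt (R := R) T ⟶ G) :
    pt (R := R) T ⟶ G :=
  (ptMap (Algebra.ofId R T) ≫ g) * u * (ptMap (Algebra.ofId R T) ≫ g)⁻¹

theorem ptMap_conjC (g : pt (R := R) R ⟶ G) {T T' : Type u} [CommRing T] [Algebra R T] [CommRing T'] [Algebra R T']
    (f : T →ₐ[R] T') (u : pt (R := R) T ⟶ G) : ptMap f ≫ conjC g u = conjC g (ptMap f ≫ u) := by
  simp only [conjC, MonObj.comp_mul, GrpObj.comp_inv, ← Category.assoc, ← ptMap_comp]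
  rw [Subsingleton.elim (f.comp (Algebra.ofId R T)) (Algebra.ofId R T')]

theorem isHomPt_conjC (g : pt (R := R) R ⟶ G) {u : pt (R := R) A ⟶ G} (hu : IsHomPt u) :
    IsHomPt (conjC g u) := by
  show _ = _
  rw [ptMap_conjC, ptMap_conjC, ptMap_conjC, show ptMap (Bialgebra.comulAlgHom R A) ≫ u = _ from hu]
  simp only [conjC]
  group

theorem conjC_mul (g g' : pt (R := R) R ⟶ G) {T : Type u} [CommRing T] [Algebra R T] (u : pt (R := R) T ⟶ G) :
    conjC (g * g') u = conjC g (conjC g' u) := by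
  simp only [conjC, MonObj.comp_mul]
  group

/-- The inverse of reduction modulo the zero ideal. -/
noncomputable def unbot {J : Ideal R} (hJ : J = ⊥) (T : Type u) [CommRing T] [Algebra R T] : Bar J T →ₐ[R] T :=
  Ideal.Quotient.liftₐ _ (AlgHom.id R T) fun x hx => by rw [hJ, Ideal.map_bot, Ideal.mem_bot] at hx; exact hx

theorem unbot_comp {J : Ideal R} (hJ : J = ⊥) (T : Type u) [CommRing T] [Algebra R T] :
    (unbot hJ T).comp (Ideal.Quotient.mkₐ R (J.map (algebraMap R T))) = AlgHom.id R T := rfl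

/-- Conjugacy of homomorphisms congruent modulo a square zero ideal. -/
theorem exists_conj_sqZero {l : A →ₗ[R] R} (hl : IsIntegral l) (J : Ideal R) (hJ : J ^ 2 = ⊥)
    (u v : pt (R := R) A ⟶ G) (hu : IsHomPt u) (hv : IsHomPt v)
    (h : ptMap (Ideal.Quotient.mkₐ R (J.map (algebraMap R A))) ≫ u =
      ptMap (Ideal.Quotient.mkₐ R (J.map (algebraMap R A))) ≫ v) :
    ∃ g : pt (R := R) R ⟶ G, ptMap (Ideal.Quotient.mkₐ R (J.map (algebraMap R R))) ≫ g = 1 ∧ v = conjC g u := by
  obtain ⟨g, hg1, hg2⟩ := exists_conj_step_pt hl (bot_le : (⊥ : Ideal R) ≤ J) (by rw [← pow_two, hJ]) u v hu hv h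
  let d := unbot (J := (⊥ : Ideal R)) rfl A
  let d₀ := unbot (J := (⊥ : Ideal R)) rfl R
  have hd := unbot_comp (J := (⊥ : Ideal R)) rfl A
  refine ⟨ptMap d₀ ≫ g, ?_, ?_⟩
  · rw [← Category.assoc, ← ptMap_comp, show (Ideal.Quotient.mkₐ R (J.map (algebraMap R R))).comp d₀ = red bot_le R from
      AlgHom.ext fun x => by obtain ⟨x, rfl⟩ := Ideal.Quotient.mk_surjective x; rfl, hg1]
  · have h2 := congrArg (ptMap d ≫ ·) hg2
    simp only [MonObj.comp_mul, GrpObj.comp_inv, ← Category.assoc, ← ptMap_comp, d, hd, ptMap_id, Category.id_comp] at h2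
    rw [h2]
    simp only [conjC, ← Category.assoc, ← ptMap_comp]
    rw [show d.comp (bar ⊥ (Algebra.ofId R A)) = (Algebra.ofId R A).comp d₀ from
      AlgHom.ext fun x => by obtain ⟨x, rfl⟩ := Ideal.Quotient.mk_surjective x; rfl]

/-- Lifting conjugacy along a nilpotent ideal into a smooth group. -/
theorem exists_conj_nilpotent {l : A →ₗ[R] R} (hl : IsIntegral l) (hG : Smooth G.hom) (J : Ideal R)
    (hJ : IsNilpotent J) (u v : pt (R := R) A ⟶ G) (hu : IsHomPt u) (hv : IsHomPt v)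
    (g₀ : pt (R := R) R ⟶ G)
    (h : ptMap (Ideal.Quotient.mkₐ R (J.map (algebraMap R A))) ≫ v =
      ptMap (Ideal.Quotient.mkₐ R (J.map (algebraMap R A))) ≫ conjC g₀ u) :
    ∃ g : pt (R := R) R ⟶ G, ptMap (Ideal.Quotient.mkₐ R (J.map (algebraMap R R))) ≫ g =
      ptMap (Ideal.Quotient.mkₐ R (J.map (algebraMap R R))) ≫ g₀ ∧ v = conjC g u := by
  obtain ⟨N, hN⟩ := hJ
  suffices hn : ∀ n : ℕ, ∃ g : pt (R := R) R ⟶ G, ptMap (Ideal.Quotient.mkₐ R (J.map (algebraMap R R))) ≫ g =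
      ptMap (Ideal.Quotient.mkₐ R (J.map (algebraMap R R))) ≫ g₀ ∧
      ptMap (Ideal.Quotient.mkₐ R ((J ^ (n + 1)).map (algebraMap R A))) ≫ v =
        ptMap (Ideal.Quotient.mkₐ R ((J ^ (n + 1)).map (algebraMap R A))) ≫ conjC g u by
    obtain ⟨g, hg, e⟩ := hn N
    have hd := unbot_comp (le_bot_iff.1 ((Ideal.pow_le_pow_right N.le_succ).trans hN.le)) A
    let d := unbot (le_bot_iff.1 ((Ideal.pow_le_pow_right N.le_succ).trans hN.le)) A
    refine ⟨g, hg, ?_⟩
    have h2 := congrArg (ptMap d ≫ ·) e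
    simpa only [← Category.assoc, ← ptMap_comp, d, hd, ptMap_id, Category.id_comp] using h2
  intro n
  induction n with
  | zero =>
    refine ⟨g₀, rfl, ?_⟩
    rw [zero_add, pow_one]
    exact h
  | succ n ih =>
    obtain ⟨g, hg, e⟩ := ih
    have hJK : J ^ (n + 1 + 1) ≤ J ^ (n + 1) := Ideal.pow_le_pow_right (Nat.le_succ _)
    have hJI : J ^ (n + 1 + 1) ≤ J := Ideal.pow_le_self (Nat.succ_ne_zero _)
    have hKI : J ^ (n + 1) ≤ J := Ideal.pow_le_self (Nat.succ_ne_zero _)
    have hKJ : J ^ (n + 1) * J ^ (n + 1) ≤ J ^ (n + 1 + 1) := by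
      rw [← pow_add]; exact Ideal.pow_le_pow_right (by omega)
    obtain ⟨k, hk1, hk2⟩ := exists_conj_step_pt hl hJK hKJ _ _ (isHomPt_conjC g hu) hv e.symm
    obtain ⟨m, hm⟩ := exists_lift_pt hG (Ideal.Quotient.mkₐ R ((J ^ (n + 1 + 1)).map (algebraMap R R)))
      Ideal.Quotient.mk_surjective ⟨N, by
        rw [show RingHom.ker (Ideal.Quotient.mkₐ R ((J ^ (n + 1 + 1)).map (algebraMap R R))) =
          (J ^ (n + 1 + 1)).map (algebraMap R R) from Ideal.mk_ker, Algebra.algebraMap_self, Ideal.map_id]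
        exact le_bot_iff.1 ((Ideal.pow_right_mono hJI N).trans hN.le)⟩ k
    refine ⟨m * g, ?_, ?_⟩
    · rw [MonObj.comp_mul, hg,
        show Ideal.Quotient.mkₐ R (J.map (algebraMap R R)) =
          ((red hKI R).comp (red hJK R)).comp (Ideal.Quotient.mkₐ R ((J ^ (n + 1 + 1)).map (algebraMap R R))) from rfl]
      simp only [ptMap_comp, Category.assoc, hm, hk1, MonObj.comp_one, _root_.one_mul]
    · rw [conjC_mul, hk2, ← hm]
      simp only [conjC, MonObj.comp_mul, GrpObj.comp_inv, ← Category.assoc, ← ptMap_comp, ptMap_mk_bar]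

end Groth.Agent.MultHopf
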