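import Groth.Agent.MultHopf.Lift
import Groth.Agent.MultHopf.Trivial
import Groth.Agent.Ferrand.Basic

/-!
# Deformations of points of an arbitrary group scheme over an affine base

Points with values in `T ×_{T/N} T₀` are pairs of points, so linear maps act on points congruent to `1`.
-/

set_option autoImplicit false
set_option backward.isDefEq.respectTransparency.types false

universe u

open CategoryTheory CategoryTheory.Limits MonoidalCategory CartesianMonoidalCategory MonObj AlgebraicGeometry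
open scoped TensorProduct
open WithConv

namespace Groth.Agent.MultHopf

variable {R : Type u} [CommRing R]

theorem ptMap_comp {C C' C'' : Type u} [CommRing C] [Algebra R C] [CommRing C'] [Algebra R C'] [CommRing C'']
    [Algebra R C''] (f : C →ₐ[R] C') (g : C' →ₐ[R] C'') : ptMap (g.comp f) = ptMap g ≫ ptMap f := by
  apply Over.OverMorphism.ext
  show Spec.map _ = Spec.map _ ≫ Spec.map _
  rw [← Spec.map_comp]
  rfl

theorem ptMap_id (C : Type u) [CommRing C] [Algebra R C] : ptMap (AlgHom.id R C) = 𝟙 (pt (R := R) C) :=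
  Over.OverMorphism.ext (Spec.map_id _)

section pairs

variable {T T₀ : Type u} [CommRing T] [Algebra R T] [CommRing T₀] [Algebra R T₀]

/-- Pairs congruent modulo an ideal, along an algebra map. -/
def congPairs (σ : T₀ →ₐ[R] T) (N : Ideal T) : Subalgebra R (T₀ × T) where
  carrier := {e | e.2 - σ e.1 ∈ N}
  mul_mem' := fun {p q} hp hq => by
    show p.2 * q.2 - σ (p.1 * q.1) ∈ N
    rw [map_mul]
    exact N.mul_sub_mul_mem hp hq
  add_mem' := fun {p q} hp hq => by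
    show p.2 + q.2 - σ (p.1 + q.1) ∈ N
    rw [map_add, add_sub_add_comm]
    exact add_mem hp hq
  algebraMap_mem' := fun r => by simp

variable (σ : T₀ →ₐ[R] T) (N : Ideal T)

/-- The first projection. -/
def cpFst : congPairs σ N →ₐ[R] T₀ := (AlgHom.fst R T₀ T).comp (congPairs σ N).val

/-- The second projection. -/
def cpSnd : congPairs σ N →ₐ[R] T := (AlgHom.snd R T₀ T).comp (congPairs σ N).val

theorem congPairs_square : Ferrand.Square (Ideal.Quotient.mk N) (((Ideal.Quotient.mkₐ R N).comp σ).toRingHom)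
    (cpSnd σ N).toRingHom (cpFst σ N).toRingHom where
  surj := Ideal.Quotient.mk_surjective
  comm c := Ideal.Quotient.eq.2 c.2
  inj h₁ h₂ := Subtype.ext (Prod.ext h₂ h₁)
  exists_lift a b h := ⟨⟨(b, a), Ideal.Quotient.eq.1 h⟩, rfl, rfl⟩

variable {G : Over (Spec (CommRingCat.of R))}

theorem hom_ext_congPairs {z z' : pt (R := R) (congPairs σ N) ⟶ G}
    (h₁ : ptMap (cpFst σ N) ≫ z = ptMap (cpFst σ N) ≫ z') (h₂ : ptMap (cpSnd σ N) ≫ z = ptMap (cpSnd σ N) ≫ z') :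
    z = z' :=
  Over.OverMorphism.ext ((congPairs_square σ N).hom_ext (congrArg CommaMorphism.left h₂) (congrArg CommaMorphism.left h₁))

theorem exists_desc_congPairs (f₀ : pt (R := R) T₀ ⟶ G) (f : pt (R := R) T ⟶ G)
    (w : ptMap (Ideal.Quotient.mkₐ R N) ≫ f = ptMap ((Ideal.Quotient.mkₐ R N).comp σ) ≫ f₀) :
    ∃ z : pt (R := R) (congPairs σ N) ⟶ G, ptMap (cpFst σ N) ≫ z = f₀ ∧ ptMap (cpSnd σ N) ≫ z = f := by
  obtain ⟨g, hg₂, hg₁⟩ := (congPairs_square σ N).exists_desc f.left f₀.left (congrArg CommaMorphism.left w)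
  have hw : g ≫ G.hom = Spec.map (CommRingCat.ofHom (algebraMap R (congPairs σ N))) := by
    refine (congPairs_square σ N).hom_ext ?_ ?_
    · rw [← Category.assoc, hg₂, ← Spec.map_comp, ← CommRingCat.ofHom_comp]
      exact (Over.w f).trans (congrArg (fun k => Spec.map (CommRingCat.ofHom k)) (cpSnd σ N).comp_algebraMap.symm)
    · rw [← Category.assoc, hg₁, ← Spec.map_comp, ← CommRingCat.ofHom_comp]
      exact (Over.w f₀).trans (congrArg (fun k => Spec.map (CommRingCat.ofHom k)) (cpFst σ N).comp_algebraMap.symm)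
  exact ⟨Over.homMk g hw, Over.OverMorphism.ext hg₁, Over.OverMorphism.ext hg₂⟩

/-- The retraction defined by a linear map. -/
noncomputable def retr (L : T →ₗ[R] T₀) (hlin : ∀ x t, L (σ x * t) = x * L t)
    (hsq : ∀ n ∈ N, ∀ n' ∈ N, n * n' = 0 ∧ L n * L n' = 0) : congPairs σ N →ₐ[R] T₀ :=
  AlgHom.ofLinearMap
    ((cpFst σ N).toLinearMap + L ∘ₗ ((cpSnd σ N).toLinearMap - σ.toLinearMap ∘ₗ (cpFst σ N).toLinearMap))
    (by simp)
    (fun p q => by
      obtain ⟨⟨a, z⟩, hp⟩ := p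
      obtain ⟨⟨b, z'⟩, hq⟩ := q
      show a * b + L (z * z' - σ (a * b)) = (a + L (z - σ a)) * (b + L (z' - σ b))
      have h0 := hsq _ hp _ hq
      have e : z * z' - σ (a * b) = σ a * (z' - σ b) + σ b * (z - σ a) := by
        rw [map_mul]
        linear_combination h0.1
      rw [e, map_add, hlin, hlin]
      linear_combination -h0.2)

theorem retr_apply (L : T →ₗ[R] T₀) (hlin : ∀ x t, L (σ x * t) = x * L t)
    (hsq : ∀ n ∈ N, ∀ n' ∈ N, n * n' = 0 ∧ L n * L n' = 0) (p : congPairs σ N) :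
    retr σ N L hlin hsq p = p.1.1 + L (p.1.2 - σ p.1.1) := rfl

end pairs

variable {G : Over (Spec (CommRingCat.of R))} [GrpObj G]

/-- Two homomorphisms congruent modulo a square zero ideal are conjugate by a constant point. -/
theorem exists_conj_core {R₀ A₀ P₀ : Type u} [CommRing R₀] [Algebra R R₀] [CommRing A₀] [Algebra R A₀]
    [CommRing P₀] [Algebra R P₀] (e : R₀ →ₐ[R] A₀) (f₁ f₂ fΔ : A₀ →ₐ[R] P₀) (he₂ : f₂.comp e = f₁.comp e)
    (heΔ : fΔ.comp e = f₁.comp e) (L : P₀ →ₗ[R] A₀) (l : A₀ →ₗ[R] R₀)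
    (hlin : ∀ x t, L (f₁ x * t) = x * L t) (hllin : ∀ r x, l (e r * x) = r * l x)
    (L1 : ∀ x, L (f₁ x) = x) (L2 : ∀ x, L (f₂ x) = e (l x)) (LΔ : ∀ x, L (fΔ x) = e (l x))
    (K : Ideal R) (hR : ∀ x ∈ K.map (algebraMap R R₀), ∀ y ∈ K.map (algebraMap R R₀), x * y = 0)
    (hA : ∀ x ∈ K.map (algebraMap R A₀), ∀ y ∈ K.map (algebraMap R A₀), x * y = 0)
    (hP : ∀ x ∈ K.map (algebraMap R P₀), ∀ y ∈ K.map (algebraMap R P₀), x * y = 0)
    (u v : pt (R := R) A₀ ⟶ G) (hu : ptMap fΔ ≫ u = (ptMap f₁ ≫ u) * (ptMap f₂ ≫ u))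
    (hv : ptMap fΔ ≫ v = (ptMap f₁ ≫ v) * (ptMap f₂ ≫ v))
    (h : ptMap (Ideal.Quotient.mkₐ R (K.map (algebraMap R A₀))) ≫ u =
      ptMap (Ideal.Quotient.mkₐ R (K.map (algebraMap R A₀))) ≫ v) :
    ∃ g : pt (R := R) R₀ ⟶ G, ptMap (Ideal.Quotient.mkₐ R (K.map (algebraMap R R₀))) ≫ g = 1 ∧
      v = (ptMap e ≫ g) * u * (ptMap e ≫ g)⁻¹ := by
  let NA := K.map (algebraMap R A₀)
  let NP := K.map (algebraMap R P₀)
  let NR := K.map (algebraMap R R₀)
  let c := v * u⁻¹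
  have hc : ptMap (Ideal.Quotient.mkₐ R NA) ≫ c = 1 := by
    rw [MonObj.comp_mul, GrpObj.comp_inv, ← h, mul_inv_cancel]
  obtain ⟨c₀, c₀1, c₀2⟩ := exists_desc_congPairs e NA (1 : pt (R := R) R₀ ⟶ G) c (by rw [hc, MonObj.comp_one])
  obtain ⟨c₁, c₁1, c₁2⟩ := exists_desc_congPairs (AlgHom.id R A₀) NA (1 : pt (R := R) A₀ ⟶ G) c (by rw [hc, MonObj.comp_one])
  let Λ := retr f₁ NP L hlin (fun n hn n' hn' => ⟨hP n hn n' hn', hA _ (map_mem_of_linear L K hn) _ (map_mem_of_linear L K hn')⟩)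
  let Λ₀ := retr e NA l hllin (fun n hn n' hn' => ⟨hA n hn n' hn', hR _ (map_mem_of_linear l K hn) _ (map_mem_of_linear l K hn')⟩)
  let incA : A₀ →ₐ[R] congPairs f₁ NP :=
    ((AlgHom.id R A₀).prod f₁).codRestrict _ fun a => by show f₁ a - f₁ a ∈ NP; rw [sub_self]; exact zero_mem _
  let mkρ : ∀ (φ : A₀ →ₐ[R] P₀) (_ : φ.comp e = f₁.comp e), congPairs e NA →ₐ[R] congPairs f₁ NP := fun φ hφ =>
    ((e.comp (cpFst e NA)).prod (φ.comp (cpSnd e NA))).codRestrict _ fun p => by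
      show φ p.1.2 - f₁ (e p.1.1) ∈ NP
      rw [← show φ (e p.1.1) = f₁ (e p.1.1) from DFunLike.congr_fun hφ p.1.1, ← map_sub]
      exact map_mem_of_linear φ.toLinearMap K p.2
  let ρ₁ : congPairs (AlgHom.id R A₀) NA →ₐ[R] congPairs f₁ NP :=
    ((cpFst _ NA).prod (f₁.comp (cpSnd _ NA))).codRestrict _ fun p => by
      show f₁ p.1.2 - f₁ p.1.1 ∈ NP
      rw [← map_sub]
      exact map_mem_of_linear f₁.toLinearMap K p.2
  let U := ptMap incA ≫ u
  let Z₁ := ptMap ρ₁ ≫ c₁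
  let Z₂ := ptMap (mkρ f₂ he₂) ≫ c₀
  let ZΔ := ptMap (mkρ fΔ heΔ) ≫ c₀
  have cocycle : ZΔ = Z₁ * (U * Z₂ * U⁻¹) := by
    refine hom_ext_congPairs f₁ NP ?_ ?_
    · simp only [ZΔ, Z₁, Z₂, U, MonObj.comp_mul, GrpObj.comp_inv, ← Category.assoc, ← ptMap_comp]
      rw [show (cpFst f₁ NP).comp (mkρ fΔ heΔ) = e.comp (cpFst e NA) from rfl,
        show (cpFst f₁ NP).comp ρ₁ = cpFst _ NA from rfl,
        show (cpFst f₁ NP).comp (mkρ f₂ he₂) = e.comp (cpFst e NA) from rfl,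
        show (cpFst f₁ NP).comp incA = AlgHom.id R A₀ from rfl, ptMap_id, Category.id_comp, c₁1,
        ptMap_comp, Category.assoc, c₀1, MonObj.comp_one, _root_.mul_one, mul_inv_cancel, _root_.mul_one]
    · simp only [ZΔ, Z₁, Z₂, U, MonObj.comp_mul, GrpObj.comp_inv, ← Category.assoc, ← ptMap_comp]
      rw [show (cpSnd f₁ NP).comp (mkρ fΔ heΔ) = fΔ.comp (cpSnd e NA) from rfl,
        show (cpSnd f₁ NP).comp ρ₁ = f₁.comp (cpSnd _ NA) from rfl,
        show (cpSnd f₁ NP).comp (mkρ f₂ he₂) = f₂.comp (cpSnd e NA) from rfl,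
        show (cpSnd f₁ NP).comp incA = f₁ from rfl,
        ptMap_comp, ptMap_comp, ptMap_comp, Category.assoc, Category.assoc, Category.assoc, c₀2, c₁2]
      simp only [c, MonObj.comp_mul, GrpObj.comp_inv, hu, hv]
      group
  have hL := congrArg (ptMap Λ ≫ ·) cocycle
  have hρ : ∀ (φ : A₀ →ₐ[R] P₀) (hφ : φ.comp e = f₁.comp e), (∀ x, L (φ x) = e (l x)) →
      Λ.comp (mkρ φ hφ) = e.comp Λ₀ := by
    intro φ hφ hLφ
    refine AlgHom.ext fun p => ?_
    show e p.1.1 + L (φ p.1.2 - f₁ (e p.1.1)) = e (p.1.1 + l (p.1.2 - e p.1.1))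
    rw [← show φ (e p.1.1) = f₁ (e p.1.1) from DFunLike.congr_fun hφ p.1.1, ← map_sub, hLφ, map_add]
  simp only [ZΔ, Z₁, Z₂, U, MonObj.comp_mul, GrpObj.comp_inv, ← Category.assoc, ← ptMap_comp] at hL
  rw [hρ fΔ heΔ LΔ, hρ f₂ he₂ L2,
    show Λ.comp ρ₁ = cpSnd _ NA from AlgHom.ext fun p => by
      show p.1.1 + L (f₁ p.1.2 - f₁ p.1.1) = p.1.2
      rw [← map_sub, L1, add_sub_cancel],
    show Λ.comp incA = AlgHom.id R A₀ from AlgHom.ext fun a => by
      show a + L (f₁ a - f₁ a) = a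
      rw [sub_self, map_zero, add_zero],
    ptMap_id, Category.id_comp, c₁2, ptMap_comp, Category.assoc] at hL
  refine ⟨ptMap Λ₀ ≫ c₀, ?_, ?_⟩
  · rw [← Category.assoc, ← ptMap_comp,
      show (Ideal.Quotient.mkₐ R NR).comp Λ₀ = (Ideal.Quotient.mkₐ R NR).comp (cpFst e NA) from AlgHom.ext fun p =>
        Ideal.Quotient.eq.2 (by
          show p.1.1 + l (p.1.2 - e p.1.1) - p.1.1 ∈ NR
          rw [add_sub_cancel_left]
          exact map_mem_of_linear l K p.2),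
      ptMap_comp, Category.assoc, c₀1, MonObj.comp_one]
  · generalize ptMap e ≫ ptMap Λ₀ ≫ c₀ = x at hL ⊢
    have h2 : x = v * x * u⁻¹ := hL.trans (by simp only [c]; group)
    calc v = v * x * u⁻¹ * (u * x⁻¹) := by group
      _ = x * (u * x⁻¹) := by rw [← h2]
      _ = x * u * x⁻¹ := by group

end Groth.Agent.MultHopf
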