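import Groth.Agent.MultHopf.PointApply

/-!
# Lifting homomorphisms from groups of multiplicative type into arbitrary smooth group schemes
-/

set_option autoImplicit false
set_option backward.isDefEq.respectTransparency.types false

universe u

open CategoryTheory CategoryTheory.Limits MonoidalCategory CartesianMonoidalCategory MonObj AlgebraicGeometry
open scoped TensorProduct
open WithConv

namespace Groth.Agent.MultHopf

variable {R : Type u} [CommRing R]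

section Core

variable {G : Over (Spec (CommRingCat.of R))} [GrpObj G]

/-- The correction making a lift of a homomorphism a homomorphism. -/
theorem exists_correction_pt {A₀ P₀ Q₀ : Type u} [CommRing A₀] [Algebra R A₀] [CommRing P₀] [Algebra R P₀]
    [CommRing Q₀] [Algebra R Q₀] (f₁ f₂ fΔ : A₀ →ₐ[R] P₀) (a₁₂ a₂₃ D₁ D₂ : P₀ →ₐ[R] Q₀)
    (L₂ : P₀ →ₗ[R] A₀) (L₃ : Q₀ →ₗ[R] P₀)
    (q1 : a₂₃.comp f₁ = a₁₂.comp f₂) (q2 : a₂₃.comp f₂ = D₁.comp f₂) (q3 : D₁.comp f₁ = a₁₂.comp fΔ)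
    (q4 : D₂.comp f₁ = a₁₂.comp f₁) (q5 : D₂.comp f₂ = a₂₃.comp fΔ) (q6 : D₂.comp fΔ = D₁.comp fΔ)
    (e0 : ∀ z, L₃ (a₁₂ z) = z) (e1 : ∀ z, L₃ (D₁ z) = fΔ (L₂ z)) (e2 : ∀ z, L₃ (a₂₃ z) = f₂ (L₂ z))
    (e3 : ∀ z, L₃ (D₂ z) = f₁ (L₂ z)) (hlin₂ : ∀ x t, L₂ (f₁ x * t) = x * L₂ t)
    (hlin₃ : ∀ z t, L₃ (a₁₂ z * t) = z * L₃ t)
    (K : Ideal R) (hA : ∀ x ∈ K.map (algebraMap R A₀), ∀ y ∈ K.map (algebraMap R A₀), x * y = 0)
    (hP : ∀ x ∈ K.map (algebraMap R P₀), ∀ y ∈ K.map (algebraMap R P₀), x * y = 0)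
    (hQ : ∀ x ∈ K.map (algebraMap R Q₀), ∀ y ∈ K.map (algebraMap R Q₀), x * y = 0)
    (u : pt (R := R) A₀ ⟶ G)
    (hu : ptMap (Ideal.Quotient.mkₐ R (K.map (algebraMap R P₀))) ≫
      ((ptMap f₁ ≫ u) * (ptMap f₂ ≫ u) * (ptMap fΔ ≫ u)⁻¹) = 1) :
    ∃ h : pt (R := R) A₀ ⟶ G, ptMap (Ideal.Quotient.mkₐ R (K.map (algebraMap R A₀))) ≫ h = 1 ∧
      ptMap fΔ ≫ (h * u) = (ptMap f₁ ≫ (h * u)) * (ptMap f₂ ≫ (h * u)) := by
  let NA := K.map (algebraMap R A₀)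
  let NP := K.map (algebraMap R P₀)
  let NQ := K.map (algebraMap R Q₀)
  let F := (ptMap f₁ ≫ u) * (ptMap f₂ ≫ u) * (ptMap fΔ ≫ u)⁻¹
  obtain ⟨F₁, F₁1, F₁2⟩ := exists_desc_congPairs (AlgHom.id R P₀) NP (1 : pt (R := R) P₀ ⟶ G) F
    (by rw [show ptMap _ ≫ F = 1 from hu, MonObj.comp_one])
  obtain ⟨F₂, F₂1, F₂2⟩ := exists_desc_congPairs f₁ NP (1 : pt (R := R) A₀ ⟶ G) F
    (by rw [show ptMap _ ≫ F = 1 from hu, MonObj.comp_one])
  let Λ₂ := retr f₁ NP L₂ hlin₂ (fun n hn n' hn' => ⟨hP n hn n' hn', hA _ (map_mem_of_linear L₂ K hn) _ (map_mem_of_linear L₂ K hn')⟩)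
  let Λ₃ := retr a₁₂ NQ L₃ hlin₃ (fun n hn n' hn' => ⟨hQ n hn n' hn', hP _ (map_mem_of_linear L₃ K hn) _ (map_mem_of_linear L₃ K hn')⟩)
  let incP : P₀ →ₐ[R] congPairs a₁₂ NQ :=
    ((AlgHom.id R P₀).prod a₁₂).codRestrict _ fun a => by show a₁₂ a - a₁₂ a ∈ NQ; rw [sub_self]; exact zero_mem _
  let ρ : congPairs (AlgHom.id R P₀) NP →ₐ[R] congPairs a₁₂ NQ :=
    ((cpFst _ NP).prod (a₁₂.comp (cpSnd _ NP))).codRestrict _ fun p => by
      show a₁₂ p.1.2 - a₁₂ p.1.1 ∈ NQ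
      rw [← map_sub]
      exact map_mem_of_linear a₁₂.toLinearMap K p.2
  let mkρ : ∀ (φ : P₀ →ₐ[R] Q₀) (φ' : A₀ →ₐ[R] P₀) (_ : φ.comp f₁ = a₁₂.comp φ'),
      congPairs f₁ NP →ₐ[R] congPairs a₁₂ NQ := fun φ φ' hφ =>
    ((φ'.comp (cpFst f₁ NP)).prod (φ.comp (cpSnd f₁ NP))).codRestrict _ fun p => by
      show φ p.1.2 - a₁₂ (φ' p.1.1) ∈ NQ
      rw [← show φ (f₁ p.1.1) = a₁₂ (φ' p.1.1) from DFunLike.congr_fun hφ p.1.1, ← map_sub]
      exact map_mem_of_linear φ.toLinearMap K p.2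
  let U := ptMap incP ≫ ptMap f₁ ≫ u
  let Za := ptMap ρ ≫ F₁
  let Zb := ptMap (mkρ D₁ fΔ q3) ≫ F₂
  let Zc := ptMap (mkρ a₂₃ f₂ q1) ≫ F₂
  let Zd := ptMap (mkρ D₂ f₁ q4) ≫ F₂
  have cocycle : Za * Zb = (U * Zc * U⁻¹) * Zd := by
    refine hom_ext_congPairs a₁₂ NQ ?_ ?_
    · simp only [Za, Zb, Zc, Zd, U, MonObj.comp_mul, GrpObj.comp_inv, ← Category.assoc, ← ptMap_comp]
      rw [show (cpFst a₁₂ NQ).comp ρ = cpFst _ NP from rfl,
        show (cpFst a₁₂ NQ).comp (mkρ D₁ fΔ q3) = fΔ.comp (cpFst f₁ NP) from rfl,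
        show (cpFst a₁₂ NQ).comp (mkρ a₂₃ f₂ q1) = f₂.comp (cpFst f₁ NP) from rfl,
        show (cpFst a₁₂ NQ).comp (mkρ D₂ f₁ q4) = f₁.comp (cpFst f₁ NP) from rfl,
        show (cpFst a₁₂ NQ).comp (incP.comp f₁) = f₁ from rfl, F₁1]
      simp only [ptMap_comp, Category.assoc, F₂1, MonObj.comp_one]
      simp
    · simp only [Za, Zb, Zc, Zd, U, MonObj.comp_mul, GrpObj.comp_inv, ← Category.assoc, ← ptMap_comp]
      rw [show (cpSnd a₁₂ NQ).comp ρ = a₁₂.comp (cpSnd _ NP) from rfl,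
        show (cpSnd a₁₂ NQ).comp (mkρ D₁ fΔ q3) = D₁.comp (cpSnd f₁ NP) from rfl,
        show (cpSnd a₁₂ NQ).comp (mkρ a₂₃ f₂ q1) = a₂₃.comp (cpSnd f₁ NP) from rfl,
        show (cpSnd a₁₂ NQ).comp (mkρ D₂ f₁ q4) = D₂.comp (cpSnd f₁ NP) from rfl,
        show (cpSnd a₁₂ NQ).comp (incP.comp f₁) = a₁₂.comp f₁ from rfl]
      simp only [ptMap_comp, Category.assoc, F₁2, F₂2]
      simp only [F, MonObj.comp_mul, GrpObj.comp_inv, ← Category.assoc, ← ptMap_comp, q1, q2, q3, q4, q5, q6]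
      group
  have hρ : ∀ (φ : P₀ →ₐ[R] Q₀) (φ' : A₀ →ₐ[R] P₀) (hφ : φ.comp f₁ = a₁₂.comp φ'), (∀ z, L₃ (φ z) = φ' (L₂ z)) →
      Λ₃.comp (mkρ φ φ' hφ) = φ'.comp Λ₂ := by
    intro φ φ' hφ hLφ
    refine AlgHom.ext fun p => ?_
    show φ' p.1.1 + L₃ (φ p.1.2 - a₁₂ (φ' p.1.1)) = φ' (p.1.1 + L₂ (p.1.2 - f₁ p.1.1))
    rw [← show φ (f₁ p.1.1) = a₁₂ (φ' p.1.1) from DFunLike.congr_fun hφ p.1.1, ← map_sub, hLφ, map_add]
  have hL := congrArg (ptMap Λ₃ ≫ ·) cocycle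
  simp only [Za, Zb, Zc, Zd, U, MonObj.comp_mul, GrpObj.comp_inv, ← Category.assoc, ← ptMap_comp] at hL
  rw [hρ D₁ fΔ q3 e1, hρ a₂₃ f₂ q1 e2, hρ D₂ f₁ q4 e3,
    show Λ₃.comp ρ = cpSnd _ NP from AlgHom.ext fun p => by
      show p.1.1 + L₃ (a₁₂ p.1.2 - a₁₂ p.1.1) = p.1.2
      rw [← map_sub, e0, add_sub_cancel],
    show Λ₃.comp (incP.comp f₁) = f₁ from AlgHom.ext fun a => by
      show f₁ a + L₃ (a₁₂ (f₁ a) - a₁₂ (f₁ a)) = f₁ a
      rw [sub_self, map_zero, add_zero],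
    F₁2] at hL
  simp only [ptMap_comp, Category.assoc, ptMap_id, Category.id_comp] at hL
  set h := ptMap Λ₂ ≫ F₂
  refine ⟨h⁻¹, ?_, ?_⟩
  · rw [GrpObj.comp_inv, ← Category.assoc, ← ptMap_comp,
      show (Ideal.Quotient.mkₐ R NA).comp Λ₂ = (Ideal.Quotient.mkₐ R NA).comp (cpFst f₁ NP) from AlgHom.ext fun p =>
        Ideal.Quotient.eq.2 (by
          show p.1.1 + L₂ (p.1.2 - f₁ p.1.1) - p.1.1 ∈ NA
          rw [add_sub_cancel_left]
          exact map_mem_of_linear L₂ K p.2),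
      ptMap_comp, Category.assoc, F₂1, MonObj.comp_one, inv_one]
  · simp only [MonObj.comp_mul, GrpObj.comp_inv]
    simp only [F] at hL
    generalize ptMap f₁ ≫ h = h₁ at hL ⊢
    generalize ptMap f₂ ≫ h = h₂ at hL ⊢
    generalize ptMap fΔ ≫ h = hd at hL ⊢
    generalize ptMap f₁ ≫ u = g₁ at hL ⊢
    generalize ptMap f₂ ≫ u = g₂ at hL ⊢
    generalize ptMap fΔ ≫ u = gd at hL ⊢
    have h4 : g₁ * g₂ = g₁ * h₂ * g₁⁻¹ * h₁ * hd⁻¹ * gd := by rw [← hL]; group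
    calc hd⁻¹ * gd = h₁⁻¹ * g₁ * h₂⁻¹ * g₁⁻¹ * (g₁ * h₂ * g₁⁻¹ * h₁ * hd⁻¹ * gd) := by group
      _ = h₁⁻¹ * g₁ * (h₂⁻¹ * g₂) := by rw [← h4]; group

end Core

variable {G : Over (Spec (CommRingCat.of R))} [GrpObj G] {A : Type u} [CommRing A] [HopfAlgebra R A]

/-- Compatibility with the comultiplication modulo an ideal, for points of an arbitrary group. -/
def CompatiblePt (J : Ideal R) (u : pt (R := R) (Bar J A) ⟶ G) : Prop :=
  ptMap (bar J (Bialgebra.comulAlgHom R A)) ≫ u =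
    (ptMap (bar J (i₁ (R := R) (A := A))) ≫ u) * (ptMap (bar J (i₂ (R := R) (A := A))) ≫ u)

theorem exists_lift_compatiblePt {l : A →ₗ[R] R} (hl : IsIntegral l) (hG : Smooth G.hom) {J K : Ideal R}
    (hJK : J ≤ K) (hKJ : K * K ≤ J) (u : pt (R := R) (Bar K A) ⟶ G) (hu : CompatiblePt K u) :
    ∃ v : pt (R := R) (Bar J A) ⟶ G, CompatiblePt J v ∧ ptMap (red hJK A) ≫ v = u := by
  have hker : RingHom.ker (red hJK A) ^ 2 = ⊥ := by
    rw [ker_red, pow_two]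
    exact le_bot_iff.1 (Ideal.mul_le.2 fun x hx y hy => (Ideal.mem_bot).2 (sq_zero J K hKJ A x hx y hy))
  obtain ⟨w, hw⟩ := exists_lift_pt_sq hG (red hJK A)
    (fun z => by obtain ⟨x, rfl⟩ := Ideal.Quotient.mk_surjective z; exact ⟨Ideal.Quotient.mk _ x, rfl⟩) hker u
  have hpc : ∀ φ : A →ₐ[R] A ⊗[R] A, ptMap (red hJK _) ≫ ptMap (bar J φ) ≫ w = ptMap (bar K φ) ≫ u := fun φ => by
    rw [← hw, ← Category.assoc, ← Category.assoc, ← ptMap_comp, ← ptMap_comp,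
      show (red hJK (A ⊗[R] A)).comp (bar J φ) = (bar K φ).comp (red hJK A) from AlgHom.ext fun c => red_bar hJK φ c]
  obtain ⟨h, hh, hc⟩ := exists_correction_pt (bar J (i₁ (R := R) (A := A))) (bar J (i₂ (R := R) (A := A)))
    (bar J (Bialgebra.comulAlgHom R A)) (bar J (inc₁₂ R A))
    (bar J (inc₂₃ R A)) (bar J (d₁ R A)) (bar J (d₂ R A)) (barL J (intLast₂ l)) (barL J (intLast₃ l))
    (bar_comp_eq J inc₂₃_comp_i₁) (bar_comp_eq J (inc₂₃_comp_i₂.trans d₁_comp_i₂.symm)) (bar_comp_eq J d₁_comp_i₁)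
    (bar_comp_eq J d₂_comp_i₁) (bar_comp_eq J d₂_comp_i₂) (bar_comp_eq J d₂_comp_comul)
    (fun z => by
      obtain ⟨z, rfl⟩ := Ideal.Quotient.mk_surjective z
      rw [bar_mk, barL_mk, intLast₃_inc₁₂ hl])
    (fun z => by
      obtain ⟨z, rfl⟩ := Ideal.Quotient.mk_surjective z
      rw [bar_mk, barL_mk, barL_mk, bar_mk, intLast₃_d₁])
    (fun z => by
      obtain ⟨z, rfl⟩ := Ideal.Quotient.mk_surjective z
      rw [bar_mk, barL_mk, barL_mk, bar_mk, intLast₃_inc₂₃])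
    (fun z => by
      obtain ⟨z, rfl⟩ := Ideal.Quotient.mk_surjective z
      rw [bar_mk, barL_mk, barL_mk, bar_mk, intLast₃_d₂ hl])
    (fun x t => by
      obtain ⟨x, rfl⟩ := Ideal.Quotient.mk_surjective x
      obtain ⟨t, rfl⟩ := Ideal.Quotient.mk_surjective t
      rw [bar_mk, ← map_mul, barL_mk, barL_mk, intLast₂_mul, map_mul])
    (fun z t => by
      obtain ⟨z, rfl⟩ := Ideal.Quotient.mk_surjective z
      obtain ⟨t, rfl⟩ := Ideal.Quotient.mk_surjective t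
      rw [bar_mk, ← map_mul, barL_mk, barL_mk, intLast₃_mul, map_mul])
    K (sq_zero J K hKJ A) (sq_zero J K hKJ _) (sq_zero J K hKJ _) w (by
      let ψ : Bar K (A ⊗[R] A) →ₐ[R] (Bar J (A ⊗[R] A)) ⧸ K.map (algebraMap R (Bar J (A ⊗[R] A))) :=
        Ideal.Quotient.liftₐ _ ((Ideal.Quotient.mkₐ R _).comp (Ideal.Quotient.mkₐ R _)) fun x hx => by
          rw [AlgHom.comp_apply, Ideal.Quotient.mkₐ_eq_mk, Ideal.Quotient.eq_zero_iff_mem]
          exact map_mem_of_linear (Ideal.Quotient.mkₐ R (J.map (algebraMap R (A ⊗[R] A)))).toLinearMap K hx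
      rw [show Ideal.Quotient.mkₐ R (K.map (algebraMap R (Bar J (A ⊗[R] A)))) = ψ.comp (red hJK _) from
          AlgHom.ext fun x => by obtain ⟨x, rfl⟩ := Ideal.Quotient.mk_surjective x; rfl,
        ptMap_comp, Category.assoc]
      simp only [MonObj.comp_mul, GrpObj.comp_inv, hpc]
      rw [show ptMap (bar K (Bialgebra.comulAlgHom R A)) ≫ u = _ from hu, MonObj.comp_mul, mul_inv_cancel])
  refine ⟨h * w, hc, ?_⟩
  let ψ : (Bar J A) ⧸ K.map (algebraMap R (Bar J A)) →ₐ[R] Bar K A :=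
    Ideal.Quotient.liftₐ _ (red hJK A) fun x hx => by rw [← ker_red hJK] at hx; exact hx
  rw [MonObj.comp_mul, hw, show red hJK A = ψ.comp (Ideal.Quotient.mkₐ R _) from rfl, ptMap_comp, Category.assoc, hh,
    MonObj.comp_one, _root_.one_mul]

/-- Homomorphisms into smooth groups lift along nilpotent ideals. -/
theorem exists_lift_homPt {l : A →ₗ[R] R} (hl : IsIntegral l) (hG : Smooth G.hom) (I : Ideal R) (hI : IsNilpotent I)
    (u₀ : pt (R := R) (Bar I A) ⟶ G) (hu₀ : CompatiblePt I u₀) :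
    ∃ u : pt (R := R) A ⟶ G, IsHomPt u ∧ ptMap (Ideal.Quotient.mkₐ R (I.map (algebraMap R A))) ≫ u = u₀ := by
  obtain ⟨N, hN⟩ := hI
  suffices hn : ∀ n : ℕ, ∃ u : pt (R := R) (Bar (I ^ (n + 1)) A) ⟶ G, CompatiblePt (I ^ (n + 1)) u ∧
      ptMap (red (Ideal.pow_le_self n.succ_ne_zero) A) ≫ u = u₀ by
    obtain ⟨u, hu, hur⟩ := hn N
    have hbot : I ^ (N + 1) = ⊥ := le_bot_iff.1 ((Ideal.pow_le_pow_right N.le_succ).trans hN.le)
    refine ⟨ptMap (unbot hbot A) ≫ u, ?_, ?_⟩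
    · have h := congrArg (ptMap (unbot hbot (A ⊗[R] A)) ≫ ·) hu
      have e : ∀ φ : A →ₐ[R] A ⊗[R] A, (unbot hbot (A ⊗[R] A)).comp (bar (I ^ (N + 1)) φ) = φ.comp (unbot hbot A) :=
        fun φ => AlgHom.ext fun x => by obtain ⟨x, rfl⟩ := Ideal.Quotient.mk_surjective x; rfl
      simp only [MonObj.comp_mul, ← Category.assoc, ← ptMap_comp, e] at h
      simp only [ptMap_comp, Category.assoc] at h
      exact h
    · rw [← Category.assoc, ← ptMap_comp, ← hur]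
      congr 2
      exact AlgHom.ext fun x => by obtain ⟨x, rfl⟩ := Ideal.Quotient.mk_surjective x; rfl
  intro n
  induction n with
  | zero =>
    obtain ⟨v, hv, hvr⟩ := exists_lift_compatiblePt hl hG (Ideal.pow_le_self (n := 0 + 1) one_ne_zero)
      (by simpa using Ideal.mul_le_left) u₀ hu₀
    exact ⟨v, hv, hvr⟩
  | succ n ih =>
    obtain ⟨u, hu, hur⟩ := ih
    obtain ⟨v, hv, hvr⟩ := exists_lift_compatiblePt hl hG (J := I ^ (n + 1 + 1)) (Ideal.pow_le_pow_right (Nat.le_succ (n + 1)))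
      (by rw [← pow_add]; exact Ideal.pow_le_pow_right (by omega)) u hu
    refine ⟨v, hv, ?_⟩
    rw [← hur, ← hvr, ← Category.assoc, ← ptMap_comp]
    congr 2
    exact AlgHom.ext fun x => (red_red (Ideal.pow_le_pow_right (Nat.le_succ (n + 1))) (Ideal.pow_le_self n.succ_ne_zero) _ x).symm

/-- A point satisfying the homomorphism condition is a homomorphism. -/
theorem isMonHom_of_isHomPt (u : hspec R A ⟶ G) (hu : IsHomPt (R := R) (A := A) u) : IsMonHom u := by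
  let i : pt (R := R) (A ⊗[R] A) ⟶ hspec R A ⊗ hspec R A :=
    lift (ptMap (i₁ (R := R) (A := A))) (ptMap (i₂ (R := R) (A := A)))
  have hi : i.left = (pullbackSpecIso R A A).inv := by
    apply pullback.hom_ext
    · have h := congrArg CommaMorphism.left (lift_fst (ptMap (i₁ (R := R) (A := A))) (ptMap (i₂ (R := R) (A := A))))
      exact Eq.trans h (pullbackSpecIso_inv_fst R A A).symm
    · have h := congrArg CommaMorphism.left (lift_snd (ptMap (i₁ (R := R) (A := A))) (ptMap (i₂ (R := R) (A := A))))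
      exact Eq.trans h (pullbackSpecIso_inv_snd R A A).symm
  have : IsIso i.left := hi ▸ inferInstance
  have : IsIso i := (Over.isoMk (asIso i.left) (Over.w i)).isIso_hom
  have hid : ∀ (T : Type u) [CommRing T] [Algebra R T] (f : A →ₐ[R] T),
      ptMap f = Spec.mapMulEquiv (toConv f) := fun T _ _ f => rfl
  have hmul : μ[hspec R A] ≫ u = (u ⊗ₘ u) ≫ μ[G] := by
    rw [← cancel_epi i]
    have e1 : i ≫ μ[hspec R A] = ptMap (Bialgebra.comulAlgHom R A) := by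
      rw [hid, comul_eq_convMul, map_mul, ← hid, ← hid]
      rfl
    rw [← Category.assoc, e1, show ptMap (Bialgebra.comulAlgHom R A) ≫ u = _ from hu, Hom.mul_def, ← Category.assoc]
    congr 1
    exact (lift_map _ _ _ _).symm
  refine { one_hom := ?_, mul_hom := hmul }
  have h := (congrArg (lift η[hspec R A] η[hspec R A] ≫ ·) hmul :)
  have h1 : (η[hspec R A] : 𝟙_ _ ⟶ hspec R A) = 1 := by rw [Hom.one_def, show toUnit (𝟙_ _) = 𝟙 _ from toUnit_unique _ _, Category.id_comp]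
  simp only [← Category.assoc, lift_map] at h
  rw [← Hom.mul_def, ← Hom.mul_def, h1, _root_.one_mul] at h
  rw [h1, Hom.one_def, show toUnit (𝟙_ _) = 𝟙 _ from toUnit_unique _ _, Category.id_comp] at *
  have h2 := mul_eq_left.1 h.symm
  rw [h2, Hom.one_def, show toUnit (𝟙_ _) = 𝟙 _ from toUnit_unique _ _, Category.id_comp]

end Groth.Agent.MultHopf
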