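import Groth.Agent.MultHopf.TypeDecomp
import Groth.Agent.MultHopf.IsoLift
import Groth.Agent.AlgSpLoc.EtaleLift

/-!
# Quasi-isotrivial groups lift along nil ideals
-/

set_option autoImplicit false
set_option backward.isDefEq.respectTransparency.types false
set_option maxHeartbeats 1000000
set_option synthInstance.maxHeartbeats 100000

universe u

open scoped TensorProduct
open SGA3b Coalgebra
open Algebra.TensorProduct (includeLeft includeRight)

namespace Groth.Agent.MultHopf

open Twist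

/-- Base change of an isomorphism of bialgebras. -/
theorem nonempty_bc_bialgEquiv {R T A B : Type u} [CommRing R] [CommRing T] [Algebra R T] [CommRing A] [HopfAlgebra R A]
    [CommRing B] [HopfAlgebra R B] (e : A ≃ₐc[R] B) : Nonempty (T ⊗[R] A ≃ₐc[T] T ⊗[R] B) :=
  ⟨BialgEquiv.ofBijective (Bialgebra.TensorProduct.map (BialgHom.id T T) (e : _ →ₐc[R] _)) (by
      refine Function.bijective_iff_has_inverse.2 ⟨Bialgebra.TensorProduct.map (BialgHom.id T T) (e.symm : _ →ₐc[R] _), fun z => ?_, fun z => ?_⟩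
      all_goals
        induction z using TensorProduct.induction_on with
        | zero => simp
        | add x y hx hy => simp only [map_add, hx, hy]
        | tmul s a => simp)⟩

/-- Split groups lift along nil ideals. -/
theorem exists_lift_nil {R : Type u} [CommRing R] (I : Ideal R) (hI : ∀ x ∈ I, IsNilpotent x) {A₀ : Type u} [CommRing A₀]
    [HopfAlgebra (R ⧸ I) A₀] {S₀ : Type u} [CommRing S₀] [Algebra (R ⧸ I) S₀] [Algebra.Etale (R ⧸ I) S₀]
    [Module.FaithfullyFlat (R ⧸ I) S₀] (h : IsDiag S₀ (S₀ ⊗[R ⧸ I] A₀)) :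
    ∃ (A : Type u) (_ : CommRing A) (_ : HopfAlgebra R A) (S : Type u) (_ : CommRing S) (_ : Algebra R S),
      Algebra.Etale R S ∧ Module.FaithfullyFlat R S ∧
      IsDiag S (S ⊗[R] A) ∧ Nonempty ((R ⧸ I) ⊗[R] A ≃ₐc[R ⧸ I] A₀) := by
  classical
  obtain ⟨M, _, ⟨e₀⟩⟩ := h
  obtain ⟨S, _, _, het, ⟨σ⟩⟩ := AlgSpLoc.exists_etale_lift R I S₀
  have := het
  let : Algebra R S₀ := ((algebraMap (R ⧸ I) S₀).comp (algebraMap R (R ⧸ I))).toAlgebra
  have : IsScalarTower R (R ⧸ I) S₀ := IsScalarTower.of_algebraMap_eq fun _ => rfl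
  let π : S →ₐ[R] S₀ := (σ.toAlgHom.restrictScalars R).comp includeRight
  have hπ : IsBC (R' := R ⧸ I) π := by
    unfold IsBC
    rw [show Algebra.TensorProduct.lift (Algebra.ofId (R ⧸ I) S₀) π (fun _ _ => Commute.all _ _) = σ.toAlgHom from
      Algebra.TensorProduct.ext (by ext) (AlgHom.ext fun a => by simp [π])]
    exact σ.bijective
  have hjac : I ≤ Ideal.jacobson ⊥ := fun x hx => Ideal.mem_jacobson_bot.2 fun y => by
    obtain ⟨n, hn⟩ := hI x hx
    exact IsNilpotent.isUnit_add_one ⟨n, by rw [mul_pow, hn, zero_mul]⟩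
  have : Module.FaithfullyFlat R S := faithfullyFlat_of_reduction I hjac π
  have hint : ∀ (T : Type u) [CommRing T] [Algebra R T], IdemLifts (I.map (algebraMap R T)) :=
    fun T _ _ => idemLifts_of_nil (isNil_map hI T)
  obtain ⟨A, _, _, ⟨eA⟩, hA'⟩ := exists_lift_quot I π hπ (hint _) (hint _) e₀
  exact ⟨A, inferInstance, inferInstance, S, inferInstance, inferInstance, het, inferInstance, ⟨M, inferInstance, ⟨eA⟩⟩, hA'⟩

/-- Quasi-isotrivial groups lift along nil ideals. -/
theorem exists_lift_quasiIsotrivial {R : Type u} [CommRing R] (I : Ideal R) (hI : ∀ x ∈ I, IsNilpotent x)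
    (A₀ : Type u) [CommRing A₀] [HopfAlgebra (R ⧸ I) A₀] (h0 : IsQuasiIsotrivial (R ⧸ I) A₀) :
    ∃ (A : Type u) (_ : CommRing A) (_ : HopfAlgebra R A),
      IsQuasiIsotrivial R A ∧ Nonempty ((R ⧸ I) ⊗[R] A ≃ₐc[R ⧸ I] A₀) := by
  classical
  obtain ⟨ι, _, ε₀, hε₀, hpieces⟩ := exists_type_decomp h0
  obtain ⟨ε, hε, hεq⟩ := CompleteOrthogonalIdempotents.lift_of_isNilpotent_ker (Ideal.Quotient.mk I)
    (fun x hx => hI x (by rwa [Ideal.mk_ker] at hx)) hε₀ (fun i => Ideal.Quotient.mk_surjective (ε₀ i))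
  have hεq' : ∀ c, Ideal.Quotient.mk I (ε c) = ε₀ c := fun c => congrFun hεq c
  let Rc : ι → Type u := fun c => R ⧸ Ideal.span {1 - ε c}
  have hone : ∀ c, algebraMap R (Rc c) (ε c) = 1 := fun c => by
    have : algebraMap R (Rc c) (1 - ε c) = 0 := Ideal.Quotient.eq_zero_iff_mem.2 (Ideal.mem_span_singleton_self _)
    rwa [map_sub, map_one, sub_eq_zero, eq_comm] at this
  have happly : ∀ c d, algebraMap R (Rc d) (ε c) = if c = d then 1 else 0 := fun c d => by
    split_ifs with h
    · subst h; exact hone c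
    · rw [← mul_one (algebraMap R (Rc d) (ε c)), ← hone d, ← map_mul, hε.ortho h, map_zero]
  let D : Glue.Decomp (R := R) Rc :=
    { ε := ε, sum := hε.complete, surj := fun c => Ideal.Quotient.mk_surjective, apply := happly,
      ker := fun c r hr => by
        obtain ⟨b, rfl⟩ := Ideal.mem_span_singleton'.1 (Ideal.Quotient.eq_zero_iff_mem.1 hr)
        rw [mul_left_comm, mul_sub, mul_one, (hε.idem c).eq, sub_self, mul_zero] }
  let B : ι → Type u := fun c => Rc c ⧸ I.map (algebraMap R (Rc c))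
  let : ∀ c, CommRing (B c) := fun c => Ideal.Quotient.commRing _
  let : ∀ c, Algebra (R ⧸ I) (B c) := fun c =>
    (Ideal.Quotient.lift I (algebraMap R (B c)) fun r hr => Ideal.Quotient.eq_zero_iff_mem.2 (Ideal.mem_map_of_mem _ hr)).toAlgebra
  have : ∀ c, IsScalarTower R (R ⧸ I) (B c) := fun c => IsScalarTower.of_algebraMap_eq fun _ => rfl
  have hlift : ∀ c, ∃ (A : Type u) (_ : CommRing A) (_ : HopfAlgebra (Rc c) A) (S : Type u) (_ : CommRing S)
      (_ : Algebra (Rc c) S), Algebra.Etale (Rc c) S ∧ Module.FaithfullyFlat (Rc c) S ∧ IsDiag S (S ⊗[Rc c] A) ∧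
      Nonempty (B c ⊗[Rc c] A ≃ₐc[B c] B c ⊗[R ⧸ I] A₀) := fun c => by
    obtain ⟨S₀, _, _, _, _, het, hff, hdiag⟩ := hpieces c
    let B₀ := (R ⧸ I) ⧸ Ideal.span {1 - ε₀ c}
    let g : B₀ →ₐ[R ⧸ I] B c := Ideal.Quotient.liftₐ _ (Algebra.ofId (R ⧸ I) (B c)) fun a ha => by
      obtain ⟨b, rfl⟩ := Ideal.mem_span_singleton'.1 ha
      show algebraMap (R ⧸ I) (B c) (b * (1 - ε₀ c)) = 0
      rw [map_mul, ← hεq', ← map_one (Ideal.Quotient.mk I), ← map_sub]
      show _ * algebraMap R (B c) (1 - ε c) = 0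
      rw [IsScalarTower.algebraMap_apply R (Rc c) (B c), map_sub, map_one, hone, sub_self, map_zero, mul_zero]
    let : Algebra B₀ (B c) := g.toRingHom.toAlgebra
    have : IsScalarTower (R ⧸ I) B₀ (B c) := IsScalarTower.of_algebraMap_eq fun r => (g.commutes r).symm
    have := het
    have := hff
    let S' := B c ⊗[B₀] S₀
    obtain ⟨M, _, ⟨e⟩⟩ := hdiag
    let gS : S₀ →ₐ[R ⧸ I] S' :=
      { (includeRight : S₀ →ₐ[B₀] S').toRingHom with
        commutes' := fun r => ((includeRight : S₀ →ₐ[B₀] S').restrictScalars (R ⧸ I)).commutes r }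
    obtain ⟨e'⟩ := nonempty_diag_bc (S₂ := S') gS e
    have hd : IsDiag S' (S' ⊗[B c] (B c ⊗[R ⧸ I] A₀)) :=
      ⟨M, inferInstance, ⟨(cancelBC (R ⧸ I) (B c) S' A₀).trans e'⟩⟩
    exact exists_lift_nil (I.map (algebraMap R (Rc c))) (isNil_map hI (Rc c)) hd
  choose A _ _ S _ _ hSet hSff hSd hAe using hlift
  obtain ⟨X, _, _, hX⟩ := Glue.exists_glue_hopf D A
  refine ⟨X, inferInstance, inferInstance, ⟨Set.range ε, ?_, ?_⟩, ?_⟩
  · rw [Ideal.eq_top_iff_one, ← hε.complete]
    exact sum_mem fun c _ => Ideal.subset_span ⟨c, rfl⟩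
  · rintro _ ⟨c, rfl⟩
    let L := Localization.Away (ε c)
    have h1 : algebraMap R L (ε c) = 1 :=
      (IsLocalization.Away.algebraMap_isUnit (ε c)).mul_eq_left.1 (by rw [← map_mul, (hε.idem c).eq])
    let : Algebra (Rc c) L := (Ideal.Quotient.lift _ (algebraMap R L) fun a ha => by
      obtain ⟨b, rfl⟩ := Ideal.mem_span_singleton'.1 ha
      rw [map_mul, map_sub, map_one, h1, sub_self, mul_zero]).toAlgebra
    have : IsScalarTower R (Rc c) L := IsScalarTower.of_algebraMap_eq fun _ => rfl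
    have := hSet c
    have := hSff c
    let S' := L ⊗[Rc c] S c
    let : Algebra R (S c) := ((algebraMap (Rc c) (S c)).comp (algebraMap R (Rc c))).toAlgebra
    have : IsScalarTower R (Rc c) (S c) := IsScalarTower.of_algebraMap_eq fun _ => rfl
    obtain ⟨M, _, ⟨e⟩⟩ := hSd c
    obtain ⟨eX⟩ := hX c
    obtain ⟨eS⟩ := nonempty_bc_bialgEquiv (T := S c) eX
    obtain ⟨e'⟩ := nonempty_diag_bc ((includeRight : S c →ₐ[Rc c] S').restrictScalars R)
      ((cancelBC R (Rc c) (S c) X).symm.trans (eS.trans e))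
    exact ⟨S', inferInstance, inferInstance, inferInstance, inferInstance, M, inferInstance,
      ⟨(cancelBC R L S' X).trans e'⟩⟩
  · let D₀ : Glue.Decomp (R := R ⧸ I) B :=
      { ε := ε₀
        sum := hε₀.complete
        surj := fun c x => by
          obtain ⟨y, rfl⟩ := Ideal.Quotient.mk_surjective x
          obtain ⟨z, rfl⟩ := Ideal.Quotient.mk_surjective y
          exact ⟨Ideal.Quotient.mk I z, rfl⟩
        apply := fun c d => by
          rw [← hεq']
          show algebraMap R (B d) (ε c) = _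
          rw [IsScalarTower.algebraMap_apply R (Rc d) (B d), happly]
          split_ifs
          · exact map_one _
          · exact map_zero _
        ker := fun c r hr => by
          obtain ⟨z, rfl⟩ := Ideal.Quotient.mk_surjective r
          have hz : algebraMap R (Rc c) z ∈ I.map (algebraMap R (Rc c)) := Ideal.Quotient.eq_zero_iff_mem.1 hr
          obtain ⟨i, hi, hiz⟩ := (Ideal.mem_map_iff_of_surjective _ Ideal.Quotient.mk_surjective).1 hz
          obtain ⟨b, hb⟩ := Ideal.mem_span_singleton'.1 (Ideal.Quotient.eq.1 hiz)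
          rw [← hεq', ← map_mul, Ideal.Quotient.eq_zero_iff_mem,
            show z = i - b * (1 - ε c) by rw [hb]; ring, mul_sub, mul_left_comm, mul_sub (ε c), mul_one, (hε.idem c).eq,
            sub_self, mul_zero, sub_zero]
          exact I.mul_mem_left _ hi }
    refine Glue.nonempty_equiv_of_pieces D₀ fun c => Classical.choice ?_
    obtain ⟨eX⟩ := hX c
    obtain ⟨eB⟩ := nonempty_bc_bialgEquiv (T := B c) eX
    obtain ⟨eA⟩ := hAe c
    exact ⟨((cancelBC R (R ⧸ I) (B c) X).trans (cancelBC R (Rc c) (B c) X).symm).trans (eB.trans eA)⟩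

end Groth.Agent.MultHopf
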