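import Groth.Agent.MultHopf.GroupLike
import Groth.Agent.MultHopf.HomLocus
import Mathlib.RingTheory.TensorProduct.MonoidAlgebra
import Mathlib.RingTheory.Flat.FaithfullyFlat.Algebra
import Mathlib.LinearAlgebra.TensorProduct.RightExactness

/-!
# Group-like elements of base changes, and their coordinates in a splitting
-/

set_option autoImplicit false
set_option backward.isDefEq.respectTransparency.types false

universe u

open scoped TensorProduct
open Algebra.TensorProduct (includeLeft includeRight)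

namespace Groth.Agent.MultHopf

variable {R : Type u} [CommRing R] {A : Type u} [CommRing A] [HopfAlgebra R A]
  {T T' : Type u} [CommRing T] [Algebra R T] [CommRing T'] [Algebra R T']

variable (A) in
/-- Change of coefficients on `T ⊗ A`. -/
noncomputable abbrev mapT (φ : T →ₐ[R] T') : T ⊗[R] A →ₐ[R] T' ⊗[R] A :=
  Algebra.TensorProduct.map φ (AlgHom.id R A)

theorem mapT_tmul (φ : T →ₐ[R] T') (t : T) (x : A) : mapT A φ (t ⊗ₜ[R] x) = φ t ⊗ₜ[R] x := rfl

theorem mapT_mapT {T'' : Type u} [CommRing T''] [Algebra R T''] (φ : T →ₐ[R] T') (ψ : T' →ₐ[R] T'')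
    (z : T ⊗[R] A) : mapT A ψ (mapT A φ z) = mapT A (ψ.comp φ) z := by
  induction z using TensorProduct.induction_on with
  | zero => simp
  | tmul t x => simp
  | add x y hx hy => simp only [map_add, hx, hy]

variable (R A T) in
/-- The counit, extended. -/
noncomputable def counitT : T ⊗[R] A →ₐ[T] T :=
  Algebra.TensorProduct.lift (Algebra.ofId T T) ((Algebra.ofId R T).comp (Bialgebra.counitAlgHom R A))
    fun _ _ => Commute.all _ _

theorem counitT_tmul (t : T) (x : A) :
    counitT R A T (t ⊗ₜ[R] x) = t * algebraMap R T (Coalgebra.counit (R := R) x) := by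
  simp [counitT, Algebra.ofId_apply]

variable (R A T) in
/-- The comultiplication, extended. -/
noncomputable def comulT : T ⊗[R] A →ₐ[T] T ⊗[R] (A ⊗[R] A) :=
  Algebra.TensorProduct.map (AlgHom.id T T) (Bialgebra.comulAlgHom R A)

variable (R A T) in
/-- First factor. -/
noncomputable def leftT : T ⊗[R] A →ₐ[T] T ⊗[R] (A ⊗[R] A) :=
  Algebra.TensorProduct.map (AlgHom.id T T) (includeLeft : A →ₐ[R] A ⊗[R] A)

variable (R A T) in
/-- Second factor. -/
noncomputable def rightT : T ⊗[R] A →ₐ[T] T ⊗[R] (A ⊗[R] A) :=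
  Algebra.TensorProduct.map (AlgHom.id T T) (includeRight : A →ₐ[R] A ⊗[R] A)

theorem comulT_tmul (t : T) (x : A) : comulT R A T (t ⊗ₜ[R] x) = t ⊗ₜ[R] Coalgebra.comul (R := R) x := rfl

theorem leftT_tmul (t : T) (x : A) : leftT R A T (t ⊗ₜ[R] x) = t ⊗ₜ[R] (x ⊗ₜ[R] (1 : A)) := rfl

theorem rightT_tmul (t : T) (x : A) : rightT R A T (t ⊗ₜ[R] x) = t ⊗ₜ[R] ((1 : A) ⊗ₜ[R] x) := rfl

/-- Group-like elements of `T ⊗ A`. -/
structure GLT (z : T ⊗[R] A) : Prop where
  counit : counitT R A T z = 1
  comul : comulT R A T z = leftT R A T z * rightT R A T z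

theorem GLT.one : GLT (1 : T ⊗[R] A) := ⟨map_one _, by rw [map_one, map_one, map_one, mul_one]⟩

theorem GLT.mul {z w : T ⊗[R] A} (hz : GLT z) (hw : GLT w) : GLT (z * w) :=
  ⟨by rw [map_mul, hz.counit, hw.counit, mul_one],
    by rw [map_mul, map_mul, map_mul, hz.comul, hw.comul, mul_mul_mul_comm]⟩

theorem counitT_mapT (φ : T →ₐ[R] T') (z : T ⊗[R] A) :
    counitT R A T' (mapT A φ z) = φ (counitT R A T z) := by
  induction z using TensorProduct.induction_on with
  | zero => simp
  | tmul t x => simp [counitT_tmul]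
  | add x y hx hy => simp only [map_add, hx, hy]

theorem comulT_mapT (φ : T →ₐ[R] T') (z : T ⊗[R] A) :
    comulT R A T' (mapT A φ z) = Algebra.TensorProduct.map φ (AlgHom.id R (A ⊗[R] A)) (comulT R A T z) := by
  induction z using TensorProduct.induction_on with
  | zero => simp
  | tmul t x => rfl
  | add x y hx hy => simp only [map_add, hx, hy]

theorem leftT_mapT (φ : T →ₐ[R] T') (z : T ⊗[R] A) :
    leftT R A T' (mapT A φ z) = Algebra.TensorProduct.map φ (AlgHom.id R (A ⊗[R] A)) (leftT R A T z) := by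
  induction z using TensorProduct.induction_on with
  | zero => simp
  | tmul t x => rfl
  | add x y hx hy => simp only [map_add, hx, hy]

theorem rightT_mapT (φ : T →ₐ[R] T') (z : T ⊗[R] A) :
    rightT R A T' (mapT A φ z) = Algebra.TensorProduct.map φ (AlgHom.id R (A ⊗[R] A)) (rightT R A T z) := by
  induction z using TensorProduct.induction_on with
  | zero => simp
  | tmul t x => rfl
  | add x y hx hy => simp only [map_add, hx, hy]

theorem GLT.map {z : T ⊗[R] A} (hz : GLT z) (φ : T →ₐ[R] T') : GLT (mapT A φ z) :=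
  ⟨by rw [counitT_mapT, hz.counit, map_one],
    by rw [comulT_mapT, hz.comul, map_mul, leftT_mapT, rightT_mapT]⟩

theorem GLT.isUnit {z : T ⊗[R] A} (hz : GLT z) : IsUnit z := by
  let g : A ⊗[R] A →ₐ[R] A :=
    Algebra.TensorProduct.lift (AlgHom.id R A) (HopfAlgebra.antipodeAlgHom R A) fun _ _ => Commute.all _ _
  let gT : T ⊗[R] (A ⊗[R] A) →ₐ[T] T ⊗[R] A := Algebra.TensorProduct.map (AlgHom.id T T) g
  have hg : ∀ x : A, g (Coalgebra.comul (R := R) x) = algebraMap R A (Coalgebra.counit (R := R) x) := fun x => by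
    rw [← HopfAlgebra.mul_antipode_lTensor_comul_apply (R := R) x]
    induction Coalgebra.comul (R := R) x using TensorProduct.induction_on with
    | zero => simp
    | tmul p q => simp [g]
    | add p q hp hq => simp only [map_add, hp, hq]
  have h1 : ∀ w : T ⊗[R] A, gT (comulT R A T w) = algebraMap T (T ⊗[R] A) (counitT R A T w) := fun w => by
    induction w using TensorProduct.induction_on with
    | zero => simp
    | tmul t x =>
      show t ⊗ₜ[R] g (Coalgebra.comul (R := R) x) = _
      rw [hg, counitT_tmul, Algebra.TensorProduct.algebraMap_apply, Algebra.algebraMap_self, RingHom.id_apply,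
        Algebra.algebraMap_eq_smul_one, TensorProduct.tmul_smul, TensorProduct.smul_tmul', Algebra.smul_def, mul_comm]
    | add p q hp hq => simp only [map_add, hp, hq]
  have h2 : ∀ w : T ⊗[R] A, gT (leftT R A T w) = w := fun w => by
    induction w using TensorProduct.induction_on with
    | zero => simp
    | tmul t x => simp [gT, leftT_tmul, g]
    | add p q hp hq => simp only [map_add, hp, hq]
  refine IsUnit.of_mul_eq_one (gT (rightT R A T z)) ?_
  have h := congrArg gT hz.comul
  rw [h1, hz.counit, map_one, map_mul, h2] at h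
  exact h.symm

theorem tmul_comm_one (t : T) (p q : A) :
    (t ⊗ₜ[R] p) ⊗ₜ[T] ((1 : T) ⊗ₜ[R] q) = ((1 : T) ⊗ₜ[R] p) ⊗ₜ[T] (t ⊗ₜ[R] q) := by
  rw [show t ⊗ₜ[R] p = t • ((1 : T) ⊗ₜ[R] p) by rw [TensorProduct.smul_tmul', smul_eq_mul, mul_one],
    TensorProduct.smul_tmul, TensorProduct.smul_tmul', smul_eq_mul, mul_one]

/-- The map to `(T ⊗ A) ⊗_T (T ⊗ A)`. -/
noncomputable def splitT : T ⊗[R] (A ⊗[R] A) →ₐ[T] (T ⊗[R] A) ⊗[T] (T ⊗[R] A) :=
  Algebra.TensorProduct.lift (Algebra.ofId T _)
    (Algebra.TensorProduct.lift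
      (((includeLeft : T ⊗[R] A →ₐ[T] (T ⊗[R] A) ⊗[T] (T ⊗[R] A)).restrictScalars R).comp includeRight)
      (((includeRight : T ⊗[R] A →ₐ[T] (T ⊗[R] A) ⊗[T] (T ⊗[R] A)).restrictScalars R).comp includeRight)
      fun _ _ => Commute.all _ _) fun _ _ => Commute.all _ _

theorem GLT.isGroupLikeElem {z : T ⊗[R] A} (hz : GLT z) :
    Coalgebra.counit (R := T) z = 1 ∧ Coalgebra.comul (R := T) z = z ⊗ₜ[T] z := by
  have hc : ∀ w : T ⊗[R] A, Coalgebra.counit (R := T) w = counitT R A T w := fun w => by
    induction w using TensorProduct.induction_on with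
    | zero => simp
    | tmul t x => simp [counitT_tmul, Algebra.smul_def, mul_comm]
    | add p q hp hq => simp only [map_add, hp, hq]
  have hd : ∀ w : T ⊗[R] A, Coalgebra.comul (R := T) w = splitT (comulT R A T w) := fun w => by
    induction w using TensorProduct.induction_on with
    | zero => simp
    | tmul t x =>
      rw [comulT_tmul, TensorProduct.comul_tmul, CommSemiring.comul_apply]
      induction Coalgebra.comul (R := R) x using TensorProduct.induction_on with
      | zero => simp
      | tmul p q =>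
        simp [splitT, Algebra.ofId_apply, Algebra.TensorProduct.algebraMap_apply]
        exact (tmul_comm_one t p q).symm
      | add p q hp hq => simp only [TensorProduct.tmul_add, map_add, hp, hq]
    | add p q hp hq => simp only [map_add, hp, hq]
  have hl : ∀ w : T ⊗[R] A, splitT (leftT R A T w) = w ⊗ₜ[T] (1 : T ⊗[R] A) := fun w => by
    induction w using TensorProduct.induction_on with
    | zero => simp
    | tmul t x => simp [splitT, leftT_tmul, Algebra.ofId_apply, Algebra.TensorProduct.algebraMap_apply, ← Algebra.TensorProduct.one_def]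
    | add p q hp hq => simp only [TensorProduct.add_tmul, map_add, hp, hq]
  have hr : ∀ w : T ⊗[R] A, splitT (rightT R A T w) = (1 : T ⊗[R] A) ⊗ₜ[T] w := fun w => by
    induction w using TensorProduct.induction_on with
    | zero => simp
    | tmul t x =>
      simp [splitT, rightT_tmul, Algebra.ofId_apply, Algebra.TensorProduct.algebraMap_apply']
      rw [tmul_comm_one, ← Algebra.TensorProduct.one_def]
    | add p q hp hq => simp only [TensorProduct.tmul_add, map_add, hp, hq]
  refine ⟨by rw [hc, hz.counit], ?_⟩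
  rw [hd, hz.comul, map_mul, hl, hr, Algebra.TensorProduct.tmul_mul_tmul, mul_one, one_mul]

/-- A monoid map to group-likes gives a map of bialgebras. -/
theorem exists_bialgHom_of_GLT {M : Type u} [CommGroup M] (γ : M →* T ⊗[R] A) (hγ : ∀ n, GLT (γ n)) :
    ∃ Φ : MonoidAlgebra T M →ₐc[T] T ⊗[R] A, ∀ n, Φ (MonoidAlgebra.single n 1) = γ n := by
  refine ⟨BialgHom.ofAlgHom (MonoidAlgebra.lift T (T ⊗[R] A) M γ) ?_ ?_, fun n => ?_⟩
  rotate_left 2
  · show MonoidAlgebra.lift T (T ⊗[R] A) M γ (MonoidAlgebra.single n 1) = γ n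
    simp
  · ext n
    simp [(hγ n).isGroupLikeElem.1]
  · ext n
    simp [(hγ n).isGroupLikeElem.2, CommSemiring.comul_apply]

variable (R A) in
/-- A splitting over `R'`. -/
structure SplitData (R' : Type u) [CommRing R'] [Algebra R R'] (M : Type u) [CommGroup M] where
  f : A →ₐ[R] MonoidAlgebra R' M
  ζ : M →* R' ⊗[R] A
  gl : ∀ n, GLT (ζ n)
  f_ζ : ∀ n, Algebra.TensorProduct.lift (Algebra.ofId R' (MonoidAlgebra R' M)) f (fun _ _ => Commute.all _ _) (ζ n) =
    MonoidAlgebra.single n 1
  ζ_f : ∀ x, MonoidAlgebra.lift R' (R' ⊗[R] A) M ζ (f x) = (1 : R') ⊗ₜ[R] x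

variable {R' : Type u} [CommRing R'] [Algebra R R'] {M : Type u} [CommGroup M]

theorem exists_splitData (e : R' ⊗[R] A ≃ₐc[R'] MonoidAlgebra R' M) : Nonempty (SplitData R A R' M) := by
  let eH : R' ⊗[R] A →ₐc[R'] MonoidAlgebra R' M := e
  let eA : R' ⊗[R] A →ₐ[R'] MonoidAlgebra R' M := eH
  let iH : MonoidAlgebra R' M →ₐc[R'] R' ⊗[R] A := e.symm
  let iA : MonoidAlgebra R' M →ₐ[R'] R' ⊗[R] A := iH
  let γ : M →* R' ⊗[R] A := iA.toRingHom.toMonoidHom.comp (MonoidAlgebra.of R' M)
  have hγ : ∀ n, γ n = e.symm (MonoidAlgebra.single n 1) := fun n => rfl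
  let Ψ : (R' ⊗[R] A) ⊗[R'] (R' ⊗[R] A) →ₐ[R'] R' ⊗[R] (A ⊗[R] A) :=
    Algebra.TensorProduct.lift (leftT R A R') (rightT R A R') fun _ _ => Commute.all _ _
  have hΨ : ∀ w : R' ⊗[R] A, Ψ (Coalgebra.comul (R := R') w) = comulT R A R' w := fun w => by
    induction w using TensorProduct.induction_on with
    | zero => simp
    | tmul t x =>
      rw [comulT_tmul, TensorProduct.comul_tmul, CommSemiring.comul_apply]
      induction Coalgebra.comul (R := R) x using TensorProduct.induction_on with
      | zero => simp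
      | tmul p q => simp [Ψ, leftT_tmul, rightT_tmul]
      | add p q hp hq => simp only [TensorProduct.tmul_add, map_add, hp, hq]
    | add p q hp hq => simp only [map_add, hp, hq]
  refine ⟨{ f := (eA.restrictScalars R).comp includeRight, ζ := γ, gl := fun n => ⟨?_, ?_⟩, f_ζ := fun n => ?_, ζ_f := fun x => ?_ }⟩
  · have h : Coalgebra.counit (R := R') (e.symm (MonoidAlgebra.single n 1)) = 1 := by
      rw [CoalgHomClass.counit_comp_apply, MonoidAlgebra.counit_single]
      simp
    rw [hγ]
    refine Eq.trans ?_ h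
    induction e.symm (MonoidAlgebra.single n 1) using TensorProduct.induction_on with
    | zero => simp
    | tmul t x => simp [counitT_tmul, Algebra.smul_def, mul_comm]
    | add p q hp hq => simp only [map_add, hp, hq]
  · have h : Coalgebra.comul (R := R') (e.symm (MonoidAlgebra.single n 1)) =
        TensorProduct.map (iH : MonoidAlgebra R' M →ₗ[R'] R' ⊗[R] A) (iH : MonoidAlgebra R' M →ₗ[R'] R' ⊗[R] A)
          (Coalgebra.comul (R := R') (MonoidAlgebra.single n (1 : R'))) :=
      (LinearMap.congr_fun iH.toCoalgHom.map_comp_comul _).symm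
    rw [← hΨ, hγ, h, MonoidAlgebra.comul_single]
    simp [CommSemiring.comul_apply, Ψ, iH]
  · have h : Algebra.TensorProduct.lift (Algebra.ofId R' (MonoidAlgebra R' M)) ((eA.restrictScalars R).comp includeRight)
        (fun _ _ => Commute.all _ _) = eA := Algebra.TensorProduct.ext_ring (AlgHom.ext fun x => by simp)
    rw [h, hγ]
    exact e.apply_symm_apply _
  · have h : MonoidAlgebra.lift R' (R' ⊗[R] A) M γ = iA := by
      ext n
      simp [hγ, iA, iH]
    rw [h]
    exact e.symm_apply_apply _

namespace SplitData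

variable (D : SplitData R A R' M) {a : R' →ₐ[R] T}

/-- The coordinate map along `a`. -/
noncomputable def θ (a : R' →ₐ[R] T) : T ⊗[R] A →ₐ[T] MonoidAlgebra T M :=
  Algebra.TensorProduct.lift (Algebra.ofId T _) ((MonoidAlgebra.mapAlgHom M a).comp D.f) fun _ _ => Commute.all _ _

/-- The basic group-likes along `a`. -/
noncomputable def zAt (a : R' →ₐ[R] T) : M →* T ⊗[R] A :=
  (mapT A a).toRingHom.toMonoidHom.comp D.ζ

/-- The coordinates. -/
noncomputable def coeff (a : R' →ₐ[R] T) (z : T ⊗[R] A) (n : M) : T := (D.θ a z).coeff n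

theorem zAt_apply (n : M) : D.zAt a n = mapT A a (D.ζ n) := rfl

theorem glt_zAt (n : M) : GLT (D.zAt a n) := (D.gl n).map a

theorem θ_tmul (t : T) (x : A) : D.θ a (t ⊗ₜ[R] x) = t • MonoidAlgebra.mapAlgHom M a (D.f x) := by
  simp [θ, Algebra.smul_def, Algebra.ofId_apply]

theorem mapT_zAt (φ : T →ₐ[R] T') (n : M) : mapT A φ (D.zAt a n) = D.zAt (φ.comp a) n := by
  rw [zAt_apply, zAt_apply, mapT_mapT]

theorem θ_mapT (φ : T →ₐ[R] T') (z : T ⊗[R] A) :
    D.θ (φ.comp a) (mapT A φ z) = MonoidAlgebra.mapAlgHom M φ (D.θ a z) := by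
  induction z using TensorProduct.induction_on with
  | zero => simp
  | tmul t x =>
    rw [mapT_tmul, θ_tmul, θ_tmul, Algebra.smul_def, Algebra.smul_def, map_mul]
    congr 1
    · simp [MonoidAlgebra.coe_algebraMap]
    · induction D.f x using MonoidAlgebra.induction_linear with
      | zero => simp
      | add p q hp hq => simp only [map_add, hp, hq]
      | single n r => simp
  | add x y hx hy => simp only [map_add, hx, hy]

theorem coeff_mapT (φ : T →ₐ[R] T') (z : T ⊗[R] A) (n : M) :
    D.coeff (φ.comp a) (mapT A φ z) n = φ (D.coeff a z n) := by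
  rw [coeff, θ_mapT]
  simp [coeff]

theorem θ_zAt (n : M) : D.θ a (D.zAt a n) = MonoidAlgebra.single n 1 := by
  have h : ∀ z : R' ⊗[R] A, D.θ a (mapT A a z) = MonoidAlgebra.mapAlgHom M a
      (Algebra.TensorProduct.lift (Algebra.ofId R' (MonoidAlgebra R' M)) D.f (fun _ _ => Commute.all _ _) z) := by
    intro z
    induction z using TensorProduct.induction_on with
    | zero => simp
    | tmul t x => simp [θ_tmul, Algebra.smul_def, Algebra.ofId_apply, MonoidAlgebra.coe_algebraMap]
    | add x y hx hy => simp only [map_add, hx, hy]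
  rw [zAt_apply, h, D.f_ζ]
  simp

theorem lift_θ (z : T ⊗[R] A) : MonoidAlgebra.lift T (T ⊗[R] A) M (D.zAt a) (D.θ a z) = z := by
  have h : ∀ w : MonoidAlgebra R' M, MonoidAlgebra.lift T (T ⊗[R] A) M (D.zAt a) (MonoidAlgebra.mapAlgHom M a w) =
      mapT A a (MonoidAlgebra.lift R' (R' ⊗[R] A) M D.ζ w) := by
    intro w
    induction w using MonoidAlgebra.induction_linear with
    | zero => simp
    | add p q hp hq => simp only [map_add, hp, hq]
    | single n r =>
      simp [Algebra.smul_def, Algebra.TensorProduct.algebraMap_apply, zAt_apply]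
  induction z using TensorProduct.induction_on with
  | zero => simp
  | tmul t x => rw [θ_tmul, map_smul, h, D.ζ_f, mapT_tmul, map_one, TensorProduct.smul_tmul', smul_eq_mul, mul_one]
  | add x y hx hy => simp only [map_add, hx, hy]

theorem θ_injective : Function.Injective (D.θ a) := Function.LeftInverse.injective D.lift_θ

theorem θ_lift (w : MonoidAlgebra T M) : D.θ a (MonoidAlgebra.lift T (T ⊗[R] A) M (D.zAt a) w) = w := by
  induction w using MonoidAlgebra.induction_linear with
  | zero => simp
  | add p q hp hq => simp only [map_add, hp, hq]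
  | single n r => simp [θ_zAt]

theorem eq_sum (z : T ⊗[R] A) :
    z = ∑ n ∈ (D.θ a z).coeff.support, D.coeff a z n • D.zAt a n := by
  conv_lhs => rw [← D.lift_θ (a := a) z, ← MonoidAlgebra.sum_coeff_single (D.θ a z)]
  rw [Finsupp.sum, map_sum]
  exact Finset.sum_congr rfl fun n _ => by simp [coeff]

theorem ext {z w : T ⊗[R] A} (h : ∀ n, D.coeff a z n = D.coeff a w n) : z = w :=
  D.θ_injective (MonoidAlgebra.coeff_injective (Finsupp.ext h))

theorem isGL [DecidableEq M] {z : T ⊗[R] A} (hz : GLT z) : IsGL (D.θ a z) := by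
  let fa : A →ₐ[R] MonoidAlgebra T M := (MonoidAlgebra.mapAlgHom M a).comp D.f
  let Ψ : T ⊗[R] (A ⊗[R] A) →ₐ[T] MonoidAlgebra T M ⊗[T] MonoidAlgebra T M :=
    Algebra.TensorProduct.lift (Algebra.ofId T _)
      (Algebra.TensorProduct.lift
        (((includeLeft : MonoidAlgebra T M →ₐ[T] _ ⊗[T] MonoidAlgebra T M).restrictScalars R).comp fa)
        (((includeRight : MonoidAlgebra T M →ₐ[T] MonoidAlgebra T M ⊗[T] _).restrictScalars R).comp fa)
        fun _ _ => Commute.all _ _) fun _ _ => Commute.all _ _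
  have hl : ∀ w : T ⊗[R] A, Ψ (leftT R A T w) = D.θ a w ⊗ₜ[T] 1 := fun w => by
    induction w using TensorProduct.induction_on with
    | zero => simp
    | tmul t x => simp [Ψ, fa, leftT_tmul, θ_tmul, Algebra.ofId_apply, Algebra.smul_def,
        Algebra.TensorProduct.algebraMap_apply]
    | add p q hp hq => simp only [TensorProduct.add_tmul, map_add, hp, hq]
  have hr : ∀ w : T ⊗[R] A, Ψ (rightT R A T w) = 1 ⊗ₜ[T] D.θ a w := fun w => by
    induction w using TensorProduct.induction_on with
    | zero => simp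
    | tmul t x =>
      rw [rightT_tmul, θ_tmul, TensorProduct.tmul_smul]
      refine Eq.trans ?_ (Algebra.smul_def t ((1 : MonoidAlgebra T M) ⊗ₜ[T] MonoidAlgebra.mapAlgHom M a (D.f x))).symm
      simp [Ψ, fa, Algebra.ofId_apply]
    | add p q hp hq => simp only [TensorProduct.tmul_add, map_add, hp, hq]
  have hd : ∀ w : MonoidAlgebra T M, Ψ (comulT R A T (MonoidAlgebra.lift T (T ⊗[R] A) M (D.zAt a) w)) =
      Coalgebra.comul (R := T) w := fun w => by
    induction w using MonoidAlgebra.induction_linear with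
    | zero => simp
    | add p q hp hq => simp only [map_add, hp, hq]
    | single n r =>
      rw [MonoidAlgebra.lift_single, map_smul, map_smul, (D.glt_zAt n).comul, map_mul, hl, hr, θ_zAt,
        MonoidAlgebra.comul_single]
      rw [Algebra.TensorProduct.tmul_mul_tmul, mul_one, one_mul]
      rw [show MonoidAlgebra.single n (1 : T) ⊗ₜ[T] MonoidAlgebra.single n (1 : T) =
        Coalgebra.comul (R := T) (MonoidAlgebra.single n (1 : T)) by simp [MonoidAlgebra.comul_single, CommSemiring.comul_apply],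
        ← MonoidAlgebra.comul_single, ← map_smul]
      simp
  have hε : ∀ w : MonoidAlgebra T M, counitT R A T (MonoidAlgebra.lift T (T ⊗[R] A) M (D.zAt a) w) =
      Coalgebra.counit (R := T) w := fun w => by
    induction w using MonoidAlgebra.induction_linear with
    | zero => simp
    | add p q hp hq => simp only [map_add, hp, hq]
    | single n r => simp [(D.glt_zAt n).counit]
  refine isGLMod_of_comul (fun m n => ?_) ?_
  · rw [← hd, lift_θ, hz.comul, map_mul, hl, hr, Algebra.TensorProduct.tmul_mul_tmul, mul_one, one_mul, coeff₂_tmul,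
      sub_self]
    exact zero_mem _
  · rw [← hε, lift_θ, hz.counit, sub_self]
    exact zero_mem _

theorem glt_of_isGL [DecidableEq M] {w : MonoidAlgebra T M} (hw : IsGL w) :
    GLT (MonoidAlgebra.lift T (T ⊗[R] A) M (D.zAt a) w) := by
  have hz : MonoidAlgebra.lift T (T ⊗[R] A) M (D.zAt a) w = ∑ n ∈ w.coeff.support, w.coeff n • D.zAt a n := by
    conv_lhs => rw [← MonoidAlgebra.sum_coeff_single w, Finsupp.sum, map_sum]
    exact Finset.sum_congr rfl fun n _ => by simp
  refine ⟨?_, ?_⟩
  · rw [hz, map_sum]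
    conv_lhs => arg 2; ext n; rw [map_smul, (D.glt_zAt n).counit, smul_eq_mul, mul_one]
    rw [← counit_eq_sum w _ subset_rfl, hw.counit_eq]
  · rw [hz, map_sum, map_sum, map_sum, Finset.sum_mul]
    refine Finset.sum_congr rfl fun n hn => ?_
    rw [Finset.mul_sum, Finset.sum_eq_single n]
    · rw [map_smul, map_smul, map_smul, smul_mul_smul_comm, hw.orth, if_pos rfl, (D.glt_zAt n).comul]
    · intro m _ hmn
      rw [map_smul, map_smul, smul_mul_smul_comm, hw.orth, if_neg (Ne.symm hmn), zero_smul]
    · exact fun h => absurd hn h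

theorem existsUnique_index {K : Type u} [Field K] [Algebra R K] (b : R' →ₐ[R] K) {z : K ⊗[R] A} (hz : GLT z) :
    ∃ n, z = D.zAt b n := by
  classical
  have h := D.isGL (a := b) hz
  obtain ⟨n, hn⟩ := exists_eq_single' (D.θ b z) h.orth (by
    have := h.counit_eq
    rw [counit_eq_sum _ _ subset_rfl] at this
    exact this)
  exact ⟨n, D.θ_injective (by rw [hn, θ_zAt])⟩

/-- The possible coordinates of a transported basic element. -/
noncomputable def trans (n : M) : Finset M :=
  (D.θ (includeRight : R' →ₐ[R] R' ⊗[R] R') (D.zAt (includeLeft : R' →ₐ[R] R' ⊗[R] R') n)).coeff.support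

theorem mem_trans {a b : R' →ₐ[R] T} [Nontrivial T] {n n' : M} (h : D.zAt a n = D.zAt b n') : n' ∈ D.trans n := by
  by_contra hn
  let φ : R' ⊗[R] R' →ₐ[R] T := Algebra.TensorProduct.lift a b fun _ _ => Commute.all _ _
  have h1 : D.coeff (φ.comp includeRight) (mapT A φ (D.zAt includeLeft n)) n' = 0 := by
    rw [coeff_mapT, coeff, Finsupp.notMem_support_iff.1 hn, map_zero]
  rw [mapT_zAt, show φ.comp includeLeft = a by ext; simp [φ],
    show φ.comp includeRight = b by ext; simp [φ], h, coeff, θ_zAt, MonoidAlgebra.coeff_single,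
    Finsupp.single_eq_same] at h1
  exact one_ne_zero h1

include D in
/-- Uniqueness of lifts of group-likes along nil thickenings. -/
theorem eq_of_mapT_eq (a : R' →ₐ[R] T) (φ : T →ₐ[R] T') (hφ : ∀ x, φ x = 0 → IsNilpotent x) {z w : T ⊗[R] A}
    (hz : GLT z) (hw : GLT w) (h : mapT A φ z = mapT A φ w) : z = w := by
  classical
  refine D.θ_injective ((D.isGL (a := a) hz).eq_of_congr (K := RingHom.ker φ) (fun x hx => hφ x hx) (D.isGL hw) fun n => ?_)
  show φ ((D.θ a z).coeff n - (D.θ a w).coeff n) = 0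
  rw [map_sub, sub_eq_zero]
  exact ((D.coeff_mapT φ z n).symm.trans (congrArg (fun y => D.coeff (φ.comp a) y n) h)).trans (D.coeff_mapT φ w n)

include D in
/-- Existence of lifts of group-likes along nil thickenings, given a splitting. -/
theorem exists_glt_lift (a : R' →ₐ[R] T) (φ : T →ₐ[R] T') (hsurj : Function.Surjective φ)
    (hφ : ∀ x, φ x = 0 → IsNilpotent x) {z₀ : T' ⊗[R] A} (hz₀ : GLT z₀) :
    ∃ z : T ⊗[R] A, GLT z ∧ mapT A φ z = z₀ := by
  classical
  have h₀ := D.isGL (a := φ.comp a) hz₀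
  choose x hx using hsurj
  let w : MonoidAlgebra T M := ∑ n ∈ (D.θ (φ.comp a) z₀).coeff.support, MonoidAlgebra.single n (x (D.coeff (φ.comp a) z₀ n))
  have hw : ∀ n, φ (w.coeff n) = D.coeff (φ.comp a) z₀ n := fun n => by
    simp only [w, MonoidAlgebra.coeff_sum, Finset.sum_apply', MonoidAlgebra.coeff_single, Finsupp.single_apply,
      Finset.sum_ite_eq']
    split_ifs with hn
    · exact hx _
    · rw [map_zero, coeff, Finsupp.notMem_support_iff.1 hn]
  have hmod : IsGLMod (RingHom.ker φ) w := by
    refine ⟨fun m n => ?_, ?_⟩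
    · show φ _ = 0
      rw [map_sub, map_mul, hw, hw, apply_ite φ, hw, map_zero, coeff, coeff, h₀.orth, sub_self]
    · show φ _ = 0
      have hs : w.coeff.support ⊆ (D.θ (φ.comp a) z₀).coeff.support := fun n hn => by
        by_contra h
        refine Finsupp.mem_support_iff.1 hn ?_
        simp only [w, MonoidAlgebra.coeff_sum, Finset.sum_apply', MonoidAlgebra.coeff_single, Finsupp.single_apply,
          Finset.sum_ite_eq', if_neg h]
      rw [map_sub, map_one, counit_eq_sum w _ hs, map_sum, Finset.sum_congr rfl (fun n _ => hw n), sub_eq_zero]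
      exact (counit_eq_sum _ _ subset_rfl).symm.trans h₀.counit_eq
  obtain ⟨y, hy, hyw⟩ := hmod.exists_lift fun t ht => hφ t ht
  refine ⟨_, D.glt_of_isGL (a := a) hy, D.ext (a := φ.comp a) fun n => ?_⟩
  rw [coeff_mapT, coeff, θ_lift]
  have := hyw n
  rw [RingHom.mem_ker, map_sub, sub_eq_zero] at this
  exact this.trans (hw n)

end SplitData

end Groth.Agent.MultHopf
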