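import Groth.Agent.MultHopf.SplitData
import Groth.Agent.MultHopf.CentralRigid
import Mathlib.RingTheory.TensorProduct.MonoidAlgebra
import Mathlib.RingTheory.Localization.BaseChange

/-!
# Splittings descend from a localisation to a principal localisation
-/

set_option autoImplicit false
set_option backward.isDefEq.respectTransparency.types false

universe u

open scoped TensorProduct
open SGA3b
open Algebra.TensorProduct (includeLeft includeRight)

namespace Groth.Agent.MultHopf.SpreadDiag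

/-- The group algebra of a finitely generated group is finitely presented. -/
theorem finitePresentation_monoidAlgebra (E : Type u) [CommRing E] (M : Type u) [CommGroup M] [Group.FG M] :
    Algebra.FinitePresentation E (MonoidAlgebra E M) := by
  have : Monoid.FG M := Group.fg_iff_monoid_fg.1 inferInstance
  have : Algebra.FinitePresentation ℤ (MonoidAlgebra ℤ M) := Algebra.FinitePresentation.of_finiteType.1 inferInstance
  exact Algebra.FinitePresentation.equiv (MonoidAlgebra.scalarTensorEquiv ℤ E (M := M))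

variable {E : Type u} [CommRing E] (U : Submonoid E) {L : Type u} [CommRing L] [Algebra E L] [IsLocalization U L]
variable {X : Type u} [CommRing X] [Algebra E X]

/-- Change of coefficients on a tensor product. -/
noncomputable abbrev bc {T T' : Type u} [CommRing T] [Algebra E T] [CommRing T'] [Algebra E T'] (X : Type u) [CommRing X]
    [Algebra E X] (φ : T →ₐ[E] T') : T ⊗[E] X →ₐ[E] T' ⊗[E] X :=
  Algebra.TensorProduct.map φ (AlgHom.id E X)

theorem smul_cancel {T' : Type u} [CommRing T'] [Algebra E T'] {u : E} (hu : IsUnit (algebraMap E T' u)) {w : T' ⊗[E] X}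
    (h : u • w = 0) : w = 0 := by
  obtain ⟨v, hv⟩ := hu
  rw [← one_smul T' w, ← v.inv_mul, mul_smul, hv, algebraMap_smul, h, smul_zero]

/-- An element vanishing in the localisation vanishes at a finite stage. -/
theorem exists_kill {u : E} {T : Type u} [CommRing T] [Algebra E T] [IsLocalization.Away u T] (ψ : T →ₐ[E] L)
    (x : T ⊗[E] X) (hx : bc X ψ x = 0) :
    ∃ u' ∈ U, ∀ (T' : Type u) [CommRing T'] [Algebra E T'] (φ : T →ₐ[E] T'),
      IsUnit (algebraMap E T' u') → bc X φ x = 0 := by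
  obtain ⟨⟨x₀, s, hs⟩, he⟩ := IsLocalizedModule.surj (Submonoid.powers u) (TensorProduct.mk E T X 1) x
  simp only [Submonoid.smul_def, TensorProduct.mk_apply] at he
  have h1 : (1 : L) ⊗ₜ[E] x₀ = 0 := by
    have := congrArg (bc X ψ) he
    rw [map_smul, hx, smul_zero, Algebra.TensorProduct.map_tmul, map_one] at this
    exact this.symm
  obtain ⟨⟨u', hu'⟩, h2⟩ := (IsLocalizedModule.eq_zero_iff U (TensorProduct.mk E L X 1)).1 h1
  refine ⟨u', hu', fun T' _ _ φ hT' => ?_⟩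
  have hs' : IsUnit (algebraMap E T' s) := by
    rw [← φ.commutes]
    exact (IsLocalization.map_units T (⟨s, hs⟩ : Submonoid.powers u)).map φ
  refine smul_cancel hs' ?_
  rw [← map_smul, he, Algebra.TensorProduct.map_tmul, map_one]
  refine smul_cancel hT' ?_
  rw [← TensorProduct.tmul_smul, AlgHom.id_apply, show u' • x₀ = 0 from h2, TensorProduct.tmul_zero]

/-- Finitely many elements vanish at one stage. -/
theorem exists_kill_finite {u : E} {T : Type u} [CommRing T] [Algebra E T] [IsLocalization.Away u T] (ψ : T →ₐ[E] L)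
    {ι : Type*} (s : Finset ι) (x : ι → T ⊗[E] X) (hx : ∀ i ∈ s, bc X ψ (x i) = 0) :
    ∃ u' ∈ U, ∀ (T' : Type u) [CommRing T'] [Algebra E T'] (φ : T →ₐ[E] T'),
      IsUnit (algebraMap E T' u') → ∀ i ∈ s, bc X φ (x i) = 0 := by
  classical
  choose! v hv hv' using fun i hi => exists_kill U (u := u) ψ (x i) (hx i hi)
  refine ⟨∏ i ∈ s, v i, U.prod_mem hv, fun T' _ _ φ hT' i hi => hv' i hi T' φ ?_⟩
  exact isUnit_of_dvd_unit (map_dvd _ (Finset.dvd_prod_of_mem v hi)) hT'

/-- Maps out of a finitely presented algebra descend to a finite stage. -/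
theorem exists_hom_stage {P : Type u} [CommRing P] [Algebra E P] [Algebra.FinitePresentation E P]
    (β : P →ₐ[E] L ⊗[E] X) :
    ∃ u ∈ U, ∀ (T : Type u) [CommRing T] [Algebra E T] (ψ : T →ₐ[E] L), IsUnit (algebraMap E T u) →
      ∃ γ : P →ₐ[E] T ⊗[E] X, ∀ p, bc X ψ (γ p) = β p := by
  classical
  obtain ⟨n, π, hπ, s, hs⟩ := Algebra.FinitePresentation.out (R := E) (A := P)
  choose xu hxu using fun i : Fin n =>
    IsLocalizedModule.surj U (TensorProduct.mk E L X 1) (β (π (MvPolynomial.X i)))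
  let u₀ : E := ∏ i, ((xu i).2 : E)
  have hu₀ : u₀ ∈ U := U.prod_mem fun i _ => (xu i).2.2
  let T₀ := Localization.Away u₀
  have hu : ∀ i, IsUnit (algebraMap E T₀ ((xu i).2 : E)) := fun i =>
    isUnit_of_dvd_unit (map_dvd _ (Finset.dvd_prod_of_mem (fun i => ((xu i).2 : E)) (Finset.mem_univ i)))
      (IsLocalization.Away.algebraMap_isUnit u₀)
  let ψ₀ : T₀ →ₐ[E] L := IsLocalization.Away.liftAlgHom (f := Algebra.ofId E L) (x := u₀)
    (IsLocalization.map_units L (⟨u₀, hu₀⟩ : U))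
  let ν : MvPolynomial (Fin n) E →ₐ[E] T₀ ⊗[E] X :=
    MvPolynomial.aeval fun i => (↑(hu i).unit⁻¹ : T₀) ⊗ₜ[E] (xu i).1
  have hν : (bc X ψ₀).comp ν = β.comp π := MvPolynomial.algHom_ext fun i => by
    have h1 : ((xu i).2 : E) • β (π (MvPolynomial.X i)) = (1 : L) ⊗ₜ[E] (xu i).1 := hxu i
    have hL : IsUnit (algebraMap E L ((xu i).2 : E)) := IsLocalization.map_units L (xu i).2
    show bc X ψ₀ (ν (MvPolynomial.X i)) = β (π (MvPolynomial.X i))
    rw [show ν (MvPolynomial.X i) = (↑(hu i).unit⁻¹ : T₀) ⊗ₜ[E] (xu i).1 from MvPolynomial.aeval_X _ i,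
      Algebra.TensorProduct.map_tmul, AlgHom.id_apply, ← sub_eq_zero]
    refine smul_cancel hL ?_
    rw [smul_sub, h1, TensorProduct.smul_tmul', Algebra.smul_def, ← ψ₀.commutes, ← map_mul, (hu i).mul_val_inv,
      map_one, sub_self]
  obtain ⟨u', hu', hkill⟩ := exists_kill_finite U (u := u₀) ψ₀ s ν fun z hz => by
    have h1 : π z = 0 := (hs ▸ Ideal.subset_span hz : z ∈ RingHom.ker π.toRingHom)
    exact (AlgHom.congr_fun hν z).trans (by rw [AlgHom.comp_apply, h1, map_zero])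
  refine ⟨u₀ * u', U.mul_mem hu₀ hu', fun T _ _ ψ hT => ?_⟩
  rw [map_mul, IsUnit.mul_iff] at hT
  let φ : T₀ →ₐ[E] T := IsLocalization.Away.liftAlgHom (f := Algebra.ofId E T) (x := u₀) hT.1
  have hker : RingHom.ker π ≤ RingHom.ker ((bc X φ).comp ν) := by
    show RingHom.ker π.toRingHom ≤ _
    rw [← hs, Ideal.span_le]
    exact fun z hz => hkill T φ hT.2 z hz
  refine ⟨AlgHom.liftOfSurjective π hπ ((bc X φ).comp ν) hker, fun p => ?_⟩
  obtain ⟨z, rfl⟩ := hπ p
  rw [AlgHom.liftOfSurjective_apply, ← show (bc X ψ₀).comp ν z = β (π z) from AlgHom.congr_fun hν z]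
  have h : ψ.comp φ = ψ₀ := IsLocalization.algHom_ext (Submonoid.powers u₀) (by ext)
  simp only [AlgHom.comp_apply]
  rw [← h]
  induction ν z using TensorProduct.induction_on with
  | zero => simp
  | tmul t y => simp
  | add a b ha hb => simp only [map_add, ha, hb]

/-- The group algebra over `T` as a base change, as algebras over `E`. -/
theorem exists_monoidAlgebra_iso (M : Type u) [CommGroup M] (T : Type u) [CommRing T] [Algebra E T] :
    ∃ c : T ⊗[E] MonoidAlgebra E M ≃ₐ[T] MonoidAlgebra T M,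
      ∀ (t : T) (m : M) (r : E), c (t ⊗ₜ[E] MonoidAlgebra.single m r) = MonoidAlgebra.single m (r • t) := by
  refine ⟨MonoidAlgebra.scalarTensorEquiv E T (M := M), fun t m r => ?_⟩
  simp [MonoidAlgebra.scalarTensorEquiv_tmul, Algebra.smul_def, mul_comm]

theorem bc_natural {M : Type u} [CommGroup M] {T T' : Type u} [CommRing T] [Algebra E T] [CommRing T'] [Algebra E T']
    (φ : T →ₐ[E] T') {c : T ⊗[E] MonoidAlgebra E M ≃ₐ[T] MonoidAlgebra T M}
    {c' : T' ⊗[E] MonoidAlgebra E M ≃ₐ[T'] MonoidAlgebra T' M}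
    (hc : ∀ (t : T) (m : M) (r : E), c (t ⊗ₜ[E] MonoidAlgebra.single m r) = MonoidAlgebra.single m (r • t))
    (hc' : ∀ (t : T') (m : M) (r : E), c' (t ⊗ₜ[E] MonoidAlgebra.single m r) = MonoidAlgebra.single m (r • t))
    (w : T ⊗[E] MonoidAlgebra E M) : MonoidAlgebra.mapAlgHom M φ (c w) = c' (bc (MonoidAlgebra E M) φ w) := by
  induction w using TensorProduct.induction_on with
  | zero => simp
  | add a b ha hb => simp only [map_add, ha, hb]
  | tmul t x =>
    induction x using MonoidAlgebra.induction_linear with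
    | zero => simp
    | add a b ha hb => simp only [TensorProduct.tmul_add, map_add, ha, hb]
    | single m r => rw [Algebra.TensorProduct.map_tmul, AlgHom.id_apply, hc, hc', MonoidAlgebra.mapAlgHom_single, map_smul]

variable {A : Type u} [CommRing A] [HopfAlgebra E A]

/-- A full splitting over `T` gives a diagonalisable base change. -/
theorem isDiag_of_splitData {T : Type u} [CommRing T] [Algebra E T] {M : Type u} [CommGroup M] (D : SplitData E A T M) :
    IsDiag T (T ⊗[E] A) := by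
  obtain ⟨Φ, hΦ⟩ := exists_bialgHom_of_GLT D.ζ D.gl
  let F : T ⊗[E] A →ₐ[T] MonoidAlgebra T M := Algebra.TensorProduct.lift (Algebra.ofId T _) D.f fun _ _ => Commute.all _ _
  let Ψ : MonoidAlgebra T M →ₐ[T] T ⊗[E] A := Φ
  have h1 : F.comp Ψ = AlgHom.id T _ := by
    refine MonoidAlgebra.algHom_ext (fun n => ?_) (by ext)
    show F (Φ (MonoidAlgebra.single n 1)) = MonoidAlgebra.single n 1
    rw [hΦ]
    exact D.f_ζ n
  have hΨ : Ψ = MonoidAlgebra.lift T (T ⊗[E] A) M D.ζ := by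
    refine MonoidAlgebra.algHom_ext (fun n => ?_) (by ext)
    show Φ (MonoidAlgebra.single n 1) = MonoidAlgebra.lift T (T ⊗[E] A) M D.ζ (MonoidAlgebra.single n 1)
    rw [hΦ, MonoidAlgebra.lift_single, one_smul]
  have h2 : Ψ.comp F = AlgHom.id T _ := Algebra.TensorProduct.ext_ring (AlgHom.ext fun x => by
    show Ψ (F ((1 : T) ⊗ₜ[E] x)) = (1 : T) ⊗ₜ[E] x
    rw [show F ((1 : T) ⊗ₜ[E] x) = D.f x by simp [F, ← MonoidAlgebra.one_def], hΨ]
    exact D.ζ_f x)
  refine ⟨M, inferInstance, ⟨(BialgEquiv.ofBijective Φ ⟨fun a b hab => ?_, fun z => ⟨F z, AlgHom.congr_fun h2 z⟩⟩).symm⟩⟩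
  have h3 := congrArg F (show Ψ a = Ψ b from hab)
  rwa [← AlgHom.comp_apply, ← AlgHom.comp_apply, h1] at h3

set_option maxHeartbeats 1000000 in
set_option synthInstance.maxHeartbeats 100000 in
/-- A splitting over a localisation descends to a principal localisation. -/
theorem exists_away_diag [Algebra.FinitePresentation E A] {M : Type u} [CommGroup M] [Group.FG M]
    (e : L ⊗[E] A ≃ₐc[L] MonoidAlgebra L M) :
    ∃ u ∈ U, IsDiag (Localization.Away u) (Localization.Away u ⊗[E] A) := by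
  classical
  obtain ⟨D⟩ := exists_splitData e
  have := finitePresentation_monoidAlgebra E M
  have hMfg : Monoid.FG M := Group.fg_iff_monoid_fg.1 inferInstance
  obtain ⟨cL, hcL⟩ := exists_monoidAlgebra_iso (E := E) M L
  obtain ⟨u₁, hu₁, hf⟩ := exists_hom_stage U ((cL.symm.toAlgHom.restrictScalars E).comp D.f)
  obtain ⟨u₂, hu₂, hg⟩ := exists_hom_stage U (MonoidAlgebra.lift E (L ⊗[E] A) M D.ζ)
  let T₁ := Localization.Away (u₁ * u₂)
  have hT₁ : IsUnit (algebraMap E T₁ u₁) ∧ IsUnit (algebraMap E T₁ u₂) := by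
    rw [← IsUnit.mul_iff, ← map_mul]
    exact IsLocalization.Away.algebraMap_isUnit _
  let ψ : T₁ →ₐ[E] L := IsLocalization.Away.liftAlgHom (f := Algebra.ofId E L) (x := u₁ * u₂)
    (IsLocalization.map_units L (⟨u₁ * u₂, U.mul_mem hu₁ hu₂⟩ : U))
  obtain ⟨f₀, hf₀⟩ := hf T₁ ψ hT₁.1
  obtain ⟨g₀, hg₀⟩ := hg T₁ ψ hT₁.2
  obtain ⟨c₁, hc₁⟩ := exists_monoidAlgebra_iso (E := E) M T₁
  let f₁ : A →ₐ[E] MonoidAlgebra T₁ M := (c₁.toAlgHom.restrictScalars E).comp f₀
  let ζ₁ : M →* T₁ ⊗[E] A := g₀.toRingHom.toMonoidHom.comp (MonoidAlgebra.of E M)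
  have hζ₁ : ∀ n, mapT A ψ (ζ₁ n) = D.ζ n := fun n => by
    refine (hg₀ (MonoidAlgebra.of E M n)).trans ?_
    simp
  have hf₁ : ∀ a, MonoidAlgebra.mapAlgHom M ψ (f₁ a) = D.f a := fun a => by
    show MonoidAlgebra.mapAlgHom M ψ (c₁ (f₀ a)) = _
    rw [bc_natural ψ hc₁ hcL, hf₀]
    exact cL.apply_symm_apply _
  -- finitely many generators
  obtain ⟨gM, hgM⟩ := hMfg.1
  obtain ⟨gA, hgA⟩ := (inferInstance : Algebra.FiniteType E A).out
  let F₁ : T₁ ⊗[E] A →ₐ[T₁] MonoidAlgebra T₁ M :=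
    Algebra.TensorProduct.lift (Algebra.ofId T₁ _) f₁ fun _ _ => Commute.all _ _
  let G₁ : MonoidAlgebra T₁ M →ₐ[T₁] T₁ ⊗[E] A := MonoidAlgebra.lift T₁ (T₁ ⊗[E] A) M ζ₁
  let FL : L ⊗[E] A →ₐ[L] MonoidAlgebra L M := Algebra.TensorProduct.lift (Algebra.ofId L _) D.f fun _ _ => Commute.all _ _
  -- naturality
  have hF : ∀ {T' : Type u} [CommRing T'] [Algebra E T'] (φ : T₁ →ₐ[E] T') (f' : A →ₐ[E] MonoidAlgebra T' M),
      (∀ a, f' a = MonoidAlgebra.mapAlgHom M φ (f₁ a)) → ∀ w, MonoidAlgebra.mapAlgHom M φ (F₁ w) =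
        Algebra.TensorProduct.lift (Algebra.ofId T' (MonoidAlgebra T' M)) f' (fun _ _ => Commute.all _ _) (mapT A φ w) := by
    intro T' _ _ φ f' hf' w
    induction w using TensorProduct.induction_on with
    | zero => simp
    | add a b ha hb => simp only [map_add, ha, hb]
    | tmul t x => simp [F₁, hf', MonoidAlgebra.coe_algebraMap]
  have hG : ∀ {T' : Type u} [CommRing T'] [Algebra E T'] (φ : T₁ →ₐ[E] T') (ζ' : M →* T' ⊗[E] A),
      (∀ n, ζ' n = mapT A φ (ζ₁ n)) → ∀ w, mapT A φ (G₁ w) =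
        MonoidAlgebra.lift T' (T' ⊗[E] A) M ζ' (MonoidAlgebra.mapAlgHom M φ w) := by
    intro T' _ _ φ ζ' hζ' w
    induction w using MonoidAlgebra.induction_linear with
    | zero => simp
    | add a b ha hb => simp only [map_add, ha, hb]
    | single n r =>
      simp only [G₁, MonoidAlgebra.lift_single, MonoidAlgebra.mapAlgHom_single, Algebra.smul_def, map_mul, hζ']
      congr 1
  -- the equations to be killed
  let e₁ : M → T₁ ⊗[E] E := fun n => (counitT E A T₁ (ζ₁ n) - 1) ⊗ₜ[E] 1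
  let e₂ : M → T₁ ⊗[E] (A ⊗[E] A) := fun n =>
    comulT E A T₁ (ζ₁ n) - leftT E A T₁ (ζ₁ n) * rightT E A T₁ (ζ₁ n)
  let e₃ : M → T₁ ⊗[E] MonoidAlgebra E M := fun n => c₁.symm (F₁ (ζ₁ n) - MonoidAlgebra.single n 1)
  let e₄ : A → T₁ ⊗[E] A := fun a => G₁ (f₁ a) - (1 : T₁) ⊗ₜ[E] a
  obtain ⟨v₁, hv₁, k₁⟩ := exists_kill_finite U (u := u₁ * u₂) ψ gM e₁ fun n _ => by
    show bc E ψ ((counitT E A T₁ (ζ₁ n) - 1) ⊗ₜ[E] 1) = 0
    rw [Algebra.TensorProduct.map_tmul, map_sub, map_one, ← counitT_mapT, hζ₁, (D.gl n).counit, sub_self,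
      TensorProduct.zero_tmul]
  obtain ⟨v₂, hv₂, k₂⟩ := exists_kill_finite U (u := u₁ * u₂) ψ gM e₂ fun n _ => by
    show bc (A ⊗[E] A) ψ _ = 0
    rw [map_sub, map_mul, bc, ← comulT_mapT, ← leftT_mapT, ← rightT_mapT, hζ₁, (D.gl n).comul, sub_self]
  obtain ⟨v₃, hv₃, k₃⟩ := exists_kill_finite U (u := u₁ * u₂) ψ gM e₃ fun n _ => by
    refine cL.injective ?_
    show cL (bc _ ψ (c₁.symm _)) = cL 0
    rw [← bc_natural ψ hc₁ hcL, AlgEquiv.apply_symm_apply, map_zero, map_sub, hF ψ D.f (fun a => (hf₁ a).symm),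
      hζ₁, D.f_ζ, MonoidAlgebra.mapAlgHom_single, map_one, sub_self]
  obtain ⟨v₄, hv₄, k₄⟩ := exists_kill_finite U (u := u₁ * u₂) ψ gA e₄ fun a _ => by
    show mapT A ψ _ = 0
    rw [map_sub, hG ψ D.ζ (fun n => (hζ₁ n).symm), hf₁, D.ζ_f, mapT_tmul, map_one, sub_self]
  refine ⟨u₁ * u₂ * (v₁ * v₂ * v₃ * v₄), U.mul_mem (U.mul_mem hu₁ hu₂) (U.mul_mem (U.mul_mem (U.mul_mem hv₁ hv₂) hv₃) hv₄), ?_⟩
  let T := Localization.Away (u₁ * u₂ * (v₁ * v₂ * v₃ * v₄))
  have hT : IsUnit (algebraMap E T (u₁ * u₂ * (v₁ * v₂ * v₃ * v₄))) := IsLocalization.Away.algebraMap_isUnit _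
  simp only [map_mul (algebraMap E T), IsUnit.mul_iff] at hT
  obtain ⟨⟨w₁, w₂⟩, ⟨⟨x₁, x₂⟩, x₃⟩, x₄⟩ := hT
  let φ : T₁ →ₐ[E] T := IsLocalization.Away.liftAlgHom (f := Algebra.ofId E T) (x := u₁ * u₂)
    (show IsUnit (algebraMap E T (u₁ * u₂)) by rw [map_mul]; exact w₁.mul w₂)
  obtain ⟨c, hc⟩ := exists_monoidAlgebra_iso (E := E) M T
  let f' : A →ₐ[E] MonoidAlgebra T M := (MonoidAlgebra.mapAlgHom M φ).comp f₁
  let ζ' : M →* T ⊗[E] A := (mapT A φ).toRingHom.toMonoidHom.comp ζ₁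
  let F' : T ⊗[E] A →ₐ[T] MonoidAlgebra T M := Algebra.TensorProduct.lift (Algebra.ofId T _) f' fun _ _ => Commute.all _ _
  have hgl : ∀ n, GLT (ζ' n) := fun n => by
    refine Submonoid.closure_induction (motive := fun m _ => GLT (ζ' m)) (fun m hm => ⟨?_, ?_⟩) (by rw [map_one]; exact GLT.one)
      (fun a b _ _ ha hb => by rw [map_mul]; exact ha.mul hb) (hgM.symm ▸ Submonoid.mem_top n)
    · have h := congrArg (Algebra.TensorProduct.rid E E T) (k₁ T φ x₁ m hm)
      rw [map_zero, Algebra.TensorProduct.map_tmul, Algebra.TensorProduct.rid_tmul, AlgHom.id_apply, one_smul, map_sub,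
        map_one, ← counitT_mapT, sub_eq_zero] at h
      exact h
    · have h := k₂ T φ x₂ m hm
      rw [map_sub, map_mul, bc, ← comulT_mapT, ← leftT_mapT, ← rightT_mapT, sub_eq_zero] at h
      exact h
  refine isDiag_of_splitData (T := T) (M := M) { f := f', ζ := ζ', gl := hgl, f_ζ := fun n => ?_, ζ_f := fun a => ?_ }
  · show F' (ζ' n) = MonoidAlgebra.single n 1
    refine Submonoid.closure_induction (motive := fun m _ => F' (ζ' m) = MonoidAlgebra.single m 1) (fun m hm => ?_) (by rw [map_one, map_one, ← MonoidAlgebra.one_def])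
      (fun a b _ _ ha hb => by rw [map_mul, map_mul, ha, hb, MonoidAlgebra.single_mul_single, one_mul])
      (hgM.symm ▸ Submonoid.mem_top n)
    have h := congrArg c (k₃ T φ x₃ m hm)
    rw [← bc_natural φ hc₁ hc, AlgEquiv.apply_symm_apply, map_zero, map_sub, hF φ f' (fun _ => rfl),
      MonoidAlgebra.mapAlgHom_single, map_one, sub_eq_zero] at h
    exact h
  · have h : (((MonoidAlgebra.lift T (T ⊗[E] A) M ζ').restrictScalars E).comp f') = includeRight := by
      refine AlgHom.ext_of_adjoin_eq_top hgA fun b hb => ?_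
      have h := k₄ T φ x₄ b hb
      have h' : mapT A φ (G₁ (f₁ b) - (1 : T₁) ⊗ₜ[E] b) = 0 := h
      rw [map_sub, hG φ ζ' (fun _ => rfl), mapT_tmul, map_one, sub_eq_zero] at h'
      exact h'
    exact AlgHom.congr_fun h a

end Groth.Agent.MultHopf.SpreadDiag
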