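import Groth.Agent.MultHopf.SmoothSub
import Groth.Agent.MultHopf.ProjChart
import Groth.Agent.S5273
import Groth.Agent.S5294
import Groth.Agent.S5297

/-!
# Points of transporters of groups of multiplicative type lift along nilpotent ideals
-/

set_option autoImplicit false
set_option backward.isDefEq.respectTransparency.types false

universe u

open CategoryTheory CategoryTheory.Limits MonoidalCategory CartesianMonoidalCategory MonObj GrpObj AlgebraicGeometry

namespace Groth.Agent.MultHopf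

variable {S : Scheme.{u}} {G : Over S} [GrpObj G]

/-- Points conjugating one homomorphism into another. -/
def Conjugates {H : Over S} (u₁ u₂ : H ⟶ G) (T : Over S) (g : T ⟶ G) : Prop :=
  ∀ (X' : Over S) (x : X' ⟶ T) (h : X' ⟶ H), (x ≫ g) * (h ≫ u₁) * (x ≫ g)⁻¹ = h ≫ u₂

/-- Points conjugating a homomorphism into a subobject. -/
def Transports {H K : Over S} (u : H ⟶ G) (k : K ⟶ G) (T : Over S) (g : T ⟶ G) : Prop :=
  ∀ (X' : Over S) (x : X' ⟶ T) (h : X' ⟶ H), ∃ h' : X' ⟶ K, (x ≫ g) * (h ≫ u) * (x ≫ g)⁻¹ = h' ≫ k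

/-- Points conjugating a subobject into another and conversely. -/
def StrictTransports {H K : Over S} (u : H ⟶ G) (k : K ⟶ G) (T : Over S) (g : T ⟶ G) : Prop :=
  ∀ (X' : Over S) (x : X' ⟶ T),
    (∀ h₁ : X' ⟶ H, ∃ h₂ : X' ⟶ K, (x ≫ g) * (h₁ ≫ u) * (x ≫ g)⁻¹ = h₂ ≫ k) ∧
    (∀ h₂ : X' ⟶ K, ∃ h₁ : X' ⟶ H, (x ≫ g)⁻¹ * (h₂ ≫ k) * (x ≫ g) = h₁ ≫ u)

theorem isMonHom_pullback_map {U : Scheme.{u}} (b : U ⟶ S) {X Y : Over S} [GrpObj X] [GrpObj Y] (w : X ⟶ Y)
    [IsMonHom w] : IsMonHom ((Over.pullback b).map w : Red.bc b X ⟶ Red.bc b Y) :=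
  ((Over.pullback b).mapGrp.map (Grp.homMk'' w : Grp.mk X ⟶ Grp.mk Y)).hom.isMonHom_hom

theorem isClosedImmersion_pullback_map {U : Scheme.{u}} (b : U ⟶ S) {X Y : Over S} (w : X ⟶ Y)
    [IsClosedImmersion w.left] : IsClosedImmersion ((Over.pullback b).map w).left := by
  have h : IsPullback ((Over.pullback b).map w).left (pullback.fst X.hom b) (pullback.fst Y.hom b) w.left := by
    refine IsPullback.of_right ?_ (pullback.lift_fst _ _ _) (IsPullback.of_hasPullback Y.hom b).flip
    rw [show ((Over.pullback b).map w).left ≫ pullback.snd Y.hom b = pullback.snd X.hom b from pullback.lift_snd _ _ _,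
      Over.w w]
    exact (IsPullback.of_hasPullback X.hom b).flip
  exact MorphismProperty.of_isPullback (P := @IsClosedImmersion) h.flip inferInstance

/-- Lifting for transporters of homomorphisms. -/
theorem lifts_conjugates {H : Over S} [GrpObj H] (hH : IsMultTypeLoc H) (hG : Smooth G.hom) (u₁ u₂ : H ⟶ G)
    [IsMonHom u₁] [IsMonHom u₂] (R : Type u) [CommRing R] (b : Spec (CommRingCat.of R) ⟶ S) (J : Ideal R)
    (hJ : IsNilpotent J) (g₀ : cl J ⟶ Red.bc b G) (hP : Conjugates u₁ u₂ _ ((adjMulEquiv b (cl J) G).symm g₀)) :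
    ∃ g : 𝟙_ (Over (Spec (CommRingCat.of R))) ⟶ Red.bc b G, toUnit (cl J) ≫ g = g₀ ∧
      Conjugates u₁ u₂ _ ((adjMulEquiv b (𝟙_ (Over (Spec (CommRingCat.of R)))) G).symm g) := by
  have hK := isMultTypeLoc_bc b H hH
  have hsm : Smooth (Red.bc b G).hom := MorphismProperty.pullback_snd (P := @Smooth) _ _ hG
  have := isMonHom_pullback_map b u₁
  have := isMonHom_pullback_map b u₂
  obtain ⟨g, hg, hg'⟩ := S5273.result J hJ (Red.bc b H) (Red.bc b G) hK hsm
    ((Over.pullback b).map u₁) ((Over.pullback b).map u₂) g₀ (fun X p h => by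
      obtain ⟨h', rfl⟩ := (adjMulEquiv b X H).surjective h
      have hx := congrArg (adjMulEquiv b X G) (hP _ ((Over.map b).map p) h')
      rw [map_mul, map_mul, map_inv, adjMulEquiv_map, MulEquiv.apply_symm_apply, adjMulEquiv_comp (w := u₁),
      adjMulEquiv_comp (w := u₂)] at hx
      exact hx.symm)
  refine ⟨g, hg, fun X' x h => ?_⟩
  obtain ⟨X, p, e, he⟩ := exists_overIso b x
  rw [← cancel_epi e.hom]
  simp only [MonObj.comp_mul, GrpObj.comp_inv, ← Category.assoc, he]
  apply (adjMulEquiv b X G).injective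
  rw [map_mul, map_mul, map_inv, adjMulEquiv_map, MulEquiv.apply_symm_apply, adjMulEquiv_comp (w := u₁),
      adjMulEquiv_comp (w := u₂), hg' X (adjMulEquiv b X H (e.hom ≫ h)), Subsingleton.elim p (toUnit X)]

/-- Lifting for transporters into a subgroup. -/
theorem lifts_transports {H K : Over S} [GrpObj H] [GrpObj K] (hH : IsMultTypeLoc H) (hK' : IsMultTypeLoc K)
    (hG : Smooth G.hom) (u : H ⟶ G) [IsMonHom u] (k : K ⟶ G) [IsMonHom k] [IsClosedImmersion k.left]
    (R : Type u) [CommRing R] (b : Spec (CommRingCat.of R) ⟶ S) (J : Ideal R)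
    (hJ : IsNilpotent J) (g₀ : cl J ⟶ Red.bc b G) (hP : Transports u k _ ((adjMulEquiv b (cl J) G).symm g₀)) :
    ∃ g : 𝟙_ (Over (Spec (CommRingCat.of R))) ⟶ Red.bc b G, toUnit (cl J) ≫ g = g₀ ∧
      Transports u k _ ((adjMulEquiv b (𝟙_ (Over (Spec (CommRingCat.of R)))) G).symm g) := by
  have hHb := isMultTypeLoc_bc b H hH
  have hKb := isMultTypeLoc_bc b K hK'
  have hsm : Smooth (Red.bc b G).hom := MorphismProperty.pullback_snd (P := @Smooth) _ _ hG
  have := isMonHom_pullback_map b u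
  have := isMonHom_pullback_map b k
  have := isClosedImmersion_pullback_map b k
  obtain ⟨g, hg, hg'⟩ := S5297.result J hJ (Red.bc b G) (Red.bc b K) (Red.bc b H) hsm
    ((Over.pullback b).map k) (Or.inr hKb) hHb ((Over.pullback b).map u) g₀ (fun X p h => by
      obtain ⟨h', rfl⟩ := (adjMulEquiv b X H).surjective h
      obtain ⟨y, hy⟩ := hP _ ((Over.map b).map p) h'
      refine ⟨adjMulEquiv b X K y, ?_⟩
      have hx := congrArg (adjMulEquiv b X G) hy
      rw [map_mul, map_mul, map_inv, adjMulEquiv_map, MulEquiv.apply_symm_apply, adjMulEquiv_comp (w := u),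
      adjMulEquiv_comp (w := k)] at hx
      exact hx)
  refine ⟨g, hg, fun X' x h => ?_⟩
  obtain ⟨X, p, e, he⟩ := exists_overIso b x
  obtain ⟨y, hy⟩ := hg' X (adjMulEquiv b X H (e.hom ≫ h))
  refine ⟨e.inv ≫ (adjMulEquiv b X K).symm y, ?_⟩
  rw [← cancel_epi e.hom]
  simp only [MonObj.comp_mul, GrpObj.comp_inv, ← Category.assoc, he, e.hom_inv_id, Category.id_comp]
  apply (adjMulEquiv b X G).injective
  rw [map_mul, map_mul, map_inv, adjMulEquiv_map, MulEquiv.apply_symm_apply, adjMulEquiv_comp (w := u),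
      adjMulEquiv_comp (w := k), MulEquiv.apply_symm_apply, Subsingleton.elim p (toUnit X), hy]

/-- Lifting for strict transporters. -/
theorem lifts_strictTransports {H K : Over S} [GrpObj H] [GrpObj K] (hH : IsMultTypeLoc H) (hK' : IsMultTypeLoc K)
    (hG : Smooth G.hom) (u : H ⟶ G) [IsMonHom u] [IsClosedImmersion u.left] (k : K ⟶ G) [IsMonHom k]
    [IsClosedImmersion k.left]
    (R : Type u) [CommRing R] (b : Spec (CommRingCat.of R) ⟶ S) (J : Ideal R)
    (hJ : IsNilpotent J) (g₀ : cl J ⟶ Red.bc b G) (hP : StrictTransports u k _ ((adjMulEquiv b (cl J) G).symm g₀)) :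
    ∃ g : 𝟙_ (Over (Spec (CommRingCat.of R))) ⟶ Red.bc b G, toUnit (cl J) ≫ g = g₀ ∧
      StrictTransports u k _ ((adjMulEquiv b (𝟙_ (Over (Spec (CommRingCat.of R)))) G).symm g) := by
  have hHb := isMultTypeLoc_bc b H hH
  have hKb := isMultTypeLoc_bc b K hK'
  have hsm : Smooth (Red.bc b G).hom := MorphismProperty.pullback_snd (P := @Smooth) _ _ hG
  have := isMonHom_pullback_map b u
  have := isMonHom_pullback_map b k
  have := isClosedImmersion_pullback_map b k
  have := isClosedImmersion_pullback_map b u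
  obtain ⟨g, hg, φ, hφ⟩ := S5294.result J hJ (Red.bc b G) (Red.bc b H) (Red.bc b K) hsm hHb hKb
    ((Over.pullback b).map u) ((Over.pullback b).map k) g₀ (fun X p => by
      constructor
      · intro h
        obtain ⟨h', rfl⟩ := (adjMulEquiv b X H).surjective h
        obtain ⟨y, hy⟩ := (hP _ ((Over.map b).map p)).1 h'
        refine ⟨adjMulEquiv b X K y, ?_⟩
        have hx := congrArg (adjMulEquiv b X G) hy
        rw [map_mul, map_mul, map_inv, adjMulEquiv_map, MulEquiv.apply_symm_apply, adjMulEquiv_comp (w := u),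
      adjMulEquiv_comp (w := k)] at hx
        exact hx
      · intro h
        obtain ⟨h', rfl⟩ := (adjMulEquiv b X K).surjective h
        obtain ⟨y, hy⟩ := (hP _ ((Over.map b).map p)).2 h'
        refine ⟨adjMulEquiv b X H y, ?_⟩
        have hx := congrArg (adjMulEquiv b X G) hy
        rw [map_mul, map_mul, map_inv, adjMulEquiv_map, MulEquiv.apply_symm_apply, adjMulEquiv_comp (w := k),
      adjMulEquiv_comp (w := u)] at hx
        exact hx)
  have hk : ∀ (X : Over (Spec (CommRingCat.of R))) (h : X ⟶ Red.bc b H),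
      (toUnit X ≫ g) * (h ≫ (Over.pullback b).map u) * (toUnit X ≫ g)⁻¹ = (h ≫ φ.hom) ≫ (Over.pullback b).map k := by
    intro X h
    rw [Category.assoc, ← hφ, MonObj.comp_mul, MonObj.comp_mul, GrpObj.comp_inv, ← Category.assoc, comp_toUnit]
  refine ⟨g, hg, fun X' x => ?_⟩
  obtain ⟨X, p, e, he⟩ := exists_overIso b x
  constructor
  · intro h
    refine ⟨e.inv ≫ (adjMulEquiv b X K).symm (adjMulEquiv b X H (e.hom ≫ h) ≫ φ.hom), ?_⟩
    rw [← cancel_epi e.hom]
    simp only [MonObj.comp_mul, GrpObj.comp_inv, ← Category.assoc, he, e.hom_inv_id, Category.id_comp]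
    apply (adjMulEquiv b X G).injective
    rw [map_mul, map_mul, map_inv, adjMulEquiv_map, MulEquiv.apply_symm_apply, adjMulEquiv_comp (w := u),
      adjMulEquiv_comp (w := k), MulEquiv.apply_symm_apply, Subsingleton.elim p (toUnit X), hk]
  · intro h
    refine ⟨e.inv ≫ (adjMulEquiv b X H).symm (adjMulEquiv b X K (e.hom ≫ h) ≫ φ.inv), ?_⟩
    rw [← cancel_epi e.hom]
    simp only [MonObj.comp_mul, GrpObj.comp_inv, ← Category.assoc, he, e.hom_inv_id, Category.id_comp]
    apply (adjMulEquiv b X G).injective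
    have hq := hk X (adjMulEquiv b X K (e.hom ≫ h) ≫ φ.inv)
    rw [Category.assoc _ φ.inv φ.hom, φ.inv_hom_id, Category.comp_id] at hq
    rw [map_mul, map_mul, map_inv, adjMulEquiv_map, MulEquiv.apply_symm_apply, adjMulEquiv_comp (w := k),
      adjMulEquiv_comp (w := u), MulEquiv.apply_symm_apply, Subsingleton.elim p (toUnit X), ← hq]
    group

end Groth.Agent.MultHopf
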