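import Groth.Agent.MultHopf.HopfDescent
import Groth.Agent.MultHopf.GroupLike
import Groth.Agent.FpqcDescent.Amitsur
import Mathlib.RingTheory.TensorProduct.MonoidAlgebra

/-!
# Twisted forms of group algebras: effective descent
-/

set_option autoImplicit false
set_option backward.isDefEq.respectTransparency.types false
set_option maxHeartbeats 1000000
set_option synthInstance.maxHeartbeats 100000

universe u

open scoped TensorProduct
open Coalgebra
open Algebra.TensorProduct (includeLeft includeRight)

namespace Groth.Agent.MultHopf.Twist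

variable {R : Type u} [CommRing R] {M : Type u} [CommGroup M]

section General

variable {Q Q' : Type u} [CommRing Q] [Algebra R Q] [CommRing Q'] [Algebra R Q']

/-- Change of coefficients of a group algebra. -/
noncomputable abbrev mm (φ : Q →ₐ[R] Q') : MonoidAlgebra Q M →ₐ[R] MonoidAlgebra Q' M :=
  MonoidAlgebra.mapAlgHom M φ

/-- The extension of a map of monoids. -/
noncomputable abbrev ext' (γ : M →* MonoidAlgebra Q M) : MonoidAlgebra Q M →ₐ[Q] MonoidAlgebra Q M :=
  MonoidAlgebra.lift Q (MonoidAlgebra Q M) M γ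

/-- The pullback of a map of monoids. -/
noncomputable abbrev push (φ : Q →ₐ[R] Q') (γ : M →* MonoidAlgebra Q M) : M →* MonoidAlgebra Q' M :=
  (mm φ).toRingHom.toMonoidHom.comp γ

theorem mm_ext' (φ : Q →ₐ[R] Q') (γ : M →* MonoidAlgebra Q M) (w : MonoidAlgebra Q M) :
    mm φ (ext' γ w) = ext' (push φ γ) (mm φ w) := by
  induction w using MonoidAlgebra.induction_linear with
  | zero => simp
  | add a b ha hb => simp only [map_add, ha, hb]
  | single n r =>
    rw [show MonoidAlgebra.single n r = algebraMap Q _ r * MonoidAlgebra.single n 1 by simp, map_mul (ext' γ),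
      AlgHom.commutes, map_mul, map_mul, map_mul]
    congr 1
    · simp [mm, MonoidAlgebra.coe_algebraMap, MonoidAlgebra.one_def, Algebra.smul_def]
    · simp [mm, push]
      rfl

theorem mm_mm {Q'' : Type u} [CommRing Q''] [Algebra R Q''] (φ : Q →ₐ[R] Q') (ψ : Q' →ₐ[R] Q'') (w : MonoidAlgebra Q M) :
    mm ψ (mm φ w) = mm (ψ.comp φ) w := by
  induction w using MonoidAlgebra.induction_linear with
  | zero => simp
  | add a b ha hb => simp only [map_add, ha, hb]
  | single n r => simp [mm]

theorem comul_ext' {γ : M →* MonoidAlgebra Q M} [DecidableEq M] (hγ : ∀ n, IsGL (γ n)) (w : MonoidAlgebra Q M) :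
    comul (R := Q) (ext' γ w) = Algebra.TensorProduct.map (ext' γ) (ext' γ) (comul (R := Q) w) := by
  induction w using MonoidAlgebra.induction_linear with
  | zero => simp
  | add a b ha hb => simp only [map_add, ha, hb]
  | single n r =>
    rw [show MonoidAlgebra.single n r = r • MonoidAlgebra.single n (1 : Q) by simp, map_smul, map_smul, map_smul,
      map_smul, MonoidAlgebra.lift_single, one_smul, (hγ n).comul_eq, MonoidAlgebra.comul_single]
    simp [CommSemiring.comul_apply]

theorem counit_ext' {γ : M →* MonoidAlgebra Q M} [DecidableEq M] (hγ : ∀ n, IsGL (γ n)) (w : MonoidAlgebra Q M) :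
    counit (R := Q) (ext' γ w) = counit (R := Q) w := by
  induction w using MonoidAlgebra.induction_linear with
  | zero => simp
  | add a b ha hb => simp only [map_add, ha, hb]
  | single n r =>
    rw [show MonoidAlgebra.single n r = r • MonoidAlgebra.single n (1 : Q) by simp, map_smul, map_smul, map_smul,
      MonoidAlgebra.lift_single, one_smul, (hγ n).counit_eq, MonoidAlgebra.counit_single]
    simp

theorem antipode_ext' {γ : M →* MonoidAlgebra Q M} [DecidableEq M] (hγ : ∀ n, IsGL (γ n)) (w : MonoidAlgebra Q M) :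
    HopfAlgebra.antipode Q (ext' γ w) = ext' γ (HopfAlgebra.antipode Q w) := by
  induction w using MonoidAlgebra.induction_linear with
  | zero => simp
  | add a b ha hb => simp only [map_add, ha, hb]
  | single n r =>
    rw [show MonoidAlgebra.single n r = r • MonoidAlgebra.single n (1 : Q) by simp, map_smul, map_smul, map_smul,
      map_smul, MonoidAlgebra.lift_single, one_smul]
    congr 1
    have h := HopfAlgebra.mul_antipode_rTensor_comul_apply (R := Q) (γ n)
    rw [(hγ n).comul_eq, LinearMap.rTensor_tmul, LinearMap.mul'_apply, (hγ n).counit_eq, map_one] at h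
    have h2 : γ n * γ n⁻¹ = 1 := by rw [← map_mul, mul_inv_cancel, map_one]
    rw [show HopfAlgebra.antipode Q (γ n) = γ n⁻¹ from left_inv_eq_right_inv h h2]
    simp

theorem counit_mm (φ : Q →ₐ[R] Q') (w : MonoidAlgebra Q M) :
    counit (R := Q') (mm φ w) = φ (counit (R := Q) w) := by
  induction w using MonoidAlgebra.induction_linear with
  | zero => simp
  | add a b ha hb => simp only [map_add, ha, hb]
  | single n r => simp [mm]

theorem antipode_mm (φ : Q →ₐ[R] Q') (w : MonoidAlgebra Q M) :
    HopfAlgebra.antipode Q' (mm φ w) = mm φ (HopfAlgebra.antipode Q w) := by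
  induction w using MonoidAlgebra.induction_linear with
  | zero => simp
  | add a b ha hb => simp only [map_add, ha, hb]
  | single n r => simp [mm]

/-- Change of coefficients on two factors. -/
theorem exists_mm₂ (φ : Q →ₐ[R] Q') :
    ∃ G : MonoidAlgebra Q M ⊗[Q] MonoidAlgebra Q M →+* MonoidAlgebra Q' M ⊗[Q'] MonoidAlgebra Q' M,
      (∀ u v, G (u ⊗ₜ[Q] v) = mm φ u ⊗ₜ[Q'] mm φ v) ∧ ∀ y, G (comul (R := Q) y) = comul (R := Q') (mm φ y) := by
  let : Algebra Q Q' := φ.toRingHom.toAlgebra
  let L : MonoidAlgebra Q M →ₐ[Q] MonoidAlgebra Q' M := MonoidAlgebra.mapAlgHom M (Algebra.ofId Q Q')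
  have hL : ∀ u, L u = mm φ u := fun u => rfl
  let G := Algebra.TensorProduct.lift (R := Q) (S := Q)
    ((((includeLeft : MonoidAlgebra Q' M →ₐ[Q'] MonoidAlgebra Q' M ⊗[Q'] MonoidAlgebra Q' M)).restrictScalars Q).comp L)
    ((((includeRight : MonoidAlgebra Q' M →ₐ[Q'] MonoidAlgebra Q' M ⊗[Q'] MonoidAlgebra Q' M)).restrictScalars Q).comp L)
    (fun _ _ => Commute.all _ _)
  have hG : ∀ u v, G (u ⊗ₜ[Q] v) = mm φ u ⊗ₜ[Q'] mm φ v := fun u v => by simp [G, hL]
  refine ⟨G.toRingHom, hG, fun y => ?_⟩
  induction y using MonoidAlgebra.induction_linear with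
  | zero => simp
  | add a b ha hb => simp only [map_add, ha, hb]
  | single n r =>
    show G (comul (R := Q) (MonoidAlgebra.single n r)) = _
    rw [MonoidAlgebra.comul_single, show mm φ (MonoidAlgebra.single n r) = MonoidAlgebra.single n (φ r) by simp [mm],
      MonoidAlgebra.comul_single]
    simp only [CommSemiring.comul_apply, TensorProduct.map_tmul, MonoidAlgebra.lsingle_apply]
    rw [hG]
    simp [mm]

end General

variable (R) in
/-- A descent datum on a group algebra. -/
structure Datum (S M : Type u) [CommRing S] [Algebra R S] [CommGroup M] [DecidableEq M] where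
  γ : M →* MonoidAlgebra (S ⊗[R] S) M
  γ' : M →* MonoidAlgebra (S ⊗[R] S) M
  gl : ∀ n, IsGL (γ n)
  inv₁ : ∀ n, ext' γ' (γ n) = MonoidAlgebra.single n 1
  inv₂ : ∀ n, ext' γ (γ' n) = MonoidAlgebra.single n 1
  cocycle : ∀ n, mm (Algebra.TensorProduct.map (AlgHom.id R S) (includeRight : S →ₐ[R] S ⊗[R] S)) (γ n) =
    ext' (push (Algebra.TensorProduct.map (AlgHom.id R S) (includeLeft : S →ₐ[R] S ⊗[R] S)) γ)
      (mm (includeRight : S ⊗[R] S →ₐ[R] S ⊗[R] (S ⊗[R] S)) (γ n))

variable {S : Type u} [CommRing S] [Algebra R S] [DecidableEq M] (D : Datum R S M)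

/-- The first pullback. -/
noncomputable abbrev am : MonoidAlgebra S M →ₐ[R] MonoidAlgebra (S ⊗[R] S) M :=
  mm (includeLeft : S →ₐ[R] S ⊗[R] S)

/-- The second pullback. -/
noncomputable abbrev bm : MonoidAlgebra S M →ₐ[R] MonoidAlgebra (S ⊗[R] S) M :=
  mm (includeRight : S →ₐ[R] S ⊗[R] S)

/-- The invariants. -/
noncomputable def inv : Subalgebra R (MonoidAlgebra S M) :=
  AlgHom.equalizer (am (R := R) (S := S) (M := M)) (((ext' D.γ).restrictScalars R).comp bm)

theorem mem_inv {x : MonoidAlgebra S M} : x ∈ inv D ↔ am x = ext' D.γ (bm x) := Iff.rfl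

/-- The comparison map. -/
noncomputable def comp : S ⊗[R] inv D →ₐ[S] MonoidAlgebra S M :=
  Algebra.TensorProduct.lift (Algebra.ofId S _) (inv D).val fun _ _ => Commute.all _ _

theorem am_injective : Function.Injective (am (R := R) (S := S) (M := M)) := by
  refine Function.LeftInverse.injective (g := mm (Algebra.TensorProduct.lmul' R)) fun x => ?_
  rw [mm_mm]
  rw [show (Algebra.TensorProduct.lmul' R).comp (includeLeft : S →ₐ[R] S ⊗[R] S) = AlgHom.id R S from
    AlgHom.ext fun s => by simp]
  simp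

theorem ext'_γ'_γ (w : MonoidAlgebra (S ⊗[R] S) M) : ext' D.γ' (ext' D.γ w) = w := by
  have : (ext' D.γ').comp (ext' D.γ) = AlgHom.id _ _ := MonoidAlgebra.algHom_ext (fun n => by simp [D.inv₁]) (by ext)
  exact AlgHom.congr_fun this w

theorem ext'_γ_γ' (w : MonoidAlgebra (S ⊗[R] S) M) : ext' D.γ (ext' D.γ' w) = w := by
  have : (ext' D.γ).comp (ext' D.γ') = AlgHom.id _ _ := MonoidAlgebra.algHom_ext (fun n => by simp [D.inv₂]) (by ext)
  exact AlgHom.congr_fun this w

variable [Module.FaithfullyFlat R S]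

/-- Effectivity of descent. -/
theorem bijective_comp : Function.Bijective (comp D) := by
  let S₂ := S ⊗[R] S
  let S₃ := S ⊗[R] S₂
  let p12 : S₂ →ₐ[R] S₃ := Algebra.TensorProduct.map (AlgHom.id R S) (includeLeft : S →ₐ[R] S₂)
  let p13 : S₂ →ₐ[R] S₃ := Algebra.TensorProduct.map (AlgHom.id R S) (includeRight : S →ₐ[R] S₂)
  let p23 : S₂ →ₐ[R] S₃ := includeRight
  let κ : S ⊗[R] MonoidAlgebra S M ≃ₐ[R] MonoidAlgebra S₂ M := MonoidAlgebra.rTensorEquivAlgEquiv R R S S
  have hκ : ∀ s p, κ (s ⊗ₜ[R] p) = algebraMap S₂ _ (s ⊗ₜ[R] (1 : S)) * bm p := fun s p => by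
    induction p using MonoidAlgebra.induction_linear with
    | zero => simp
    | add a b ha hb => simp only [TensorProduct.tmul_add, map_add, ha, hb, mul_add]
    | single n r =>
      rw [show κ (s ⊗ₜ[R] MonoidAlgebra.single n r) = MonoidAlgebra.single n (s ⊗ₜ[R] r) from
        κ.symm.injective (by rw [κ.symm_apply_apply]; exact (MonoidAlgebra.rTensorEquiv_symm_singleAlgEquiv n s r).symm)]
      simp [mm, MonoidAlgebra.coe_algebraMap, bm]
      rw [show ∀ a : S ⊗[R] S, algebraMap S₂ (S ⊗[R] S) a = a from fun a => rfl, Algebra.TensorProduct.tmul_mul_tmul,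
        mul_one, one_mul]
  let κ₃ : S ⊗[R] MonoidAlgebra S₂ M ≃ₐ[R] MonoidAlgebra S₃ M := MonoidAlgebra.rTensorEquivAlgEquiv R R S S₂
  have hκ₃ : ∀ s q, κ₃ (s ⊗ₜ[R] q) = algebraMap S₃ _ (s ⊗ₜ[R] (1 : S₂)) * mm p23 q := fun s q => by
    induction q using MonoidAlgebra.induction_linear with
    | zero => simp
    | add a b ha hb => simp only [TensorProduct.tmul_add, map_add, ha, hb, mul_add]
    | single n r =>
      rw [show κ₃ (s ⊗ₜ[R] MonoidAlgebra.single n r) = MonoidAlgebra.single n (s ⊗ₜ[R] r) from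
        κ₃.symm.injective (by rw [κ₃.symm_apply_apply]; exact (MonoidAlgebra.rTensorEquiv_symm_singleAlgEquiv n s r).symm)]
      simp [mm, MonoidAlgebra.coe_algebraMap, p23]
      rw [Algebra.TensorProduct.includeRight_apply, Algebra.TensorProduct.tmul_mul_tmul, mul_one, one_mul]
  have hmap : ∀ {Q Q' : Type u} [CommRing Q] [Algebra R Q] [CommRing Q'] [Algebra R Q'] (φ : Q →ₐ[R] Q') (q : Q),
      mm φ (algebraMap Q (MonoidAlgebra Q M) q) = algebraMap Q' _ (φ q) := fun φ q => by
    simp [mm, MonoidAlgebra.coe_algebraMap]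
  let ι : S ⊗[R] inv D →ₗ[R] S ⊗[R] MonoidAlgebra S M := (inv D).val.toLinearMap.lTensor S
  have key : ∀ w, κ (ι w) = ext' D.γ' (am (comp D w)) := fun w => by
    induction w using TensorProduct.induction_on with
    | zero => simp
    | add a b ha hb => simp only [map_add, ha, hb]
    | tmul s x =>
      rw [show ι (s ⊗ₜ[R] x) = s ⊗ₜ[R] (x : MonoidAlgebra S M) from rfl, hκ,
        show comp D (s ⊗ₜ[R] x) = algebraMap S _ s * (x : MonoidAlgebra S M) by simp [comp, Algebra.ofId_apply],
        map_mul, map_mul, mem_inv D |>.1 x.2, ext'_γ'_γ, hmap, AlgHom.commutes]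
      rfl
  refine ⟨fun w w' h => ?_, fun y => ?_⟩
  · have h1 := key w
    rw [h, ← key w'] at h1
    exact Module.Flat.lTensor_preserves_injective_linearMap _ Subtype.val_injective (κ.injective h1)
  · let z := ext' D.γ' (am y)
    let δ : MonoidAlgebra S M →ₗ[R] MonoidAlgebra S₂ M :=
      (am (R := R) (S := S) (M := M)).toLinearMap - (((ext' D.γ).restrictScalars R).comp bm).toLinearMap
    have hex : Function.Exact (inv D).val.toLinearMap δ := fun x => by
      constructor
      · intro hx
        exact ⟨⟨x, sub_eq_zero.1 hx⟩, rfl⟩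
      · rintro ⟨x, rfl⟩
        exact sub_eq_zero.2 x.2
    obtain ⟨w, hw⟩ := (Module.Flat.lTensor_exact S hex (κ.symm z)).1 (by
      apply κ₃.injective
      have e : ∀ t : S ⊗[R] MonoidAlgebra S M, κ₃ (δ.lTensor S t) =
          mm p12 (κ t) - ext' (push p23 D.γ) (mm p13 (κ t)) := fun t => by
        induction t using TensorProduct.induction_on with
        | zero => simp
        | add a b ha hb => simp only [map_add, ha, hb]; abel
        | tmul s p =>
          rw [LinearMap.lTensor_tmul, hκ₃, hκ, map_mul, map_mul, hmap, hmap]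
          rw [show p12 (s ⊗ₜ[R] (1 : S)) = s ⊗ₜ[R] (1 : S₂) from rfl, show p13 (s ⊗ₜ[R] (1 : S)) = s ⊗ₜ[R] (1 : S₂) from rfl,
            map_mul, AlgHom.commutes, ← mul_sub]
          congr 1
          show mm p23 (am p - ext' D.γ (bm p)) = _
          rw [map_sub, mm_ext', mm_mm, mm_mm, mm_mm, mm_mm]
          congr 3 <;> exact AlgHom.ext fun t => by simp [p12, p13, p23]
      rw [e, κ.apply_symm_apply, map_zero, sub_eq_zero]
      have hinj : Function.Injective (ext' (push p12 D.γ)) := by
        refine Function.LeftInverse.injective (g := ext' (push p12 D.γ')) fun t => ?_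
        have : (ext' (push p12 D.γ')).comp (ext' (push p12 D.γ)) = AlgHom.id _ _ := MonoidAlgebra.algHom_ext (fun n => by
          simp only [AlgHom.comp_apply, MonoidAlgebra.lift_single, one_smul, AlgHom.id_apply]
          show ext' (push p12 D.γ') (mm p12 (D.γ n)) = _
          rw [← mm_ext', D.inv₁]
          simp [mm]) (by ext)
        exact AlgHom.congr_fun this t
      apply hinj
      rw [← mm_ext', ext'_γ_γ', mm_mm,
        show p12.comp (includeLeft : S →ₐ[R] S₂) = p13.comp (includeLeft : S →ₐ[R] S₂) from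
          AlgHom.ext fun t => by simp [p12, p13]; rfl, ← mm_mm]
      conv_lhs => rw [show am y = ext' D.γ z from (ext'_γ_γ' D (am y)).symm, mm_ext']
      have h13 : ext' (push p13 D.γ) = (ext' (push p12 D.γ)).comp (ext' (push p23 D.γ)) :=
        MonoidAlgebra.algHom_ext (fun n => by
          simp only [AlgHom.comp_apply, MonoidAlgebra.lift_single, one_smul]
          exact D.cocycle n) (by ext)
      rw [h13]
      rfl)
    refine ⟨w, am_injective (R := R) (S := S) (M := M) ?_⟩
    have h1 := key w
    rw [show ι w = κ.symm z from hw, κ.apply_symm_apply] at h1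
    exact ((ext'_γ_γ' D _).symm.trans (congrArg (ext' D.γ) h1.symm)).trans (ext'_γ_γ' D _)

end Groth.Agent.MultHopf.Twist
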