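import Groth.Agent.MultHopf.TwistAlgebra

/-!
# Twisted forms of group algebras: the Hopf algebra
-/

set_option autoImplicit false
set_option backward.isDefEq.respectTransparency.types false
set_option maxHeartbeats 1000000
set_option synthInstance.maxHeartbeats 100000

universe u

open scoped TensorProduct
open Coalgebra
open Algebra.TensorProduct (includeLeft includeRight)

namespace Groth.Agent.MultHopf.Twist

variable {R : Type u} [CommRing R] {M : Type u} [CommGroup M] [DecidableEq M] {S : Type u} [CommRing S] [Algebra R S]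
  [Module.FaithfullyFlat R S]

/-- Descent of maps of algebras. -/
theorem exists_desc_algHom {E D : Type u} [CommRing E] [Algebra R E] [CommRing D] [Algebra R D] (F : E →ₐ[R] S ⊗[R] D)
    (h : ∀ x, Algebra.TensorProduct.map (includeLeft : S →ₐ[R] S ⊗[R] S) (AlgHom.id R D) (F x) =
      Algebra.TensorProduct.map (includeRight : S →ₐ[R] S ⊗[R] S) (AlgHom.id R D) (F x)) :
    ∃ G : E →ₐ[R] D, ∀ x, (1 : S) ⊗ₜ[R] G x = F x := by
  have hmem : ∀ x, ∃ d : D, (1 : S) ⊗ₜ[R] d = F x := fun x => by
    refine FpqcDescent.Amitsur.mem_range_mk R S D (F x) ?_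
    have e1 : ∀ w : S ⊗[R] D, TensorProduct.assoc R S S D
        (Algebra.TensorProduct.map (includeLeft : S →ₐ[R] S ⊗[R] S) (AlgHom.id R D) w) =
        (TensorProduct.mk R S D 1).lTensor S w := fun w => by
      induction w using TensorProduct.induction_on with
      | zero => simp
      | add a b ha hb => simp only [map_add, ha, hb]
      | tmul s d => simp
    have e2 : ∀ w : S ⊗[R] D, TensorProduct.assoc R S S D
        (Algebra.TensorProduct.map (includeRight : S →ₐ[R] S ⊗[R] S) (AlgHom.id R D) w) =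
        TensorProduct.mk R S (S ⊗[R] D) 1 w := fun w => by
      induction w using TensorProduct.induction_on with
      | zero => simp
      | add a b ha hb => simp only [map_add, ha, hb]
      | tmul s d => simp
    rw [← e1, ← e2, h]
  choose g hg using hmem
  have hinj : ∀ {a b : D}, (1 : S) ⊗ₜ[R] a = (1 : S) ⊗ₜ[R] b → a = b := fun {a b} hab =>
    Module.FaithfullyFlat.tensorProduct_mk_injective (A := R) (B := S) D hab
  exact ⟨
    { toFun := g
      map_one' := hinj (by rw [hg, map_one, Algebra.TensorProduct.one_def])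
      map_mul' := fun a b => hinj (by
        rw [hg, map_mul, ← hg, ← hg, Algebra.TensorProduct.tmul_mul_tmul, one_mul])
      map_zero' := hinj (by rw [hg, map_zero, TensorProduct.tmul_zero])
      map_add' := fun a b => hinj (by rw [hg, map_add, TensorProduct.tmul_add, hg, hg])
      commutes' := fun r => hinj (by
        rw [hg, AlgHom.commutes]
        exact ((includeRight : D →ₐ[R] S ⊗[R] D).commutes r).symm) }, hg⟩

/-- The comparison map after the first pullback. -/
theorem bijective_comp₂ (D : Datum R S M) :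
    Function.Bijective (Algebra.TensorProduct.lift (Algebra.ofId (S ⊗[R] S) (MonoidAlgebra (S ⊗[R] S) M))
      ((am (R := R) (S := S) (M := M)).comp (inv D).val) fun _ _ => Commute.all _ _) := by
  let X := MonoidAlgebra S M
  let S₂ := S ⊗[R] S
  let E := inv D
  let f : E →ₐ[R] X := E.val
  let f' : E →ₐ[R] MonoidAlgebra S₂ M := (am (R := R) (S := S) (M := M)).comp f
  have hb : Function.Bijective (Algebra.TensorProduct.lift (Algebra.ofId S X) f fun _ _ => Commute.all _ _) := bijective_comp D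
  let L := Algebra.TensorProduct.lift (Algebra.ofId S₂ (MonoidAlgebra S₂ M)) f' fun _ _ => Commute.all _ _
  let c1 : S₂ ⊗[S] (S ⊗[R] E) ≃ₐ[S₂] S₂ ⊗[R] E := Algebra.TensorProduct.cancelBaseChange R S S₂ S₂ E
  let c2 : S₂ ⊗[S] (S ⊗[R] E) ≃ₐ[S₂] S₂ ⊗[S] X :=
    Algebra.TensorProduct.congr AlgEquiv.refl (AlgEquiv.ofBijective _ hb)
  let c3 : S₂ ⊗[S] X ≃ₐ[S₂] MonoidAlgebra S₂ M := MonoidAlgebra.scalarTensorEquiv S S₂
  have hmm : ∀ p : X, MonoidAlgebra.mapAlgHom M (Algebra.ofId S S₂) p = am (R := R) p := fun p => rfl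
  have hL : L.comp c1.toAlgHom = c3.toAlgHom.comp c2.toAlgHom := Algebra.TensorProduct.ext (by ext) (AlgHom.ext fun w => by
    show L (c1 ((1 : S₂) ⊗ₜ[S] w)) = c3 (c2 ((1 : S₂) ⊗ₜ[S] w))
    induction w using TensorProduct.induction_on with
    | zero => simp
    | add a b ha hb => simp only [TensorProduct.tmul_add, map_add, ha, hb]
    | tmul s x =>
      simp only [c2, c3, Algebra.TensorProduct.congr_apply, Algebra.TensorProduct.map_tmul,
        MonoidAlgebra.scalarTensorEquiv_tmul]
      simp [c1, L, f', f, hmm, Algebra.smul_def, Algebra.ofId_apply, MonoidAlgebra.coe_algebraMap]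
      rw [show (1 : S₂) ⊗ₜ[S] (algebraMap S X s * (x : X)) = (1 : S₂) ⊗ₜ[S] algebraMap S X s * (1 : S₂) ⊗ₜ[S] (x : X) by simp,
        map_mul, MonoidAlgebra.scalarTensorEquiv_tmul, MonoidAlgebra.scalarTensorEquiv_tmul, one_smul, one_smul, hmm, hmm]
      simp [am, mm, MonoidAlgebra.coe_algebraMap, X]
      rfl)
  have : Function.Bijective (L.comp c1.toAlgHom) := by rw [hL]; exact c3.bijective.comp c2.bijective
  exact (Function.Bijective.of_comp_iff L c1.bijective).1 this

/-- Two-factor comparison maps commute with changes of coefficients. -/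
theorem e₂_natural {Q : Type u} [CommRing Q] [Algebra R Q] {E : Type u} [CommRing E] [Algebra R E]
    (f : E →ₐ[R] MonoidAlgebra S M) (f' : E →ₐ[R] MonoidAlgebra Q M) (φ : S →ₐ[R] Q)
    (G : MonoidAlgebra S M ⊗[S] MonoidAlgebra S M →+* MonoidAlgebra Q M ⊗[Q] MonoidAlgebra Q M)
    (hG : ∀ u v, G (u ⊗ₜ[S] v) = mm φ u ⊗ₜ[Q] mm φ v) (T : MonoidAlgebra Q M →ₐ[Q] MonoidAlgebra Q M)
    (hT : ∀ x, f' x = T (mm φ (f x))) (w : S ⊗[R] (E ⊗[R] E)) :
    Algebra.TensorProduct.lift (Algebra.ofId Q _) (Model.e₂ (R := Q) f') (fun _ _ => Commute.all _ _)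
        (Algebra.TensorProduct.map φ (AlgHom.id R (E ⊗[R] E)) w) =
      Algebra.TensorProduct.map T T
        (G (Algebra.TensorProduct.lift (Algebra.ofId S _) (Model.e₂ (R := S) f) (fun _ _ => Commute.all _ _) w)) := by
  induction w using TensorProduct.induction_on with
  | zero => simp
  | add a b ha hb => simp only [map_add, ha, hb]
  | tmul s z =>
    induction z using TensorProduct.induction_on with
    | zero => simp
    | add a b ha hb => simp only [TensorProduct.tmul_add, map_add, ha, hb]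
    | tmul u v =>
      rw [Algebra.TensorProduct.map_tmul, AlgHom.id_apply, Algebra.TensorProduct.lift_tmul, Algebra.TensorProduct.lift_tmul,
        Model.e₂_tmul, Model.e₂_tmul, Algebra.ofId_apply, Algebra.ofId_apply, Algebra.TensorProduct.algebraMap_apply,
        Algebra.TensorProduct.algebraMap_apply, Algebra.TensorProduct.tmul_mul_tmul, Algebra.TensorProduct.tmul_mul_tmul,
        one_mul, one_mul, hG, Algebra.TensorProduct.map_tmul, map_mul, map_mul, hT, hT]
      congr 2
      rw [show mm φ (algebraMap S (MonoidAlgebra S M) s) = algebraMap Q _ (φ s) by simp [mm, MonoidAlgebra.coe_algebraMap],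
        AlgHom.commutes]

/-- The comultiplication satisfies the descent condition. -/
theorem comul_compat {E : Type u} [CommRing E] [Algebra R E] (γ : M →* MonoidAlgebra (S ⊗[R] S) M) (hγ : ∀ n, IsGL (γ n))
    (f : E →ₐ[R] MonoidAlgebra S M)
    (hb' : Function.Bijective (Algebra.TensorProduct.lift (Algebra.ofId (S ⊗[R] S) (MonoidAlgebra (S ⊗[R] S) M))
      ((am (R := R) (S := S) (M := M)).comp f) fun _ _ => Commute.all _ _))
    (hf : ∀ x, am (R := R) (f x) = ext' γ (bm (R := R) (f x))) (x : E) (w : S ⊗[R] (E ⊗[R] E))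
    (hw : Algebra.TensorProduct.lift (Algebra.ofId S _) (Model.e₂ (R := S) f) (fun _ _ => Commute.all _ _) w =
      comul (R := S) (f x)) :
    Algebra.TensorProduct.map (includeLeft : S →ₐ[R] S ⊗[R] S) (AlgHom.id R (E ⊗[R] E)) w =
      Algebra.TensorProduct.map (includeRight : S →ₐ[R] S ⊗[R] S) (AlgHom.id R (E ⊗[R] E)) w := by
  obtain ⟨Ga, hGa, hGa'⟩ := exists_mm₂ (M := M) (includeLeft : S →ₐ[R] S ⊗[R] S)
  obtain ⟨Gb, hGb, hGb'⟩ := exists_mm₂ (M := M) (includeRight : S →ₐ[R] S ⊗[R] S)
  refine (Model.bijective_e₂ (R := S ⊗[R] S) (C := MonoidAlgebra (S ⊗[R] S) M) hb').1 ?_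
  rw [e₂_natural f ((am (R := R) (S := S) (M := M)).comp f) includeLeft Ga hGa (AlgHom.id _ _) (fun y => by simp),
    e₂_natural f ((am (R := R) (S := S) (M := M)).comp f) includeRight Gb hGb (ext' γ) (fun y => hf y), hw, hGa', hGb',
    ← comul_ext' hγ, ← hf]
  generalize comul (R := S ⊗[R] S) (am (R := R) (f x)) = z
  induction z using TensorProduct.induction_on with
  | zero => simp
  | add a b ha hb => simp only [map_add, ha, hb]
  | tmul a b => simp

/-- The comultiplication of a twisted form. -/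
theorem exists_comul' {E : Type u} [CommRing E] [Algebra R E] (γ : M →* MonoidAlgebra (S ⊗[R] S) M) (hγ : ∀ n, IsGL (γ n))
    (f : E →ₐ[R] MonoidAlgebra S M)
    (hb : Function.Bijective (Algebra.TensorProduct.lift (Algebra.ofId S (MonoidAlgebra S M)) f fun _ _ => Commute.all _ _))
    (hb' : Function.Bijective (Algebra.TensorProduct.lift (Algebra.ofId (S ⊗[R] S) (MonoidAlgebra (S ⊗[R] S) M))
      ((am (R := R) (S := S) (M := M)).comp f) fun _ _ => Commute.all _ _))
    (hf : ∀ x, am (R := R) (f x) = ext' γ (bm (R := R) (f x))) :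
    ∃ Δ : E →ₐ[R] E ⊗[R] E, ∀ x, comul (R := S) (f x) = Model.e₂ (R := S) f (Δ x) := by
  have hb2 := Model.bijective_e₂ (R := S) (C := MonoidAlgebra S M) hb
  obtain ⟨F, hF⟩ : ∃ F : E →ₐ[R] S ⊗[R] (E ⊗[R] E), ∀ x,
      Algebra.TensorProduct.lift (Algebra.ofId S _) (Model.e₂ (R := S) f) (fun _ _ => Commute.all _ _) (F x) =
        comul (R := S) (f x) :=
    ⟨((AlgEquiv.ofBijective _ hb2).symm.toAlgHom.restrictScalars R).comp
      (((Bialgebra.comulAlgHom S (MonoidAlgebra S M)).restrictScalars R).comp f),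
      fun x => (AlgEquiv.ofBijective _ hb2).apply_symm_apply _⟩
  obtain ⟨Δ, hΔ⟩ := exists_desc_algHom F fun x => comul_compat γ hγ f hb' hf x (F x) (hF x)
  refine ⟨Δ, fun x => ?_⟩
  rw [← hF, ← hΔ, Algebra.TensorProduct.lift_tmul, map_one, one_mul]

/-- The comultiplication of the twisted form. -/
theorem exists_comul (D : Datum R S M) : ∃ Δ : inv D →ₐ[R] inv D ⊗[R] inv D,
    ∀ x : inv D, comul (R := S) (x : MonoidAlgebra S M) = Model.e₂ (R := S) (inv D).val (Δ x) :=
  exists_comul' D.γ D.gl (inv D).val (bijective_comp D) (bijective_comp₂ D) fun x => mem_inv D |>.1 x.2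

/-- The counit of the twisted form. -/
theorem exists_counit (D : Datum R S M) : ∃ ε : inv D →ₐ[R] R,
    ∀ x : inv D, counit (R := S) (x : MonoidAlgebra S M) = algebraMap R S (ε x) := by
  let X := MonoidAlgebra S M
  let S₂ := S ⊗[R] S
  let E := inv D
  let f : E →ₐ[R] X := E.val
  let Fε : E →ₐ[R] S ⊗[R] R :=
    ((includeLeft : S →ₐ[R] S ⊗[R] R)).comp (((Bialgebra.counitAlgHom S X).restrictScalars R).comp f)
  have hεc : ∀ x : E, Algebra.TensorProduct.map (includeLeft : S →ₐ[R] S ⊗[R] S) (AlgHom.id R R) (Fε x) =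
      Algebra.TensorProduct.map (includeRight : S →ₐ[R] S ⊗[R] S) (AlgHom.id R R) (Fε x) := fun x => by
    show Algebra.TensorProduct.map _ _ (counit (R := S) (x : X) ⊗ₜ[R] (1 : R)) =
      Algebra.TensorProduct.map _ _ (counit (R := S) (x : X) ⊗ₜ[R] (1 : R))
    rw [Algebra.TensorProduct.map_tmul, Algebra.TensorProduct.map_tmul]
    congr 1
    rw [← counit_mm (includeLeft : S →ₐ[R] S₂), ← counit_mm (includeRight : S →ₐ[R] S₂)]
    exact (congrArg _ (mem_inv D |>.1 x.2)).trans (counit_ext' D.gl _)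
  obtain ⟨ε, hε⟩ := exists_desc_algHom Fε hεc
  exact ⟨ε, fun x => by
    have := congrArg (Algebra.TensorProduct.rid R R S) (hε x)
    simp [Fε, Algebra.smul_def] at this
    exact this.symm⟩

/-- The twisted form. -/
theorem exists_twisted (D : Datum R S M) :
    ∃ (A : Type u) (_ : CommRing A) (_ : HopfAlgebra R A) (e : S ⊗[R] A ≃ₐc[S] MonoidAlgebra S M),
      ∀ a : A, am (R := R) (e ((1 : S) ⊗ₜ[R] a)) = ext' D.γ (bm (R := R) (e ((1 : S) ⊗ₜ[R] a))) := by
  let X := MonoidAlgebra S M
  let S₂ := S ⊗[R] S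
  let E := inv D
  let f : E →ₐ[R] X := E.val
  have hb : Function.Bijective (Algebra.TensorProduct.lift (Algebra.ofId S X) f fun _ _ => Commute.all _ _) := bijective_comp D
  obtain ⟨Δ, hΔ⟩ := exists_comul D
  obtain ⟨ε, hε⟩ := exists_counit D
  -- the antipode
  let σ : E →ₐ[R] E := (((HopfAlgebra.antipodeAlgHom S X).restrictScalars R).comp f).codRestrict E fun x => by
    rw [mem_inv]
    show mm _ (HopfAlgebra.antipode S (x : X)) = ext' D.γ (mm _ (HopfAlgebra.antipode S (x : X)))
    rw [← antipode_mm, ← antipode_mm, ← antipode_ext' D.gl]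
    exact congrArg _ (mem_inv D |>.1 x.2)
  let H : Model.Data R E S X :=
    { Δ := Δ
      ε := ε
      σ := σ
      f := f
      bij := hb
      comul_f := hΔ
      counit_f := hε
      antipode_f := fun m => rfl }
  let _ : HopfAlgebra R (R ⊗[R] E) := Model.hopfBC H.axioms_of_ff
  obtain ⟨e, he⟩ := H.exists_equiv H.axioms_of_ff
  refine ⟨R ⊗[R] E, inferInstance, Model.hopfBC H.axioms_of_ff, e, fun a => ?_⟩
  obtain ⟨x, rfl⟩ := (Algebra.TensorProduct.lid R E).symm.surjective a
  rw [Algebra.TensorProduct.lid_symm_apply, he]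
  exact mem_inv D |>.1 x.2

end Groth.Agent.MultHopf.Twist
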