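import Groth.Agent.MultHopf.TwistLiftMain
import Groth.Agent.Hensel.Pairs
import Mathlib.RingTheory.TensorProduct.Quotient

/-!
# Lifting split groups along henselian pairs and nil ideals
-/

set_option autoImplicit false
set_option backward.isDefEq.respectTransparency.types false
set_option maxHeartbeats 1000000
set_option synthInstance.maxHeartbeats 100000

universe u

open scoped TensorProduct
open Algebra.TensorProduct (includeLeft includeRight)

namespace Groth.Agent.MultHopf.Twist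

variable {R R' : Type u} [CommRing R] [CommRing R'] [Algebra R R']

/-- A map exhibiting its target as a base change. -/
def IsBC {A A' : Type u} [CommRing A] [Algebra R A] [CommRing A'] [Algebra R' A'] [Algebra R A'] [IsScalarTower R R' A']
    (π : A →ₐ[R] A') : Prop :=
  Function.Bijective (Algebra.TensorProduct.lift (Algebra.ofId R' A') π fun _ _ => Commute.all _ _ : R' ⊗[R] A →ₐ[R'] A')

theorem IsBC.prod {A A' B B' : Type u} [CommRing A] [Algebra R A] [CommRing A'] [Algebra R' A'] [Algebra R A']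
    [IsScalarTower R R' A'] [CommRing B] [Algebra R B] [CommRing B'] [Algebra R' B'] [Algebra R B'] [IsScalarTower R R' B']
    {π : A →ₐ[R] A'} (hπ : IsBC (R' := R') π) {σ : B →ₐ[R] B'} (hσ : IsBC (R' := R') σ) :
    IsBC (R' := R') (Algebra.TensorProduct.lift (((includeLeft : A' →ₐ[R'] A' ⊗[R'] B').restrictScalars R).comp π)
      (((includeRight : B' →ₐ[R'] A' ⊗[R'] B').restrictScalars R).comp σ) fun _ _ => Commute.all _ _) := by
  let T := R' ⊗[R] (A ⊗[R] B)
  let a := AlgEquiv.ofBijective _ hπ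
  let b := AlgEquiv.ofBijective _ hσ
  let Ω : A' ⊗[R'] B' →ₐ[R'] T := Algebra.TensorProduct.lift
    ((Algebra.TensorProduct.map (AlgHom.id R' R') (includeLeft : A →ₐ[R] A ⊗[R] B)).comp a.symm.toAlgHom)
    ((Algebra.TensorProduct.map (AlgHom.id R' R') (includeRight : B →ₐ[R] A ⊗[R] B)).comp b.symm.toAlgHom)
    fun _ _ => Commute.all _ _
  let Θ : T →ₐ[R'] A' ⊗[R'] B' := Algebra.TensorProduct.lift (Algebra.ofId R' _)
    (Algebra.TensorProduct.lift (((includeLeft : A' →ₐ[R'] A' ⊗[R'] B').restrictScalars R).comp π)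
      (((includeRight : B' →ₐ[R'] A' ⊗[R'] B').restrictScalars R).comp σ) fun _ _ => Commute.all _ _) fun _ _ => Commute.all _ _
  have ha : ∀ x : A, a.symm (π x) = (1 : R') ⊗ₜ[R] x := fun x => a.symm_apply_eq.2 (by simp [a])
  have hb : ∀ x : B, b.symm (σ x) = (1 : R') ⊗ₜ[R] x := fun x => b.symm_apply_eq.2 (by simp [b])
  have h1 : Ω.comp Θ = AlgHom.id R' T := Algebra.TensorProduct.ext (by ext)
    (Algebra.TensorProduct.ext (AlgHom.ext fun x => by simp [Θ, Ω, ha, T]) (AlgHom.ext fun x => by simp [Θ, Ω, hb, T]))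
  have ha' : ∀ w : R' ⊗[R] A, Θ (Algebra.TensorProduct.map (AlgHom.id R' R') includeLeft w) = a w ⊗ₜ[R'] (1 : B') := fun w => by
    induction w using TensorProduct.induction_on with
    | zero => simp
    | add x y hx hy => simp only [map_add, TensorProduct.add_tmul, hx, hy]
    | tmul r x =>
      rw [Algebra.TensorProduct.map_tmul, AlgHom.id_apply, Algebra.TensorProduct.includeLeft_apply]
      refine (Algebra.TensorProduct.lift_tmul ..).trans ?_
      rw [Algebra.TensorProduct.lift_tmul]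
      simp [a, Algebra.ofId_apply, Algebra.TensorProduct.algebraMap_apply]
  have hb' : ∀ w : R' ⊗[R] B, Θ (Algebra.TensorProduct.map (AlgHom.id R' R') includeRight w) = (1 : A') ⊗ₜ[R'] b w := fun w => by
    induction w using TensorProduct.induction_on with
    | zero => simp
    | add x y hx hy => simp only [map_add, TensorProduct.tmul_add, hx, hy]
    | tmul r x =>
      rw [Algebra.TensorProduct.map_tmul, AlgHom.id_apply, Algebra.TensorProduct.includeRight_apply]
      refine (Algebra.TensorProduct.lift_tmul ..).trans ?_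
      rw [Algebra.TensorProduct.lift_tmul]
      simp [b, Algebra.ofId_apply, Algebra.algebraMap_eq_smul_one, Algebra.TensorProduct.one_def, TensorProduct.smul_tmul']
  have h2 : Θ.comp Ω = AlgHom.id R' _ := Algebra.TensorProduct.ext
    (AlgHom.ext fun x => by
      show Θ (Ω (x ⊗ₜ[R'] (1 : B'))) = x ⊗ₜ[R'] (1 : B')
      simp [Ω, ha'])
    (AlgHom.ext fun x => by
      show Θ (Ω ((1 : A') ⊗ₜ[R'] x)) = (1 : A') ⊗ₜ[R'] x
      simp [Ω, hb'])
  exact Function.bijective_iff_has_inverse.2 ⟨Ω, AlgHom.congr_fun h1, AlgHom.congr_fun h2⟩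

/-- Idempotents lift uniquely modulo the ideal. -/
def IdemLifts {T : Type u} [CommRing T] (J : Ideal T) : Prop :=
  (∀ x, x * x - x ∈ J → ∃ e, IsIdempotentElem e ∧ e - x ∈ J) ∧
    ∀ d e : T, IsIdempotentElem d → IsIdempotentElem e → d - e ∈ J → d = e

theorem idemLifts_of_nil {T : Type u} [CommRing T] {J : Ideal T} (hJ : ∀ x ∈ J, IsNilpotent x) : IdemLifts J :=
  ⟨exists_idem_lift hJ, fun _ _ hd he h => eq_of_isNilpotent_sub_of_isIdempotentElem hd he (hJ _ h)⟩

open Polynomial in
theorem idemLifts_of_henselian {T : Type u} [CommRing T] (J : Ideal T) [H : HenselianRing T J] : IdemLifts J := by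
  refine ⟨fun x hx => ?_, fun d e hd he h => Hensel.idem_eq_of_sub_mem_jacobson hd he (H.jac h)⟩
  obtain ⟨e, he, he'⟩ := HenselianRing.is_henselian (X ^ 2 - X : T[X]) (by monicity!) x
    (by simpa [sq] using hx) (by
      refine IsUnit.of_mul_eq_one ((Ideal.Quotient.mk J) (2 * x - 1)) ?_
      rw [← map_mul, ← map_one (Ideal.Quotient.mk J), Ideal.Quotient.eq]
      simp only [derivative_sub, derivative_X_pow, derivative_X, eval_sub, eval_mul, eval_pow, eval_X,
        eval_one, eval_C, Nat.cast_ofNat]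
      have : ((2 : T) * x ^ (2 - 1) - 1) * (2 * x - 1) - 1 = 4 * (x * x - x) := by ring
      rw [this]
      exact J.mul_mem_left _ hx)
  exact ⟨e, sub_eq_zero.mp (by simpa [sq] using he), he'⟩

theorem idemBij_of_isBC (I : Ideal R) {T T' : Type u} [CommRing T] [Algebra R T] [CommRing T'] [Algebra (R ⧸ I) T']
    [Algebra R T'] [IsScalarTower R (R ⧸ I) T'] (q : T →ₐ[R] T') (hq : IsBC (R' := R ⧸ I) q)
    (hT : IdemLifts (I.map (algebraMap R T))) : IdemBij q.toRingHom := by
  let J := I.map (algebraMap R T)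
  let c := (Algebra.TensorProduct.quotIdealMapEquivQuotTensor (A := R) T I).trans (AlgEquiv.ofBijective _ hq)
  have hc : ∀ x, c (Ideal.Quotient.mk J x) = q x := fun x => by simp [c, J]
  have hker : ∀ x y, q x = q y ↔ x - y ∈ J := fun x y => by
    rw [← hc, ← hc, c.injective.eq_iff, Ideal.Quotient.eq]
  intro e he
  obtain ⟨x', hx'⟩ := c.surjective e
  obtain ⟨x, rfl⟩ := Ideal.Quotient.mk_surjective x'
  rw [hc] at hx'
  subst hx'
  obtain ⟨d, hd, hdx⟩ := hT.1 x ((hker _ _).1 (by rw [map_mul]; exact he))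
  exact ⟨d, ⟨hd, (hker _ _).2 hdx⟩, fun d' hd' => hT.2 _ _ hd'.1 hd ((hker _ _).1 (hd'.2.trans ((hker _ _).2 hdx).symm))⟩

variable {M : Type u} [CommGroup M] [DecidableEq M]

/-- Split groups lift along a quotient. -/
theorem exists_lift_quot (I : Ideal R) {A₀ : Type u} [CommRing A₀] [HopfAlgebra (R ⧸ I) A₀] {S S' : Type u} [CommRing S]
    [Algebra R S] [CommRing S'] [Algebra (R ⧸ I) S'] [Algebra R S'] [IsScalarTower R (R ⧸ I) S']
    [Module.FaithfullyFlat R S] [Module.FaithfullyFlat (R ⧸ I) S'] (π : S →ₐ[R] S') (hπ : IsBC (R' := R ⧸ I) π)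
    (h₂ : IdemLifts (I.map (algebraMap R (S ⊗[R] S)))) (h₃ : IdemLifts (I.map (algebraMap R (S ⊗[R] (S ⊗[R] S)))))
    (e₀ : S' ⊗[R ⧸ I] A₀ ≃ₐc[S'] MonoidAlgebra S' M) :
    ∃ (A : Type u) (_ : CommRing A) (_ : HopfAlgebra R A),
      Nonempty (S ⊗[R] A ≃ₐc[S] MonoidAlgebra S M) ∧ Nonempty ((R ⧸ I) ⊗[R] A ≃ₐc[R ⧸ I] A₀) :=
  exists_lift π (idemBij_of_isBC I _ (hπ.prod hπ) h₂) (idemBij_of_isBC I _ (hπ.prod (hπ.prod hπ)) h₃) e₀

end Groth.Agent.MultHopf.Twist
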