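import Groth.Agent.MultHopf.TwistHopf
import Groth.Agent.MultHopf.Pieces

/-!
# Twisted forms of group algebras: data, lifting
-/

set_option autoImplicit false
set_option backward.isDefEq.respectTransparency.types false
set_option maxHeartbeats 1000000
set_option synthInstance.maxHeartbeats 100000

universe u

open scoped TensorProduct
open Coalgebra
open Algebra.TensorProduct (includeLeft includeRight)

namespace Groth.Agent.MultHopf.Twist

variable {R : Type u} [CommRing R] {M : Type u} [CommGroup M]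

/-- Base change of a splitting. -/
theorem exists_bc_equiv {A : Type u} [CommRing A] [HopfAlgebra R A] {S Q : Type u} [CommRing S] [Algebra R S] [CommRing Q]
    [Algebra R Q] (e : S ⊗[R] A ≃ₐc[S] MonoidAlgebra S M) (φ : S →ₐ[R] Q) :
    ∃ L : Q ⊗[R] A ≃ₐc[Q] MonoidAlgebra Q M, ∀ w : S ⊗[R] A,
      L (Algebra.TensorProduct.map φ (AlgHom.id R A) w) = mm φ (e w) := by
  let : Algebra S Q := φ.toRingHom.toAlgebra
  have : IsScalarTower R S Q := IsScalarTower.of_algebraMap_eq fun r => (φ.commutes r).symm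
  let g : Q ⊗[S] (S ⊗[R] A) ≃ₐc[Q] Q ⊗[S] MonoidAlgebra S M :=
    BialgEquiv.ofBijective (Bialgebra.TensorProduct.map (BialgHom.id Q Q) (e : _ →ₐc[S] _)) (by
      refine Function.bijective_iff_has_inverse.2 ⟨Bialgebra.TensorProduct.map (BialgHom.id Q Q) (e.symm : _ →ₐc[S] _), fun z => ?_, fun z => ?_⟩
      all_goals
        induction z using TensorProduct.induction_on with
        | zero => simp
        | add x y hx hy => simp only [map_add, hx, hy]
        | tmul s a => simp)
  let L := ((cancelBC R S Q A).symm.trans g).trans (baseChangeGroupAlgebra S Q M).symm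
  have hmm : ∀ p : MonoidAlgebra S M, MonoidAlgebra.mapAlgHom M (Algebra.ofId S Q) p = mm φ p := fun p => rfl
  refine ⟨L, fun w => ?_⟩
  have hw : Algebra.TensorProduct.map φ (AlgHom.id R A) w = cancelBC R S Q A ((1 : Q) ⊗ₜ[S] w) := by
    induction w using TensorProduct.induction_on with
    | zero => simp
    | add a b ha hb => simp only [TensorProduct.tmul_add, map_add, ha, hb]
    | tmul s a => simp [cancelBC, Algebra.smul_def, RingHom.algebraMap_toAlgebra]
  rw [hw]
  show (baseChangeGroupAlgebra S Q M).symm (g ((cancelBC R S Q A).symm (cancelBC R S Q A ((1 : Q) ⊗ₜ[S] w)))) = _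
  rw [BialgEquiv.symm_apply_apply]
  have hg : g ((1 : Q) ⊗ₜ[S] w) = (1 : Q) ⊗ₜ[S] e w := by simp [g]
  rw [hg]
  show MonoidAlgebra.scalarTensorEquiv S Q ((1 : Q) ⊗ₜ[S] e w) = _
  rw [MonoidAlgebra.scalarTensorEquiv_tmul, one_smul, hmm]

variable [DecidableEq M]

/-- Group-like elements go to group-like elements. -/
theorem isGL_mm {Q Q' : Type u} [CommRing Q] [Algebra R Q] [CommRing Q'] [Algebra R Q'] (φ : Q →ₐ[R] Q')
    {z : MonoidAlgebra Q M} (hz : IsGL z) : IsGL (mm φ z) := by
  refine ⟨fun m n => Ideal.mem_bot.2 (sub_eq_zero.2 ?_), Ideal.mem_bot.2 (sub_eq_zero.2 ?_)⟩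
  · show φ (z.coeff m) * φ (z.coeff n) = if m = n then φ (z.coeff m) else 0
    rw [← map_mul, hz.orth]
    split_ifs <;> simp
  · rw [counit_mm, hz.counit_eq, map_one]

/-- Group-like elements are preserved by twisted maps. -/
theorem isGL_ext' {Q : Type u} [CommRing Q] {γ : M →* MonoidAlgebra Q M} (hγ : ∀ n, IsGL (γ n))
    {z : MonoidAlgebra Q M} (hz : IsGL z) : IsGL (ext' γ z) := by
  refine isGLMod_of_comul (fun m n => ?_) ?_
  · rw [comul_ext' hγ, hz.comul_eq, Algebra.TensorProduct.map_tmul, coeff₂_tmul, sub_self]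
    exact zero_mem _
  · rw [counit_ext' hγ, hz.counit_eq, sub_self]
    exact zero_mem _

theorem isGL_single {Q : Type u} [CommRing Q] (n : M) : IsGL (MonoidAlgebra.single n (1 : Q)) := by
  refine isGLMod_of_comul (fun m n' => ?_) ?_
  · rw [MonoidAlgebra.comul_single]
    simp [CommSemiring.comul_apply, coeff₂_tmul]
  · simp

/-- Twisted maps agreeing on a generating family are equal. -/
theorem ext'_congr {A : Type u} [CommRing A] [HopfAlgebra R A] {S Q : Type u} [CommRing S] [Algebra R S] [CommRing Q]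
    [Algebra R Q] (e : S ⊗[R] A ≃ₐc[S] MonoidAlgebra S M) (φ : S →ₐ[R] Q)
    (T T' : MonoidAlgebra Q M →ₐ[Q] MonoidAlgebra Q M)
    (h : ∀ a : A, T (mm φ (e ((1 : S) ⊗ₜ[R] a))) = T' (mm φ (e ((1 : S) ⊗ₜ[R] a)))) : T = T' := by
  have key : ∀ w : S ⊗[R] A, T (mm φ (e w)) = T' (mm φ (e w)) := fun w => by
    induction w using TensorProduct.induction_on with
    | zero => simp
    | add a b ha hb => simp only [map_add, ha, hb]
    | tmul s a =>
      have : s ⊗ₜ[R] a = algebraMap S (S ⊗[R] A) s * (1 : S) ⊗ₜ[R] a := by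
        simp [Algebra.TensorProduct.algebraMap_apply]
      rw [this, map_mul, AlgHomClass.commutes e, map_mul,
        show mm φ (algebraMap S (MonoidAlgebra S M) s) = algebraMap Q _ (φ s) by simp [mm, MonoidAlgebra.coe_algebraMap],
        map_mul, map_mul, AlgHom.commutes, AlgHom.commutes, h]
  refine MonoidAlgebra.algHom_ext (fun n => ?_) (by ext)
  obtain ⟨w, hw⟩ := e.surjective (MonoidAlgebra.single n 1)
  have := key w
  have hw' : e w = MonoidAlgebra.single n 1 := hw
  rw [hw'] at this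
  simpa [mm] using this

/-- The descent datum of a split group. -/
theorem exists_datum_of_equiv {A : Type u} [CommRing A] [HopfAlgebra R A] {S : Type u} [CommRing S] [Algebra R S]
    (e : S ⊗[R] A ≃ₐc[S] MonoidAlgebra S M) :
    ∃ D : Datum R S M, (∀ n, IsGL (D.γ' n)) ∧
      ∀ a : A, am (R := R) (e ((1 : S) ⊗ₜ[R] a)) = ext' D.γ (bm (R := R) (e ((1 : S) ⊗ₜ[R] a))) := by
  let S₂ := S ⊗[R] S
  obtain ⟨L₁, hL₁⟩ := exists_bc_equiv e (includeLeft : S →ₐ[R] S₂)
  obtain ⟨L₂, hL₂⟩ := exists_bc_equiv e (includeRight : S →ₐ[R] S₂)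
  let v : MonoidAlgebra S₂ M ≃ₐc[S₂] MonoidAlgebra S₂ M := L₂.symm.trans L₁
  let γ : M →* MonoidAlgebra S₂ M :=
    ((v : MonoidAlgebra S₂ M →ₐ[S₂] MonoidAlgebra S₂ M).toRingHom.toMonoidHom).comp (MonoidAlgebra.of S₂ M)
  let γ' : M →* MonoidAlgebra S₂ M :=
    ((v.symm : MonoidAlgebra S₂ M →ₐ[S₂] MonoidAlgebra S₂ M).toRingHom.toMonoidHom).comp (MonoidAlgebra.of S₂ M)
  have hγ : ∀ p, ext' γ p = v p := fun p => by
    have : ext' γ = (v : MonoidAlgebra S₂ M →ₐ[S₂] MonoidAlgebra S₂ M) :=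
      MonoidAlgebra.algHom_ext (fun n => by simp [γ]) (by ext)
    exact AlgHom.congr_fun this p
  have hγ' : ∀ p, ext' γ' p = v.symm p := fun p => by
    have : ext' γ' = (v.symm : MonoidAlgebra S₂ M →ₐ[S₂] MonoidAlgebra S₂ M) :=
      MonoidAlgebra.algHom_ext (fun n => by simp [γ']) (by ext)
    exact AlgHom.congr_fun this p
  have hrel : ∀ a : A, am (R := R) (e ((1 : S) ⊗ₜ[R] a)) = ext' γ (bm (R := R) (e ((1 : S) ⊗ₜ[R] a))) := fun a => by
    rw [hγ]
    show mm includeLeft _ = L₁ (L₂.symm (mm includeRight _))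
    rw [← hL₁, ← hL₂, BialgEquiv.symm_apply_apply]
    simp
  have hgl : ∀ n, IsGL (γ n) := fun n => bialgHom_isGL (v : MonoidAlgebra S₂ M →ₐc[S₂] MonoidAlgebra S₂ M) n
  have hgl' : ∀ n, IsGL (γ' n) := fun n => bialgHom_isGL (v.symm : MonoidAlgebra S₂ M →ₐc[S₂] MonoidAlgebra S₂ M) n
  let p12 : S₂ →ₐ[R] S ⊗[R] S₂ := Algebra.TensorProduct.map (AlgHom.id R S) (includeLeft : S →ₐ[R] S₂)
  let p13 : S₂ →ₐ[R] S ⊗[R] S₂ := Algebra.TensorProduct.map (AlgHom.id R S) (includeRight : S →ₐ[R] S₂)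
  let p23 : S₂ →ₐ[R] S ⊗[R] S₂ := includeRight
  have key : ext' (push p13 γ) = (ext' (push p12 γ)).comp (ext' (push p23 γ)) := by
    refine ext'_congr e (p13.comp includeRight) _ _ fun a => ?_
    have t1 : mm (p13.comp includeLeft) (e ((1 : S) ⊗ₜ[R] a)) =
        ext' (push p13 γ) (mm (p13.comp includeRight) (e ((1 : S) ⊗ₜ[R] a))) := by
      rw [← mm_mm, ← mm_mm, ← mm_ext']; exact congrArg _ (hrel a)
    have t2 : mm (p12.comp includeLeft) (e ((1 : S) ⊗ₜ[R] a)) =
        ext' (push p12 γ) (mm (p12.comp includeRight) (e ((1 : S) ⊗ₜ[R] a))) := by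
      rw [← mm_mm, ← mm_mm, ← mm_ext']; exact congrArg _ (hrel a)
    have t3 : mm (p23.comp includeLeft) (e ((1 : S) ⊗ₜ[R] a)) =
        ext' (push p23 γ) (mm (p23.comp includeRight) (e ((1 : S) ⊗ₜ[R] a))) := by
      rw [← mm_mm, ← mm_mm, ← mm_ext']; exact congrArg _ (hrel a)
    rw [← t1, AlgHom.comp_apply, show p13.comp includeRight = p23.comp includeRight from
      AlgHom.ext fun s => by simp [p13, p23]; rfl, ← t3, show p23.comp includeLeft = p12.comp includeRight from
      AlgHom.ext fun s => by simp [p12, p23]; rfl, ← t2]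
    congr 2
  refine ⟨{ γ := γ, γ' := γ', gl := hgl, inv₁ := fun n => ?_, inv₂ := fun n => ?_, cocycle := fun n => ?_ }, hgl', hrel⟩
  · rw [hγ']; simp [γ]
  · rw [hγ]; simp [γ']
  · have := AlgHom.congr_fun key (MonoidAlgebra.single n 1)
    rw [AlgHom.comp_apply] at this
    simp only [MonoidAlgebra.lift_single, one_smul] at this
    exact this

/-- A map of rings bijective on idempotents. -/
def IdemBij {T T' : Type u} [CommRing T] [CommRing T'] (q : T →+* T') : Prop :=
  ∀ e : T', IsIdempotentElem e → ∃! d : T, IsIdempotentElem d ∧ q d = e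

/-- Group-like elements lift uniquely along such maps. -/
theorem gl_lift {T T' : Type u} [CommRing T] [Algebra R T] [CommRing T'] [Algebra R T'] (q : T →ₐ[R] T')
    (hq : IdemBij q.toRingHom) {z : MonoidAlgebra T' M} (hz : IsGL z) :
    ∃! y : MonoidAlgebra T M, IsGL y ∧ mm q y = z := by
  classical
  choose d hd huniq using fun m => hq (z.coeff m) (hz.idem m)
  have hu : ∀ {a b : T}, IsIdempotentElem a → IsIdempotentElem b → q a = q b → a = b := fun {a b} ha hb h =>
    (hq (q b) (hb.map q)).unique ⟨ha, h⟩ ⟨hb, rfl⟩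
  have huniq' : ∀ y : MonoidAlgebra T M, IsGL y → mm q y = z → ∀ m, y.coeff m = d m := fun y hy h m =>
    huniq m _ ⟨hy.idem m, by rw [← h]; rfl⟩
  let y : MonoidAlgebra T M := ∑ m ∈ z.coeff.support, MonoidAlgebra.single m (d m)
  have hy : ∀ m, y.coeff m = d m := fun m => by
    have : y.coeff m = if m ∈ z.coeff.support then d m else 0 := by
      simp [y, MonoidAlgebra.coeff_single, Finsupp.single_apply]
    rw [this]
    split_ifs with hm
    · rfl
    · refine (huniq m 0 ⟨IsIdempotentElem.zero, ?_⟩)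
      rw [map_zero, Finsupp.notMem_support_iff.1 hm]
  have horth : ∀ m n, d m * d n = if m = n then d m else 0 := fun m n => by
    refine hu ((hd m).1.mul (hd n).1) (by split_ifs; exacts [(hd m).1, IsIdempotentElem.zero]) ?_
    rw [map_mul]
    show q.toRingHom (d m) * q.toRingHom (d n) = _
    rw [(hd m).2, (hd n).2, hz.orth]
    split_ifs
    · exact (hd m).2.symm
    · exact (map_zero q).symm
  have hys : y.coeff.support ⊆ z.coeff.support := fun m hm => by
    by_contra hms
    refine Finsupp.mem_support_iff.1 hm ?_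
    simp [y, MonoidAlgebra.coeff_single, Finsupp.single_apply, hms]
  refine ⟨y, ⟨⟨fun m n => ?_, ?_⟩, MonoidAlgebra.coeff_injective (Finsupp.ext fun m => ?_)⟩, fun y' hy' =>
    MonoidAlgebra.coeff_injective (Finsupp.ext fun m => ?_)⟩
  · rw [hy, hy, Ideal.mem_bot, sub_eq_zero, horth]
  · rw [Ideal.mem_bot, sub_eq_zero, counit_eq_sum y _ hys]
    simp only [hy]
    refine hu ?_ IsIdempotentElem.one ?_
    · show _ * _ = _
      rw [Finset.sum_mul_sum]
      refine Finset.sum_congr rfl fun m hm => ?_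
      simp only [horth, Finset.sum_ite_eq, if_pos hm]
    · rw [map_sum, map_one]
      show ∑ m ∈ z.coeff.support, q.toRingHom (d m) = 1
      simp only [fun m => (hd m).2]
      rw [← counit_eq_sum z _ subset_rfl, hz.counit_eq]
  · show q (y.coeff m) = z.coeff m
    rw [hy]
    exact (hd m).2
  · rw [hy]
    exact huniq' y' hy'.1 hy'.2 m

end Groth.Agent.MultHopf.Twist
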