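import Groth.Agent.MultHopf.TwistLift

/-!
# Twisted forms of group algebras: lifting
-/

set_option autoImplicit false
set_option backward.isDefEq.respectTransparency.types false
set_option maxHeartbeats 1000000
set_option synthInstance.maxHeartbeats 100000

universe u

open scoped TensorProduct
open Coalgebra
open Algebra.TensorProduct (includeLeft includeRight)

namespace Groth.Agent.MultHopf.Twist

variable {R R' : Type u} [CommRing R] [CommRing R'] [Algebra R R'] {M : Type u} [CommGroup M] [DecidableEq M]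
variable {S S' : Type u} [CommRing S] [Algebra R S] [CommRing S'] [Algebra R' S'] [Algebra R S'] [IsScalarTower R R' S']

/-- The map on two-fold products. -/
noncomputable abbrev ρ₂ (π : S →ₐ[R] S') : S ⊗[R] S →ₐ[R] S' ⊗[R'] S' :=
  Algebra.TensorProduct.lift (((includeLeft : S' →ₐ[R'] S' ⊗[R'] S').restrictScalars R).comp π)
    (((includeRight : S' →ₐ[R'] S' ⊗[R'] S').restrictScalars R).comp π) fun _ _ => Commute.all _ _

/-- The map on three-fold products. -/
noncomputable abbrev ρ₃ (π : S →ₐ[R] S') : S ⊗[R] (S ⊗[R] S) →ₐ[R] S' ⊗[R'] (S' ⊗[R'] S') :=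
  Algebra.TensorProduct.lift (((includeLeft : S' →ₐ[R'] S' ⊗[R'] (S' ⊗[R'] S')).restrictScalars R).comp π)
    (((includeRight : S' ⊗[R'] S' →ₐ[R'] S' ⊗[R'] (S' ⊗[R'] S')).restrictScalars R).comp (ρ₂ π)) fun _ _ => Commute.all _ _

section Abstract

variable {T T' U U' : Type u} [CommRing T] [Algebra R T] [CommRing T'] [Algebra R T'] [CommRing U] [Algebra R U]
  [CommRing U'] [Algebra R U']

theorem exists_lift_hom (q : T →ₐ[R] T') (hq : IdemBij q.toRingHom) (δ : M →* MonoidAlgebra T' M) (hδ : ∀ n, IsGL (δ n)) :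
    ∃ γ : M →* MonoidAlgebra T M, (∀ n, IsGL (γ n)) ∧ ∀ n, mm q (γ n) = δ n := by
  choose y hy huniq using fun n => gl_lift q hq (hδ n)
  exact ⟨{ toFun := y
           map_one' := (huniq 1 1 ⟨isGL_one, by rw [map_one, map_one]⟩).symm
           map_mul' := fun a b => (huniq (a * b) _ ⟨(hy a).1.mul (hy b).1, by rw [map_mul, (hy a).2, (hy b).2, map_mul]⟩).symm },
    fun n => (hy n).1, fun n => (hy n).2⟩

theorem inv_of_lift (q : T →ₐ[R] T') (hq : IdemBij q.toRingHom) {g g' : M →* MonoidAlgebra T M}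
    {g₀ g₀' : M →* MonoidAlgebra T' M} (hg : ∀ n, IsGL (g n)) (hg' : ∀ n, IsGL (g' n))
    (hgq : ∀ n, mm q (g n) = g₀ n) (hgq' : ∀ n, mm q (g' n) = g₀' n)
    (h0 : ∀ n, ext' g₀' (g₀ n) = MonoidAlgebra.single n 1) (n : M) : ext' g' (g n) = MonoidAlgebra.single n 1 :=
  (gl_lift q hq (isGL_single n)).unique
    ⟨isGL_ext' hg' (hg n), by rw [mm_ext', show push q g' = g₀' from MonoidHom.ext hgq', hgq, h0]⟩
    ⟨isGL_single n, by simp [mm]⟩

theorem cocycle_of_lift (q : T →ₐ[R] T') (r : U →ₐ[R] U') (hr : IdemBij r.toRingHom) {γ : M →* MonoidAlgebra T M}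
    {γ₀ : M →* MonoidAlgebra T' M} (hgl : ∀ n, IsGL (γ n)) (hgl₀ : ∀ n, IsGL (γ₀ n)) (hγ : ∀ n, mm q (γ n) = γ₀ n)
    (p12 p13 p23 : T →ₐ[R] U) (q12 q13 q23 : T' →ₐ[R] U') (c12 : r.comp p12 = q12.comp q) (c13 : r.comp p13 = q13.comp q)
    (c23 : r.comp p23 = q23.comp q) (n : M) (h : mm q13 (γ₀ n) = ext' (push q12 γ₀) (mm q23 (γ₀ n))) :
    mm p13 (γ n) = ext' (push p12 γ) (mm p23 (γ n)) := by
  have hp : ∀ (p : T →ₐ[R] U) (p₀ : T' →ₐ[R] U'), r.comp p = p₀.comp q → ∀ m, mm r (mm p (γ m)) = mm p₀ (γ₀ m) :=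
    fun p p₀ h m => by rw [mm_mm, h, ← mm_mm, hγ]
  refine (gl_lift r hr (isGL_mm q13 (hgl₀ n))).unique ⟨isGL_mm p13 (hgl n), hp p13 q13 c13 n⟩
    ⟨isGL_ext' (fun m => isGL_mm p12 (hgl m)) (isGL_mm p23 (hgl n)), ?_⟩
  rw [mm_ext', hp p23 q23 c23 n, show push r (push p12 γ) = push q12 γ₀ from MonoidHom.ext (hp p12 q12 c12)]
  exact h.symm

end Abstract

/-- Descent data lift. -/
theorem exists_lift_datum (π : S →ₐ[R] S') (h₂ : IdemBij (ρ₂ (R' := R') π).toRingHom)
    (h₃ : IdemBij (ρ₃ (R' := R') π).toRingHom) (D₀ : Datum R' S' M) (hgl₀' : ∀ n, IsGL (D₀.γ' n)) :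
    ∃ D : Datum R S M, ∀ n, mm (ρ₂ (R' := R') π) (D.γ n) = D₀.γ n := by
  obtain ⟨γ, hgl, hγ⟩ := exists_lift_hom _ h₂ D₀.γ D₀.gl
  obtain ⟨γ', hgl', hγ'⟩ := exists_lift_hom _ h₂ D₀.γ' hgl₀'
  refine ⟨{ γ := γ, γ' := γ', gl := hgl, inv₁ := inv_of_lift _ h₂ hgl hgl' hγ hγ' D₀.inv₁,
            inv₂ := inv_of_lift _ h₂ hgl' hgl hγ' hγ D₀.inv₂,
            cocycle := fun n => cocycle_of_lift _ _ h₃ hgl D₀.gl hγ _ _ _
              ((Algebra.TensorProduct.map (AlgHom.id R' S') (includeLeft : S' →ₐ[R'] S' ⊗[R'] S')).restrictScalars R)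
              ((Algebra.TensorProduct.map (AlgHom.id R' S') (includeRight : S' →ₐ[R'] S' ⊗[R'] S')).restrictScalars R)
              ((includeRight : S' ⊗[R'] S' →ₐ[R'] S' ⊗[R'] (S' ⊗[R'] S')).restrictScalars R) ?_ ?_ ?_ n (D₀.cocycle n) }, hγ⟩
  · exact Algebra.TensorProduct.ext (AlgHom.ext fun s => by simp [← Algebra.TensorProduct.one_def])
      (AlgHom.ext fun s => by simp [← Algebra.TensorProduct.one_def])
  · exact Algebra.TensorProduct.ext (AlgHom.ext fun s => by simp [← Algebra.TensorProduct.one_def])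
      (AlgHom.ext fun s => by simp [← Algebra.TensorProduct.one_def])
  · exact AlgHom.ext fun w => by simp

variable {A : Type u} [CommRing A] [HopfAlgebra R A] {A₀ : Type u} [CommRing A₀] [HopfAlgebra R' A₀]

/-- Twisted forms with congruent data. -/
theorem nonempty_bc_equiv [Module.FaithfullyFlat R' S'] (π : S →ₐ[R] S') (D : Datum R S M) (D₀ : Datum R' S' M)
    (hD : ∀ n, mm (ρ₂ (R' := R') π) (D.γ n) = D₀.γ n) (e : S ⊗[R] A ≃ₐc[S] MonoidAlgebra S M)
    (he : ∀ a : A, am (R := R) (e ((1 : S) ⊗ₜ[R] a)) = ext' D.γ (bm (R := R) (e ((1 : S) ⊗ₜ[R] a))))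
    (e₀ : S' ⊗[R'] A₀ ≃ₐc[S'] MonoidAlgebra S' M)
    (he₀ : ∀ a : A₀, am (R := R') (e₀ ((1 : S') ⊗ₜ[R'] a)) = ext' D₀.γ (bm (R := R') (e₀ ((1 : S') ⊗ₜ[R'] a)))) :
    Nonempty (R' ⊗[R] A ≃ₐc[R'] A₀) := by
  obtain ⟨Lπ, hLπ⟩ := exists_bc_equiv e π
  let E := R' ⊗[R] A
  let L : S' ⊗[R'] E ≃ₐc[S'] MonoidAlgebra S' M := (cancelBC R R' S' A).trans Lπ
  let Ψ : S' ⊗[R'] E ≃ₐc[S'] S' ⊗[R'] A₀ := L.trans e₀.symm
  let S₂ := S' ⊗[R'] S'
  have hLa : ∀ a : A, L ((1 : S') ⊗ₜ[R'] ((1 : R') ⊗ₜ[R] a)) = mm π (e ((1 : S) ⊗ₜ[R] a)) := fun a => by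
    rw [← hLπ]
    show Lπ (cancelBC R R' S' A ((1 : S') ⊗ₜ[R'] ((1 : R') ⊗ₜ[R] a))) = _
    rw [show cancelBC R R' S' A ((1 : S') ⊗ₜ[R'] ((1 : R') ⊗ₜ[R] a)) = (1 : S') ⊗ₜ[R] a by simp [cancelBC]]
    simp
  -- the relation for the comparison map
  have hrel : ∀ x : E, am (R := R') (L ((1 : S') ⊗ₜ[R'] x)) = ext' D₀.γ (bm (R := R') (L ((1 : S') ⊗ₜ[R'] x))) := by
    intro x
    induction x using TensorProduct.induction_on with
    | zero => simp
    | add a b ha hb => simp only [TensorProduct.tmul_add, map_add, ha, hb]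
    | tmul r a =>
      have hx : r ⊗ₜ[R] a = r • ((1 : R') ⊗ₜ[R] a) := by rw [TensorProduct.smul_tmul', smul_eq_mul, mul_one]
      have hs : ∀ (φ : E →ₗ[R'] MonoidAlgebra S₂ M) (ψ : E →ₗ[R'] MonoidAlgebra S₂ M),
          φ ((1 : R') ⊗ₜ[R] a) = ψ ((1 : R') ⊗ₜ[R] a) → φ (r ⊗ₜ[R] a) = ψ (r ⊗ₜ[R] a) := fun φ ψ h => by
        rw [hx, map_smul, map_smul, h]
      refine hs (((am (R := R') (S := S') (M := M)).comp (((L : S' ⊗[R'] E →ₐ[S'] MonoidAlgebra S' M).restrictScalars R').comp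
          includeRight)).toLinearMap)
        ((((ext' D₀.γ).restrictScalars R').comp ((bm (R := R') (S := S') (M := M)).comp
          (((L : S' ⊗[R'] E →ₐ[S'] MonoidAlgebra S' M).restrictScalars R').comp includeRight))).toLinearMap) ?_
      show am (R := R') (L ((1 : S') ⊗ₜ[R'] ((1 : R') ⊗ₜ[R] a))) =
        ext' D₀.γ (bm (R := R') (L ((1 : S') ⊗ₜ[R'] ((1 : R') ⊗ₜ[R] a))))
      rw [hLa]
      have := congrArg (mm (ρ₂ (R' := R') π)) (he a)
      rw [mm_ext', show push (ρ₂ (R' := R') π) D.γ = D₀.γ from MonoidHom.ext hD] at this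
      simp only [mm_mm] at this
      convert this using 1
      · show mm ((includeLeft : S' →ₐ[R'] S₂).restrictScalars R) (mm π _) = _
        rw [mm_mm]
        congr 2
        exact AlgHom.ext fun s => by simp
      · show ext' D₀.γ (mm ((includeRight : S' →ₐ[R'] S₂).restrictScalars R) (mm π _)) = _
        rw [mm_mm]
        congr 3
        exact AlgHom.ext fun s => by simp
  obtain ⟨L₁, hL₁⟩ := exists_bc_equiv e₀ (includeLeft : S' →ₐ[R'] S₂)
  have hL₂ : ∀ w : S' ⊗[R'] A₀, L₁ (Algebra.TensorProduct.map includeRight (AlgHom.id R' A₀) w) =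
      ext' D₀.γ (bm (R := R') (e₀ w)) := fun w => by
    induction w using TensorProduct.induction_on with
    | zero => simp
    | add a b ha hb => simp only [map_add, ha, hb]
    | tmul s a =>
      have e1 : (includeRight : S' →ₐ[R'] S₂) s ⊗ₜ[R'] a = algebraMap S₂ (S₂ ⊗[R'] A₀) ((1 : S') ⊗ₜ[R'] s) *
          (Algebra.TensorProduct.map (includeLeft : S' →ₐ[R'] S₂) (AlgHom.id R' A₀) ((1 : S') ⊗ₜ[R'] a)) := by
        simp [Algebra.TensorProduct.algebraMap_apply, S₂]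
      have e2 : s ⊗ₜ[R'] a = algebraMap S' (S' ⊗[R'] A₀) s * ((1 : S') ⊗ₜ[R'] a) := by
        simp [Algebra.TensorProduct.algebraMap_apply]
      rw [Algebra.TensorProduct.map_tmul, AlgHom.id_apply, e1, map_mul, AlgHomClass.commutes L₁, hL₁, e2, map_mul,
        AlgHomClass.commutes e₀, map_mul, map_mul,
        show bm (R := R') (algebraMap S' (MonoidAlgebra S' M) s) = algebraMap S₂ _ ((1 : S') ⊗ₜ[R'] s) by
          simp [bm, mm, MonoidAlgebra.coe_algebraMap, S₂],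
        AlgHom.commutes, ← he₀]
  let F : E →ₐ[R'] S' ⊗[R'] A₀ := ((Ψ : S' ⊗[R'] E →ₐ[S'] S' ⊗[R'] A₀).restrictScalars R').comp includeRight
  have hF : ∀ x, e₀ (F x) = L ((1 : S') ⊗ₜ[R'] x) := fun x => e₀.apply_symm_apply _
  obtain ⟨G, hG⟩ := exists_desc_algHom F fun x => by
    refine L₁.injective ?_
    show L₁ _ = L₁ _
    rw [hL₁, hL₂, hF]
    exact hrel x
  let f : A₀ →ₐ[R'] MonoidAlgebra S' M :=
    ((e₀ : S' ⊗[R'] A₀ →ₐ[S'] MonoidAlgebra S' M).restrictScalars R').comp includeRight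
  have hfb : Function.Bijective (Algebra.TensorProduct.lift (Algebra.ofId S' _) f fun _ _ => Commute.all _ _) := by
    rw [show Algebra.TensorProduct.lift (Algebra.ofId S' _) f (fun _ _ => Commute.all _ _) =
        (e₀ : S' ⊗[R'] A₀ →ₐ[S'] MonoidAlgebra S' M) from
      Algebra.TensorProduct.ext (by ext) (AlgHom.ext fun a => by simp [f])]
    exact e₀.bijective
  have hfG : ∀ x, f (G x) = L ((1 : S') ⊗ₜ[R'] x) := fun x => by
    show e₀ ((1 : S') ⊗ₜ[R'] G x) = _
    rw [hG, hF]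
  have hbij : Function.Bijective G := by
    have : Function.Bijective (G.toLinearMap.lTensor S') := by
      have : ∀ w, G.toLinearMap.lTensor S' w = Ψ w := fun w => by
        induction w using TensorProduct.induction_on with
        | zero => simp
        | add a b ha hb => simp only [map_add, ha, hb]
        | tmul s x =>
          rw [LinearMap.lTensor_tmul, show s ⊗ₜ[R'] x = algebraMap S' (S' ⊗[R'] E) s * (1 : S') ⊗ₜ[R'] x by
            simp [Algebra.TensorProduct.algebraMap_apply], map_mul, AlgHomClass.commutes Ψ]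
          show s ⊗ₜ[R'] G x = _ * F x
          rw [← hG]
          simp [Algebra.TensorProduct.algebraMap_apply]
      rw [show ⇑(G.toLinearMap.lTensor S') = ⇑Ψ from funext this]
      exact Ψ.bijective
    exact (Module.FaithfullyFlat.lTensor_bijective_iff_bijective R' S' G.toLinearMap).1 this
  have hinj : ∀ {a b : A₀ ⊗[R'] A₀}, Model.e₂ (R := S') f a = Model.e₂ (R := S') f b → a = b := fun {a b} h => by
    refine Module.FaithfullyFlat.tensorProduct_mk_injective (A := R') (B := S') (A₀ ⊗[R'] A₀) ?_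
    apply (Model.bijective_e₂ (R := S') (C := MonoidAlgebra S' M) hfb).1
    show Algebra.TensorProduct.lift _ _ _ _ = Algebra.TensorProduct.lift _ _ _ _
    rw [TensorProduct.mk_apply, TensorProduct.mk_apply, Algebra.TensorProduct.lift_tmul,
      Algebra.TensorProduct.lift_tmul, map_one, one_mul, one_mul]
    exact h
  have hcomul : ∀ {B : Type u} [CommRing B] [HopfAlgebra R' B] (v : S' ⊗[R'] B ≃ₐc[S'] MonoidAlgebra S' M)
      (g : B →ₐ[R'] MonoidAlgebra S' M), (∀ b, g b = v ((1 : S') ⊗ₜ[R'] b)) →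
      ∀ b, comul (R := S') (v ((1 : S') ⊗ₜ[R'] b)) = Model.e₂ (R := S') g (comul (R := R') b) := by
    intro B _ _ v g hg b
    rw [← CoalgHomClass.map_comp_comul_apply v, TensorProduct.comul_tmul, CommSemiring.comul_apply]
    generalize comul (R := R') b = z
    induction z using TensorProduct.induction_on with
    | zero => simp
    | add a b ha hb => simp only [TensorProduct.tmul_add, map_add, ha, hb]
    | tmul a b => simp [Model.e₂_tmul, hg]
  refine ⟨BialgEquiv.ofBijective (BialgHom.ofAlgHom G ?_ ?_) hbij⟩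
  · refine Model.eq_of_ff (R := S') _ _ fun x => ?_
    show (1 : S') ⊗ₜ[R'] (counit (R := R') (G x)) = (1 : S') ⊗ₜ[R'] (counit (R := R') x)
    apply (Algebra.TensorProduct.rid R' S' S').injective
    simp only [Algebra.TensorProduct.rid_tmul]
    have h1 : counit (R := S') (e₀ ((1 : S') ⊗ₜ[R'] G x)) = counit (R := R') (G x) • (1 : S') := by
      rw [CoalgHomClass.counit_comp_apply e₀, TensorProduct.counit_tmul]; simp
    have h2 : counit (R := S') (L ((1 : S') ⊗ₜ[R'] x)) = counit (R := R') x • (1 : S') := by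
      rw [CoalgHomClass.counit_comp_apply L, TensorProduct.counit_tmul]; simp
    rw [← h1, ← h2, hG, hF]
  · refine AlgHom.ext fun x => hinj ?_
    show Model.e₂ (R := S') f (Algebra.TensorProduct.map G G (comul (R := R') x)) = Model.e₂ (R := S') f (comul (R := R') (G x))
    rw [← hcomul e₀ f (fun b => rfl) (G x), hG, hF,
      hcomul L (((L : S' ⊗[R'] E →ₐ[S'] MonoidAlgebra S' M).restrictScalars R').comp includeRight) (fun b => rfl) x]
    generalize comul (R := R') x = z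
    induction z using TensorProduct.induction_on with
    | zero => simp
    | add a b ha hb => simp only [map_add, ha, hb]
    | tmul a b => simp [Model.e₂_tmul, hfG]

/-- Split groups lift. -/
theorem exists_lift [Module.FaithfullyFlat R S] [Module.FaithfullyFlat R' S'] (π : S →ₐ[R] S')
    (h₂ : IdemBij (ρ₂ (R' := R') π).toRingHom) (h₃ : IdemBij (ρ₃ (R' := R') π).toRingHom)
    (e₀ : S' ⊗[R'] A₀ ≃ₐc[S'] MonoidAlgebra S' M) :
    ∃ (A : Type u) (_ : CommRing A) (_ : HopfAlgebra R A),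
      Nonempty (S ⊗[R] A ≃ₐc[S] MonoidAlgebra S M) ∧ Nonempty (R' ⊗[R] A ≃ₐc[R'] A₀) := by
  obtain ⟨D₀, hgl', he₀⟩ := exists_datum_of_equiv e₀
  obtain ⟨D, hD⟩ := exists_lift_datum π h₂ h₃ D₀ hgl'
  obtain ⟨A, _, _, e, he⟩ := exists_twisted D
  exact ⟨A, inferInstance, inferInstance, ⟨e⟩, nonempty_bc_equiv π D D₀ hD e he e₀ he₀⟩

end Groth.Agent.MultHopf.Twist
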