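import Groth.Agent.MultHopf.GlueHopf
import Groth.Agent.MultHopf.QuasiIso
import Mathlib.RingTheory.Etale.Pi
import Mathlib.RingTheory.Spectrum.Prime.Topology

/-!
# Decomposition of the base by the type of a quasi-isotrivial group
-/

set_option autoImplicit false
set_option backward.isDefEq.respectTransparency.types false
set_option maxHeartbeats 1000000
set_option synthInstance.maxHeartbeats 100000

universe u

open scoped TensorProduct
open SGA3b Coalgebra
open Algebra.TensorProduct (includeLeft includeRight)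

namespace Groth.Agent.MultHopf

/-- The group of a diagonalisable group over a field is determined. -/
theorem nonempty_mulEquiv_of_bialgEquiv {K : Type u} [Field K] {M N : Type u} [CommGroup M] [CommGroup N]
    (e : MonoidAlgebra K M ≃ₐc[K] MonoidAlgebra K N) : Nonempty (M ≃* N) := by
  have key : ∀ {M N : Type u} [CommGroup M] [CommGroup N] (e : MonoidAlgebra K M ≃ₐc[K] MonoidAlgebra K N) (m : M),
      ∃ n, e (MonoidAlgebra.single m 1) = MonoidAlgebra.single n 1 := fun {M N} _ _ e m => by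
    refine exists_eq_single _ ?_ ?_
    · rw [CoalgHomClass.counit_comp_apply, MonoidAlgebra.counit_single]; simp
    · rw [← CoalgHomClass.map_comp_comul_apply, MonoidAlgebra.comul_single]
      simp [CommSemiring.comul_apply]
  choose φ hφ using key e
  choose ψ hψ using key e.symm
  have hs : ∀ {P : Type u} [CommGroup P] {a b : P}, MonoidAlgebra.single a (1 : K) = MonoidAlgebra.single b 1 → a = b :=
    fun h => MonoidAlgebra.single_left_injective one_ne_zero h
  exact ⟨{ toFun := φ, invFun := ψ,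
           left_inv := fun m => hs (by rw [← hψ, ← hφ, BialgEquiv.symm_apply_apply]),
           right_inv := fun n => hs (by rw [← hφ, ← hψ]; exact e.apply_symm_apply _),
           map_mul' := fun a b => hs (by
             rw [← hφ, show MonoidAlgebra.single (a * b) (1 : K) = MonoidAlgebra.single a 1 * MonoidAlgebra.single b 1 by simp,
               map_mul, hφ, hφ]
             simp) }⟩

variable {R₀ : Type u} [CommRing R₀] {A₀ : Type u} [CommRing A₀] [HopfAlgebra R₀ A₀]

/-- Types agree over a common point. -/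
theorem nonempty_mulEquiv_of_common_point {S T : Type u} [CommRing S] [Algebra R₀ S] [CommRing T] [Algebra R₀ T]
    {M N : Type u} [CommGroup M] [CommGroup N] (e : S ⊗[R₀] A₀ ≃ₐc[S] MonoidAlgebra S M)
    (e' : T ⊗[R₀] A₀ ≃ₐc[T] MonoidAlgebra T N) (q : PrimeSpectrum S) (q' : PrimeSpectrum T)
    (h : PrimeSpectrum.comap (algebraMap R₀ S) q = PrimeSpectrum.comap (algebraMap R₀ T) q') : Nonempty (M ≃* N) := by
  let p := PrimeSpectrum.comap (algebraMap R₀ S) q
  let κ := p.asIdeal.ResidueField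
  let X := κ ⊗[R₀] S
  let Y := κ ⊗[R₀] T
  have : Nontrivial X := PrimeSpectrum.nontrivial_iff_mem_rangeComap p |>.2 ⟨q, rfl⟩
  have : Nontrivial Y := PrimeSpectrum.nontrivial_iff_mem_rangeComap p |>.2 ⟨q', h.symm⟩
  obtain ⟨mX, hmX⟩ := Ideal.exists_maximal X
  obtain ⟨mY, hmY⟩ := Ideal.exists_maximal Y
  let : Field (X ⧸ mX) := Ideal.Quotient.field mX
  let : Field (Y ⧸ mY) := Ideal.Quotient.field mY
  let Z := (X ⧸ mX) ⊗[κ] (Y ⧸ mY)
  have : Nontrivial Z := Module.FaithfullyFlat.rTensor_nontrivial κ (Y ⧸ mY) (X ⧸ mX)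
  obtain ⟨m, hm⟩ := Ideal.exists_maximal Z
  let : Field (Z ⧸ m) := Ideal.Quotient.field m
  let fS : S →ₐ[R₀] Z ⧸ m := (Ideal.Quotient.mkₐ R₀ m).comp
    (((includeLeft : X ⧸ mX →ₐ[κ] Z).restrictScalars R₀).comp (((Ideal.Quotient.mkₐ R₀ mX)).comp includeRight))
  let fT : T →ₐ[R₀] Z ⧸ m := (Ideal.Quotient.mkₐ R₀ m).comp
    (((includeRight : Y ⧸ mY →ₐ[κ] Z).restrictScalars R₀).comp (((Ideal.Quotient.mkₐ R₀ mY)).comp includeRight))
  obtain ⟨eS⟩ := nonempty_diag_bc fS e
  obtain ⟨eT⟩ := nonempty_diag_bc fT e'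
  exact nonempty_mulEquiv_of_bialgEquiv (eS.symm.trans eT)

/-- Finitely many étale pieces with their types. -/
theorem exists_etale_pieces (h0 : IsQuasiIsotrivial R₀ A₀) :
    ∃ (t : Finset R₀) (_ : Ideal.span (t : Set R₀) = ⊤) (S : t → Type u) (_ : ∀ f, CommRing (S f))
      (_ : ∀ f, Algebra R₀ (S f)), (∀ f, Algebra.Etale R₀ (S f)) ∧
      (∀ f, Set.range (PrimeSpectrum.comap (algebraMap R₀ (S f))) = (PrimeSpectrum.basicOpen f.1 : Set (PrimeSpectrum R₀))) ∧
      ∀ f, ∃ (M : Type u) (_ : CommGroup M), Nonempty (S f ⊗[R₀] A₀ ≃ₐc[S f] MonoidAlgebra (S f) M) := by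
  obtain ⟨s, hs, hs'⟩ := h0
  obtain ⟨t, hts, htop⟩ := Submodule.mem_span_finite_of_mem_span (hs.symm ▸ Submodule.mem_top : (1 : R₀) ∈ Ideal.span s)
  choose S _ _ het hff M _ he using fun f : t => hs' f.1 (hts f.2)
  let : ∀ f : t, Algebra R₀ (S f) := fun f =>
    ((algebraMap (Localization.Away f.1) (S f)).comp (algebraMap R₀ (Localization.Away f.1))).toAlgebra
  have : ∀ f : t, IsScalarTower R₀ (Localization.Away f.1) (S f) := fun f => IsScalarTower.of_algebraMap_eq fun _ => rfl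
  refine ⟨t, (Ideal.eq_top_iff_one _).2 htop, S, inferInstance, inferInstance, fun f => ?_, fun f => ?_, fun f => ?_⟩
  · have := het f
    have : Algebra.Etale R₀ (Localization.Away f.1) := Algebra.Etale.of_isLocalizationAway f.1
    exact Algebra.Etale.comp R₀ (Localization.Away f.1) (S f)
  · have := hff f
    rw [IsScalarTower.algebraMap_eq R₀ (Localization.Away f.1) (S f), PrimeSpectrum.comap_comp]
    show Set.range (PrimeSpectrum.comap (algebraMap R₀ (Localization.Away f.1)) ∘ PrimeSpectrum.comap (algebraMap _ (S f))) = _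
    rw [Set.range_comp, (PrimeSpectrum.comap_surjective_of_faithfullyFlat).range_eq, Set.image_univ,
      PrimeSpectrum.localization_away_comap_range (Localization.Away f.1) f.1]
  · obtain ⟨e⟩ := he f
    exact ⟨M f, inferInstance, ⟨(cancelBC R₀ (Localization.Away f.1) (S f) A₀).symm.trans e⟩⟩

/-- The decomposition by types. -/
theorem exists_type_decomp (h0 : IsQuasiIsotrivial R₀ A₀) :
    ∃ (ι : Type u) (_ : Fintype ι) (ε : ι → R₀), CompleteOrthogonalIdempotents ε ∧
      ∀ c, ∃ (S : Type u) (_ : CommRing S) (_ : Algebra (R₀ ⧸ Ideal.span {1 - ε c}) S) (_ : Algebra R₀ S)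
        (_ : IsScalarTower R₀ (R₀ ⧸ Ideal.span {1 - ε c}) S),
        Algebra.Etale (R₀ ⧸ Ideal.span {1 - ε c}) S ∧ Module.FaithfullyFlat (R₀ ⧸ Ideal.span {1 - ε c}) S ∧
        IsDiag S (S ⊗[R₀] A₀) := by
  classical
  obtain ⟨t, htop, S, _, _, het, hrange, hdiag⟩ := exists_etale_pieces h0
  choose M _ he using hdiag
  let rel : Setoid t := ⟨fun f g => Nonempty (M f ≃* M g), ⟨fun f => ⟨MulEquiv.refl _⟩, fun ⟨e⟩ => ⟨e.symm⟩, fun ⟨e⟩ ⟨e'⟩ => ⟨e.trans e'⟩⟩⟩
  let ι := Quotient rel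
  have hU : ∀ f g : t, ∀ p : PrimeSpectrum R₀, p ∈ PrimeSpectrum.basicOpen f.1 → p ∈ PrimeSpectrum.basicOpen g.1 →
      (Quotient.mk rel f) = Quotient.mk rel g := fun f g p hf hg => by
    obtain ⟨q, hq⟩ := (hrange f).ge hf
    obtain ⟨q', hq'⟩ := (hrange g).ge hg
    obtain ⟨e⟩ := he f
    obtain ⟨e'⟩ := he g
    exact Quotient.sound (nonempty_mulEquiv_of_common_point e e' q q' (hq.trans hq'.symm))
  let U : ι → Set (PrimeSpectrum R₀) := fun c => ⋃ f : {f : t // Quotient.mk rel f = c}, (PrimeSpectrum.basicOpen f.1.1 : Set _)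
  have hcov : ∀ p : PrimeSpectrum R₀, ∃ c, p ∈ U c := fun p => by
    obtain ⟨f, hf, hfp⟩ : ∃ f ∈ t, f ∉ p.asIdeal := by
      by_contra hcon
      push Not at hcon
      exact p.isPrime.ne_top (top_le_iff.1 (htop ▸ Ideal.span_le.2 hcon))
    exact ⟨Quotient.mk rel ⟨f, hf⟩, Set.mem_iUnion.2 ⟨⟨⟨f, hf⟩, rfl⟩, hfp⟩⟩
  have hdis : ∀ c d p, p ∈ U c → p ∈ U d → c = d := fun c d p hc hd => by
    obtain ⟨⟨f, rfl⟩, hf⟩ := Set.mem_iUnion.1 hc
    obtain ⟨⟨g, rfl⟩, hg⟩ := Set.mem_iUnion.1 hd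
    exact hU f g p hf hg
  have hopen : ∀ c, IsOpen (U c) := fun c => isOpen_iUnion fun f => PrimeSpectrum.isOpen_basicOpen
  have hclopen : ∀ c, IsClopen (U c) := fun c => ⟨by
    have : (U c)ᶜ = ⋃ d : {d : ι // d ≠ c}, U d.1 := by
      ext p
      simp only [Set.mem_compl_iff, Set.mem_iUnion]
      refine ⟨fun hp => ?_, fun ⟨⟨d, hd⟩, hpd⟩ hp => hd (hdis d c p hpd hp)⟩
      obtain ⟨d, hd⟩ := hcov p
      exact ⟨⟨d, fun h => hp (h ▸ hd)⟩, hd⟩
    rw [← isOpen_compl_iff, this]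
    exact isOpen_iUnion fun d => hopen d.1, hopen c⟩
  choose ε hε hεU using fun c => PrimeSpectrum.isClopen_iff.1 (hclopen c)
  have hmem : ∀ c (p : PrimeSpectrum R₀), ε c ∉ p.asIdeal ↔ p ∈ U c := fun c p => by rw [hεU c]; rfl
  have horth : ∀ c d, c ≠ d → ε c * ε d = 0 := fun c d hcd => by
    refine ((hε c).mul (hε d)).eq_zero_of_isNilpotent (mem_nilradical.1 ?_)
    rw [nilradical_eq_sInf]
    refine Submodule.mem_sInf.2 fun (p : Ideal R₀) (hp : p.IsPrime) => ?_
    by_contra hcon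
    exact hcd (hdis c d ⟨p, hp⟩ ((hmem c ⟨p, hp⟩).1 fun h => hcon (p.mul_mem_right _ h))
      ((hmem d ⟨p, hp⟩).1 fun h => hcon (p.mul_mem_left _ h)))
  have horth' : OrthogonalIdempotents ε := ⟨hε, fun c d h => horth c d h⟩
  have hsum : ∑ c, ε c = 1 := by
    refine (IsIdempotentElem.iff_eq_one_of_isUnit ?_).1 horth'.isIdempotentElem_sum
    by_contra hu
    obtain ⟨p, hp, hmem'⟩ := exists_max_ideal_of_mem_nonunits hu
    obtain ⟨c, hc⟩ := hcov ⟨p, hp.isPrime⟩
    refine (hmem c ⟨p, hp.isPrime⟩).2 hc ?_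
    have := p.mul_mem_left (ε c) hmem'
    rwa [horth'.mul_sum_of_mem (Finset.mem_univ c)] at this
  refine ⟨ι, inferInstance, ε, ⟨horth', hsum⟩, fun c => ?_⟩
  obtain ⟨f₀, rfl⟩ := Quotient.mk_surjective c
  let B := R₀ ⧸ Ideal.span {1 - ε (Quotient.mk rel f₀)}
  let κ := {f : t // Quotient.mk rel f = Quotient.mk rel f₀}
  let P : κ → Type u := fun k => B ⊗[R₀] S k.1
  let X : Type u := (k : κ) → P k
  have : ∀ k : κ, Algebra.Etale B (P k) := fun k => by have := het k.1; infer_instance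
  have : ∀ k : κ, Module.Flat B (P k) := fun k => inferInstance
  have hff : Module.FaithfullyFlat B X := by
    have : Module.Flat B X := Module.Flat.of_linearEquiv (DFinsupp.linearEquivFunOnFintype (R := B) (M := P)).symm
    refine Module.FaithfullyFlat.of_comap_surjective fun Q => ?_
    let p := PrimeSpectrum.comap (algebraMap R₀ B) Q
    have hp : ε (Quotient.mk rel f₀) ∉ p.asIdeal := fun h => by
      refine Q.isPrime.ne_top ((Ideal.eq_top_iff_one _).2 ?_)
      have h1 : algebraMap R₀ B (ε (Quotient.mk rel f₀)) ∈ Q.asIdeal := h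
      have h2 : algebraMap R₀ B (1 - ε (Quotient.mk rel f₀)) = 0 :=
        Ideal.Quotient.eq_zero_iff_mem.2 (Ideal.mem_span_singleton_self _)
      rw [map_sub, map_one, sub_eq_zero] at h2
      rwa [h2]
    obtain ⟨⟨f, hf⟩, hpf⟩ := Set.mem_iUnion.1 ((hmem _ p).1 hp)
    obtain ⟨q, hq⟩ := (hrange f).ge hpf
    let K := q.asIdeal.ResidueField
    let gB : B →ₐ[R₀] K := Ideal.Quotient.liftₐ _ (Algebra.ofId R₀ K) fun a ha => by
      show algebraMap R₀ K a = 0
      rw [IsScalarTower.algebraMap_apply R₀ (S f) K, Ideal.algebraMap_residueField_eq_zero]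
      obtain ⟨b, rfl⟩ := Ideal.mem_span_singleton'.1 ha
      have h2 : (1 - ε (Quotient.mk rel f₀)) ∈ p.asIdeal := by
        show algebraMap R₀ B (1 - ε (Quotient.mk rel f₀)) ∈ Q.asIdeal
        rw [Ideal.Quotient.algebraMap_eq, Ideal.Quotient.eq_zero_iff_mem.2 (Ideal.mem_span_singleton_self _)]
        exact zero_mem _
      rw [← hq] at h2
      rw [map_mul]
      exact q.asIdeal.mul_mem_left _ h2
    let g : P ⟨f, hf⟩ →ₐ[R₀] K := Algebra.TensorProduct.lift gB (IsScalarTower.toAlgHom R₀ (S f) K) fun _ _ => Commute.all _ _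
    let w : PrimeSpectrum (P ⟨f, hf⟩) := PrimeSpectrum.comap g.toRingHom ⟨⊥, Ideal.isPrime_bot⟩
    refine ⟨PrimeSpectrum.comap (Pi.evalRingHom P ⟨f, hf⟩) w, ?_⟩
    apply PrimeSpectrum.comap_injective_of_surjective (algebraMap R₀ B) Ideal.Quotient.mk_surjective
    show _ = p
    rw [← hq]
    refine PrimeSpectrum.ext (Ideal.ext fun r => ?_)
    show g ((algebraMap R₀ B r) ⊗ₜ[R₀] (1 : S f)) ∈ (⊥ : Ideal K) ↔ algebraMap R₀ (S f) r ∈ q.asIdeal
    rw [Ideal.mem_bot, Algebra.TensorProduct.lift_tmul, map_one, mul_one, AlgHom.commutes,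
      IsScalarTower.algebraMap_apply R₀ (S f) K, Ideal.algebraMap_residueField_eq_zero]
  let ev : ∀ k, Algebra X (P k) := fun k => (Pi.evalRingHom P k).toAlgebra
  have : ∀ k, IsScalarTower R₀ X (P k) := fun k => ⟨fun r x y => by
    show (r • x) k * y = r • (x k * y)
    rw [Pi.smul_apply, smul_mul_assoc]⟩
  let D : Glue.Decomp (R := X) P :=
    { ε := fun k => Pi.single k 1
      sum := Finset.univ_sum_single (1 : X)
      surj := fun k x => ⟨Pi.single k x, Pi.single_eq_same k x⟩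
      apply := fun k l => by
        show Pi.single (M := P) k (1 : P k) l = _
        split_ifs with h
        · subst h; exact Pi.single_eq_same k _
        · exact Pi.single_eq_of_ne (Ne.symm h) _
      ker := fun k r hr => funext fun l => by
        rw [Pi.mul_apply, Pi.zero_apply]
        by_cases h : l = k
        · subst h; rw [show r l = 0 from hr, mul_zero]
        · rw [Pi.single_eq_of_ne h, zero_mul] }
  refine ⟨X, inferInstance, inferInstance, inferInstance, inferInstance, inferInstance, hff, M f₀, inferInstance,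
    Glue.nonempty_equiv_of_pieces D fun k => Classical.choice ?_⟩
  obtain ⟨e⟩ := he k.1
  obtain ⟨e'⟩ := nonempty_diag_bc (includeRight : S k.1 →ₐ[R₀] P k) e
  obtain ⟨m⟩ : Nonempty (M k.1 ≃* M f₀) := Quotient.exact k.2
  exact ⟨((cancelBC R₀ X (P k) A₀).trans e').trans
    ((MonoidAlgebra.domCongrBialgEquiv (P k) (P k) m).trans (baseChangeGroupAlgebra X (P k) (M f₀)))⟩

end Groth.Agent.MultHopf
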